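/-
Perfect subgroups of SL of dimension three without transvections, simple modulo scalars: vocabulary.
-/
import Cfsg.Agent.Geo.Transvection

set_option autoImplicit false

namespace CfsgLib.Geo.D3

open Matrix Cfsg Cfsg.Geo CfsgLib.Geo

variable {F : Type*} [Field F]

/-- The image of `G` modulo scalars. -/
abbrev Pro (G : Subgroup (GL (Fin 3) F)) := G ⧸ (scalars (Fin 3) F).subgroupOf G

/-- The projection modulo scalars. -/
abbrev toPro (G : Subgroup (GL (Fin 3) F)) : G →* Pro G :=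
  QuotientGroup.mk' ((scalars (Fin 3) F).subgroupOf G)

/-- The standing hypotheses: perfect, simple modulo scalars, absolutely irreducible, odd characteristic,
no transvection, all eigenvalues in the field. -/
structure NoTv (G : Subgroup (GL (Fin 3) F)) : Prop where
  perfect : ⁅G, G⁆ = G
  simple : IsSimpleGroup (Pro G)
  nonabelian : ¬ IsMulCommutative (Pro G)
  absIrred : ActsAbsolutelyIrreducibly (matrixSet G)
  two_ne : (2 : F) ≠ 0
  noTv : ∀ v φ : Fin 3 → F, v ≠ 0 → φ ≠ 0 → ¬ HasTv G v φ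
  splits : ∀ g ∈ G, ((g : Matrix (Fin 3) (Fin 3) F).charpoly).Splits

/-- `g` is conjugate to the diagonal matrix `d`. -/
def Diag3 (g : GL (Fin 3) F) (d : Fin 3 → F) : Prop :=
  ∃ B : GL (Fin 3) F, ((B * g * B⁻¹ : GL (Fin 3) F) : Matrix (Fin 3) (Fin 3) F) = Matrix.diagonal d

/-- Semisimple with exactly two eigenvalues. -/
def IsHom (g : GL (Fin 3) F) : Prop := ∃ a b : F, a ≠ b ∧ Diag3 g ![a, b, b]

/-- Semisimple with three eigenvalues. -/
def IsReg (g : GL (Fin 3) F) : Prop := ∃ d : Fin 3 → F, Function.Injective d ∧ Diag3 g d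

/-- Not scalar, with a single eigenvalue. -/
def IsUni (g : GL (Fin 3) F) : Prop :=
  g ∉ scalars (Fin 3) F ∧
    ∃ c : F, ((g : Matrix (Fin 3) (Fin 3) F) - c • (1 : Matrix (Fin 3) (Fin 3) F)) ^ 3 = 0

/-- The image modulo scalars of the true centraliser of `g`; of index 1 or 3 in the centraliser of the image. -/
def cent0 (G : Subgroup (GL (Fin 3) F)) (g : G) : Subgroup (Pro G) :=
  (Subgroup.centralizer ({g} : Set G)).map (toPro G)

/-- A regular element whose centraliser modulo scalars is bigger than its torus. -/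
def IsSpecial (G : Subgroup (GL (Fin 3) F)) (g : G) : Prop :=
  IsReg (g : GL (Fin 3) F) ∧ cent0 G g < Subgroup.centralizer ({toPro G g} : Set (Pro G))

section group

variable {H : Type*} [Group H]

/-- The centraliser of an element. -/
abbrev cen (t : H) : Subgroup H := Subgroup.centralizer ({t} : Set H)

/-- The involutions other than `t` that commute with `t`. -/
def invOther (t : H) : Set H := {u | orderOf u = 2 ∧ Commute u t ∧ u ≠ t}

/-- The sum which, with the order of the centraliser, gives the weight of the elements commuting with an involution. -/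
noncomputable def centSum (t : H) : ℕ := ∑ᶠ u ∈ invOther t, (Nat.card ↥(cen t ⊓ cen u) - 1)

/-- The Brauer-Suzuki-Wall configuration. -/
def CentDih (t : H) : Prop :=
  ∃ (K : Subgroup H) (s : H), IsMulCommutative ↥K ∧ K ≤ cen t ∧ t ∈ K ∧ orderOf s = 2 ∧ s ∈ cen t ∧ s ∉ K ∧
    K ⊔ Subgroup.zpowers s = cen t ∧ K ⊓ cen s = Subgroup.zpowers t ∧ (∀ x ∈ K, s * x * s⁻¹ = x⁻¹) ∧
    ∀ g : H, g ∉ cen t → K ⊓ K.map (MulAut.conj g).toMonoidHom = ⊥

/-- Abelian centraliser of order greater than four; the four group of its involutions has automiser of order three. -/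
def CentAb (t : H) : Prop :=
  IsMulCommutative ↥(cen t) ∧ 4 < Nat.card ↥(cen t) ∧ centSum t = 2 * (Nat.card ↥(cen t) - 1)

/-- Dihedral image and a homology group of order at least four. -/
def CentBig (t : H) : Prop :=
  ∃ T : ℕ, 16 ≤ T ∧ Nat.card ↥(cen t) = 2 * T ∧ centSum t = 2 * (T - 1) ∧
    (∀ x ∈ cen t, 2 * orderOf x ∣ T) ∧
    ∃ K : Subgroup H, K ≤ cen t ∧ IsMulCommutative ↥K ∧ Nat.card ↥K = T

/-- Image of order 24, homology group of order two. -/
def Cent48 (t : H) : Prop :=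
  Nat.card ↥(cen t) = 48 ∧ centSum t = 36 ∧ (∀ x ∈ cen t, orderOf x ∣ 6 ∨ orderOf x ∣ 8) ∧
    ∀ u ∈ invOther t, Nat.card ↥(cen t ⊓ cen u) = 4

/-- Image of order 24, homology group of order four. -/
def Cent96 (t : H) : Prop :=
  Nat.card ↥(cen t) = 96 ∧ centSum t = 90 ∧ (∀ x ∈ cen t, orderOf x ∣ 8 ∨ orderOf x ∣ 12) ∧
    ∀ u ∈ invOther t, Nat.card ↥(cen t ⊓ cen u) = 16

/-- The configuration of the alternating group of degree seven. -/
def Cent24 (t : H) : Prop :=
  Nat.card ↥(cen t) = 24 ∧ centSum t = 40 ∧ (∀ x ∈ cen t, orderOf x ∣ 4 ∨ orderOf x ∣ 6) ∧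
    (∃ u ∈ invOther t, ∃ n : H, Nat.card ↥(cen t ⊓ cen u) = 12 ∧ n * t * n⁻¹ = u ∧ n * u * n⁻¹ = t * u) ∧
    ∀ a ∈ cen t, ∀ b ∈ cen t, orderOf a = 4 → orderOf b = 4 → a ^ 2 = b ^ 2 → a * b * a⁻¹ ≠ b⁻¹

end group

end CfsgLib.Geo.D3
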