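/-
The counting equation: elements with centraliser of even order are counted through the involutions, the others
through their blocks.
-/
import Cfsg.Agent.Geo.DimThree.NoTv.Defs

set_option autoImplicit false

namespace CfsgLib.Geo.D3

open Finset

variable {H : Type*} [Group H] [Finite H]

/-- What the count needs about commuting involutions. -/
structure InvolHyp (H : Type*) [Group H] : Prop where
  two_rank : ∀ a b c : H, orderOf a = 2 → orderOf b = 2 → orderOf c = 2 → Commute a b → Commute a c →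
    Commute b c → a ≠ b → c = a ∨ c = b ∨ c = a * b
  centre : ∀ (x : H), x ≠ 1 → ∀ a b : H, orderOf a = 2 → orderOf b = 2 → a ≠ b → Commute a x → Commute b x →
    Commute a b ∨ ∃ c : H, orderOf c = 2 ∧ Commute c a ∧ Commute c b ∧ cen x ≤ cen c
  one_class : ∀ a b : H, orderOf a = 2 → orderOf b = 2 → IsConj a b

lemma mem_cen {t x : H} : x ∈ cen t ↔ Commute x t := Subgroup.mem_centralizer_singleton_iff

omit [Finite H] in
lemma orderOf_mul_two {a b : H} (ha : orderOf a = 2) (hb : orderOf b = 2) (hab : Commute a b) (hne : a ≠ b) :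
    orderOf (a * b) = 2 := by
  refine orderOf_eq_prime ?_ fun h => hne ?_
  · rw [hab.mul_pow, ← ha, pow_orderOf_eq_one, ha, ← hb, pow_orderOf_eq_one, mul_one]
  · rw [mul_eq_one_iff_eq_inv.1 h, inv_eq_of_mul_eq_one_right]
    rw [← pow_two, ← hb, pow_orderOf_eq_one]

/-- Some involution commuting with `x` commutes with all the others. -/
lemma InvolHyp.exists_centre (h : InvolHyp H) {x : H} (hx : x ≠ 1) {a₀ : H} (ha₀ : orderOf a₀ = 2)
    (hxa₀ : Commute a₀ x) :
    ∃ c : H, orderOf c = 2 ∧ Commute c x ∧ ∀ a, orderOf a = 2 → Commute a x → Commute c a := by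
  by_cases hall : ∀ a b, orderOf a = 2 → orderOf b = 2 → Commute a x → Commute b x → Commute a b
  · exact ⟨a₀, ha₀, hxa₀, fun a ha hxa => hall a₀ a ha₀ ha hxa₀ hxa⟩
  push Not at hall
  obtain ⟨a, b, ha, hb, hxa, hxb, hnc⟩ := hall
  have hne : a ≠ b := fun e => hnc (e ▸ Commute.refl a)
  obtain ⟨c, hc, -, -, hle⟩ := (h.centre x hx a b ha hb hne hxa hxb).resolve_left hnc
  exact ⟨c, hc, (mem_cen.1 (hle (mem_cen.2 (Commute.refl x)))).symm,
    fun d _ hxd => (mem_cen.1 (hle (mem_cen.2 hxd))).symm⟩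

open scoped Classical in
/-- The ordered commuting pairs among the involutions commuting with `x`. -/
lemma InvolHyp.pair_count [Fintype H] (h : InvolHyp H) {x : H} (hx : x ≠ 1) :
    (∑ t ∈ univ.filter (fun t : H => orderOf t = 2 ∧ Commute t x),
        #(univ.filter fun u : H => orderOf u = 2 ∧ Commute u x ∧ Commute u t ∧ u ≠ t)) +
      (if ∃ t : H, orderOf t = 2 ∧ Commute t x then 3 else 0) =
      3 * #(univ.filter fun t : H => orderOf t = 2 ∧ Commute t x) := by
  set I := univ.filter (fun t : H => orderOf t = 2 ∧ Commute t x) with hI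
  by_cases hex : ∃ t : H, orderOf t = 2 ∧ Commute t x
  swap
  · push Not at hex
    have : I = ∅ := Finset.eq_empty_of_forall_notMem fun t ht => hex t (mem_filter.1 ht).2.1 (mem_filter.1 ht).2.2
    rw [this, sum_empty, card_empty, if_neg]
    exact fun ⟨t, h1, h2⟩ => hex t h1 h2
  rw [if_pos hex]
  obtain ⟨a₀, ha₀, hxa₀⟩ := hex
  obtain ⟨c, hc, hcx, hcall⟩ := h.exists_centre hx ha₀ hxa₀
  have hcI : c ∈ I := mem_filter.2 ⟨mem_univ _, hc, hcx⟩
  rw [← add_sum_erase I _ hcI]
  have h1 : (univ.filter fun u : H => orderOf u = 2 ∧ Commute u x ∧ Commute u c ∧ u ≠ c) = I.erase c := by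
    ext u
    simp only [hI, mem_filter, mem_univ, true_and, mem_erase]
    exact ⟨fun ⟨a, b, _, d⟩ => ⟨d, a, b⟩, fun ⟨d, a, b⟩ => ⟨a, b, (hcall u a b).symm, d⟩⟩
  have h2 : ∀ t ∈ I.erase c,
      #(univ.filter fun u : H => orderOf u = 2 ∧ Commute u x ∧ Commute u t ∧ u ≠ t) = 2 := by
    intro t ht
    obtain ⟨htc, htI⟩ := mem_erase.1 ht
    obtain ⟨ht2, htx⟩ := (mem_filter.1 htI).2
    have hct := hcall t ht2 htx
    have he : (univ.filter fun u : H => orderOf u = 2 ∧ Commute u x ∧ Commute u t ∧ u ≠ t) = {c, c * t} := by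
      ext u
      simp only [mem_filter, mem_univ, true_and, mem_insert, mem_singleton]
      constructor
      · rintro ⟨hu, hux, hut, hne⟩
        rcases h.two_rank c t u hc ht2 hu hct (hcall u hu hux) hut.symm (Ne.symm htc) with e | e | e
        · exact Or.inl e
        · exact absurd e hne
        · exact Or.inr e
      · rintro (rfl | rfl)
        · exact ⟨hc, hcx, hct, Ne.symm htc⟩
        · refine ⟨orderOf_mul_two hc ht2 hct (Ne.symm htc), hcx.mul_left htx, hct.mul_left (Commute.refl t), ?_⟩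
          intro e
          have : c = 1 := by simpa using e
          rw [this, orderOf_one] at hc
          omega
    rw [he, card_pair]
    intro e
    have : t = 1 := by simpa using e.symm
    rw [this, orderOf_one] at ht2
    omega
  rw [h1, sum_congr rfl h2, sum_const, smul_eq_mul]
  have := card_erase_add_one hcI
  omega

lemma card_cen_conj (g t : H) : Nat.card ↥(cen (g * t * g⁻¹)) = Nat.card ↥(cen t) := by
  refine Nat.card_congr ⟨fun x => ⟨g⁻¹ * x * g, mem_cen.2 ?_⟩, fun x => ⟨g * x * g⁻¹, mem_cen.2 ?_⟩,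
    fun x => Subtype.ext (by show g * (g⁻¹ * ↑x * g) * g⁻¹ = ↑x; group),
    fun x => Subtype.ext (by show g⁻¹ * (g * ↑x * g⁻¹) * g = ↑x; group)⟩
  · have := (mem_cen.1 x.2).eq
    show g⁻¹ * ↑x * g * t = t * (g⁻¹ * ↑x * g)
    calc g⁻¹ * ↑x * g * t = g⁻¹ * (↑x * (g * t * g⁻¹)) * g := by group
      _ = g⁻¹ * ((g * t * g⁻¹) * ↑x) * g := by rw [this]
      _ = t * (g⁻¹ * ↑x * g) := by group
  · have := (mem_cen.1 x.2).eq
    show g * ↑x * g⁻¹ * (g * t * g⁻¹) = g * t * g⁻¹ * (g * ↑x * g⁻¹)
    calc g * ↑x * g⁻¹ * (g * t * g⁻¹) = g * (↑x * t) * g⁻¹ := by group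
      _ = g * (t * ↑x) * g⁻¹ := by rw [this]
      _ = g * t * g⁻¹ * (g * ↑x * g⁻¹) := by group

lemma card_inf_conj (g t u : H) :
    Nat.card ↥(cen (g * t * g⁻¹) ⊓ cen (g * u * g⁻¹)) = Nat.card ↥(cen t ⊓ cen u) := by
  have key : ∀ (v x : H), x ∈ cen (g * v * g⁻¹) ↔ g⁻¹ * x * g ∈ cen v := by
    intro v x
    rw [mem_cen, mem_cen, ← Commute.conj_iff (h := g⁻¹)]
    rw [show g⁻¹ * (g * v * g⁻¹) * g⁻¹⁻¹ = v by group, inv_inv]
  exact Nat.card_congr
    { toFun := fun x => ⟨g⁻¹ * x * g, (key t _).1 x.2.1, (key u _).1 x.2.2⟩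
      invFun := fun x => ⟨g * x * g⁻¹,
        (key t _).2 (by rw [show g⁻¹ * (g * (x : H) * g⁻¹) * g = x by group]; exact x.2.1),
        (key u _).2 (by rw [show g⁻¹ * (g * (x : H) * g⁻¹) * g = x by group]; exact x.2.2)⟩
      left_inv := fun x => Subtype.ext (by show g * (g⁻¹ * ↑x * g) * g⁻¹ = ↑x; group)
      right_inv := fun x => Subtype.ext (by show g⁻¹ * (g * ↑x * g⁻¹) * g = ↑x; group) }

open scoped Classical in
lemma centSum_eq [Fintype H] (t : H) : centSum t =
    ∑ u ∈ univ.filter (fun u : H => orderOf u = 2 ∧ Commute u t ∧ u ≠ t), (Nat.card ↥(cen t ⊓ cen u) - 1) := by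
  rw [centSum]
  exact finsum_mem_eq_sum_of_inter_support_eq _ (by ext u; simp [invOther])

open scoped Classical in
lemma centSum_conj [Fintype H] (g t : H) : centSum (g * t * g⁻¹) = centSum t := by
  rw [centSum_eq, centSum_eq]
  symm
  refine sum_equiv (MulAut.conj g).toEquiv (fun u => ?_) (fun u _ => ?_)
  · simp only [mem_filter, mem_univ, true_and, MulEquiv.toEquiv_eq_coe, MulEquiv.coe_toEquiv, MulAut.conj_apply]
    have ho : orderOf (g * u * g⁻¹) = orderOf u := by
      simpa using MulEquiv.orderOf_eq (MulAut.conj g) u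
    rw [ho, Commute.conj_iff]
    exact and_congr_right fun _ => and_congr_right fun _ => not_congr (by simp)
  · simp only [MulEquiv.toEquiv_eq_coe, MulEquiv.coe_toEquiv, MulAut.conj_apply, card_inf_conj]

open scoped Classical in
lemma card_filter_cen [Fintype H] (t : H) :
    #(univ.filter fun x : H => x ≠ 1 ∧ Commute x t) = Nat.card ↥(cen t) - 1 := by
  have h1 : (univ.filter fun x : H => x ≠ 1 ∧ Commute x t) = (univ.filter fun x : H => x ∈ cen t).erase 1 := by
    ext x; simp [mem_cen]
  rw [h1, card_erase_of_mem (by simp [one_mem]), Nat.card_eq_fintype_card,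
    ← Fintype.card_subtype (fun x : H => x ∈ cen t)]

open scoped Classical in
/-- The elements commuting with an involution. -/
theorem InvolHyp.even_count [Fintype H] (h : InvolHyp H) {t : H} (ht : orderOf t = 2) :
    3 * #(univ.filter fun x : H => x ≠ 1 ∧ ∃ a, orderOf a = 2 ∧ Commute a x) +
        #(univ.filter fun a : H => orderOf a = 2) * centSum t =
      3 * (#(univ.filter fun a : H => orderOf a = 2) * (Nat.card ↥(cen t) - 1)) ∧
    #(univ.filter fun a : H => orderOf a = 2) * Nat.card ↥(cen t) = Nat.card H := by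
  set Inv := univ.filter fun a : H => orderOf a = 2 with hInv
  set X := univ.filter fun x : H => x ≠ 1 with hX
  have hconj : ∀ a ∈ Inv, ∃ g, g * t * g⁻¹ = a := fun a ha =>
    isConj_iff.1 (h.one_class t a ht (mem_filter.1 ha).2)
  have e1 : ∑ x ∈ X, #(univ.filter fun a : H => orderOf a = 2 ∧ Commute a x) =
      #Inv * (Nat.card ↥(cen t) - 1) := by
    have : ∀ x ∈ X, #(univ.filter fun a : H => orderOf a = 2 ∧ Commute a x) =
        ∑ a ∈ Inv, if Commute a x then 1 else 0 := fun x _ => by
      rw [sum_boole, Nat.cast_id, hInv, filter_filter]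
    rw [sum_congr rfl this, sum_comm]
    rw [sum_congr rfl (g := fun _ => Nat.card ↥(cen t) - 1), sum_const, smul_eq_mul]
    intro a ha
    obtain ⟨g, rfl⟩ := hconj a ha
    rw [sum_boole, Nat.cast_id, hX, filter_filter, ← card_cen_conj g t, ← card_filter_cen]
    congr 1
    ext x
    simp only [mem_filter, mem_univ, true_and]
    exact and_congr_right fun _ => ⟨Commute.symm, Commute.symm⟩
  have e2 : ∑ x ∈ X, (∑ a ∈ univ.filter (fun a : H => orderOf a = 2 ∧ Commute a x),
      #(univ.filter fun u : H => orderOf u = 2 ∧ Commute u x ∧ Commute u a ∧ u ≠ a)) = #Inv * centSum t := by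
    have hb : ∀ x ∈ X, (∑ a ∈ univ.filter (fun a : H => orderOf a = 2 ∧ Commute a x),
        #(univ.filter fun u : H => orderOf u = 2 ∧ Commute u x ∧ Commute u a ∧ u ≠ a)) =
        ∑ a ∈ Inv, ∑ u ∈ univ.filter (fun u : H => orderOf u = 2 ∧ Commute u a ∧ u ≠ a),
          if Commute x a ∧ Commute x u then 1 else 0 := by
      intro x _
      have hsplit : (univ.filter fun a : H => orderOf a = 2 ∧ Commute a x) = Inv.filter fun a => Commute a x := by
        rw [hInv, filter_filter]
      rw [hsplit, sum_filter]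
      refine sum_congr rfl fun a _ => ?_
      by_cases hax : Commute a x
      · rw [if_pos hax, sum_boole, Nat.cast_id, filter_filter]
        congr 1
        ext u
        simp only [mem_filter, mem_univ, true_and]
        exact ⟨fun ⟨a1, b, c, d⟩ => ⟨⟨a1, c, d⟩, hax.symm, b.symm⟩,
          fun ⟨⟨a1, c, d⟩, _, b⟩ => ⟨a1, b.symm, c, d⟩⟩
      · rw [if_neg hax]
        refine (sum_eq_zero fun u _ => if_neg ?_).symm
        exact fun hh => hax hh.1.symm
    rw [sum_congr rfl hb, sum_comm]
    rw [sum_congr rfl (g := fun _ => centSum t), sum_const, smul_eq_mul]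
    intro a ha
    obtain ⟨g, rfl⟩ := hconj a ha
    rw [sum_comm, ← centSum_conj g t, centSum_eq]
    refine sum_congr rfl fun u _ => ?_
    rw [sum_boole, Nat.cast_id, hX, filter_filter, Nat.card_eq_fintype_card, Fintype.card_subtype,
      ← card_erase_of_mem (a := (1 : H)) (by simp [one_mem])]
    congr 1
    ext x
    simp only [mem_filter, mem_univ, true_and, mem_erase, Subgroup.mem_inf, mem_cen]
  have e3 : (∑ x ∈ X, if ∃ a : H, orderOf a = 2 ∧ Commute a x then 3 else 0) =
      3 * #(univ.filter fun x : H => x ≠ 1 ∧ ∃ a, orderOf a = 2 ∧ Commute a x) := by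
    rw [← sum_filter, sum_const, smul_eq_mul, hX, filter_filter, mul_comm]
  constructor
  · have := sum_congr rfl fun x (hx : x ∈ X) => h.pair_count (mem_filter.1 hx).2
    rw [sum_add_distrib, e2, e3, ← mul_sum, e1] at this
    omega
  · have horb : #Inv = (cen t).index := by
      have hset : {a : H | orderOf a = 2} = conjugatesOf t := by
        ext a
        refine ⟨fun ha => h.one_class t a ht ha, fun ha => ?_⟩
        obtain ⟨g, rfl⟩ := isConj_iff.1 ha
        rw [Set.mem_setOf_eq, ← MulAut.conj_apply, MulEquiv.orderOf_eq, ht]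
      have h1 : #Inv = Nat.card {a : H // a ∈ conjugatesOf t} := by
        rw [← hset, Nat.card_eq_fintype_card, Fintype.card_subtype]; rfl
      rw [h1, Subgroup.index]
      symm
      refine Nat.card_congr (Equiv.ofBijective
        (fun q => ⟨q.liftOn' (fun g => g * t * g⁻¹) fun a b hab => ?_, ?_⟩) ⟨?_, ?_⟩)
      · have hm := (mem_cen.1 (QuotientGroup.leftRel_apply.1 hab)).eq
        calc a * t * a⁻¹ = a * (t * (a⁻¹ * b)) * b⁻¹ := by group
          _ = a * ((a⁻¹ * b) * t) * b⁻¹ := by rw [← hm]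
          _ = b * t * b⁻¹ := by group
      · induction q using Quotient.inductionOn' with
        | h g => exact isConj_iff.2 ⟨g, rfl⟩
      · intro a b
        induction a using Quotient.inductionOn' with
        | h a => induction b using Quotient.inductionOn' with
          | h b =>
            intro e
            have e' : a * t * a⁻¹ = b * t * b⁻¹ := congrArg Subtype.val e
            refine Quotient.sound' (QuotientGroup.leftRel_apply.2 (mem_cen.2 ?_))
            show a⁻¹ * b * t = t * (a⁻¹ * b)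
            calc a⁻¹ * b * t = a⁻¹ * (b * t * b⁻¹) * b := by group
              _ = a⁻¹ * (a * t * a⁻¹) * b := by rw [e']
              _ = t * (a⁻¹ * b) := by group
      · rintro ⟨a, ha⟩
        obtain ⟨g, hg⟩ := isConj_iff.1 ha
        exact ⟨Quotient.mk'' g, Subtype.ext hg⟩
    rw [horb, mul_comm, Subgroup.card_mul_index]

section blocks

/-- Blocks: abelian subgroups attached to the elements with centraliser of odd order. -/
structure BlockHyp (H : Type*) [Group H] (blk : H → Subgroup H) : Prop where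
  mem : ∀ x : H, x ≠ 1 → Odd (Nat.card ↥(cen x)) → x ∈ blk x
  eq_of_mem : ∀ x y : H, x ≠ 1 → Odd (Nat.card ↥(cen x)) → y ∈ blk x → y ≠ 1 →
    Odd (Nat.card ↥(cen y)) ∧ blk y = blk x
  conj : ∀ g x : H, blk (g * x * g⁻¹) = (blk x).map (MulAut.conj g).toMonoidHom

/-- `A` is a block. -/
def IsBlock (blk : H → Subgroup H) (A : Subgroup H) : Prop :=
  ∃ x : H, x ≠ 1 ∧ Odd (Nat.card ↥(cen x)) ∧ blk x = A

variable {blk : H → Subgroup H}

lemma IsBlock.conj (hb : BlockHyp H blk) {A : Subgroup H} (hA : IsBlock blk A) (g : H) :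
    IsBlock blk (A.map (MulAut.conj g).toMonoidHom) := by
  obtain ⟨x, hx, ho, rfl⟩ := hA
  exact ⟨g * x * g⁻¹, fun e => hx (by simpa using e), by rwa [card_cen_conj], hb.conj g x⟩

lemma IsBlock.unique (hb : BlockHyp H blk) {A B : Subgroup H} (hA : IsBlock blk A) (hB : IsBlock blk B) {y : H}
    (hy : y ≠ 1) (hyA : y ∈ A) (hyB : y ∈ B) : A = B := by
  obtain ⟨a, ha, hao, rfl⟩ := hA
  obtain ⟨b, hb', hbo, rfl⟩ := hB
  rw [← (hb.eq_of_mem a y ha hao hyA hy).2, ← (hb.eq_of_mem b y hb' hbo hyB hy).2]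

open scoped Classical in
/-- The orbit partition of the blocks. -/
theorem exists_reps [Fintype H] (hb : BlockHyp H blk) :
    ∃ s : Finset (Subgroup H), (∀ A ∈ s, IsBlock blk A) ∧
      (∀ A ∈ s, ∀ B ∈ s, ∀ g : H, A.map (MulAut.conj g).toMonoidHom = B → A = B) ∧
      (∀ A, IsBlock blk A → ∃ B ∈ s, ∃ g : H, B.map (MulAut.conj g).toMonoidHom = A) ∧
      #(univ.filter fun x : H => x ≠ 1 ∧ Odd (Nat.card ↥(cen x))) =
        ∑ A ∈ s, (Subgroup.normalizer (A : Set H)).index * (Nat.card ↥A - 1) := by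
  set O := univ.filter fun x : H => x ≠ 1 ∧ Odd (Nat.card ↥(cen x)) with hO
  have hcomp : ∀ g k : H, ∀ A : Subgroup H,
      (A.map (MulAut.conj g).toMonoidHom).map (MulAut.conj k).toMonoidHom = A.map (MulAut.conj (k * g)).toMonoidHom := by
    intro g k A
    rw [Subgroup.map_map]; congr 1; ext x; simp [mul_assoc]
  have main : ∀ n (S : Finset (Subgroup H)), S.card = n → (∀ A ∈ S, IsBlock blk A) →
      (∀ A ∈ S, ∀ g : H, A.map (MulAut.conj g).toMonoidHom ∈ S) →
      ∃ s : Finset (Subgroup H), s ⊆ S ∧ (∀ A ∈ s, ∀ B ∈ s, ∀ g : H, A.map (MulAut.conj g).toMonoidHom = B → A = B) ∧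
        (∀ A ∈ S, ∃ B ∈ s, ∃ g : H, B.map (MulAut.conj g).toMonoidHom = A) ∧
        ∑ A ∈ S, (Nat.card ↥A - 1) = ∑ A ∈ s, (Subgroup.normalizer (A : Set H)).index * (Nat.card ↥A - 1) := by
    intro n
    induction n using Nat.strong_induction_on with
    | _ n ih =>
      intro S hn hblk hinv
      rcases S.eq_empty_or_nonempty with rfl | ⟨A, hA⟩
      · exact ⟨∅, Finset.empty_subset _, by simp, by simp, by simp⟩
      set orb := univ.image fun g : H => A.map (MulAut.conj g).toMonoidHom with horb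
      have hsub : orb ⊆ S := fun B hB => by
        obtain ⟨g, -, rfl⟩ := mem_image.1 hB; exact hinv A hA g
      have hAorb : A ∈ orb := mem_image.2 ⟨1, mem_univ _, by ext x; simp⟩
      have hclosed : ∀ B ∈ S \ orb, ∀ g : H, B.map (MulAut.conj g).toMonoidHom ∈ S \ orb := by
        intro B hB g
        obtain ⟨hBS, hBo⟩ := Finset.mem_sdiff.1 hB
        refine Finset.mem_sdiff.2 ⟨hinv B hBS g, fun h => hBo ?_⟩
        obtain ⟨k, -, hk⟩ := mem_image.1 h
        refine mem_image.2 ⟨g⁻¹ * k, mem_univ _, ?_⟩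
        rw [← hcomp, hk, hcomp, inv_mul_cancel]
        ext x; simp
      obtain ⟨s, hs, hne, hcov, hsum⟩ := ih (S \ orb).card (by
        rw [← hn]; exact card_lt_card ((Finset.ssubset_iff_of_subset sdiff_subset).2 ⟨A, hA, fun h =>
          (Finset.mem_sdiff.1 h).2 hAorb⟩)) (S \ orb) rfl (fun B hB => hblk B (Finset.mem_sdiff.1 hB).1) hclosed
      have hAs : A ∉ s := fun h => (Finset.mem_sdiff.1 (hs h)).2 hAorb
      refine ⟨insert A s, insert_subset hA (hs.trans sdiff_subset), ?_, ?_, ?_⟩
      · intro X hX Y hY g hg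
        rcases mem_insert.1 hX with hX | hX <;> rcases mem_insert.1 hY with hY | hY
        · rw [hX, hY]
        · exact absurd (mem_image.2 ⟨g, mem_univ _, hX ▸ hg⟩) (Finset.mem_sdiff.1 (hs hY)).2
        · refine absurd (mem_image.2 ⟨g⁻¹, mem_univ _, ?_⟩) (Finset.mem_sdiff.1 (hs hX)).2
          rw [← hY, ← hg, hcomp, inv_mul_cancel]; ext x; simp
        · exact hne X hX Y hY g hg
      · intro X hX
        by_cases hXo : X ∈ orb
        · obtain ⟨g, -, hg⟩ := mem_image.1 hXo
          exact ⟨A, mem_insert_self _ _, g, hg⟩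
        · obtain ⟨B, hB, g, hg⟩ := hcov X (Finset.mem_sdiff.2 ⟨hX, hXo⟩)
          exact ⟨B, mem_insert_of_mem hB, g, hg⟩
      · rw [sum_insert hAs, ← sum_sdiff hsub, hsum, add_comm]
        congr 1
        have hcard : ∀ B ∈ orb, Nat.card ↥B - 1 = Nat.card ↥A - 1 := fun B hB => by
          obtain ⟨g, -, rfl⟩ := mem_image.1 hB
          rw [Subgroup.card_map_of_injective (MulAut.conj g).injective]
        rw [sum_congr rfl hcard, sum_const, smul_eq_mul]
        congr 1
        have hfib : ∀ g k : H, A.map (MulAut.conj g).toMonoidHom = A.map (MulAut.conj k).toMonoidHom ↔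
            k⁻¹ * g ∈ Subgroup.normalizer (A : Set H) := by
          intro g k
          rw [Subgroup.mem_normalizer_iff]
          constructor
          · intro e x
            constructor
            · intro hx
              have : g * x * g⁻¹ ∈ A.map (MulAut.conj k).toMonoidHom := e ▸ ⟨x, hx, rfl⟩
              obtain ⟨y, hy, hy'⟩ := this
              rw [show k⁻¹ * g * x * (k⁻¹ * g)⁻¹ = k⁻¹ * (g * x * g⁻¹) * k by group, ← hy']
              rw [show k⁻¹ * ((MulAut.conj k).toMonoidHom y) * k = y by simp; group]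
              exact hy
            · intro hx
              have : g * x * g⁻¹ ∈ A.map (MulAut.conj g).toMonoidHom := e.symm ▸ ⟨_, hx, by simp; group⟩
              obtain ⟨y, hy, hy'⟩ := this
              have : y = x := by simpa using hy'
              exact this ▸ hy
          · intro e
            ext z
            simp only [Subgroup.mem_map, MulEquiv.coe_toMonoidHom, MulAut.conj_apply]
            constructor
            · rintro ⟨x, hx, rfl⟩
              exact ⟨k⁻¹ * g * x * (k⁻¹ * g)⁻¹, (e x).1 hx, by group⟩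
            · rintro ⟨y, hy, rfl⟩
              refine ⟨(k⁻¹ * g)⁻¹ * y * (k⁻¹ * g), ?_, by group⟩
              rw [e]; convert hy using 1; group
        have hN : Nat.card (H ⧸ Subgroup.normalizer (A : Set H)) = Nat.card orb := by
          refine Nat.card_congr (Equiv.ofBijective
            (fun q => ⟨q.liftOn' (fun g => A.map (MulAut.conj g).toMonoidHom) fun a b hab => ?_, ?_⟩) ⟨?_, ?_⟩)
          · exact ((hfib b a).2 (QuotientGroup.leftRel_apply.1 hab)).symm
          · induction q using Quotient.inductionOn' with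
            | h g => exact mem_image.2 ⟨g, mem_univ _, rfl⟩
          · intro a b
            induction a using Quotient.inductionOn' with
            | h a => induction b using Quotient.inductionOn' with
              | h b =>
                intro e
                refine Quotient.sound' (QuotientGroup.leftRel_apply.2 ?_)
                exact (hfib b a).1 (congrArg Subtype.val e).symm
          · rintro ⟨B, hB⟩
            obtain ⟨g, -, rfl⟩ := mem_image.1 hB
            exact ⟨Quotient.mk'' g, rfl⟩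
        rw [Subgroup.index, hN, Nat.card_eq_fintype_card, Fintype.card_coe]
  obtain ⟨s, hs, hne, hcov, hsum⟩ := main _ (univ.filter fun A : Subgroup H => IsBlock blk A) rfl
    (fun A hA => (mem_filter.1 hA).2) (fun A hA g => mem_filter.2 ⟨mem_univ _, (mem_filter.1 hA).2.conj hb g⟩)
  refine ⟨s, fun A hA => (mem_filter.1 (hs hA)).2, hne, fun A hA => hcov A (mem_filter.2 ⟨mem_univ _, hA⟩), ?_⟩
  rw [← hsum]
  have hOU : O = (univ.filter fun A : Subgroup H => IsBlock blk A).biUnion
      fun A => (univ.filter fun x : H => x ∈ A).erase 1 := by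
    ext x
    simp only [hO, mem_filter, mem_univ, true_and, mem_biUnion, mem_erase]
    constructor
    · rintro ⟨hx, ho⟩
      exact ⟨blk x, ⟨x, hx, ho, rfl⟩, hx, hb.mem x hx ho⟩
    · rintro ⟨A, ⟨a, ha, hao, rfl⟩, hx, hxA⟩
      exact ⟨hx, (hb.eq_of_mem a x ha hao hxA hx).1⟩
  rw [hOU, card_biUnion]
  · refine sum_congr rfl fun A _ => ?_
    rw [card_erase_of_mem (by simp [one_mem]), Nat.card_eq_fintype_card,
      ← Fintype.card_subtype (fun x : H => x ∈ A)]
  · intro A hA B hB hne'
    rw [Function.onFun, Finset.disjoint_left]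
    intro x hx hx'
    simp only [mem_filter, mem_univ, true_and, mem_erase] at hx hx'
    exact hne' ((mem_filter.1 hA).2.unique hb (mem_filter.1 hB).2 hx.1 hx.2 hx'.2)

/-- The weight of a block. -/
noncomputable def weight (A : Subgroup H) : ℚ :=
  ((Nat.card ↥A : ℚ) - 1) / (Nat.card ↥(Subgroup.normalizer (A : Set H)))

lemma odd_iff_no_involution (x : H) :
    Odd (Nat.card ↥(cen x)) ↔ ¬ ∃ a : H, orderOf a = 2 ∧ Commute a x := by
  rw [← Nat.not_even_iff_odd, even_iff_two_dvd]
  refine not_congr ⟨fun h => ?_, ?_⟩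
  · haveI : Fact (Nat.Prime 2) := ⟨Nat.prime_two⟩
    obtain ⟨a, ha⟩ := exists_prime_orderOf_dvd_card' 2 h
    exact ⟨a, by rwa [Subgroup.orderOf_coe], mem_cen.1 a.2⟩
  · rintro ⟨a, ha, hax⟩
    rw [← ha]
    have : orderOf (⟨a, mem_cen.2 hax⟩ : ↥(cen x)) = orderOf a := Subgroup.orderOf_mk a _
    rw [← this]; exact orderOf_dvd_natCard _

/-- The equation. -/
theorem count_equation (h : InvolHyp H) (hb : BlockHyp H blk) {t : H} (ht : orderOf t = 2) :
    ∃ s : Finset (Subgroup H), (∀ A ∈ s, IsBlock blk A) ∧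
      (∀ A ∈ s, ∀ B ∈ s, ∀ g : H, A.map (MulAut.conj g).toMonoidHom = B → A = B) ∧
      (∀ A, IsBlock blk A → ∃ B ∈ s, ∃ g : H, B.map (MulAut.conj g).toMonoidHom = A) ∧
      (1 : ℚ) / Nat.card ↥(cen t) + (centSum t : ℚ) / (3 * Nat.card ↥(cen t)) =
        1 / Nat.card H + ∑ A ∈ s, weight A := by
  classical
  haveI := Fintype.ofFinite H
  obtain ⟨s, hs, hne, hcov, hsum⟩ := exists_reps hb
  refine ⟨s, hs, hne, hcov, ?_⟩
  obtain ⟨he, hI⟩ := h.even_count ht
  set I := #(univ.filter fun a : H => orderOf a = 2)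
  set E := #(univ.filter fun x : H => x ≠ 1 ∧ ∃ a, orderOf a = 2 ∧ Commute a x)
  set O := #(univ.filter fun x : H => x ≠ 1 ∧ Odd (Nat.card ↥(cen x)))
  have htot : E + O + 1 = Nat.card H := by
    have h1 : (univ.filter fun x : H => x ≠ 1 ∧ Odd (Nat.card ↥(cen x))) =
        (univ.filter fun x : H => x ≠ 1).filter fun x => ¬ ∃ a, orderOf a = 2 ∧ Commute a x := by
      rw [filter_filter]; exact filter_congr fun x _ => by rw [odd_iff_no_involution]
    have h2 : (univ.filter fun x : H => x ≠ 1 ∧ ∃ a, orderOf a = 2 ∧ Commute a x) =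
        (univ.filter fun x : H => x ≠ 1).filter fun x => ∃ a, orderOf a = 2 ∧ Commute a x := by rw [filter_filter]
    simp only [E, O, h1, h2]
    rw [card_filter_add_card_filter_not, Nat.card_eq_fintype_card]
    have h3 : (univ.filter fun x : H => x ≠ 1) = univ.erase 1 := by ext; simp
    rw [h3, card_erase_of_mem (mem_univ _), card_univ, Nat.sub_add_cancel Fintype.card_pos]
  have hc0 : 0 < Nat.card ↥(cen t) := Nat.card_pos
  have hg0 : 0 < Nat.card H := Nat.card_pos
  have hw : ∀ A ∈ s, weight A = (((Subgroup.normalizer (A : Set H)).index * (Nat.card ↥A - 1) : ℕ) : ℚ) /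
      Nat.card H := by
    intro A _
    have h1 := Subgroup.card_mul_index (Subgroup.normalizer (A : Set H))
    have h2 : 0 < Nat.card ↥(Subgroup.normalizer (A : Set H)) := Nat.card_pos
    have h3 : 0 < (Subgroup.normalizer (A : Set H)).index := Nat.pos_of_ne_zero Subgroup.index_ne_zero_of_finite
    rw [weight, ← h1]
    push_cast [Nat.cast_sub (show 1 ≤ Nat.card ↥A from Nat.card_pos)]
    field_simp
  rw [sum_congr rfl hw, ← sum_div, ← Nat.cast_sum, ← hsum]
  set c := Nat.card ↥(cen t)
  set g := Nat.card H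
  have heQ : (3 : ℚ) * E + I * centSum t = 3 * (I * ((c : ℚ) - 1)) := by
    have := congrArg (Nat.cast : ℕ → ℚ) he
    push_cast [Nat.cast_sub (show 1 ≤ c from hc0)] at this
    exact this
  have hIQ : (I : ℚ) * c = g := by exact_mod_cast hI
  have htQ : (E : ℚ) + O + 1 = g := by exact_mod_cast htot
  have hcq : (c : ℚ) ≠ 0 := by exact_mod_cast hc0.ne'
  have hgq : (g : ℚ) ≠ 0 := by exact_mod_cast hg0.ne'
  field_simp
  linear_combination (c : ℚ) * heQ + (-(3 : ℚ) * c) * htQ + (3 + (centSum t : ℚ) - 3 * c) * (-hIQ) + 0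

end blocks

end CfsgLib.Geo.D3
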