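/-
The abstract configuration behind the case analysis: involutions, blocks, unipotent blocks, special elements.
-/
import Cfsg.Agent.Geo.DimThree.NoTv.Count

set_option autoImplicit false
set_option linter.style.haveILetI false

namespace CfsgLib.Geo.D3

open scoped Pointwise

variable {H : Type*} [Group H]

/-- The configuration. -/
structure Cfg (H : Type*) [Group H] (p : ℕ) (blk : H → Subgroup H) (Uni : H → Prop) (Spec : Prop) : Prop where
  prime : p.Prime
  p_ne_two : p ≠ 2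
  simple : IsSimpleGroup H
  nonabelian : ¬ IsMulCommutative H
  invol : InvolHyp H
  blocks : BlockHyp H blk
  cases : ∀ t : H, orderOf t = 2 → CentDih t ∨ CentAb t ∨ CentBig t ∨ Cent48 t ∨ Cent96 t ∨ Cent24 t
  uni_odd : ∀ u : H, Uni u → u ≠ 1 ∧ Odd (Nat.card ↥(cen u)) ∧ blk u = cen u
  uni_pow : ∀ u : H, Uni u → ∀ y ∈ cen u, y ^ p = 1
  of_pow : ∀ x : H, x ≠ 1 → x ^ p = 1 → Uni x
  uni_kappa : ∀ u : H, Uni u → ∃ (e : ℕ) (κ : H), 2 ≤ e ∧
    (cen u).relIndex (Subgroup.normalizer ((cen u) : Set H)) = e ∧ e ∣ Nat.card ↥(cen u) - 1 ∧ orderOf κ = e ∧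
    κ ∈ Subgroup.normalizer ((cen u) : Set H) ∧
    (Odd (Nat.card ↥(cen κ)) → (blk κ).relIndex (Subgroup.normalizer ((blk κ) : Set H)) = 3 →
      e ^ 2 ∣ Nat.card ↥(blk κ))
  comm : ∀ x : H, x ≠ 1 → Odd (Nat.card ↥(cen x)) → IsMulCommutative ↥(blk x)
  semi : ∀ x : H, x ≠ 1 → Odd (Nat.card ↥(cen x)) → ¬ Uni x →
    (blk x).relIndex (Subgroup.normalizer ((blk x) : Set H)) = 2 ∨
    ((blk x).relIndex (Subgroup.normalizer ((blk x) : Set H)) = 3 ∧ Nat.card ↥(blk x) % 3 = 1 ∧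
      7 ≤ Nat.card ↥(blk x)) ∨
    ((blk x).relIndex (Subgroup.normalizer ((blk x) : Set H)) = 6 ∧ Nat.card ↥(blk x) = 3)
  blk_le : ∀ x : H, x ≠ 1 → Odd (Nat.card ↥(cen x)) → blk x ≤ cen x
  blk_eq : ¬ Spec → ∀ x : H, x ≠ 1 → Odd (Nat.card ↥(cen x)) → blk x = cen x
  ab_or_le : ¬ Spec → ∀ x : H, x ≠ 1 → IsMulCommutative ↥(cen x) ∨ ∃ c : H, orderOf c = 2 ∧ cen x ≤ cen c
  spec_p : Spec → p ≠ 3
  spec_three : Spec → ∀ x : H, orderOf x = 3 → Odd (Nat.card ↥(cen x)) → blk x ≠ cen x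
  spec_sylow : Spec → ∀ R : Sylow 3 H, Nat.card R = 9 ∧
    Subgroup.centralizer ((R : Subgroup H) : Set H) = R ∧
    (∀ r ∈ (R : Subgroup H), ∃ n ∈ Subgroup.normalizer ((R : Subgroup H) : Set H), n * r * n⁻¹ = r⁻¹) ∧
    ((R : Subgroup H).relIndex (Subgroup.normalizer ((R : Subgroup H) : Set H)) = 8 →
      ∃ a b : H, orderOf a = 4 ∧ orderOf b = 4 ∧ a ^ 2 = b ^ 2 ∧ a * b * a⁻¹ = b⁻¹) ∧
    ((R : Subgroup H).relIndex (Subgroup.normalizer ((R : Subgroup H) : Set H)) = 4 → ∃ a : H, orderOf a = 4) ∧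
    (R : Subgroup H).relIndex (Subgroup.normalizer ((R : Subgroup H) : Set H)) ∈ ({2, 4, 8} : Set ℕ) ∧
    (∀ n ∈ Subgroup.normalizer ((R : Subgroup H) : Set H), ∀ r ∈ (R : Subgroup H), r ≠ 1 →
      n * r * n⁻¹ ∈ Subgroup.zpowers r →
      (∀ s ∈ (R : Subgroup H), n * s * n⁻¹ = s) ∨ ∀ s ∈ (R : Subgroup H), n * s * n⁻¹ = s⁻¹) ∧
    (∀ r ∈ (R : Subgroup H), r ^ 3 = 1)

variable {p : ℕ} {blk : H → Subgroup H} {Uni : H → Prop} {Spec : Prop}

namespace Cfg

variable [Finite H] (h : Cfg H p blk Uni Spec)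
include h

lemma exists_involution_iff {x : H} : ¬ Odd (Nat.card ↥(cen x)) ↔ ∃ a : H, orderOf a = 2 ∧ Commute a x := by
  rw [odd_iff_no_involution, not_not]

lemma three_lt_involutions {t : H} (ht : orderOf t = 2) : 3 * Nat.card ↥(cen t) < Nat.card H := by
  haveI := h.simple
  classical
  haveI := Fintype.ofFinite H
  obtain ⟨-, hI⟩ := h.invol.even_count ht
  rw [← hI]
  refine Nat.mul_lt_mul_of_pos_right ?_ Nat.card_pos
  by_contra hle
  push Not at hle
  -- at most three involutions: they generate a proper normal subgroup or a central one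
  set I := Finset.univ.filter fun a : H => orderOf a = 2 with hIdef
  have hcj : ∀ g a : H, a ∈ I → g * a * g⁻¹ ∈ I := by
    intro g a ha
    simp only [hIdef, Finset.mem_filter, Finset.mem_univ, true_and] at ha ⊢
    rw [← MulAut.conj_apply, MulEquiv.orderOf_eq, ha]
  let φ : H →* Equiv.Perm ↥I :=
    { toFun := fun g =>
        ⟨fun a => ⟨g * a * g⁻¹, hcj g a a.2⟩, fun a => ⟨g⁻¹ * a * g⁻¹⁻¹, hcj g⁻¹ a a.2⟩,
          fun a => Subtype.ext (by show g⁻¹ * (g * ↑a * g⁻¹) * g⁻¹⁻¹ = ↑a; group),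
          fun a => Subtype.ext (by show g * (g⁻¹ * ↑a * g⁻¹⁻¹) * g⁻¹ = ↑a; group)⟩
      map_one' := Equiv.ext fun a => Subtype.ext (by simp)
      map_mul' := fun g k => Equiv.ext fun a => Subtype.ext (by simp [mul_assoc]) }
  rcases φ.normal_ker.eq_bot_or_eq_top with hk | hk
  · -- a simple group inside the symmetric group of degree at most three is abelian
    have hinj : Function.Injective φ := (MonoidHom.ker_eq_bot_iff φ).1 hk
    have hdvd : Nat.card H ∣ (Nat.card ↥I).factorial := by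
      rw [← Nat.card_perm]; exact Subgroup.card_dvd_of_injective φ hinj
    have hI3 : Nat.card ↥I ≤ 3 := by rw [Nat.card_eq_fintype_card, Fintype.card_coe]; exact hle
    have h6 : Nat.card H ∣ 6 := hdvd.trans (by
      have := Nat.factorial_dvd_factorial hI3
      exact this)
    have hsolv : Group.IsSolvable (Equiv.Perm ↥I) := by
      haveI : Group.IsSolvable (Equiv.Perm (Fin 3)) := by
        haveI : Group.IsSolvable ↥(alternatingGroup (Fin 3)) := Group.isSolvable_of_comm (by decide)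
        refine Group.isSolvable_of_ker_le_range (f := (alternatingGroup (Fin 3)).subtype) (g := Equiv.Perm.sign) ?_
        intro x hx
        exact ⟨⟨x, hx⟩, rfl⟩
      obtain ⟨e⟩ : Nonempty (↥I ↪ Fin 3) := ⟨(Fintype.equivFin ↥I).toEmbedding.trans (Fin.castLEEmb (by
        rw [Fintype.card_coe]; exact hle))⟩
      exact Group.isSolvable_of_isSolvable_injective (Equiv.Perm.viaEmbeddingHom_injective e)
    haveI := hsolv
    exact h.nonabelian ⟨⟨IsSimpleGroup.comm_iff_isSolvable.2 (Group.isSolvable_of_isSolvable_injective hinj)⟩⟩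
  · -- the involution is central
    have hc : cen t = ⊤ := eq_top_iff.2 fun g _ => by
      have hg : φ g = 1 := MonoidHom.mem_ker.1 (hk ▸ Subgroup.mem_top g)
      have := congrArg (fun σ : Equiv.Perm ↥I => ((σ ⟨t, by simp [hIdef, ht]⟩ : ↥I) : H)) hg
      simp [φ] at this
      rw [mem_cen]
      calc g * t = g * t * g⁻¹ * g := by group
        _ = t * g := by rw [this]
    have hzc : t ∈ Subgroup.center H := Subgroup.mem_center_iff.2 fun g =>
      (mem_cen.1 (hc ▸ Subgroup.mem_top g)).eq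
    have hnorm : (Subgroup.zpowers t).Normal := ⟨fun a ha g => by
      rw [Subgroup.mem_center_iff.1 ((Subgroup.zpowers_le.2 hzc) ha) g, mul_inv_cancel_right]; exact ha⟩
    rcases hnorm.eq_bot_or_eq_top with hb | hb
    · rw [Subgroup.zpowers_eq_bot] at hb
      rw [hb, orderOf_one] at ht; omega
    · refine h.nonabelian ⟨⟨fun a b => ?_⟩⟩
      exact (Subgroup.mem_center_iff.1 ((Subgroup.zpowers_le.2 hzc) (hb ▸ Subgroup.mem_top b)) a)

lemma card_block_odd {A : Subgroup H} (hA : IsBlock blk A) : Odd (Nat.card ↥A) := by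
  obtain ⟨x, hx, ho, rfl⟩ := hA
  rw [← Nat.not_even_iff_odd, even_iff_two_dvd]
  intro h2
  haveI : Fact (Nat.Prime 2) := ⟨Nat.prime_two⟩
  obtain ⟨a, ha⟩ := exists_prime_orderOf_dvd_card' 2 h2
  have hoa := (h.blocks.eq_of_mem x a hx ho a.2 fun e => by
    rw [← Subgroup.orderOf_coe, e, orderOf_one] at ha; omega).1
  exact h.exists_involution_iff.2 ⟨a, by rwa [Subgroup.orderOf_coe], Commute.refl _⟩ hoa

lemma three_le_block {A : Subgroup H} (hA : IsBlock blk A) : 3 ≤ Nat.card ↥A := by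
  have hodd := h.card_block_odd hA
  obtain ⟨x, hx, ho, rfl⟩ := hA
  have hne : Nat.card ↥(blk x) ≠ 1 := fun e => by
    rw [Subgroup.card_eq_one] at e
    exact hx ((Subgroup.mem_bot).1 (e ▸ h.blocks.mem x hx ho))
  rcases hodd with ⟨k, hk⟩
  omega

/-- Elements conjugating one element of a block into the block normalise it. -/
lemma mem_normalizer_of_conj {A : Subgroup H} (hA : IsBlock blk A) {n y : H} (hy : y ≠ 1) (hyA : y ∈ A)
    (hny : n * y * n⁻¹ ∈ A) : n ∈ Subgroup.normalizer (A : Set H) := by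
  have hB : IsBlock blk (A.map (MulAut.conj n).toMonoidHom) := hA.conj h.blocks n
  have he := hB.unique h.blocks hA (fun e => hy (by simpa using e)) (y := n * y * n⁻¹) ⟨y, hyA, rfl⟩ hny
  rw [Subgroup.mem_normalizer_iff]
  intro z
  refine ⟨fun hz => he ▸ ⟨z, hz, rfl⟩, fun hz => ?_⟩
  rw [← he] at hz
  obtain ⟨w, hw, hwz⟩ := hz
  have : w = z := by simpa using hwz
  exact this ▸ hw

/-- A prime of the block not dividing the index in the normaliser belongs to the block alone. -/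
lemma exists_conj_mem_block {A : Subgroup H} (hA : IsBlock blk A) {r : ℕ} (hr : r.Prime) (hra : r ∣ Nat.card ↥A)
    (hrw : ¬ r ∣ A.relIndex (Subgroup.normalizer (A : Set H))) {x : H} (hx : orderOf x = r) :
    ∃ g : H, g * x * g⁻¹ ∈ A := by
  haveI : Fact r.Prime := ⟨hr⟩
  obtain ⟨S⟩ : Nonempty (Sylow r ↥A) := inferInstance
  set Ar := (S : Subgroup ↥A).map A.subtype with hAr
  have hArA : Ar ≤ A := Subgroup.map_subtype_le _
  have hp : IsPGroup r ↥Ar := S.isPGroup'.map _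
  obtain ⟨P, hP⟩ := hp.exists_le_sylow
  have hne : Ar ≠ ⊥ := by
    rw [hAr, Ne, Subgroup.map_eq_bot_iff_of_injective _ A.subtype_injective]
    exact S.ne_bot_of_dvd_card hra
  have heq : (P : Subgroup H) = Ar := by
    by_contra hne'
    have hlt : Ar < P := lt_of_le_of_ne hP (Ne.symm hne')
    haveI : Group.IsNilpotent ↥(P : Subgroup H) := P.isPGroup'.isNilpotent
    have hlt' : Ar.subgroupOf P < ⊤ := lt_top_iff_ne_top.2 fun e => hlt.not_ge (Subgroup.subgroupOf_eq_top.1 e)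
    obtain ⟨n, hn, hnA⟩ := SetLike.exists_of_lt (Group.normalizerCondition_of_isNilpotent _ hlt')
    obtain ⟨y, hy, hy1⟩ := Ar.bot_or_exists_ne_one.resolve_left hne
    have hmem : ∀ z, z ∈ Ar → (n : H) * z * (n : H)⁻¹ ∈ Ar := fun z hz => by
      have := (Subgroup.mem_normalizer_iff.1 hn ⟨z, hP hz⟩).1 (Subgroup.mem_subgroupOf.2 hz)
      simpa [Subgroup.mem_subgroupOf] using this
    have hnN : (n : H) ∈ Subgroup.normalizer (A : Set H) :=
      h.mem_normalizer_of_conj hA hy1 (hArA hy) (hArA (hmem y hy))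
    set B := Ar ⊔ Subgroup.zpowers (n : H) with hBdef
    have hBN : B ≤ Subgroup.normalizer (A : Set H) :=
      sup_le (hArA.trans Subgroup.le_normalizer) (by rwa [Subgroup.zpowers_le])
    have hBP : B ≤ P := sup_le hP (by rw [Subgroup.zpowers_le]; exact n.2)
    obtain ⟨i, hi⟩ := IsPGroup.iff_card.1 (P.isPGroup'.to_le hBP)
    have hdiv : r ^ i ∣ Nat.card ↥A := by
      have h1 : r ^ i ∣ Nat.card ↥A * A.relIndex (Subgroup.normalizer (A : Set H)) := by
        rw [← Subgroup.relIndex_bot_left A, Subgroup.relIndex_mul_relIndex ⊥ A _ bot_le Subgroup.le_normalizer,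
          Subgroup.relIndex_bot_left, ← hi]
        exact Subgroup.card_dvd_of_le hBN
      exact (Nat.Coprime.pow_left i (hr.coprime_iff_not_dvd.2 hrw)).dvd_of_dvd_mul_right h1
    have hS : r ^ i ∣ Nat.card ↥(S : Subgroup ↥A) := by
      rw [S.card_eq_multiplicity]
      exact pow_dvd_pow r ((hr.pow_dvd_iff_le_factorization Nat.card_pos.ne').1 hdiv)
    have hle : Nat.card ↥B ≤ Nat.card ↥Ar := by
      rw [hi, hAr, Subgroup.card_map_of_injective A.subtype_injective]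
      exact Nat.le_of_dvd Nat.card_pos hS
    have hBA : Ar = B := Subgroup.eq_of_le_of_card_ge le_sup_left hle
    exact hnA (Subgroup.mem_subgroupOf.2 (hBA ▸ Subgroup.mem_sup_right (Subgroup.mem_zpowers _)))
  obtain ⟨Q, hQ⟩ := (IsPGroup.of_card (n := 1) (by rw [pow_one, Nat.card_zpowers, hx]) :
    IsPGroup r ↥(Subgroup.zpowers x)).exists_le_sylow
  obtain ⟨g, hg⟩ := MulAction.exists_smul_eq H Q P
  refine ⟨g, hArA (heq ▸ ?_)⟩
  rw [← hg]
  have hxQ : x ∈ (Q : Subgroup H) := hQ (Subgroup.mem_zpowers x)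
  show g * x * g⁻¹ ∈ (MulAut.conj g • (Q : Subgroup H))
  simpa using Subgroup.smul_mem_pointwise_smul x (MulAut.conj g) _ hxQ

/-- The order of a block with index prime to a prime is coprime to the centraliser of an involution. -/
lemma coprime_block_cen {A : Subgroup H} (hA : IsBlock blk A)
    (hw : ∀ r : ℕ, r.Prime → r ∣ Nat.card ↥A → ¬ r ∣ A.relIndex (Subgroup.normalizer (A : Set H)))
    {t : H} (ht : orderOf t = 2) : Nat.Coprime (Nat.card ↥A) (Nat.card ↥(cen t)) := by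
  refine Nat.coprime_of_dvd fun r hr hra hrc => ?_
  haveI : Fact r.Prime := ⟨hr⟩
  obtain ⟨x, hx⟩ := exists_prime_orderOf_dvd_card' r hrc
  obtain ⟨g, hg⟩ := h.exists_conj_mem_block hA hr hra (hw r hr hra) (x := (x : H)) (by rwa [Subgroup.orderOf_coe])
  obtain ⟨a, ha, hao, hblk⟩ := hA
  have hne : g * (x : H) * g⁻¹ ≠ 1 := fun e => by
    have hx1 : (x : H) = 1 := by simpa using e
    rw [← Subgroup.orderOf_coe, hx1, orderOf_one] at hx
    exact hr.ne_one hx.symm
  have hodd := (h.blocks.eq_of_mem a _ ha hao (hblk ▸ hg) hne).1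
  rw [card_cen_conj] at hodd
  exact h.exists_involution_iff.2 ⟨t, ht, (mem_cen.1 x.2).symm⟩ hodd

/-- The unipotent block is a Sylow subgroup. -/
lemma uni_sylow {u : H} (hu : Uni u) : ∃ P : Sylow p H, (P : Subgroup H) = cen u := by
  haveI : Fact p.Prime := ⟨h.prime⟩
  have hpg : IsPGroup p ↥(cen u) := fun y => ⟨1, Subtype.ext (by simpa using h.uni_pow u hu y y.2)⟩
  obtain ⟨P, hP⟩ := hpg.exists_le_sylow
  refine ⟨P, le_antisymm ?_ hP⟩
  obtain ⟨hu1, huo, hblk⟩ := h.uni_odd u hu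
  haveI : Nontrivial ↥(P : Subgroup H) := ⟨⟨⟨u, hP (mem_cen.2 (Commute.refl u))⟩, 1, fun e =>
    hu1 (congrArg Subtype.val e)⟩⟩
  haveI := P.isPGroup'.center_nontrivial
  obtain ⟨z, hz⟩ := exists_ne (1 : Subgroup.center ↥(P : Subgroup H))
  have hzP : ∀ y ∈ (P : Subgroup H), Commute y ((z : ↥(P : Subgroup H)) : H) := fun y hy =>
    congrArg Subtype.val (Subgroup.mem_center_iff.1 z.2 ⟨y, hy⟩)
  have hzu : ((z : ↥(P : Subgroup H)) : H) ∈ cen u :=
    mem_cen.2 (hzP u (hP (mem_cen.2 (Commute.refl u)))).symm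
  have hz1 : ((z : ↥(P : Subgroup H)) : H) ≠ 1 := fun e => hz (Subtype.ext (Subtype.ext e))
  have hUz := h.of_pow _ hz1 (h.uni_pow u hu _ hzu)
  have he := (h.blocks.eq_of_mem u _ hu1 huo (by rw [hblk]; exact hzu) hz1).2
  rw [(h.uni_odd _ hUz).2.2, hblk] at he
  exact fun y hy => he ▸ mem_cen.2 (hzP y hy)

lemma not_uni_of_cen_even {x : H} (hx : ∃ a : H, orderOf a = 2 ∧ Commute a x) : ¬ Uni x := fun hu =>
  h.exists_involution_iff.2 hx (h.uni_odd x hu).2.1

lemma uni_of_mem {u y : H} (hu : Uni u) (hy : y ∈ cen u) (hy1 : y ≠ 1) : Uni y :=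
  h.of_pow y hy1 (h.uni_pow u hu y hy)

/-- Any two unipotent blocks are conjugate. -/
lemma uni_conj {u v : H} (hu : Uni u) (hv : Uni v) :
    ∃ g : H, (cen u).map (MulAut.conj g).toMonoidHom = cen v := by
  haveI : Fact p.Prime := ⟨h.prime⟩
  obtain ⟨P, hP⟩ := h.uni_sylow hu
  obtain ⟨Q, hQ⟩ := h.uni_sylow hv
  obtain ⟨g, hg⟩ := MulAction.exists_smul_eq H P Q
  refine ⟨g, ?_⟩
  rw [← hP, ← hQ, ← hg]
  rfl

end Cfg

end CfsgLib.Geo.D3
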