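/-
The terms of the counting equation.
-/
import Cfsg.Agent.Geo.DimThree.NoTv.Cfg

set_option autoImplicit false
set_option linter.style.haveILetI false
set_option linter.unusedSectionVars false

namespace CfsgLib.Geo.D3

variable {H : Type*} [Group H] [Finite H] {p : ℕ} {blk : H → Subgroup H} {Uni : H → Prop} {Spec : Prop}

omit [Finite H] in
lemma card_mul_relIndex_normalizer (A : Subgroup H) :
    Nat.card ↥A * A.relIndex (Subgroup.normalizer (A : Set H)) = Nat.card ↥(Subgroup.normalizer (A : Set H)) := by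
  rw [← Subgroup.relIndex_bot_left A, Subgroup.relIndex_mul_relIndex ⊥ A _ bot_le Subgroup.le_normalizer,
    Subgroup.relIndex_bot_left]

/-- The weight in terms of the order and the index in the normaliser. -/
lemma weight_eq (A : Subgroup H) : weight A =
    ((Nat.card ↥A : ℚ) - 1) / (Nat.card ↥A * A.relIndex (Subgroup.normalizer (A : Set H)) : ℕ) := by
  rw [weight, card_mul_relIndex_normalizer]

/-- Conjugate subgroups have the same index in their normalisers. -/
lemma relIndex_normalizer_conj (A : Subgroup H) (g : H) :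
    (A.map (MulAut.conj g).toMonoidHom).relIndex
      (Subgroup.normalizer ((A.map (MulAut.conj g).toMonoidHom : Subgroup H) : Set H)) =
      A.relIndex (Subgroup.normalizer (A : Set H)) := by
  have h1 : Nat.card ↥(Subgroup.normalizer ((A.map (MulAut.conj g).toMonoidHom : Subgroup H) : Set H)) =
      Nat.card ↥(Subgroup.normalizer (A : Set H)) := by
    rw [← Subgroup.map_equiv_normalizer_eq, Subgroup.card_map_of_injective (MulEquiv.injective _)]
  have h2 : Nat.card ↥(A.map (MulAut.conj g).toMonoidHom) = Nat.card ↥A :=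
    Subgroup.card_map_of_injective (MulEquiv.injective _)
  have := card_mul_relIndex_normalizer (A.map (MulAut.conj g).toMonoidHom)
  rw [h1, h2, ← card_mul_relIndex_normalizer A] at this
  exact Nat.eq_of_mul_eq_mul_left Nat.card_pos this

open scoped Classical

/-- The data of the unipotent term. -/
structure UData (H : Type*) [Group H] (t : H) (p P e : ℕ) (s2 s3 s6 : Finset (Subgroup H)) : Prop where
  two_le : 2 ≤ e
  dvd_pred : e ∣ P - 1
  prime_pow : ∃ m, 1 ≤ m ∧ P = p ^ m
  coprime : Nat.Coprime P (Nat.card ↥(cen t))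
  coprime_block : ∀ A ∈ s2 ∪ s3, Nat.Coprime P (Nat.card ↥A)
  dvd_card : P ∣ Nat.card H
  source : (∃ x ∈ cen t, orderOf x = e) ∨
    (Odd e ∧ ((∃ A ∈ s2, e ∣ Nat.card ↥A) ∨ (∃ A ∈ s3, e ^ 2 ∣ Nat.card ↥A) ∨ (e = 3 ∧ s6.Nonempty)))

/-- The data of a block with automiser of order two or three. -/
structure AData (H : Type*) [Group H] (t : H) (a : ℕ) : Prop where
  odd : Odd a
  three_le : 3 ≤ a
  coprime : Nat.Coprime a (Nat.card ↥(cen t))
  dvd_card : a ∣ Nat.card H

namespace Cfg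

variable (h : Cfg H p blk Uni Spec)
include h

lemma p_odd : Odd p := h.prime.odd_of_ne_two h.p_ne_two

lemma uData_pred {P e : ℕ} (he : e ∣ P - 1) (hP : ∃ m, 1 ≤ m ∧ P = p ^ m) : e + 1 ≤ P ∧ (Odd e → 2 * e + 1 ≤ P) := by
  obtain ⟨m, hm, rfl⟩ := hP
  have h3 : 3 ≤ p ^ m := le_trans (by
    have := h.prime.two_le; have := h.p_ne_two; omega) (Nat.le_self_pow (by omega) p)
  obtain ⟨k, hk⟩ := he
  have hk0 : 1 ≤ k := Nat.one_le_iff_ne_zero.2 fun e0 => by rw [e0, mul_zero] at hk; omega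
  refine ⟨?_, fun ho => ?_⟩
  · have : e ≤ e * k := Nat.le_mul_of_pos_right e (by omega)
    omega
  · have hev : Even (p ^ m - 1) := Nat.Odd.sub_odd h.p_odd.pow odd_one
    rw [hk, Nat.even_mul] at hev
    rcases hev with h' | h'
    · exact absurd h' (Nat.not_even_iff_odd.2 ho)
    · obtain ⟨j, rfl⟩ := h'
      have : 2 * e ≤ e * (j + j) := by
        have : 1 ≤ j := by omega
        nlinarith
      omega

lemma block_of_mem {A : Subgroup H} (hA : IsBlock blk A) {y : H} (hy : y ∈ A) (hy1 : y ≠ 1) :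
    Odd (Nat.card ↥(cen y)) ∧ blk y = A := by
  obtain ⟨x, hx, ho, rfl⟩ := hA
  exact h.blocks.eq_of_mem x y hx ho hy hy1

/-- A block without unipotent elements. -/
lemma semi_cases {A : Subgroup H} (hA : IsBlock blk A) (hnu : ∀ u, Uni u → A ≠ cen u) :
    A.relIndex (Subgroup.normalizer (A : Set H)) = 2 ∨
    (A.relIndex (Subgroup.normalizer (A : Set H)) = 3 ∧ Nat.card ↥A % 3 = 1 ∧ 7 ≤ Nat.card ↥A) ∨
    (A.relIndex (Subgroup.normalizer (A : Set H)) = 6 ∧ Nat.card ↥A = 3) := by
  obtain ⟨x, hx, ho, rfl⟩ := hA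
  exact h.semi x hx ho fun hu => hnu x hu (h.uni_odd x hu).2.2

lemma aData {A : Subgroup H} (hA : IsBlock blk A) {t : H} (ht : orderOf t = 2)
    (hw : A.relIndex (Subgroup.normalizer (A : Set H)) = 2 ∨
      (A.relIndex (Subgroup.normalizer (A : Set H)) = 3 ∧ Nat.card ↥A % 3 = 1)) :
    AData H t (Nat.card ↥A) := by
  refine ⟨h.card_block_odd hA, h.three_le_block hA, h.coprime_block_cen hA (fun r hr hra hrw => ?_) ht,
    Subgroup.card_subgroup_dvd_card A⟩
  rcases hw with e | ⟨e, e1⟩ <;> rw [e] at hrw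
  · obtain rfl := (Nat.prime_dvd_prime_iff_eq hr Nat.prime_two).1 hrw
    exact (Nat.not_even_iff_odd.2 (h.card_block_odd hA)) (even_iff_two_dvd.2 hra)
  · obtain rfl := (Nat.prime_dvd_prime_iff_eq hr Nat.prime_three).1 hrw
    omega

open scoped Classical in
/-- The decomposition of the equation. -/
theorem decomp {t : H} (ht : orderOf t = 2) :
    ∃ (s2 s3 s6 : Finset (Subgroup H)) (U : ℚ),
      (1 : ℚ) / Nat.card ↥(cen t) + (centSum t : ℚ) / (3 * Nat.card ↥(cen t)) =
        1 / Nat.card H + U + ∑ A ∈ s2, ((Nat.card ↥A : ℚ) - 1) / (2 * Nat.card ↥A) +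
          ∑ A ∈ s3, ((Nat.card ↥A : ℚ) - 1) / (3 * Nat.card ↥A) + (s6.card : ℚ) / 9 ∧
      (∀ A ∈ s2, AData H t (Nat.card ↥A) ∧ IsBlock blk A ∧
        A.relIndex (Subgroup.normalizer (A : Set H)) = 2) ∧
      (∀ A ∈ s3, AData H t (Nat.card ↥A) ∧ Nat.card ↥A % 3 = 1 ∧ 7 ≤ Nat.card ↥A ∧ IsBlock blk A ∧
        A.relIndex (Subgroup.normalizer (A : Set H)) = 3) ∧
      (∀ A ∈ s6, IsBlock blk A ∧ Nat.card ↥A = 3 ∧ A.relIndex (Subgroup.normalizer (A : Set H)) = 6) ∧
      (∀ A ∈ s6, ∀ B ∈ s6, ∀ g : H, A.map (MulAut.conj g).toMonoidHom = B → A = B) ∧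
      (∀ A, IsBlock blk A → Nat.card ↥A = 3 → A.relIndex (Subgroup.normalizer (A : Set H)) = 6 →
        (∀ u, Uni u → A ≠ cen u) → ∃ B ∈ s6, ∃ g : H, B.map (MulAut.conj g).toMonoidHom = A) ∧
      ((U = 0 ∧ ∀ u, ¬ Uni u) ∨
        ∃ P e, UData H t p P e s2 s3 s6 ∧ U = ((P : ℚ) - 1) / (P * e) ∧
          ∃ u, Uni u ∧ Nat.card ↥(cen u) = P ∧
            (cen u).relIndex (Subgroup.normalizer ((cen u) : Set H)) = e) := by
  obtain ⟨s, hs, hne, hcov, heq⟩ := count_equation h.invol h.blocks ht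
  set isU : Subgroup H → Prop := fun A => ∃ u, Uni u ∧ A = cen u with hisU
  set w : Subgroup H → ℕ := fun A => A.relIndex (Subgroup.normalizer (A : Set H)) with hwdef
  set sU := s.filter isU
  set sN := s.filter fun A => ¬ isU A with hsN
  set s2 := sN.filter fun A => w A = 2 with hs2
  set s3 := sN.filter fun A => w A = 3 with hs3
  set s6 := sN.filter fun A => w A = 6 with hs6
  have hnu : ∀ A ∈ sN, ∀ u, Uni u → A ≠ cen u := fun A hA u hu e => (Finset.mem_filter.1 hA).2 ⟨u, hu, e⟩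
  have htri : ∀ A ∈ sN, w A = 2 ∨ (w A = 3 ∧ Nat.card ↥A % 3 = 1 ∧ 7 ≤ Nat.card ↥A) ∨
      (w A = 6 ∧ Nat.card ↥A = 3) := fun A hA =>
    h.semi_cases (hs A (Finset.mem_filter.1 hA).1) (hnu A hA)
  have hsum : ∑ A ∈ sN, weight A = ∑ A ∈ s2, ((Nat.card ↥A : ℚ) - 1) / (2 * Nat.card ↥A) +
      ∑ A ∈ s3, ((Nat.card ↥A : ℚ) - 1) / (3 * Nat.card ↥A) + (s6.card : ℚ) / 9 := by
    have e3 : (s6.card : ℚ) / 9 = ∑ A ∈ s6, (1 : ℚ) / 9 := by rw [Finset.sum_const, nsmul_eq_mul]; ring
    rw [e3]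
    simp only [hs2, hs3, hs6, Finset.sum_filter (s := sN)]
    rw [← Finset.sum_add_distrib, ← Finset.sum_add_distrib]
    refine Finset.sum_congr rfl fun A hA => ?_
    rw [weight_eq]
    rcases htri A hA with e | ⟨e, -⟩ | ⟨e, e'⟩ <;> simp only [hwdef] at e ⊢ <;> rw [e]
    · norm_num; ring
    · norm_num; ring
    · rw [e']; norm_num
  refine ⟨s2, s3, s6, ∑ A ∈ sU, weight A, ?_, ?_, ?_, ?_, ?_, ?_, ?_⟩
  · rw [heq, ← Finset.sum_filter_add_sum_filter_not s isU, hsum]
    ring
  · intro A hA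
    obtain ⟨hA', hw2⟩ := Finset.mem_filter.1 hA
    exact ⟨h.aData (hs A (Finset.mem_filter.1 hA').1) ht (Or.inl hw2), hs A (Finset.mem_filter.1 hA').1, hw2⟩
  · intro A hA
    obtain ⟨hA', hw3⟩ := Finset.mem_filter.1 hA
    rcases htri A hA' with e | ⟨-, e1, e2⟩ | ⟨e, -⟩
    · omega
    · exact ⟨h.aData (hs A (Finset.mem_filter.1 hA').1) ht (Or.inr ⟨hw3, e1⟩), e1, e2,
        hs A (Finset.mem_filter.1 hA').1, hw3⟩
    · omega
  · intro A hA
    obtain ⟨hA', hw6⟩ := Finset.mem_filter.1 hA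
    rcases htri A hA' with e | ⟨e, -, -⟩ | ⟨-, e1⟩
    · omega
    · omega
    · exact ⟨hs A (Finset.mem_filter.1 hA').1, e1, hw6⟩
  · intro A hA B hB g hg
    exact hne A (Finset.mem_filter.1 (Finset.mem_filter.1 hA).1).1 B
      (Finset.mem_filter.1 (Finset.mem_filter.1 hB).1).1 g hg
  · intro A hA hA3 hA6 hAu
    obtain ⟨B, hB, g, hg⟩ := hcov A hA
    refine ⟨B, Finset.mem_filter.2 ⟨Finset.mem_filter.2 ⟨hB, ?_⟩, ?_⟩, g, hg⟩
    · rintro ⟨u, hu, rfl⟩
      obtain ⟨x, hx, ho, hblk⟩ := hA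
      have hxm : x ∈ A := hblk ▸ h.blocks.mem x hx ho
      rw [← hg] at hxm
      obtain ⟨y, hy, hyx⟩ := hxm
      have hy' : g * y * g⁻¹ = x := hyx
      have hUx : Uni x := by
        have hyu := h.uni_of_mem hu hy (fun e => hx (by rw [← hy', e]; simp))
        refine h.of_pow x hx ?_
        rw [← hy', conj_pow, h.uni_pow u hu y hy]
        simp
      exact hAu x hUx (by rw [← hblk, (h.uni_odd x hUx).2.2])
    · show B.relIndex (Subgroup.normalizer (B : Set H)) = 6
      rw [← relIndex_normalizer_conj B g, hg, hA6]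
  · by_cases hex : ∃ u, Uni u
    · right
      obtain ⟨u, hu⟩ := hex
      obtain ⟨hu1, huo, hblk⟩ := h.uni_odd u hu
      obtain ⟨B, hB, g, hg⟩ := hcov (cen u) ⟨u, hu1, huo, hblk⟩
      have humem : u ∈ B.map (MulAut.conj g).toMonoidHom := hg ▸ mem_cen.2 (Commute.refl u)
      obtain ⟨u', hu'B, hu'⟩ := humem
      have hu'' : g * u' * g⁻¹ = u := hu'
      have hu'1 : u' ≠ 1 := fun e => hu1 (by rw [← hu'', e]; simp)
      have hU' : Uni u' := by
        refine h.of_pow u' hu'1 ?_
        have hp := h.uni_pow u hu u (mem_cen.2 (Commute.refl u))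
        rw [← hu'', conj_pow] at hp
        simpa using hp
      have hBu : B = cen u' := by
        rw [← (h.block_of_mem (hs B hB) hu'B hu'1).2, (h.uni_odd u' hU').2.2]
      have hBU : B ∈ sU := Finset.mem_filter.2 ⟨hB, u', hU', hBu⟩
      have huniq : sU = {B} := by
        refine Finset.eq_singleton_iff_unique_mem.2 ⟨hBU, fun C hC => ?_⟩
        obtain ⟨hCs, v, hv, rfl⟩ := Finset.mem_filter.1 hC
        obtain ⟨k, hk⟩ := h.uni_conj hv hU'
        exact hne _ hCs B hB k (hk.trans hBu.symm)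
      obtain ⟨e, κ, he2, hrel, hdvd, hκo, hκN, hκA⟩ := h.uni_kappa u' hU'
      haveI : Fact p.Prime := ⟨h.prime⟩
      have hpg : IsPGroup p ↥(cen u') := fun y => ⟨1, Subtype.ext (by simpa using h.uni_pow u' hU' y y.2)⟩
      obtain ⟨m, hm⟩ := IsPGroup.iff_card.1 hpg
      have hm1 : 1 ≤ m := Nat.one_le_iff_ne_zero.2 fun e0 => by
        have hcard := hm
        rw [e0, pow_zero, Subgroup.card_eq_one] at hcard
        exact hu'1 (Subgroup.mem_bot.1 (hcard ▸ mem_cen.2 (Commute.refl u')))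
      refine ⟨Nat.card ↥(cen u'), e, ⟨he2, hdvd, ⟨m, hm1, hm⟩, ?_, ?_, Subgroup.card_subgroup_dvd_card _, ?_⟩,
        ?_, u', hU', rfl, hrel⟩
      · rw [hm]
        refine Nat.Coprime.pow_left m (h.prime.coprime_iff_not_dvd.2 fun hp => ?_)
        obtain ⟨x, hx⟩ := exists_prime_orderOf_dvd_card' p hp
        have hx' : Uni (x : H) := by
          refine h.of_pow _ (fun e0 => ?_) ?_
          · rw [← Subgroup.orderOf_coe, e0, orderOf_one] at hx; exact h.prime.ne_one hx.symm
          · rw [← hx, ← Subgroup.orderOf_coe, pow_orderOf_eq_one]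
        exact h.not_uni_of_cen_even ⟨t, ht, (mem_cen.1 x.2).symm⟩ hx'
      · intro A hA
        have hA' : A ∈ sN := by
          rcases Finset.mem_union.1 hA with hh | hh <;> exact (Finset.mem_filter.1 hh).1
        rw [hm]
        refine Nat.Coprime.pow_left m (h.prime.coprime_iff_not_dvd.2 fun hp => ?_)
        obtain ⟨x, hx⟩ := exists_prime_orderOf_dvd_card' p hp
        have hx1 : (x : H) ≠ 1 := fun e0 => by
          rw [← Subgroup.orderOf_coe, e0, orderOf_one] at hx; exact h.prime.ne_one hx.symm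
        have hx' : Uni (x : H) := h.of_pow _ hx1 (by rw [← hx, ← Subgroup.orderOf_coe, pow_orderOf_eq_one])
        have hbm := (h.block_of_mem (hs A (Finset.mem_filter.1 hA').1) x.2 hx1).2
        rw [(h.uni_odd _ hx').2.2] at hbm
        exact hnu A hA' x hx' hbm.symm
      · by_cases hev : Odd (Nat.card ↥(cen κ))
        · right
          have hκ1 : κ ≠ 1 := fun e0 => by rw [e0, orderOf_one] at hκo; omega
          have hκu : ¬ Uni κ := fun hU => by
            have h1 := orderOf_dvd_of_pow_eq_one (h.uni_pow κ hU κ (mem_cen.2 (Commute.refl κ)))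
            rw [hκo, Nat.dvd_prime h.prime] at h1
            rcases h1 with h1 | h1
            · omega
            · have h2 : p ∣ Nat.card ↥(cen u') - 1 := h1 ▸ hdvd
              have h3 : p ∣ Nat.card ↥(cen u') := hm ▸ dvd_pow_self p (by omega)
              have h4 := Nat.dvd_sub h3 h2
              rw [Nat.sub_sub_self Nat.card_pos] at h4
              exact h.prime.ne_one (Nat.dvd_one.1 h4)
          have hκb : IsBlock blk (blk κ) := ⟨κ, hκ1, hev, rfl⟩
          obtain ⟨C, hC, k, hk⟩ := hcov _ hκb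
          have hcard : Nat.card ↥C = Nat.card ↥(blk κ) := by
            rw [← hk, Subgroup.card_map_of_injective (MulEquiv.injective _)]
          have hCN : C ∈ sN := by
            refine Finset.mem_filter.2 ⟨hC, ?_⟩
            rintro ⟨v, hv, rfl⟩
            obtain ⟨y, hy, hyκ⟩ := (hk ▸ h.blocks.mem κ hκ1 hev : κ ∈ (cen v).map (MulAut.conj k).toMonoidHom)
            have hy' : k * y * k⁻¹ = κ := hyκ
            refine hκu (h.of_pow κ hκ1 ?_)
            rw [← hy', conj_pow, h.uni_pow v hv y hy]; simp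
          have hodd : Odd e := by
            rw [← hκo]
            exact Odd.of_dvd_nat (h.card_block_odd hκb) (Subgroup.orderOf_dvd_natCard _ (h.blocks.mem κ hκ1 hev))
          have hed : e ∣ Nat.card ↥C := by
            rw [hcard, ← hκo]; exact Subgroup.orderOf_dvd_natCard _ (h.blocks.mem κ hκ1 hev)
          refine ⟨hodd, ?_⟩
          have hwe : w C = (blk κ).relIndex (Subgroup.normalizer ((blk κ) : Set H)) := by
            rw [← hk]; exact (relIndex_normalizer_conj C k).symm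
          rcases htri C hCN with e' | ⟨e', -, -⟩ | ⟨e', e''⟩
          · exact Or.inl ⟨C, Finset.mem_filter.2 ⟨hCN, e'⟩, hed⟩
          · exact Or.inr (Or.inl ⟨C, Finset.mem_filter.2 ⟨hCN, e'⟩, hcard ▸ hκA hev (hwe ▸ e')⟩)
          · refine Or.inr (Or.inr ⟨?_, C, Finset.mem_filter.2 ⟨hCN, e'⟩⟩)
            rw [e''] at hed
            rcases (Nat.dvd_prime Nat.prime_three).1 hed with hh | hh
            · omega
            · exact hh
        · left
          obtain ⟨a, ha, hak⟩ := h.exists_involution_iff.1 hev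
          obtain ⟨k, hk⟩ := isConj_iff.1 (h.invol.one_class a t ha ht)
          refine ⟨k * κ * k⁻¹, mem_cen.2 ?_, by rw [← hκo, ← MulAut.conj_apply, MulEquiv.orderOf_eq]⟩
          rw [← hk]
          exact (Commute.conj_iff k).2 hak.symm
      · rw [huniq, Finset.sum_singleton, weight_eq, hBu, hrel]
        push_cast
        ring
    · left
      push Not at hex
      refine ⟨?_, hex⟩
      have : sU = ∅ := Finset.eq_empty_of_forall_notMem fun A hA => by
        obtain ⟨u, hu, -⟩ := (Finset.mem_filter.1 hA).2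
        exact hex u hu
      rw [this, Finset.sum_empty]

end Cfg

end CfsgLib.Geo.D3
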