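/-
Local arguments of the case analysis: special elements, blocks of order three, a sharp permutation count.
-/
import Cfsg.Agent.Geo.DimThree.NoTv.Split

set_option autoImplicit false
set_option linter.style.haveILetI false
set_option linter.unusedSectionVars false

namespace CfsgLib.Geo.D3

open scoped Pointwise

variable {H : Type*} [Group H] [Finite H]

section tools

/-- Burnside's transfer in a simple group. -/
lemma normalizer_not_le_centralizer (hsimp : IsSimpleGroup H) (hna : ¬ IsMulCommutative H) {r : ℕ} [Fact r.Prime]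
    (P : Sylow r H) (hP : (P : Subgroup H) ≠ ⊥) :
    ¬ Subgroup.normalizer ((P : Subgroup H) : Set H) ≤ Subgroup.centralizer ((P : Subgroup H) : Set H) := by
  intro hle
  haveI := hsimp
  have hc := MonoidHom.ker_transferSylow_isComplement' P hle
  rcases (MonoidHom.normal_ker (MonoidHom.transferSylow P hle)).eq_bot_or_eq_top with hk | hk
  · rw [hk] at hc
    have hPtop : (P : Subgroup H) = ⊤ := Subgroup.isComplement'_bot_left.1 hc
    refine hna ⟨⟨fun a b => ?_⟩⟩
    have hb := hle (Subgroup.le_normalizer (hPtop ▸ Subgroup.mem_top b : b ∈ (P : Subgroup H)))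
    exact Subgroup.mem_centralizer_iff.1 hb a (hPtop ▸ Subgroup.mem_top a : a ∈ (P : Subgroup H))
  · rw [hk] at hc
    exact hP (Subgroup.isComplement'_top_left.1 hc)

/-- Two elements of order three in a group whose order is not divisible by nine generate conjugate subgroups. -/
lemma conj_zpowers_three {D : Subgroup H} (h9 : ¬ 9 ∣ Nat.card ↥D) {a b : H} (ha : a ∈ D) (hb : b ∈ D)
    (ha3 : orderOf a = 3) (hb3 : orderOf b = 3) : ∃ d ∈ D, d * a * d⁻¹ ∈ Subgroup.zpowers b := by
  haveI : Fact (Nat.Prime 3) := ⟨Nat.prime_three⟩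
  have key : ∀ x : ↥D, orderOf x = 3 → ∃ Q : Sylow 3 ↥D, (Q : Subgroup ↥D) = Subgroup.zpowers x := by
    intro x hx
    obtain ⟨Q, hQ⟩ := (IsPGroup.of_card (n := 1) (by rw [pow_one, Nat.card_zpowers, hx]) :
      IsPGroup 3 ↥(Subgroup.zpowers x)).exists_le_sylow
    refine ⟨Q, (Subgroup.eq_of_le_of_card_ge hQ ?_).symm⟩
    obtain ⟨k, hk⟩ := IsPGroup.iff_card.1 Q.isPGroup'
    rw [hk, Nat.card_zpowers, hx]
    have : k < 2 := by
      by_contra hk2
      push Not at hk2
      exact h9 ((pow_dvd_pow 3 hk2).trans (hk ▸ Subgroup.card_subgroup_dvd_card (Q : Subgroup ↥D)))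
    interval_cases k <;> norm_num
  obtain ⟨Qa, hQa⟩ := key ⟨a, ha⟩ (by rwa [Subgroup.orderOf_mk])
  obtain ⟨Qb, hQb⟩ := key ⟨b, hb⟩ (by rwa [Subgroup.orderOf_mk])
  obtain ⟨d, hd⟩ := MulAction.exists_smul_eq ↥D Qa Qb
  refine ⟨d, d.2, ?_⟩
  have hmem : d * ⟨a, ha⟩ * d⁻¹ ∈ (Qb : Subgroup ↥D) := by
    rw [← hd, Sylow.coe_subgroup_smul]
    simpa using Subgroup.smul_mem_pointwise_smul _ (MulAut.conj d) _
      (hQa ▸ Subgroup.mem_zpowers _ : (⟨a, ha⟩ : ↥D) ∈ (Qa : Subgroup ↥D))
  rw [hQb, Subgroup.mem_zpowers_iff] at hmem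
  obtain ⟨k, hk⟩ := hmem
  refine Subgroup.mem_zpowers_iff.2 ⟨k, ?_⟩
  have := congrArg Subtype.val hk
  simpa using this

/-- An element of a group of order three is a generator or its inverse. -/
lemma eq_or_eq_inv_of_three {b z : H} (hb : orderOf b = 3) (hz : z ∈ Subgroup.zpowers b) (hz1 : z ≠ 1) :
    z = b ∨ z = b⁻¹ := by
  obtain ⟨k, rfl⟩ := Subgroup.mem_zpowers_iff.1 hz
  have h3 : b ^ (3 : ℤ) = 1 := by rw [show (3 : ℤ) = ((3 : ℕ) : ℤ) from rfl, zpow_natCast, ← hb, pow_orderOf_eq_one]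
  have hk : b ^ k = b ^ (k % 3) := by
    conv_lhs => rw [← Int.emod_add_mul_ediv k 3, zpow_add, zpow_mul, h3, one_zpow, mul_one]
  have h0 := Int.emod_nonneg k (show (3 : ℤ) ≠ 0 by norm_num)
  have h1 := Int.emod_lt_of_pos k (show (0 : ℤ) < 3 by norm_num)
  rw [hk] at hz1 ⊢
  obtain h | h | h : k % 3 = 0 ∨ k % 3 = 1 ∨ k % 3 = 2 := by omega
  · exact absurd (by rw [h, zpow_zero]) hz1
  · left; rw [h, zpow_one]
  · right
    rw [h]
    refine eq_inv_of_mul_eq_one_left ?_
    rw [← zpow_add_one]; exact h3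

/-- An element of odd order with a fixed square fixes. -/
lemma commute_of_sq {r t : H} (hr : Odd (orderOf r)) (h : Commute (r ^ 2) t) : Commute r t := by
  obtain ⟨m, hm⟩ := hr
  have he : r = (r ^ 2) ^ (m + 1) := by
    rw [← pow_mul, show 2 * (m + 1) = orderOf r + 1 by omega, pow_succ, pow_orderOf_eq_one, one_mul]
  rw [he]
  exact h.pow_left _

/-- A TI subgroup of index one less than its own order in a permutation group: normalisers of complements are
small. -/
theorem card_normalizer_complement {A : Subgroup H} {y : H}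
    (hTI : ∀ a ∈ A, a ≠ 1 → ∀ g : H, g⁻¹ * a * g ∈ A → g ∈ Subgroup.normalizer (A : Set H))
    (hyN : y ∈ Subgroup.normalizer (A : Set H))
    (hy : orderOf y = A.relIndex (Subgroup.normalizer (A : Set H)))
    (hcop : Nat.Coprime (Nat.card ↥A) (orderOf y))
    (hyA : ∀ a ∈ A, Commute a y → a = 1)
    (hidx : (Subgroup.normalizer (A : Set H)).index = Nat.card ↥A + 1) :
    Nat.card ↥(Subgroup.normalizer ((Subgroup.zpowers y : Subgroup H) : Set H)) ≤ 2 * orderOf y := by
  classical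
  set N := Subgroup.normalizer (A : Set H) with hN
  let o : H ⧸ N := ((1 : H) : H ⧸ N)
  have hfix_o : ∀ n ∈ N, n • o = o := fun n hn => by
    show ((n * 1 : H) : H ⧸ N) = _
    rw [QuotientGroup.eq, mul_one, mul_one]; exact inv_mem hn
  have hdisj : ∀ z ∈ A, z ∈ Subgroup.zpowers y → z = 1 := fun z hz hzy => orderOf_eq_one_iff.1
    (Nat.dvd_one.1 (hcop.gcd_eq_one ▸ Nat.dvd_gcd (Subgroup.orderOf_dvd_natCard A hz)
      (orderOf_dvd_of_mem_zpowers hzy)))
  -- an element of `A` fixing a second point is trivial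
  have hfree : ∀ a ∈ A, ∀ x : H ⧸ N, a • x = x → x ≠ o → a = 1 := by
    intro a ha x hax hxo
    by_contra ha1
    obtain ⟨g, rfl⟩ := QuotientGroup.mk_surjective x
    refine hxo (QuotientGroup.eq.2 ?_)
    rw [mul_one]
    refine inv_mem (hTI a ha ha1 g ?_)
    have hmem : g⁻¹ * a * g ∈ N := by
      have h2 := QuotientGroup.eq.1 hax.symm
      rwa [show g⁻¹ * (a • g) = g⁻¹ * a * g by rw [smul_eq_mul, mul_assoc]] at h2
    have hpow : (g⁻¹ * a * g) ^ Nat.card ↥A = 1 := by
      have h1 : a ^ Nat.card ↥A = 1 := congrArg Subtype.val (pow_card_eq_one' (x := (⟨a, ha⟩ : ↥A)))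
      have h2 := conj_pow (a := g⁻¹) (b := a) (i := Nat.card ↥A)
      rw [inv_inv] at h2
      rw [h2, h1, mul_one, inv_mul_cancel]
    haveI : (A.subgroupOf N).Normal := Subgroup.normal_in_normalizer
    have hw : (g⁻¹ * a * g) ^ A.relIndex N ∈ A := by
      have := Subgroup.mem_subgroupOf.1 (Subgroup.pow_index_mem (A.subgroupOf N) (⟨_, hmem⟩ : ↥N))
      simpa [Subgroup.relIndex] using this
    obtain ⟨m, hm⟩ := exists_pow_eq_self_of_coprime (x := g⁻¹ * a * g) (n := A.relIndex N)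
      (Nat.Coprime.coprime_dvd_right (orderOf_dvd_of_pow_eq_one hpow) (hy ▸ hcop.symm))
    exact hm ▸ pow_mem hw m
  -- at most two fixed points
  have hcard : Nat.card (H ⧸ N) = Nat.card ↥A + 1 := hidx
  have htwo : Nat.card {x : H ⧸ N // y • x = x} ≤ 2 := by
    have huniq : ∀ x₁ x₂ : H ⧸ N, y • x₁ = x₁ → y • x₂ = x₂ → x₁ ≠ o → x₂ ≠ o → x₁ = x₂ := by
      intro x₁ x₂ h1 h2 n1 n2
      let f : ↥A → {x : H ⧸ N // x ≠ o} := fun a => ⟨(a : H) • x₁, fun e => n1 (by
        rw [← inv_smul_smul (a : H) x₁, e, hfix_o _ (inv_mem (Subgroup.le_normalizer a.2))])⟩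
      have hinj : Function.Injective f := fun a b e => by
        have e' : (a : H) • x₁ = (b : H) • x₁ := congrArg Subtype.val e
        have := hfree ((b : H)⁻¹ * a) (mul_mem (inv_mem b.2) a.2) x₁ (by rw [mul_smul, e', inv_smul_smul]) n1
        exact Subtype.ext (inv_mul_eq_one.1 this).symm
      have hsurj : Function.Surjective f := (hinj.bijective_of_nat_card_le (by
        haveI := Fintype.ofFinite (H ⧸ N)
        rw [Nat.card_eq_fintype_card, Fintype.card_subtype_compl, Fintype.card_subtype_eq,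
          ← Nat.card_eq_fintype_card, hcard, Nat.add_sub_cancel])).2
      obtain ⟨a, ha⟩ := hsurj ⟨x₂, n2⟩
      have ha' : (a : H) • x₁ = x₂ := congrArg Subtype.val ha
      have hya : y * a * y⁻¹ ∈ A := (Subgroup.mem_normalizer_iff.1 hyN _).1 a.2
      have hone := hfree ((a : H)⁻¹ * (y * a * y⁻¹)) (mul_mem (inv_mem a.2) hya) x₁ (by
        have e : y⁻¹ • x₁ = x₁ := by conv_lhs => rw [← h1, inv_smul_smul]
        rw [mul_smul, mul_smul, mul_smul, e, ha', h2, ← ha', inv_smul_smul]) n1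
      have hc : Commute (a : H) y := by
        have := inv_mul_eq_one.1 hone
        show (a : H) * y = y * a
        calc (a : H) * y = y * a * y⁻¹ * y := by rw [← this]
          _ = y * a := by group
      rw [← ha', hyA a a.2 hc, one_smul]
    let φ : {x : H ⧸ N // y • x = x} → Bool := fun x => decide (x.1 = o)
    refine (Nat.card_le_card_of_injective φ fun a b e => ?_).trans (by simp)
    by_cases ha : a.1 = o
    · have hb : b.1 = o := (decide_eq_decide.1 e).1 ha
      exact Subtype.ext (ha.trans hb.symm)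
    · exact Subtype.ext (huniq _ _ a.2 b.2 ha fun hb => ha ((decide_eq_decide.1 e).2 hb))
  -- the stabiliser in the normaliser of the complement
  set M := Subgroup.normalizer ((Subgroup.zpowers y : Subgroup H) : Set H) with hM
  have hyN' : Subgroup.zpowers y ≤ N := Subgroup.zpowers_le.2 hyN
  have hMN : M ⊓ N ≤ Subgroup.zpowers y := by
    intro n hn
    let ψ : ↥A × ↥(Subgroup.zpowers y) → ↥N := fun q => ⟨q.1 * q.2, mul_mem (Subgroup.le_normalizer q.1.2) (hyN' q.2.2)⟩
    have hψ : Function.Injective ψ := fun q r e => by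
      have e' : (q.1 : H) * q.2 = r.1 * r.2 := congrArg Subtype.val e
      have h1 : (r.1 : H)⁻¹ * q.1 = r.2 * (q.2 : H)⁻¹ := by
        rw [inv_mul_eq_iff_eq_mul, ← mul_assoc, ← e', mul_inv_cancel_right]
      have h2 := hdisj _ (mul_mem (inv_mem r.1.2) q.1.2) (h1 ▸ mul_mem r.2.2 (inv_mem q.2.2))
      refine Prod.ext (Subtype.ext (inv_mul_eq_one.1 h2).symm) (Subtype.ext ?_)
      rw [(inv_mul_eq_one.1 h2).symm] at e'
      exact mul_left_cancel e'
    obtain ⟨⟨a, z⟩, haz⟩ := (hψ.bijective_of_nat_card_le (by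
      rw [Nat.card_prod, Nat.card_zpowers, hy, card_mul_relIndex_normalizer])).2 ⟨n, hn.2⟩
    have haz' : (a : H) * z = n := congrArg Subtype.val haz
    have haM : (a : H) ∈ M := by
      rw [show (a : H) = n * (z : H)⁻¹ by rw [← haz', mul_inv_cancel_right]]
      exact mul_mem hn.1 (inv_mem (Subgroup.le_normalizer z.2))
    have h3 : (a : H) * y * (a : H)⁻¹ * y⁻¹ = 1 := by
      refine hdisj _ ?_ (mul_mem ((Subgroup.mem_normalizer_iff.1 haM y).1 (Subgroup.mem_zpowers y))
        (inv_mem (Subgroup.mem_zpowers y)))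
      rw [show (a : H) * y * (a : H)⁻¹ * y⁻¹ = (a : H) * (y * (a : H)⁻¹ * y⁻¹) by group]
      exact mul_mem a.2 ((Subgroup.mem_normalizer_iff.1 hyN _).1 (inv_mem a.2))
    have hc : Commute (a : H) y := by
      have := mul_inv_eq_one.1 h3
      show (a : H) * y = y * a
      exact mul_inv_eq_iff_eq_mul.1 this
    rw [← haz', hyA a a.2 hc, one_mul]
    exact z.2
  have hle : N.relIndex M ≤ 2 := by
    refine le_trans ?_ htwo
    let π : ↥M ⧸ N.subgroupOf M → {x : H ⧸ N // y • x = x} :=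
      fun q => ⟨q.liftOn' (fun m => (m : H) • o) (fun a b hab => by
        have hab' : (a : H)⁻¹ * b ∈ N := Subgroup.mem_subgroupOf.1 (QuotientGroup.leftRel_apply.1 hab)
        show ((a * 1 : H) : H ⧸ N) = ((b * 1 : H) : H ⧸ N)
        rw [mul_one, mul_one]
        exact QuotientGroup.eq.2 hab'), by
        induction q using Quotient.inductionOn' with
        | h m =>
          show y • ((m : H) • o) = (m : H) • o
          have hm : (m : H)⁻¹ * y * (m : H) ∈ Subgroup.zpowers y := by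
            have := (Subgroup.mem_normalizer_iff.1 (inv_mem m.2) y).1 (Subgroup.mem_zpowers y)
            simpa using this
          conv_rhs => rw [← hfix_o _ (hyN' hm)]
          rw [smul_smul, smul_smul]
          congr 1; group⟩
    refine Nat.card_le_card_of_injective π fun a b e => ?_
    induction a using Quotient.inductionOn' with
    | h a => induction b using Quotient.inductionOn' with
      | h b =>
        refine Quotient.sound' (QuotientGroup.leftRel_apply.2 ?_)
        have e' : ((a * 1 : H) : H ⧸ N) = ((b * 1 : H) : H ⧸ N) := congrArg Subtype.val e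
        rw [mul_one, mul_one] at e'
        exact Subgroup.mem_subgroupOf.2 (QuotientGroup.eq.1 e')
  have h1 : Nat.card ↥(M ⊓ N) ≤ orderOf y := by
    rw [← Nat.card_zpowers]
    exact Nat.le_of_dvd Nat.card_pos (Subgroup.card_dvd_of_le hMN)
  calc Nat.card ↥M = Nat.card ↥(M ⊓ N) * (M ⊓ N).relIndex M := by
        rw [← Subgroup.relIndex_bot_left (M ⊓ N), Subgroup.relIndex_mul_relIndex ⊥ _ _ bot_le inf_le_left,
          Subgroup.relIndex_bot_left]
    _ = Nat.card ↥(M ⊓ N) * N.relIndex M := by rw [Subgroup.inf_relIndex_left]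
    _ ≤ orderOf y * 2 := Nat.mul_le_mul h1 hle
    _ = 2 * orderOf y := mul_comm _ _

end tools

namespace Cfg

variable {p : ℕ} {blk : H → Subgroup H} {Uni : H → Prop} {Spec : Prop} (h : Cfg H p blk Uni Spec)
include h

/-- Every element of order three lies in a Sylow subgroup of order nine. -/
lemma exists_sylow_three {x : H} (hx : orderOf x = 3) : ∃ R : Sylow 3 H, x ∈ (R : Subgroup H) := by
  haveI : Fact (Nat.Prime 3) := ⟨Nat.prime_three⟩
  obtain ⟨R, hR⟩ := (IsPGroup.of_card (n := 1) (by rw [pow_one, Nat.card_zpowers, hx]) :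
    IsPGroup 3 ↥(Subgroup.zpowers x)).exists_le_sylow
  exact ⟨R, hR (Subgroup.mem_zpowers x)⟩

lemma sylow_three_comm (hS : Spec) (R : Sylow 3 H) : IsMulCommutative ↥(R : Subgroup H) :=
  ⟨⟨fun a b => Subtype.ext (Subgroup.mem_centralizer_iff.1
    ((le_of_eq (h.spec_sylow hS R).2.1.symm) b.2) a a.2)⟩⟩

lemma sylow_three_order (hS : Spec) {R : Sylow 3 H} {r : H} (hr : r ∈ (R : Subgroup H)) (hr1 : r ≠ 1) :
    orderOf r = 3 := by
  obtain ⟨-, -, -, -, -, -, -, hexp⟩ := h.spec_sylow hS R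
  exact orderOf_eq_prime (hp := ⟨Nat.prime_three⟩) (hexp r hr) hr1

/-- A block of order three with automiser of order six needs special elements. -/
lemma spec_of_six {A : Subgroup H} (hA : IsBlock blk A) (h3 : Nat.card ↥A = 3)
    (h6 : A.relIndex (Subgroup.normalizer (A : Set H)) = 6) : Spec := by
  by_contra hS
  obtain ⟨x, hx, ho, rfl⟩ := hA
  have hblk := h.blk_eq hS x hx ho
  rw [hblk] at h3 h6
  set N := Subgroup.normalizer ((cen x : Subgroup H) : Set H) with hN
  have hx3 : orderOf x = 3 := by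
    have := Subgroup.orderOf_dvd_natCard (cen x) (mem_cen.2 (Commute.refl x))
    rw [h3] at this
    rcases (Nat.dvd_prime Nat.prime_three).1 this with e | e
    · exact absurd (orderOf_eq_one_iff.1 e) hx
    · exact e
  have hz : Subgroup.zpowers x = cen x := Subgroup.eq_of_le_of_card_ge (Subgroup.zpowers_le.2 (mem_cen.2 (Commute.refl x)))
    (by rw [h3, Nat.card_zpowers, hx3])
  classical
  let π : ↥N ⧸ (cen x).subgroupOf N → Bool := fun q => q.liftOn' (fun n => decide ((n : H) * x * (n : H)⁻¹ = x))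
    fun a b hab => by
      have hab' : Commute ((a : H)⁻¹ * b) x := mem_cen.1 (Subgroup.mem_subgroupOf.1 (QuotientGroup.leftRel_apply.1 hab))
      refine decide_eq_decide.2 (Iff.of_eq (congrArg (· = x) ?_))
      calc (a : H) * x * (a : H)⁻¹ = (a : H) * (((a : H)⁻¹ * b) * x * ((a : H)⁻¹ * b)⁻¹) * (a : H)⁻¹ := by
            rw [hab'.eq, mul_inv_cancel_right]
        _ = (b : H) * x * (b : H)⁻¹ := by group
  have hinj : Function.Injective π := fun a b e => by
    induction a using Quotient.inductionOn' with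
    | h a => induction b using Quotient.inductionOn' with
      | h b =>
        refine Quotient.sound' (QuotientGroup.leftRel_apply.2 (Subgroup.mem_subgroupOf.2 (mem_cen.2 ?_)))
        have hval : ∀ n : ↥N, (n : H) * x * (n : H)⁻¹ = x ∨ (n : H) * x * (n : H)⁻¹ = x⁻¹ := fun n => by
          refine eq_or_eq_inv_of_three hx3 ?_ (fun e => hx (by simpa using e))
          rw [hz]
          exact (Subgroup.mem_normalizer_iff.1 n.2 x).1 (mem_cen.2 (Commute.refl x))
        have e' : ((a : H) * x * (a : H)⁻¹ = x) ↔ ((b : H) * x * (b : H)⁻¹ = x) := decide_eq_decide.1 e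
        have heq : (a : H) * x * (a : H)⁻¹ = (b : H) * x * (b : H)⁻¹ := by
          rcases hval a with ha | ha
          · rw [ha, e'.1 ha]
          · rcases hval b with hb | hb
            · rw [e'.2 hb, hb]
            · rw [ha, hb]
        show ((a : H)⁻¹ * b) * x = x * ((a : H)⁻¹ * b)
        calc ((a : H)⁻¹ * b) * x = (a : H)⁻¹ * ((b : H) * x * (b : H)⁻¹) * b := by group
          _ = x * ((a : H)⁻¹ * b) := by rw [← heq]; group
  have := Nat.card_le_card_of_injective π hinj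
  rw [show Nat.card (↥N ⧸ (cen x).subgroupOf N) = 6 from h6] at this
  norm_num at this

/-- With special elements, an element of order three with odd centraliser generates a block of index six. -/
lemma block_three (hS : Spec) {x : H} (hx : orderOf x = 3) (ho : Odd (Nat.card ↥(cen x))) :
    IsBlock blk (blk x) ∧ blk x = Subgroup.zpowers x ∧ Nat.card ↥(blk x) = 3 ∧
      (blk x).relIndex (Subgroup.normalizer ((blk x) : Set H)) = 6 ∧ ∀ u, Uni u → blk x ≠ cen u := by
  have hx1 : x ≠ 1 := fun e => by rw [e, orderOf_one] at hx; omega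
  have hxA := h.blocks.mem x hx1 ho
  have hA : IsBlock blk (blk x) := ⟨x, hx1, ho, rfl⟩
  have hnu : ¬ Uni x := fun hu => h.spec_p hS (by
    have h1 := orderOf_dvd_of_pow_eq_one (h.uni_pow x hu x (mem_cen.2 (Commute.refl x)))
    rw [hx] at h1
    exact ((Nat.prime_dvd_prime_iff_eq Nat.prime_three h.prime).1 h1).symm)
  have hcN : cen x ≤ Subgroup.normalizer ((blk x) : Set H) := fun c hc => by
    refine h.mem_normalizer_of_conj hA hx1 hxA ?_
    rw [(mem_cen.1 hc).eq, mul_inv_cancel_right]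
    exact hxA
  obtain ⟨R, hR⟩ := h.exists_sylow_three hx
  obtain ⟨-, -, hinv, -⟩ := h.spec_sylow hS R
  obtain ⟨n, -, hn⟩ := hinv x hR
  have hnN : n ∈ Subgroup.normalizer ((blk x) : Set H) :=
    h.mem_normalizer_of_conj hA hx1 hxA (hn ▸ inv_mem hxA)
  have hnc : n ∉ cen x := fun hc => by
    have e : x⁻¹ = x := by rw [← hn, (mem_cen.1 hc).eq, mul_inv_cancel_right]
    have h2 : x ^ 2 = 1 := by
      calc x ^ 2 = x * x := sq x
        _ = x⁻¹ * x := by rw [e]
        _ = 1 := inv_mul_cancel x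
    have := orderOf_dvd_of_pow_eq_one h2
    rw [hx] at this
    omega
  have hmul := Subgroup.relIndex_mul_relIndex (blk x) (cen x) _ (h.blk_le x hx1 ho) hcN
  have h1 : (blk x).relIndex (cen x) ≠ 1 := fun e => h.spec_three hS x hx ho
    (le_antisymm (h.blk_le x hx1 ho) (Subgroup.relIndex_eq_one.1 e))
  have h2 : (cen x).relIndex (Subgroup.normalizer ((blk x) : Set H)) ≠ 1 := fun e =>
    hnc (Subgroup.relIndex_eq_one.1 e hnN)
  have h1' : (blk x).relIndex (cen x) ≠ 0 := Subgroup.index_ne_zero_of_finite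
  have h2' : (cen x).relIndex (Subgroup.normalizer ((blk x) : Set H)) ≠ 0 := Subgroup.index_ne_zero_of_finite
  have h4 : 4 ≤ (blk x).relIndex (Subgroup.normalizer ((blk x) : Set H)) := by
    rw [← hmul]
    exact Nat.mul_le_mul (show 2 ≤ _ by omega) (show 2 ≤ _ by omega)
  rcases h.semi x hx1 ho hnu with e | ⟨e, -, -⟩ | ⟨e, e'⟩
  · omega
  · omega
  refine ⟨hA, (Subgroup.eq_of_le_of_card_ge (Subgroup.zpowers_le.2 hxA) (by rw [e', Nat.card_zpowers, hx])).symm,
    e', e, fun u hu he => hnu (h.uni_of_mem hu (he ▸ hxA) hx1)⟩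

/-- A special element commutes with no involution whose companions avoid the order three. -/
lemma not_spec_of_meet {t : H} (ht : orderOf t = 2) (h3 : 3 ∣ Nat.card ↥(cen t))
    (h9 : ¬ 9 ∣ Nat.card ↥(cen t)) (hm : ∀ u ∈ invOther t, ¬ 3 ∣ Nat.card ↥(cen t ⊓ cen u)) : ¬ Spec := by
  intro hS
  haveI : Fact (Nat.Prime 3) := ⟨Nat.prime_three⟩
  obtain ⟨y, hy⟩ := exists_prime_orderOf_dvd_card' 3 h3
  rw [← Subgroup.orderOf_coe] at hy
  obtain ⟨R, hR⟩ := h.exists_sylow_three hy
  obtain ⟨n, hn, hnt⟩ : ∃ n ∈ (R : Subgroup H), n ∉ cen t := by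
    by_contra hall
    push Not at hall
    exact h9 ((h.spec_sylow hS R).1 ▸ Subgroup.card_dvd_of_le hall)
  have hny : Commute n (y : H) := congrArg Subtype.val ((h.sylow_three_comm hS R).is_comm.comm ⟨n, hn⟩ ⟨_, hR⟩)
  set u := n * t * n⁻¹ with hu
  have hu2 : orderOf u = 2 := by rw [hu, ← MulAut.conj_apply, MulEquiv.orderOf_eq, ht]
  have hty : Commute t (y : H) := (mem_cen.1 y.2).symm
  have huy : Commute u (y : H) := (hny.mul_left hty).mul_left hny.inv_left
  have hut : u ≠ t := fun e => hnt (mem_cen.2 (mul_inv_eq_iff_eq_mul.1 e))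
  have hy1 : (y : H) ≠ 1 := fun e => by rw [e, orderOf_one] at hy; omega
  have key : ∀ v : H, orderOf v = 2 → Commute v t → v ≠ t → Commute v (y : H) → False := fun v hv hvt hne hvy =>
    hm v ⟨hv, hvt, hne⟩ (hy ▸ Subgroup.orderOf_dvd_natCard (cen t ⊓ cen v) ⟨y.2, mem_cen.2 hvy.symm⟩)
  rcases h.invol.centre (y : H) hy1 t u ht hu2 (Ne.symm hut) hty huy with hc | ⟨c, hc, hct, hcu, hle⟩
  · exact key u hu2 hc.symm hut huy
  · have hcy : Commute c (y : H) := (mem_cen.1 (hle (mem_cen.2 (Commute.refl _)))).symm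
    by_cases hce : c = t
    · exact key u hu2 (hce ▸ hcu).symm hut huy
    · exact key c hc hct hce hcy

/-- Special elements are forced by a three cycle on a four group commuting with an element of order three. -/
lemma spec_of_cycle {t u n : H} (ht : orderOf t = 2) (hu : u ∈ invOther t)
    (hc : Nat.card ↥(cen t ⊓ cen u) = 12) (hnt : n * t * n⁻¹ = u) (hnu : n * u * n⁻¹ = t * u) : Spec := by
  by_contra hS
  haveI : Fact (Nat.Prime 3) := ⟨Nat.prime_three⟩
  set D := cen t ⊓ cen u with hD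
  obtain ⟨y', hy'⟩ := exists_prime_orderOf_dvd_card' 3 (show 3 ∣ Nat.card ↥D by rw [hc]; norm_num)
  rw [← Subgroup.orderOf_coe] at hy'
  set y : H := (y' : H) with hydef
  have hyD : y ∈ D := y'.2
  have hnyD : n * y * n⁻¹ ∈ D := by
    have h1 : Commute (n * y * n⁻¹) u := hnt ▸ (Commute.conj_iff n).2 (mem_cen.1 hyD.1)
    have h2 : Commute (n * y * n⁻¹) (t * u) := hnu ▸ (Commute.conj_iff n).2 (mem_cen.1 hyD.2)
    refine ⟨mem_cen.2 ?_, mem_cen.2 h1⟩
    have := h2.mul_right h1.inv_right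
    rwa [mul_inv_cancel_right] at this
  obtain ⟨d, hd, hdy⟩ := conj_zpowers_three (show ¬ 9 ∣ Nat.card ↥D by rw [hc]; norm_num) hnyD hyD
    (by rw [← MulAut.conj_apply, MulEquiv.orderOf_eq, hy']) hy'
  have hy1 : y ≠ 1 := fun e => by rw [e, orderOf_one] at hy'; omega
  set m := d * n with hmdef
  have hmy : m * y * m⁻¹ = d * (n * y * n⁻¹) * d⁻¹ := by rw [hmdef]; group
  have hm2y : Commute (m * m) y := by
    show m * m * y = y * (m * m)
    rcases eq_or_eq_inv_of_three hy' (hmy ▸ hdy) (fun e => hy1 (by simpa using e)) with e | e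
    · have e' : m * y = y * m := by rw [← mul_inv_eq_iff_eq_mul]; exact e
      rw [mul_assoc, e', ← mul_assoc, e', mul_assoc]
    · have e' : m * y = y⁻¹ * m := by rw [← mul_inv_eq_iff_eq_mul]; exact e
      have e'' : m * y⁻¹ = y * m := by
        rw [← mul_inv_eq_iff_eq_mul, ← conj_inv, e, inv_inv]
      rw [mul_assoc, e', ← mul_assoc, e'', mul_assoc]
  have hdt : d * t * d⁻¹ = t := mul_inv_eq_iff_eq_mul.2 (mem_cen.1 hd.1).eq
  have hdu : d * u * d⁻¹ = u := mul_inv_eq_iff_eq_mul.2 (mem_cen.1 hd.2).eq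
  have hmt : m * t * m⁻¹ = u := by
    rw [hmdef, show d * n * t * (d * n)⁻¹ = d * (n * t * n⁻¹) * d⁻¹ by group, hnt, hdu]
  have hmu : m * u * m⁻¹ = t * u := by
    rw [hmdef, show d * n * u * (d * n)⁻¹ = d * (n * u * n⁻¹) * d⁻¹ by group, hnu,
      show d * (t * u) * d⁻¹ = (d * t * d⁻¹) * (d * u * d⁻¹) by group, hdt, hdu]
  have hm2t : m * m * t * (m * m)⁻¹ = t * u := by
    rw [show m * m * t * (m * m)⁻¹ = m * (m * t * m⁻¹) * m⁻¹ by group, hmt, hmu]
  have hu1 : u ≠ 1 := fun e => by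
    have := hu.1
    rw [e, orderOf_one] at this; omega
  have hm2u : m * m * u * (m * m)⁻¹ = u * (t * u) := by
    rw [show m * m * u * (m * m)⁻¹ = m * (m * u * m⁻¹) * m⁻¹ by group, hmu,
      show m * (t * u) * m⁻¹ = (m * t * m⁻¹) * (m * u * m⁻¹) by group, hmt, hmu]
  have htu : u * (t * u) = t := by
    rw [← mul_assoc, hu.2.1.eq, mul_assoc, ← sq, ← hu.1, pow_orderOf_eq_one, mul_one]
  rcases h.ab_or_le hS y hy1 with hab | ⟨c, hc2, hcle⟩
  · have e : (m * m) * t = t * (m * m) := congrArg Subtype.val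
      (hab.is_comm.comm ⟨m * m, mem_cen.2 hm2y⟩ ⟨t, mem_cen.2 (mem_cen.1 hyD.1).symm⟩)
    have : t = t * u := by rw [← hm2t, e, mul_inv_cancel_right]
    exact hu1 (by simpa using this)
  · have hct : Commute c t := (mem_cen.1 (hcle (mem_cen.2 (mem_cen.1 hyD.1).symm))).symm
    have hcu : Commute c u := (mem_cen.1 (hcle (mem_cen.2 (mem_cen.1 hyD.2).symm))).symm
    have hcm : m * m * c * (m * m)⁻¹ = c := mul_inv_eq_iff_eq_mul.2 (mem_cen.1 (hcle (mem_cen.2 hm2y))).eq
    rcases h.invol.two_rank t u c ht hu.1 hc2 hu.2.1.symm hct.symm hcu.symm (Ne.symm hu.2.2) with e | e | e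
    · rw [e, hm2t] at hcm; exact hu1 (by simpa using hcm)
    · rw [e, hm2u, htu] at hcm; exact hu.2.2 hcm.symm
    · rw [e, show m * m * (t * u) * (m * m)⁻¹ = (m * m * t * (m * m)⁻¹) * (m * m * u * (m * m)⁻¹) by group,
        hm2t, hm2u, htu] at hcm
      have h2 : u * t = u := mul_left_cancel (hcm.trans rfl |> fun e' => by rwa [mul_assoc] at e')
      have h3 : t = 1 := by simpa using h2
      rw [h3, orderOf_one] at ht; omega

/-- With centralisers of order twenty-four some element of order three has odd centraliser. -/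
lemma exists_odd_three (hS : Spec) {t : H} (ht : orderOf t = 2) (h24 : Nat.card ↥(cen t) = 24)
    (hq : ∀ a ∈ cen t, ∀ b ∈ cen t, orderOf a = 4 → orderOf b = 4 → a ^ 2 = b ^ 2 → a * b * a⁻¹ ≠ b⁻¹) :
    ∃ x : H, orderOf x = 3 ∧ Odd (Nat.card ↥(cen x)) := by
  by_contra hall
  push Not at hall
  haveI : Fact (Nat.Prime 3) := ⟨Nat.prime_three⟩
  obtain ⟨R⟩ : Nonempty (Sylow 3 H) := inferInstance
  haveI := h.sylow_three_comm hS R
  obtain ⟨h9, hcR, hinv, h8, -, hmem, -⟩ := h.spec_sylow hS R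
  have hconjC : ∀ r ∈ (R : Subgroup H), r ≠ 1 → ∃ g : H, g * r * g⁻¹ ∈ cen t := by
    intro r hr hr1
    have hev : ¬ Odd (Nat.card ↥(cen r)) := hall r (h.sylow_three_order hS hr hr1)
    obtain ⟨a, ha, har⟩ := h.exists_involution_iff.1 hev
    obtain ⟨g, hg⟩ := isConj_iff.1 (h.invol.one_class a t ha ht)
    exact ⟨g, mem_cen.2 (hg ▸ (Commute.conj_iff g).2 har.symm)⟩
  obtain ⟨r₀, hr₀, hr₀1⟩ := ((R : Subgroup H).bot_or_exists_ne_one).resolve_left (fun e => by
    have : Nat.card ↥(R : Subgroup H) = 1 := Subgroup.card_eq_one.2 e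
    omega)
  set N := Subgroup.normalizer ((R : Subgroup H) : Set H) with hN
  have hfus : ∀ r : {r : H // r ∈ (R : Subgroup H) ∧ r ≠ 1}, ∃ n : ↥N, (n : H) * r₀ * (n : H)⁻¹ = r := by
    rintro ⟨r, hr, hr1⟩
    have ho₀ := h.sylow_three_order hS hr₀ hr₀1
    have ho := h.sylow_three_order hS hr hr1
    obtain ⟨g₀, hg₀⟩ := hconjC r₀ hr₀ hr₀1
    obtain ⟨g, hg⟩ := hconjC r hr hr1
    obtain ⟨c, -, hc⟩ := conj_zpowers_three (show ¬ 9 ∣ Nat.card ↥(cen t) by rw [h24]; norm_num) hg₀ hg
      (by rw [← MulAut.conj_apply, MulEquiv.orderOf_eq, ho₀]) (by rw [← MulAut.conj_apply, MulEquiv.orderOf_eq, ho])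
    obtain ⟨k, hk⟩ : ∃ k : H, k * r₀ * k⁻¹ = r := by
      rcases eq_or_eq_inv_of_three (by rw [← MulAut.conj_apply, MulEquiv.orderOf_eq, ho]) hc
        (fun e => hr₀1 (by simpa using e)) with e | e
      · refine ⟨g⁻¹ * c * g₀, ?_⟩
        rw [show g⁻¹ * c * g₀ * r₀ * (g⁻¹ * c * g₀)⁻¹ = g⁻¹ * (c * (g₀ * r₀ * g₀⁻¹) * c⁻¹) * g by group, e]
        group
      · obtain ⟨ν, -, hν⟩ := hinv r hr
        refine ⟨ν * (g⁻¹ * c * g₀), ?_⟩
        rw [show ν * (g⁻¹ * c * g₀) * r₀ * (ν * (g⁻¹ * c * g₀))⁻¹ =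
          ν * (g⁻¹ * (c * (g₀ * r₀ * g₀⁻¹) * c⁻¹) * g) * ν⁻¹ by group, e,
          show ν * (g⁻¹ * (g * r * g⁻¹)⁻¹ * g) * ν⁻¹ = (ν * r * ν⁻¹)⁻¹ by group, hν, inv_inv]
    obtain ⟨n, hn, he⟩ := R.conj_eq_normalizer_conj_of_mem r₀ k⁻¹ hr₀ (by rw [inv_inv, hk]; exact hr)
    rw [inv_inv, hk] at he
    exact ⟨⟨n⁻¹, inv_mem hn⟩, by show n⁻¹ * r₀ * n⁻¹⁻¹ = r; rw [inv_inv, ← he]⟩
  -- the normaliser is transitive on eight elements
  let π : ↥N ⧸ (R : Subgroup H).subgroupOf N → {r : H // r ∈ (R : Subgroup H) ∧ r ≠ 1} := fun q =>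
    q.liftOn' (fun n => ⟨(n : H) * r₀ * (n : H)⁻¹, (Subgroup.mem_normalizer_iff.1 n.2 r₀).1 hr₀,
      fun e => hr₀1 (by simpa using e)⟩) fun a b hab => Subtype.ext (by
      have hab' : (a : H)⁻¹ * b ∈ (R : Subgroup H) := Subgroup.mem_subgroupOf.1 (QuotientGroup.leftRel_apply.1 hab)
      have hc : ((a : H)⁻¹ * b) * r₀ = r₀ * ((a : H)⁻¹ * b) := congrArg Subtype.val
        ((h.sylow_three_comm hS R).is_comm.comm ⟨_, hab'⟩ ⟨r₀, hr₀⟩)
      calc (a : H) * r₀ * (a : H)⁻¹ = (a : H) * (((a : H)⁻¹ * b) * r₀ * ((a : H)⁻¹ * b)⁻¹) * (a : H)⁻¹ := by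
            rw [hc, mul_inv_cancel_right]
        _ = (b : H) * r₀ * (b : H)⁻¹ := by group)
  have hπ : Function.Surjective π := fun r => by
    obtain ⟨n, hn⟩ := hfus r
    exact ⟨Quotient.mk'' n, Subtype.ext hn⟩
  have hle := Nat.card_le_card_of_surjective π hπ
  have h8' : Nat.card {r : H // r ∈ (R : Subgroup H) ∧ r ≠ 1} = 8 := by
    classical
    haveI := Fintype.ofFinite H
    rw [Nat.card_eq_fintype_card, Fintype.card_subtype,
      show (Finset.univ.filter fun r : H => r ∈ (R : Subgroup H) ∧ r ≠ 1) =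
        (Finset.univ.filter fun r : H => r ∈ (R : Subgroup H)).erase 1 by ext; simp [and_comm],
      Finset.card_erase_of_mem (by simp [one_mem]), ← Fintype.card_subtype, ← Nat.card_eq_fintype_card, h9]
  rw [h8'] at hle
  have hrel : (R : Subgroup H).relIndex N = 8 := by
    have hge : 8 ≤ (R : Subgroup H).relIndex N := hle
    simp only [Set.mem_insert_iff, Set.mem_singleton_iff] at hmem
    omega
  obtain ⟨a, b, ha, hb, hab, hconj⟩ := h8 hrel
  have ht2 : orderOf (a ^ 2) = 2 := by rw [orderOf_pow' a (by norm_num), ha]; rfl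
  obtain ⟨g, hg⟩ := isConj_iff.1 (h.invol.one_class _ t ht2 ht)
  have hga : g * a * g⁻¹ ∈ cen t := mem_cen.2 (hg ▸ (Commute.conj_iff g).2 (Commute.self_pow a 2))
  have hgb : g * b * g⁻¹ ∈ cen t := mem_cen.2 (hg ▸ (Commute.conj_iff g).2 (hab ▸ Commute.self_pow b 2))
  refine hq _ hga _ hgb (by rw [← MulAut.conj_apply, MulEquiv.orderOf_eq, ha])
    (by rw [← MulAut.conj_apply, MulEquiv.orderOf_eq, hb]) (by rw [conj_pow, conj_pow, hab]) ?_
  rw [show g * a * g⁻¹ * (g * b * g⁻¹) * (g * a * g⁻¹)⁻¹ = g * (a * b * a⁻¹) * g⁻¹ by group, hconj]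
  group

/-- An order 2976 with a self-centralising subgroup of order 31 is impossible. -/
lemma no_2976 (hS : ¬ Spec) {A : Subgroup H} (hA : IsBlock blk A) (ha : Nat.card ↥A = 31)
    (hw : A.relIndex (Subgroup.normalizer (A : Set H)) = 3) (hg : Nat.card H = 2976) {t : H} (ht : orderOf t = 2)
    (hc : 3 ∣ Nat.card ↥(cen t)) : False := by
  haveI : Fact (Nat.Prime 3) := ⟨Nat.prime_three⟩
  set N := Subgroup.normalizer (A : Set H) with hN
  have hNc : Nat.card ↥N = 93 := by rw [hN, ← card_mul_relIndex_normalizer, ha, hw]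
  obtain ⟨y', hy'⟩ := exists_prime_orderOf_dvd_card' 3 (show 3 ∣ Nat.card ↥N by rw [hNc]; norm_num)
  rw [← Subgroup.orderOf_coe] at hy'
  set y : H := (y' : H) with hydef
  have hyA : ∀ a ∈ A, Commute a y → a = 1 := fun a hamem hay => by
    by_contra hne
    obtain ⟨ho, hb⟩ := h.block_of_mem hA hamem hne
    rw [h.blk_eq hS a hne ho] at hb
    have hyA' : y ∈ A := hb ▸ mem_cen.2 hay.symm
    have := Subgroup.orderOf_dvd_natCard A hyA'
    rw [hy', ha] at this
    norm_num at this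
  have hidx : N.index = Nat.card ↥A + 1 := by
    have := Subgroup.card_mul_index N
    rw [hNc, hg] at this
    rw [ha]; omega
  have hle := card_normalizer_complement (A := A) (y := y) (fun a hamem hne g hmem => by
    have := h.mem_normalizer_of_conj hA (n := g⁻¹) hne hamem (by rwa [inv_inv])
    simpa using inv_mem this) y'.2 (by rw [hy', hw]) (by rw [ha, hy']; norm_num) hyA hidx
  rw [hy'] at hle
  set M := Subgroup.normalizer ((Subgroup.zpowers y : Subgroup H) : Set H) with hM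
  obtain ⟨P, hP⟩ := (IsPGroup.of_card (n := 1) (by rw [pow_one, Nat.card_zpowers, hy']) :
    IsPGroup 3 ↥(Subgroup.zpowers y)).exists_le_sylow
  have hPeq : (P : Subgroup H) = Subgroup.zpowers y := by
    refine (Subgroup.eq_of_le_of_card_ge hP ?_).symm
    obtain ⟨k, hk⟩ := IsPGroup.iff_card.1 P.isPGroup'
    have hd : 3 ^ k ∣ 2976 := hk ▸ hg ▸ Subgroup.card_subgroup_dvd_card (P : Subgroup H)
    have hk2 : k < 2 := by
      by_contra hk2
      push Not at hk2
      have := (pow_dvd_pow 3 hk2).trans hd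
      norm_num at this
    rw [hk, Nat.card_zpowers, hy']
    interval_cases k <;> norm_num
  -- some involution commutes with `y`
  obtain ⟨y₂, hy₂⟩ := exists_prime_orderOf_dvd_card' 3 hc
  rw [← Subgroup.orderOf_coe] at hy₂
  obtain ⟨Q, hQ⟩ := (IsPGroup.of_card (n := 1) (by rw [pow_one, Nat.card_zpowers, hy₂]) :
    IsPGroup 3 ↥(Subgroup.zpowers (y₂ : H))).exists_le_sylow
  obtain ⟨k, hk⟩ := MulAction.exists_smul_eq H Q P
  have hmem : k * (y₂ : H) * k⁻¹ ∈ Subgroup.zpowers y := by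
    rw [← hPeq, ← hk, Sylow.coe_subgroup_smul]
    simpa using Subgroup.smul_mem_pointwise_smul _ (MulAut.conj k) _ (hQ (Subgroup.mem_zpowers _))
  set a := k * t * k⁻¹ with hadef
  have hay : Commute a y := by
    have hc2 : Commute a (k * (y₂ : H) * k⁻¹) := (Commute.conj_iff k).2 (mem_cen.1 y₂.2).symm
    rcases eq_or_eq_inv_of_three hy' hmem (fun e => by
      have h1 : (y₂ : H) = 1 := by simpa using e
      rw [h1, orderOf_one] at hy₂; omega) with e | e
    · exact e ▸ hc2
    · have := (e ▸ hc2).inv_right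
      rwa [inv_inv] at this
  have hcM : cen y ≤ M := fun z hz => by
    rw [Subgroup.mem_normalizer_iff]
    intro x
    have hz' : ∀ x ∈ Subgroup.zpowers y, Commute z x := fun x hx => by
      obtain ⟨j, rfl⟩ := Subgroup.mem_zpowers_iff.1 hx
      exact (mem_cen.1 hz).zpow_right j
    constructor
    · intro hx
      rwa [(hz' x hx).eq, mul_inv_cancel_right]
    · intro hx
      have e := (hz' _ hx).inv_left.eq
      have : x = z * x * z⁻¹ := by
        calc x = z⁻¹ * (z * x * z⁻¹) * z := by group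
          _ = (z * x * z⁻¹) * z⁻¹ * z := by rw [e]
          _ = z * x * z⁻¹ := by group
      exact this ▸ hx
  have h6 : 6 ∣ Nat.card ↥(cen y) := by
    refine Nat.Coprime.mul_dvd_of_dvd_of_dvd (by norm_num : Nat.Coprime 2 3) ?_ ?_
    · have ha2 : orderOf a = 2 := by rw [hadef, ← MulAut.conj_apply, MulEquiv.orderOf_eq, ht]
      exact ha2 ▸ Subgroup.orderOf_dvd_natCard (cen y) (mem_cen.2 hay)
    · exact hy' ▸ Subgroup.orderOf_dvd_natCard (cen y) (mem_cen.2 (Commute.refl y))
  have hMc : cen y = M := Subgroup.eq_of_le_of_card_ge hcM (hle.trans (Nat.le_of_dvd Nat.card_pos h6))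
  refine normalizer_not_le_centralizer h.simple h.nonabelian P ?_ ?_
  · rw [hPeq, Ne, Subgroup.zpowers_eq_bot]
    intro e; rw [e, orderOf_one] at hy'; omega
  · rw [hPeq]
    intro z hz
    rw [Subgroup.mem_centralizer_iff]
    intro x hx
    obtain ⟨j, rfl⟩ := Subgroup.mem_zpowers_iff.1 hx
    exact ((mem_cen.1 (hMc ▸ hz : z ∈ cen y)).zpow_right j).eq.symm

/-- An order 2520 with a block of order 35 is impossible. -/
lemma no_2520 {A : Subgroup H} (hA : IsBlock blk A) (ha : Nat.card ↥A = 35)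
    (hw : A.relIndex (Subgroup.normalizer (A : Set H)) = 2) (hg : Nat.card H = 2520) {t : H} (ht : orderOf t = 2)
    (hc : Nat.card ↥(cen t) = 24) : False := by
  haveI : Fact (Nat.Prime 2) := ⟨Nat.prime_two⟩
  set N := Subgroup.normalizer (A : Set H) with hN
  have hNc : Nat.card ↥N = 70 := by rw [hN, ← card_mul_relIndex_normalizer, ha, hw]
  obtain ⟨s', hs'⟩ := exists_prime_orderOf_dvd_card' 2 (show 2 ∣ Nat.card ↥N by rw [hNc]; norm_num)
  rw [← Subgroup.orderOf_coe] at hs'
  set s : H := (s' : H) with hsdef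
  have hsA : ∀ a ∈ A, Commute a s → a = 1 := fun a hamem has => by
    by_contra hne
    exact h.exists_involution_iff.2 ⟨s, hs', has.symm⟩ (h.block_of_mem hA hamem hne).1
  have hidx : N.index = Nat.card ↥A + 1 := by
    have := Subgroup.card_mul_index N
    rw [hNc, hg] at this
    rw [ha]; omega
  have hle := card_normalizer_complement (A := A) (y := s) (fun a hamem hne g hmem => by
    have := h.mem_normalizer_of_conj hA (n := g⁻¹) hne hamem (by rwa [inv_inv])
    simpa using inv_mem this) s'.2 (by rw [hs', hw]) (by rw [ha, hs']; norm_num) hsA hidx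
  rw [hs'] at hle
  obtain ⟨k, hk⟩ := isConj_iff.1 (h.invol.one_class t s ht hs')
  have hcs : Nat.card ↥(cen s) = 24 := by rw [← hk, card_cen_conj, hc]
  have hsub : cen s ≤ Subgroup.normalizer ((Subgroup.zpowers s : Subgroup H) : Set H) := fun z hz => by
    rw [Subgroup.mem_normalizer_iff]
    intro x
    have hz' : ∀ x ∈ Subgroup.zpowers s, Commute z x := fun x hx => by
      obtain ⟨j, rfl⟩ := Subgroup.mem_zpowers_iff.1 hx
      exact (mem_cen.1 hz).zpow_right j
    constructor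
    · intro hx
      rwa [(hz' x hx).eq, mul_inv_cancel_right]
    · intro hx
      have e := (hz' _ hx).inv_left.eq
      have : x = z * x * z⁻¹ := by
        calc x = z⁻¹ * (z * x * z⁻¹) * z := by group
          _ = (z * x * z⁻¹) * z⁻¹ * z := by rw [e]
          _ = z * x * z⁻¹ := by group
      exact this ▸ hx
  have := Nat.le_of_dvd Nat.card_pos (Subgroup.card_dvd_of_le hsub)
  omega

end Cfg

end CfsgLib.Geo.D3
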