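/-
Dihedral centraliser: the Brauer-Suzuki-Wall group.
-/
import Cfsg.Agent.Geo.DimThree.NoTv.Local
import Cfsg.Agent.S3282

set_option autoImplicit false
set_option linter.style.haveILetI false
set_option linter.unusedSectionVars false

namespace CfsgLib.Geo.D3

open scoped Pointwise

variable {H : Type*} [Group H] [Finite H] {p : ℕ} {blk : H → Subgroup H} {Uni : H → Prop} {Spec : Prop}

/-- The possible orders. -/
def Concl (H : Type*) [Group H] (p : ℕ) (Uni : H → Prop) : Prop :=
  (∃ (q : ℕ) (u : H), Uni u ∧ 5 ≤ q ∧ 2 * Nat.card H = q * (q + 1) * (q - 1) ∧ Nat.card ↥(cen u) = q ∧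
    2 * (cen u).relIndex (Subgroup.normalizer ((cen u) : Set H)) = q - 1) ∨
  (Nat.card H = 60 ∧ p ≠ 5) ∨ Nat.card H = 168 ∨ (Nat.card H = 360 ∧ p ≠ 3) ∨ (Nat.card H = 2520 ∧ p = 5)

namespace Cfg

variable (h : Cfg H p blk Uni Spec)
include h

theorem of_centDih {t : H} (ht : orderOf t = 2) (hD : CentDih t) : Concl H p Uni := by
  obtain ⟨K, s, hKab, hKH, htK, hs, hsH, hsK, hsup, hCK, hinv, hTI⟩ := hD
  obtain ⟨Q, D, hcard, hcenQ, -, hDq, hQD, hNQ, -⟩ :=
    Cfsg.Agent.S3282.result t ht K hKab hKH htK s hs hsH hsK hsup hCK hinv hTI h.invol.one_class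
  set q := Nat.card ↥Q with hq
  -- at least five
  have hne : s ≠ t := fun e => hsK (e ▸ htK)
  have h4 : 4 ∣ Nat.card ↥(cen t) := by
    have hst : Commute s t := mem_cen.1 hsH
    let f : ↥(Subgroup.zpowers t) × ↥(Subgroup.zpowers s) →* H :=
      MonoidHom.mk' (fun x => (x.1 : H) * x.2) fun x y => by
        have hc : Commute (y.1 : H) (x.2 : H) := by
          obtain ⟨i, hi⟩ := Subgroup.mem_zpowers_iff.1 y.1.2
          obtain ⟨j, hj⟩ := Subgroup.mem_zpowers_iff.1 x.2.2
          rw [← hi, ← hj]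
          exact (hst.symm.zpow_left i).zpow_right j
        show (x.1 : H) * y.1 * ((x.2 : H) * y.2) = (x.1 : H) * x.2 * ((y.1 : H) * y.2)
        rw [mul_assoc, ← mul_assoc (y.1 : H), hc.eq, mul_assoc (x.2 : H), ← mul_assoc]
    have hf : Function.Injective f := by
      rw [injective_iff_map_eq_one]
      rintro ⟨a, b⟩ hab
      replace hab : (a : H) * b = 1 := hab
      have hb : (b : H) ∈ K := by
        rw [show (b : H) = (a : H)⁻¹ from eq_inv_of_mul_eq_one_right hab]
        exact inv_mem (Subgroup.zpowers_le.2 htK a.2)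
      have hb1 : (b : H) = 1 := by
        by_contra hne1
        have hbs : (b : H) = s := by
          obtain ⟨i, hi⟩ := Subgroup.mem_zpowers_iff.1 b.2
          rw [← hi] at hne1 ⊢
          rcases Int.even_or_odd i with ⟨j, rfl⟩ | ⟨j, rfl⟩
          · exact absurd (by rw [← two_mul, zpow_mul, zpow_two, ← sq, ← hs, pow_orderOf_eq_one, one_zpow]) hne1
          · rw [zpow_add_one, zpow_mul, zpow_two, ← sq, ← hs, pow_orderOf_eq_one, one_zpow, one_mul]
        exact hsK (hbs ▸ hb)
      rw [hb1, mul_one] at hab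
      exact Prod.ext (Subtype.ext hab) (Subtype.ext hb1)
    have hle : f.range ≤ cen t := by
      rintro _ ⟨⟨a, b⟩, rfl⟩
      exact mul_mem (Subgroup.zpowers_le.2 (mem_cen.2 (Commute.refl t)) a.2) (Subgroup.zpowers_le.2 hsH b.2)
    have := Subgroup.card_dvd_of_le hle
    rwa [← Nat.card_congr (MonoidHom.ofInjective hf).toEquiv, Nat.card_prod, Nat.card_zpowers, Nat.card_zpowers,
      ht, hs] at this
  have h12 : 12 < Nat.card H := lt_of_le_of_lt
    (by have := Nat.le_of_dvd Nat.card_pos h4; omega) (h.three_lt_involutions ht)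
  have h5 : 5 ≤ q := by
    by_contra hlt
    push Not at hlt
    have hodd : q % 2 = 1 := by omega
    interval_cases q <;> omega
  have hqodd : Odd q := ⟨Nat.card ↥D, by omega⟩
  obtain ⟨x, hxQ, hx1⟩ := Q.bot_or_exists_ne_one.resolve_left fun e => by
    have : q = 1 := Subgroup.card_eq_one.2 e
    omega
  have hcx : cen x = Q := hcenQ x hxQ hx1
  have hox : Odd (Nat.card ↥(cen x)) := by rw [hcx]; exact hqodd
  have hrel : 2 * Q.relIndex (Subgroup.normalizer (Q : Set H)) = q - 1 := by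
    have hDN : D ≤ Subgroup.normalizer (Q : Set H) := hNQ ▸ le_sup_right
    have hcN : Nat.card ↥(Subgroup.normalizer (Q : Set H)) = q * Nat.card ↥D := by
      let f : ↥Q × ↥D → ↥(Subgroup.normalizer (Q : Set H)) :=
        fun x => ⟨x.1 * x.2, mul_mem (Subgroup.le_normalizer x.1.2) (hDN x.2.2)⟩
      have hf : Function.Bijective f := by
        constructor
        · intro a b e
          have e' : (a.1 : H) * a.2 = b.1 * b.2 := congrArg Subtype.val e
          have h1 : (b.1 : H)⁻¹ * a.1 = b.2 * (a.2 : H)⁻¹ := by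
            rw [inv_mul_eq_iff_eq_mul, ← mul_assoc, ← e', mul_inv_cancel_right]
          have h2 : (b.1 : H)⁻¹ * a.1 ∈ Q ⊓ D := Subgroup.mem_inf.2
            ⟨Q.mul_mem (Q.inv_mem b.1.2) a.1.2, h1 ▸ D.mul_mem b.2.2 (D.inv_mem a.2.2)⟩
          rw [hQD, Subgroup.mem_bot, inv_mul_eq_one] at h2
          refine Prod.ext (Subtype.ext h2.symm) (Subtype.ext ?_)
          rw [h2] at e'
          exact mul_left_cancel e'
        · rintro ⟨z, hz⟩
          have hz' : z ∈ ((Q ⊔ D : Subgroup H) : Set H) := hNQ ▸ hz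
          rw [sup_comm, Subgroup.coe_mul_of_left_le_normalizer_right D Q hDN] at hz'
          obtain ⟨d, hd, a, ha, rfl⟩ := hz'
          exact ⟨(⟨d * a * d⁻¹, (Subgroup.mem_normalizer_iff.1 (hDN hd) a).1 ha⟩, ⟨d, hd⟩),
            Subtype.ext (by show d * a * d⁻¹ * d = d * a; group)⟩
      rw [← Nat.card_eq_of_bijective f hf, Nat.card_prod]
    have h1 := card_mul_relIndex_normalizer Q
    rw [hcN] at h1
    rw [Nat.eq_of_mul_eq_mul_left Nat.card_pos h1]
    omega
  by_cases hu : Uni x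
  · exact Or.inl ⟨q, x, hu, h5, hcard, by rw [hcx], by rw [hcx]; exact hrel⟩
  by_cases hb : blk x = Q
  · have hx' := h.semi x hx1 hox hu
    rw [hb] at hx'
    rcases hx' with e | ⟨e, -, -⟩ | ⟨e, e'⟩
    · have hq5 : q = 5 := by omega
      refine Or.inr (Or.inl ⟨?_, fun hp => hu (h.of_pow x hx1 ?_)⟩)
      · rw [hq5] at hcard; omega
      · subst hp
        exact congrArg Subtype.val (show (⟨x, hxQ⟩ : ↥Q) ^ 5 = 1 from hq5 ▸ pow_card_eq_one')
    · have hq7 : q = 7 := by omega
      refine Or.inr (Or.inr (Or.inl ?_))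
      rw [hq7] at hcard; omega
    · omega
  · have hS : Spec := by
      by_contra hS
      exact hb ((h.blk_eq hS x hx1 hox).trans hcx)
    haveI : Fact (Nat.Prime 3) := ⟨Nat.prime_three⟩
    have hA : IsBlock blk (blk x) := ⟨x, hx1, hox, rfl⟩
    have hxA := h.blocks.mem x hx1 hox
    have hle : blk x ≤ Q := hcx ▸ h.blk_le x hx1 hox
    have hQN : Q ≤ Subgroup.normalizer ((blk x) : Set H) := fun c hc => by
      refine h.mem_normalizer_of_conj hA hx1 hxA ?_
      rw [(mem_cen.1 (hcx.symm ▸ hc : c ∈ cen x)).eq, mul_inv_cancel_right]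
      exact hxA
    have hmul := Subgroup.relIndex_mul_relIndex (blk x) Q _ hle hQN
    have hne1 : (blk x).relIndex Q ≠ 1 := fun e => hb (le_antisymm hle (Subgroup.relIndex_eq_one.1 e))
    have hdq : (blk x).relIndex Q ∣ q := by
      rw [hq]
      exact Subgroup.index_dvd_card ((blk x).subgroupOf Q)
    have ho1 : Odd ((blk x).relIndex Q) := hqodd.of_dvd_nat hdq
    have h3q : 3 ∣ q := by
      have hd3 : (blk x).relIndex Q ∣ 6 := by
        rcases h.semi x hx1 hox hu with e | ⟨e, -, -⟩ | ⟨e, -⟩ <;> rw [e] at hmul <;>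
          exact (Dvd.intro _ hmul).trans (by norm_num)
      have hle6 := Nat.le_of_dvd (by norm_num) hd3
      obtain ⟨o, ho⟩ := ho1
      have : (blk x).relIndex Q = 3 := by
        rcases (show o = 0 ∨ o = 1 ∨ o = 2 by omega) with rfl | rfl | rfl
        · omega
        · omega
        · rw [ho] at hd3; norm_num at hd3
      exact this ▸ hdq
    obtain ⟨y, hy⟩ := exists_prime_orderOf_dvd_card' 3 h3q
    rw [← Subgroup.orderOf_coe] at hy
    obtain ⟨R, hR⟩ := h.exists_sylow_three hy
    obtain ⟨h9, hcR, -⟩ := h.spec_sylow hS R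
    have hy1 : (y : H) ≠ 1 := fun e => by rw [e, orderOf_one] at hy; omega
    have hRQ : (R : Subgroup H) ≤ Q := fun r hr => by
      rw [← hcenQ y y.2 hy1]
      exact mem_cen.2 (congrArg Subtype.val ((h.sylow_three_comm hS R).is_comm.comm ⟨r, hr⟩ ⟨_, hR⟩))
    have hQR : Q ≤ R := by
      intro c hc
      rw [← hcR, Subgroup.mem_centralizer_iff]
      intro r hr
      by_cases hr1 : r = 1
      · subst hr1; simp
      · exact (mem_cen.1 (le_of_eq (hcenQ r (hRQ hr) hr1).symm hc : c ∈ cen r)).eq.symm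
    have hq9 : q = 9 := by rw [hq, le_antisymm hQR hRQ]; exact h9
    refine Or.inr (Or.inr (Or.inr (Or.inl ⟨?_, h.spec_p hS⟩)))
    rw [hq9] at hcard; omega

end Cfg

end CfsgLib.Geo.D3
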