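/-
The arithmetic of the counting equation.
-/
import Mathlib

set_option autoImplicit false

namespace CfsgLib.Geo.D3.Num

/-- The term of a unipotent block. -/
def uTerm (P e : ℕ) : ℚ := ((P : ℚ) - 1) / (P * e)

lemma inv_lt {g n : ℕ} (hn : 0 < n) (h : n < g) : (1 : ℚ) / g < 1 / n :=
  one_div_lt_one_div_of_lt (by exact_mod_cast hn) (by exact_mod_cast h)

lemma inv_pos' {g : ℕ} (h : 0 < g) : (0 : ℚ) < 1 / g := one_div_pos.2 (by exact_mod_cast h)

lemma g_eq {g n d : ℕ} (hg : 0 < g) (hd : 0 < d) (h : (1 : ℚ) / g = n / d) : g * n = d := by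
  have h1 : (0 : ℚ) < g := by exact_mod_cast hg
  have h2 : (0 : ℚ) < d := by exact_mod_cast hd
  rw [div_eq_div_iff h1.ne' h2.ne', one_mul] at h
  have : (g : ℚ) * n = d := by linarith
  exact_mod_cast this

lemma uTerm_lt {P e : ℕ} (he : 0 < e) (hP : 0 < P) : uTerm P e < 1 / e := by
  have h1 : (0 : ℚ) < e := by exact_mod_cast he
  have h2 : (0 : ℚ) < P := by exact_mod_cast hP
  rw [uTerm, div_lt_div_iff₀ (by positivity) h1]
  nlinarith

lemma le_uTerm {P e : ℕ} (he : 0 < e) (hP : e + 1 ≤ P) : (1 : ℚ) / (e + 1) ≤ uTerm P e := by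
  have h1 : (0 : ℚ) < e := by exact_mod_cast he
  have h2 : (e : ℚ) + 1 ≤ P := by exact_mod_cast hP
  have h3 : (0 : ℚ) < P := by linarith
  rw [uTerm, div_le_div_iff₀ (by positivity) (by positivity)]
  nlinarith

lemma le_uTerm_odd {P e : ℕ} (he : 0 < e) (hP : 2 * e + 1 ≤ P) : (2 : ℚ) / (2 * e + 1) ≤ uTerm P e := by
  have h1 : (0 : ℚ) < e := by exact_mod_cast he
  have h2 : 2 * (e : ℚ) + 1 ≤ P := by exact_mod_cast hP
  have h3 : (0 : ℚ) < P := by linarith
  rw [uTerm, div_le_div_iff₀ (by positivity) (by positivity)]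
  nlinarith

lemma two_thirds_le_uTerm {P e : ℕ} (he : 0 < e) (hP : 3 ≤ P) : (2 : ℚ) / (3 * e) ≤ uTerm P e := by
  have h1 : (0 : ℚ) < e := by exact_mod_cast he
  have h2 : (3 : ℚ) ≤ P := by exact_mod_cast hP
  rw [uTerm, div_le_div_iff₀ (by positivity) (by positivity)]
  nlinarith

lemma not_pp {p m P r s : ℕ} (hp : p.Prime) (hP : P = p ^ m) (hr : r.Prime) (hs : s.Prime) (hne : r ≠ s)
    (h1 : r ∣ P) (h2 : s ∣ P) : False := by
  subst hP
  exact hne (((Nat.prime_dvd_prime_iff_eq hr hp).1 (hr.dvd_of_dvd_pow h1)).trans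
    ((Nat.prime_dvd_prime_iff_eq hs hp).1 (hs.dvd_of_dvd_pow h2)).symm)

/-- What is used of the data of the unipotent term. -/
structure UNum (p P e : ℕ) : Prop where
  prime : p.Prime
  two_le : 2 ≤ e
  dvd_pred : e ∣ P - 1
  odd : Odd P
  succ_le : e + 1 ≤ P
  odd_le : Odd e → 2 * e + 1 ≤ P
  pp : ∃ m, P = p ^ m

lemma UNum.three_le {p P e : ℕ} (h : UNum p P e) : 3 ≤ P := by have := h.two_le; have := h.succ_le; omega

lemma uTerm_two {P : ℕ} : uTerm P 2 = ((P : ℚ) - 1) / (P * 2) := rfl

/-! The homology group of order at least four with dihedral image. -/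

section big

variable {T g p P e a : ℕ}

lemma big_two_three (hT : 16 ≤ T) (hg : 6 * T < g) (hu : UNum p P e) (he : 2 * e ∣ T ∨ e = 3)
    {rest : ℚ} (hr : 0 ≤ rest) : 1 / (g : ℚ) + uTerm P e + rest ≠ 1 / (6 * T : ℚ) := by
  intro heq
  have hg0 := inv_pos' (show 0 < g by omega)
  have hlo := two_thirds_le_uTerm (show 0 < e by have := hu.two_le; omega) hu.three_le
  have hTQ : (16 : ℚ) ≤ T := by exact_mod_cast hT
  rcases he with hd | rfl
  · have h2 : ((2 * e : ℕ) : ℚ) ≤ T := by exact_mod_cast Nat.le_of_dvd (by omega) hd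
    push_cast at h2
    have he0 : (0 : ℚ) < e := by exact_mod_cast (show 0 < e by have := hu.two_le; omega)
    have : (4 : ℚ) / (3 * T) ≤ 2 / (3 * e) := by
      rw [div_le_div_iff₀ (by positivity) (by positivity)]; nlinarith
    have : (1 : ℚ) / (6 * T) < 4 / (3 * T) := by
      rw [div_lt_div_iff₀ (by positivity) (by positivity)]; nlinarith
    linarith
  · have h6 : (1 : ℚ) / (6 * T) ≤ 1 / 96 := by
      rw [div_le_div_iff₀ (by positivity) (by positivity)]; linarith
    norm_num at hlo
    linarith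

lemma big_U (hT : 16 ≤ T) (hg : 6 * T < g) {k : ℕ} (hk : k ≤ 3) (hu : UNum p P e)
    (he : 2 * e ∣ T ∨ (e = 3 ∧ 1 ≤ k)) :
    1 / (g : ℚ) + uTerm P e + (k : ℚ) / 9 ≠ 1 / 3 + 1 / (6 * T) := by
  intro heq
  have hg0 := inv_pos' (show 0 < g by omega)
  have hg1 : (1 : ℚ) / g < 1 / (6 * T) := by
    have := inv_lt (show 0 < 6 * T by omega) hg
    push_cast at this; exact this
  have hTQ : (16 : ℚ) ≤ T := by exact_mod_cast hT
  have h6 : (1 : ℚ) / (6 * T) ≤ 1 / 96 := by
    rw [div_le_div_iff₀ (by positivity) (by positivity)]; linarith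
  have hlt := uTerm_lt (show 0 < e by have := hu.two_le; omega) (show 0 < P by have := hu.three_le; omega)
  have hle := le_uTerm (show 0 < e by have := hu.two_le; omega) hu.succ_le
  obtain ⟨j, hj⟩ := hu.dvd_pred
  have hP1 : P = e * j + 1 := by have := hu.three_le; omega
  obtain ⟨o, ho⟩ := hu.odd
  have hPsucc := hu.succ_le
  have hgu := inv_lt (show 0 < 6 * T by omega) hg
  obtain ⟨x, hx⟩ : ∃ x, 1 / (g : ℚ) = x := ⟨_, rfl⟩
  obtain ⟨y, hy⟩ : ∃ y, 1 / (6 * T : ℚ) = y := ⟨_, rfl⟩
  rw [hx] at heq hg0 hg1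
  rw [hy] at heq hg1 h6
  have h16 : e = 4 → T ∣ T ∧ 8 ∣ T := fun h => by
    subst h; rcases he with hd | ⟨h3, -⟩
    · exact ⟨dvd_rfl, hd⟩
    · omega
  have h16' : e = 8 → 16 ∣ T := fun h => by
    subst h; rcases he with hd | ⟨h3, -⟩
    · exact hd
    · omega
  interval_cases k
  · -- no block of order three
    have he3 : e < 3 := by
      by_contra hc
      push Not at hc
      have : (1 : ℚ) / e ≤ 1 / 3 := one_div_le_one_div_of_le (by norm_num) (by exact_mod_cast hc)
      norm_num at heq
      linarith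
    have he2 := hu.two_le
    obtain rfl : e = 2 := by omega
    rcases Nat.lt_or_ge P 5 with hP | hP
    · have := hu.three_le
      obtain rfl : P = 3 := by omega
      norm_num [uTerm] at heq
      linarith
    · have : (2 : ℚ) / 5 ≤ uTerm P 2 := by
        have : (5 : ℚ) ≤ P := by exact_mod_cast hP
        rw [uTerm, div_le_div_iff₀ (by positivity) (by positivity)]; push_cast; linarith
      norm_num at heq
      linarith
  · -- one block of order three
    have he5 : e < 5 := by
      by_contra hc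
      push Not at hc
      have : (1 : ℚ) / e ≤ 1 / 5 := one_div_le_one_div_of_le (by norm_num) (by exact_mod_cast hc)
      norm_num at heq
      linarith
    have he2 := hu.two_le
    interval_cases e
    · norm_num at hle heq; linarith
    · have hP7 := hu.odd_le (by decide)
      have := le_uTerm_odd (by norm_num) hP7
      norm_num at this heq; linarith
    · have h8 := (h16 rfl).2
      have hPle : P < 17 := by
        by_contra hc
        push Not at hc
        have : (4 : ℚ) / 17 ≤ uTerm P 4 := by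
          have : (17 : ℚ) ≤ P := by exact_mod_cast hc
          rw [uTerm, div_le_div_iff₀ (by positivity) (by positivity)]; push_cast; linarith
        norm_num at heq
        linarith
      have hj4 : j < 4 := by omega
      interval_cases j <;> subst hP1 <;> norm_num [uTerm] at heq
      · omega
      · linarith
      · linarith
      · have hT20 : T < 20 := by
          by_contra hc
          push Not at hc
          have : (20 : ℚ) ≤ T := by exact_mod_cast hc
          have : (1 : ℚ) / (6 * T) ≤ 1 / 120 := by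
            rw [div_le_div_iff₀ (by positivity) (by positivity)]; linarith
          rw [hy] at this
          linarith
        obtain rfl : T = 16 := by omega
        norm_num at hy
        have := g_eq (show 0 < g by omega) (show 0 < 3744 by norm_num) (n := 7) (by rw [hx]; push_cast; linarith)
        omega
  · -- two blocks of order three
    have he9 : e < 9 := by
      by_contra hc
      push Not at hc
      have : (1 : ℚ) / e ≤ 1 / 9 := one_div_le_one_div_of_le (by norm_num) (by exact_mod_cast hc)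
      norm_num at heq
      linarith
    have he2 := hu.two_le
    interval_cases e
    · norm_num at hle heq; linarith
    · norm_num at hle heq; linarith
    · norm_num at hle heq; linarith
    · norm_num at hle heq; linarith
    · norm_num at hle heq; linarith
    · have hP7 := hu.odd_le (by decide)
      have := le_uTerm_odd (by norm_num) hP7
      norm_num at this heq; linarith
    · have h16T := h16' rfl
      have hPle : P < 41 := by
        by_contra hc
        push Not at hc
        have : (5 : ℚ) / 41 ≤ uTerm P 8 := by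
          have : (41 : ℚ) ≤ P := by exact_mod_cast hc
          rw [uTerm, div_le_div_iff₀ (by positivity) (by positivity)]; push_cast; linarith
        norm_num at heq
        linarith
      obtain ⟨f, rfl⟩ := h16T
      have hfQ : (1 : ℚ) ≤ f := by
        have : 1 ≤ f := by omega
        exact_mod_cast this
      have hf2 : ∀ z : ℚ, 1 / 9 + z ≤ uTerm P 8 → 1 / 192 ≤ z → f = 1 := by
        intro z hz hz2
        by_contra hne
        have : (2 : ℚ) ≤ f := by
          have : 2 ≤ f := by omega
          exact_mod_cast this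
        have : (1 : ℚ) / (6 * ((16 * f : ℕ) : ℚ)) ≤ 1 / 192 := by
          push_cast
          rw [div_le_div_iff₀ (by positivity) (by positivity)]; linarith
        rw [hy] at this
        norm_num at heq
        linarith
      have hj5 : j < 5 := by omega
      interval_cases j <;> subst hP1
      · omega
      · norm_num [uTerm] at heq; linarith
      · obtain rfl := hf2 (1 / 153) (by norm_num [uTerm]) (by norm_num)
        norm_num [uTerm] at heq hy
        have := g_eq (show 0 < g by omega) (show 0 < 4896 by norm_num) (n := 19) (by rw [hx]; push_cast; linarith)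
        omega
      · obtain rfl := hf2 (2 / 225) (by norm_num [uTerm]) (by norm_num)
        norm_num [uTerm] at heq hy
        have := g_eq (show 0 < g by omega) (show 0 < 7200 by norm_num) (n := 11) (by rw [hx]; push_cast; linarith)
        omega
      · obtain ⟨m, hm⟩ := hu.pp
        exact not_pp hu.prime hm Nat.prime_three (show Nat.Prime 11 by norm_num) (by norm_num) (by norm_num) (by norm_num)
  · -- three blocks of order three
    rcases he with hd | ⟨rfl, -⟩
    · exact big_two_three hT hg hu (Or.inl hd) le_rfl (by rw [hx, hy]; norm_num at heq; linarith)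
    · exact big_two_three hT hg hu (Or.inr rfl) le_rfl (by rw [hx, hy]; norm_num at heq; linarith)

lemma big_a_only (hT : 16 ≤ T) (ha : 7 ≤ a) (hodd : Odd a) (hcop : Nat.Coprime a T) (hg : 0 < g) :
    1 / (g : ℚ) + ((a : ℚ) - 1) / (3 * a) ≠ 1 / 3 + 1 / (6 * T) := by
  intro heq
  have haQ : (0 : ℚ) < a := by exact_mod_cast (show 0 < a by omega)
  have hTQ : (0 : ℚ) < T := by exact_mod_cast (show 0 < T by omega)
  have hgQ : (0 : ℚ) < g := by exact_mod_cast hg
  field_simp at heq
  have hq : (g : ℚ) * (2 * T + a) = 6 * a * T := by nlinarith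
  have hn : g * (2 * T + a) = 6 * a * T := by exact_mod_cast hq
  have hd : 2 * T + a ∣ 3 * (2 * (T * a)) := ⟨g, by rw [mul_comm _ g, hn]; ring⟩
  have h1 : Nat.Coprime (2 * T + a) 2 :=
    Nat.coprime_two_right.2 ((even_two_mul T).add_odd hodd)
  have h2 : Nat.Coprime (2 * T + a) T := by
    rw [add_comm, mul_comm, Nat.coprime_add_mul_left_left]; exact hcop
  have h3 : Nat.Coprime (2 * T + a) a := by
    rw [Nat.coprime_add_self_left]
    exact Nat.Coprime.mul_left (Nat.coprime_two_left.2 hodd) hcop.symm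
  have := Nat.le_of_dvd (by norm_num) ((h1.mul_right (h2.mul_right h3)).dvd_of_dvd_mul_right hd)
  omega

set_option maxHeartbeats 1000000 in
lemma big_a_U (hT : 16 ≤ T) (ha : 7 ≤ a) (ha3 : a % 3 = 1) (hu : UNum p P e) (hg : 0 < g)
    (he : 2 * e ∣ T ∨ (Odd e ∧ e ^ 2 ∣ a)) (hdvd : 2 * T * a * P ∣ g) :
    1 / (g : ℚ) + uTerm P e + ((a : ℚ) - 1) / (3 * a) ≠ 1 / 3 + 1 / (6 * T) := by
  intro heq
  obtain ⟨l, rfl⟩ := hdvd
  have haQ : (0 : ℚ) < a := by exact_mod_cast (show 0 < a by omega)
  have hTQ : (0 : ℚ) < T := by exact_mod_cast (show 0 < T by omega)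
  have hPQ : (0 : ℚ) < P := by exact_mod_cast (show 0 < P by have := hu.three_le; omega)
  have heQ : (0 : ℚ) < e := by exact_mod_cast (show 0 < e by have := hu.two_le; omega)
  have hl : 0 < l := Nat.pos_of_mul_pos_left hg
  have hlQ : (0 : ℚ) < l := by exact_mod_cast hl
  have he1 : (e : ℤ) ∣ (P : ℤ) - 1 := by
    have := Int.natCast_dvd_natCast.2 hu.dvd_pred
    rwa [Nat.cast_sub (by have := hu.three_le; omega), Nat.cast_one] at this
  have hP3 := hu.three_le
  have hePZ : (e : ℤ) + 1 ≤ P := by exact_mod_cast hu.succ_le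
  have he2 := hu.two_le
  rw [uTerm] at heq
  rcases he with hd | ⟨ho, hd⟩
  · obtain ⟨f, rfl⟩ := hd
    have hf : 0 < f := Nat.pos_of_ne_zero fun h => by simp [h] at hT
    push_cast at heq hTQ
    field_simp at heq
    have hq : (l : ℚ) * (P * (4 * e * f + a) - 12 * a * f * (P - 1)) = 3 := by nlinarith
    have hz : (l : ℤ) * (P * (4 * e * f + a) - 12 * a * f * (P - 1)) = 3 := by exact_mod_cast hq
    set i : ℤ := P * (4 * e * f + a) - 12 * a * f * (P - 1) with hi
    have hlZ : (1 : ℤ) ≤ l := by exact_mod_cast hl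
    have hi0 : 0 < i := pos_of_mul_pos_right (by rw [hz]; norm_num) (by linarith : (0 : ℤ) ≤ l)
    have hi1 : 1 ≤ i ∧ i ≤ 3 := ⟨hi0, (le_mul_of_one_le_left hi0.le hlZ).trans hz.le⟩
    have haZ : (7 : ℤ) ≤ a := by exact_mod_cast ha
    have hfZ : (1 : ℤ) ≤ f := by exact_mod_cast hf
    have hdiv : (e : ℤ) ∣ a - i := by
      obtain ⟨c, hc⟩ := he1
      exact ⟨c * (12 * a * f - a - 4 * e * f) - 4 * f, by rw [hi]; linear_combination (12 * a * f - a - 4 * e * f : ℤ) * hc⟩
    have hea : (e : ℤ) ≤ a - i := Int.le_of_dvd (by linarith) hdiv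
    have hkey : ((P : ℤ) - 1) * (12 * a * f - a - 4 * e * f) = a + 4 * e * f - i := by rw [hi]; ring
    have heZ : (2 : ℤ) ≤ e := by exact_mod_cast he2
    have hh : (a : ℤ) * (8 * f - 1) < 12 * a * f - a - 4 * e * f := by nlinarith
    have h0 : (0 : ℤ) < (a : ℤ) * (8 * f - 1) := by nlinarith
    have h1 : (e : ℤ) * (12 * a * f - a - 4 * e * f) ≤ a + 4 * e * f - i := by
      rw [← hkey]; exact mul_le_mul_of_nonneg_right (by linarith) (by linarith)
    have h2 : (e : ℤ) * (a * (8 * f - 1)) ≤ e * (12 * a * f - a - 4 * e * f) :=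
      mul_le_mul_of_nonneg_left hh.le (by linarith)
    nlinarith [mul_le_mul_of_nonneg_left haZ (show (0 : ℤ) ≤ e * f by positivity)]
  · obtain ⟨b', rfl⟩ := hd
    have hb : 0 < b' := Nat.pos_of_ne_zero fun h => by simp [h] at ha
    have he5 : 5 ≤ e := by
      rcases ho with ⟨j, rfl⟩
      by_contra hc
      have : j = 1 := by omega
      subst this
      omega
    push_cast at heq haQ
    field_simp at heq
    have hq : (l : ℚ) * (P * (2 * T + e ^ 2 * b') - 6 * (e * b') * T * (P - 1)) = 3 := by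
      refine mul_left_cancel₀ heQ.ne' ?_
      nlinarith
    have hz : (l : ℤ) * (P * (2 * T + e ^ 2 * b') - 6 * (e * b') * T * (P - 1)) = 3 := by exact_mod_cast hq
    set i : ℤ := P * (2 * T + e ^ 2 * b') - 6 * (e * b') * T * (P - 1) with hi
    have hlZ : (1 : ℤ) ≤ l := by exact_mod_cast hl
    have hi0 : 0 < i := pos_of_mul_pos_right (by rw [hz]; norm_num) (by linarith : (0 : ℤ) ≤ l)
    have hi1 : 1 ≤ i ∧ i ≤ 3 := ⟨hi0, (le_mul_of_one_le_left hi0.le hlZ).trans hz.le⟩
    have hTZ : (16 : ℤ) ≤ T := by exact_mod_cast hT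
    have heZ : (5 : ℤ) ≤ e := by exact_mod_cast he5
    have hbZ : (1 : ℤ) ≤ b' := by exact_mod_cast hb
    have hdiv : (e : ℤ) ∣ 2 * T - i := by
      obtain ⟨c, hc⟩ := he1
      exact ⟨c * (6 * (e * b') * T - 2 * T - e ^ 2 * b') - e * b', by
        rw [hi]; linear_combination (6 * (e * b') * T - 2 * T - e ^ 2 * b' : ℤ) * hc⟩
    have heT : (e : ℤ) ≤ 2 * T - i := Int.le_of_dvd (by linarith) hdiv
    have hkey : ((P : ℤ) - 1) * (6 * (e * b') * T - 2 * T - e ^ 2 * b') = 2 * T + e ^ 2 * b' - i := by
      rw [hi]; ring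
    have heb : (5 : ℤ) ≤ e * b' := by nlinarith
    have hh : 4 * T * (e * b') - 2 * T ≤ 6 * ((e : ℤ) * b') * T - 2 * T - e ^ 2 * b' := by
      have := mul_le_mul_of_nonneg_right (show (e : ℤ) ≤ 2 * T by linarith) (show (0 : ℤ) ≤ e * b' by linarith)
      linarith
    have h0 : (0 : ℤ) ≤ 4 * T * (e * b') - 2 * T := by
      have := mul_le_mul_of_nonneg_left heb (show (0 : ℤ) ≤ 4 * T by linarith)
      linarith
    have h1 : (e : ℤ) * (6 * (e * b') * T - 2 * T - e ^ 2 * b') ≤ 2 * T + e ^ 2 * b' - i := by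
      rw [← hkey]; exact mul_le_mul_of_nonneg_right (by linarith) (by linarith)
    have h2 : (e : ℤ) * (4 * T * (e * b') - 2 * T) ≤ e * (6 * (e * b') * T - 2 * T - e ^ 2 * b') :=
      mul_le_mul_of_nonneg_left hh (by linarith)
    have h3 := mul_le_mul_of_nonneg_left heb (show (0 : ℤ) ≤ 2 * (e * T) by positivity)
    have h4 := mul_le_mul_of_nonneg_right heZ (show (0 : ℤ) ≤ T by linarith)
    have h5 := mul_le_mul_of_nonneg_right (show (2 : ℤ) ≤ 2 * T by linarith) (show (0 : ℤ) ≤ e * (e * b') by positivity)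
    have h6 : (1 : ℤ) * (e * b') ≤ e * (e * b') := mul_le_mul_of_nonneg_right (by linarith) (by linarith)
    linarith

end big

end CfsgLib.Geo.D3.Num
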