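/-
The arithmetic of the counting equation for centralisers of bounded order.
-/
import Cfsg.Agent.Geo.DimThree.NoTv.Numeric

set_option autoImplicit false

namespace CfsgLib.Geo.D3.Num

lemma inv_bound {g n : ℕ} {r : ℚ} (hn : 0 < g) (hr : (1 : ℚ) / g > r) (h : r = 1 / (n : ℚ)) (hn0 : 0 < n) : g < n := by
  subst h
  by_contra hc
  push Not at hc
  have := one_div_le_one_div_of_le (show (0 : ℚ) < n by exact_mod_cast hn0) (show (n : ℚ) ≤ g by exact_mod_cast hc)
  linarith

lemma a_bound2 {a n : ℕ} (hn : 0 < n) (h : n ≤ a) : ((n : ℚ) - 1) / (2 * n) ≤ ((a : ℚ) - 1) / (2 * a) := by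
  have h1 : (n : ℚ) ≤ a := by exact_mod_cast h
  have h2 : (0 : ℚ) < n := by exact_mod_cast hn
  rw [div_le_div_iff₀ (by positivity) (by linarith)]
  nlinarith

lemma a_bound3 {a n : ℕ} (hn : 0 < n) (h : n ≤ a) : ((n : ℚ) - 1) / (3 * n) ≤ ((a : ℚ) - 1) / (3 * a) := by
  have h1 : (n : ℚ) ≤ a := by exact_mod_cast h
  have h2 : (0 : ℚ) < n := by exact_mod_cast hn
  rw [div_le_div_iff₀ (by positivity) (by linarith)]
  nlinarith

/-- Centraliser of order 48: no solution. -/
lemma c48 {g p P e : ℕ} (hg : 144 < g) (hu : UNum p P e) : 1 / (g : ℚ) + uTerm P e ≠ 13 / 48 := by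
  intro heq
  have hg0 := inv_pos' (show 0 < g by omega)
  have hg1 := inv_lt (show 0 < 144 by norm_num) hg
  push_cast at hg1
  have he2 := hu.two_le
  have he4 : e < 4 := by
    by_contra hc
    push Not at hc
    have := uTerm_lt (show 0 < e by omega) (show 0 < P by have := hu.three_le; omega)
    have : (1 : ℚ) / e ≤ 1 / 4 := one_div_le_one_div_of_le (by norm_num) (by exact_mod_cast hc)
    linarith
  interval_cases e
  · have h := le_uTerm (show 0 < 2 by norm_num) hu.succ_le
    push_cast at h
    linarith
  · have h := le_uTerm_odd (show 0 < 3 by norm_num) (hu.odd_le (by decide))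
    push_cast at h
    linarith

/-- Centraliser of order 96, unipotent elements only. -/
lemma c96_U {g p P e : ℕ} (hg : 288 < g) (hu : UNum p P e) (heq : 1 / (g : ℚ) + uTerm P e = 31 / 96) :
    g = 2976 ∧ e = 3 ∧ P = 31 := by
  have hg0 := inv_pos' (show 0 < g by omega)
  have hg1 := inv_lt (show 0 < 288 by norm_num) hg
  push_cast at hg1
  have he2 := hu.two_le
  have he4 : e < 4 := by
    by_contra hc
    push Not at hc
    have := uTerm_lt (show 0 < e by omega) (show 0 < P by have := hu.three_le; omega)
    have : (1 : ℚ) / e ≤ 1 / 4 := one_div_le_one_div_of_le (by norm_num) (by exact_mod_cast hc)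
    linarith
  interval_cases e
  · exfalso
    have h := le_uTerm (show 0 < 2 by norm_num) hu.succ_le
    push_cast at h
    linarith
  · have hP3 := hu.three_le
    obtain ⟨j, hj⟩ := hu.dvd_pred
    obtain ⟨o, ho⟩ := hu.odd
    have hlow : 24 ≤ P := by
      by_contra hc
      push Not at hc
      have : uTerm P 3 ≤ 23 / 72 - 1 / 1656 := by
        have h1 : (P : ℚ) ≤ 23 := by exact_mod_cast (show P ≤ 23 by omega)
        have h2 : (3 : ℚ) ≤ P := by exact_mod_cast hP3
        rw [uTerm, div_le_iff₀ (by positivity)]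
        push_cast
        nlinarith
      linarith
    have hhigh : P < 32 := by
      by_contra hc
      push Not at hc
      have : (31 : ℚ) / 96 ≤ uTerm P 3 := by
        have h1 : (32 : ℚ) ≤ P := by exact_mod_cast hc
        rw [uTerm, le_div_iff₀ (by positivity)]
        push_cast
        linarith
      linarith
    have hP : P = 25 ∨ P = 31 := by omega
    rcases hP with rfl | rfl <;> norm_num [uTerm] at heq
    · have := g_eq (show 0 < g by omega) (show 0 < 2400 by norm_num) (n := 7) (by rw [one_div]; push_cast; linarith)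
      omega
    · have := g_eq (show 0 < g by omega) (show 0 < 2976 by norm_num) (n := 1) (by rw [one_div]; push_cast; linarith)
      omega

/-- Centraliser of order 96, one block with index three, no unipotent elements. -/
lemma c96_a {g a : ℕ} (hg : 288 < g) (ha : 7 ≤ a) (hodd : Odd a) (ha3 : a % 3 = 1)
    (heq : 1 / (g : ℚ) + ((a : ℚ) - 1) / (3 * a) = 31 / 96) : g = 2976 ∧ a = 31 := by
  have hg0 := inv_pos' (show 0 < g by omega)
  have haQ : (7 : ℚ) ≤ a := by exact_mod_cast ha
  have ha32 : a < 32 := by
    by_contra hc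
    push Not at hc
    have := a_bound3 (show 0 < 32 by norm_num) hc
    norm_num at this
    linarith
  have hmem : a = 7 ∨ a = 13 ∨ a = 19 ∨ a = 25 ∨ a = 31 := by obtain ⟨o, ho⟩ := hodd; omega
  rcases hmem with rfl | rfl | rfl | rfl | rfl <;> norm_num at heq
  · have := g_eq (show 0 < g by omega) (show 0 < 672 by norm_num) (n := 25) (by rw [one_div]; push_cast; linarith)
    omega
  · have := g_eq (show 0 < g by omega) (show 0 < 1248 by norm_num) (n := 19) (by rw [one_div]; push_cast; linarith)
    omega
  · have := g_eq (show 0 < g by omega) (show 0 < 1824 by norm_num) (n := 13) (by rw [one_div]; push_cast; linarith)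
    omega
  · have := g_eq (show 0 < g by omega) (show 0 < 2400 by norm_num) (n := 7) (by rw [one_div]; push_cast; linarith)
    omega
  · have := g_eq (show 0 < g by omega) (show 0 < 2976 by norm_num) (n := 1) (by rw [one_div]; push_cast; linarith)
    omega

/-- Centraliser of order 96: the two kinds of term exclude each other. -/
lemma c96_aU {g a p P e : ℕ} (hg : 0 < g) (ha : 7 ≤ a) (hu : UNum p P e) (he : e ≤ 12 ∨ e ^ 2 ∣ a) :
    1 / (g : ℚ) + uTerm P e + ((a : ℚ) - 1) / (3 * a) ≠ 31 / 96 := by
  intro heq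
  have hg0 := inv_pos' hg
  have he2 := hu.two_le
  have hU := le_uTerm (show 0 < e by omega) hu.succ_le
  have h7 := a_bound3 (show 0 < 7 by norm_num) ha
  norm_num at h7
  have ha32 : a < 32 := by
    by_contra hc
    push Not at hc
    have := a_bound3 (show 0 < 32 by norm_num) hc
    norm_num at this
    have : (0 : ℚ) < 1 / (e + 1) := by positivity
    linarith
  have he12 : e ≤ 12 := by
    rcases he with h | h
    · exact h
    · have := Nat.le_of_dvd (by omega) h
      nlinarith
  have : (1 : ℚ) / 13 ≤ 1 / ((e : ℚ) + 1) := one_div_le_one_div_of_le (by positivity) (by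
    have : (e : ℚ) ≤ 12 := by exact_mod_cast he12
    linarith)
  linarith

/-! Abelian centraliser, four classes of blocks of order three. -/

lemma ab_U {g T p P e : ℕ} (hT : 20 ≤ T) (hg : 3 * T < g) (hu : UNum p P e) (he4 : e ≠ 4) :
    1 / (g : ℚ) + uTerm P e + 4 / 9 ≠ 2 / 3 + 1 / (3 * T) := by
  intro heq
  have hg1 := inv_lt (show 0 < 60 by norm_num) (show 60 < g by omega)
  have hg0 := inv_pos' (show 0 < g by omega)
  push_cast at hg1
  have hTQ : (20 : ℚ) ≤ T := by exact_mod_cast hT
  have h6 : (1 : ℚ) / (3 * T) ≤ 1 / 60 := by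
    rw [div_le_div_iff₀ (by positivity) (by positivity)]; linarith
  have h6' : (0 : ℚ) < 1 / (3 * T) := by positivity
  have he2 := hu.two_le
  have he5 : e < 5 := by
    by_contra hc
    push Not at hc
    have := uTerm_lt (show 0 < e by omega) (show 0 < P by have := hu.three_le; omega)
    have : (1 : ℚ) / e ≤ 1 / 5 := one_div_le_one_div_of_le (by norm_num) (by exact_mod_cast hc)
    linarith
  interval_cases e
  · have h := le_uTerm (show 0 < 2 by norm_num) hu.succ_le
    push_cast at h
    linarith
  · have h := le_uTerm_odd (show 0 < 3 by norm_num) (hu.odd_le (by decide))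
    push_cast at h
    linarith
  · exact he4 rfl

lemma ab_zero {g T : ℕ} (hT : 20 ≤ T) (hg : 3 * T < g) : 1 / (g : ℚ) + 4 / 9 ≠ 2 / 3 + 1 / (3 * T) := by
  intro heq
  have hg1 := inv_lt (show 0 < 60 by norm_num) (show 60 < g by omega)
  push_cast at hg1
  have : (0 : ℚ) < 1 / (3 * (T : ℚ)) := by
    have : (20 : ℚ) ≤ T := by exact_mod_cast hT
    positivity
  linarith

/-! Centraliser of order 24. -/

section c24

variable {g a p P e k : ℕ}

/-- The possible orders of the acting element. -/
def Small (e : ℕ) : Prop := e = 2 ∨ e = 3 ∨ e = 4 ∨ e = 6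

lemma small_U (hu : UNum p P e) (he : e ≤ 6) : (1 : ℚ) / 7 ≤ uTerm P e := by
  have := le_uTerm (show 0 < e by have := hu.two_le; omega) hu.succ_le
  have : (1 : ℚ) / 7 ≤ 1 / ((e : ℚ) + 1) := one_div_le_one_div_of_le (by positivity) (by
    have : (e : ℚ) ≤ 6 := by exact_mod_cast he
    linarith)
  linarith

lemma c24_two_aU (hg : 0 < g) (ha : 5 ≤ a) (hk : 1 ≤ k) (hu : UNum p P e)
    (he : e ≤ 6 ∨ (Odd e ∧ e ∣ a)) :
    1 / (g : ℚ) + uTerm P e + ((a : ℚ) - 1) / (2 * a) + (k : ℚ) / 9 ≠ 43 / 72 := by
  intro heq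
  have hg0 := inv_pos' hg
  have hkQ : (1 : ℚ) ≤ k := by exact_mod_cast hk
  have hkQ' : (1 : ℚ) / 9 ≤ (k : ℚ) / 9 := by linarith
  rcases he with h | ⟨ho, hd⟩
  · have := small_U hu h
    have := a_bound2 (show 0 < 5 by norm_num) ha
    norm_num at this
    linarith
  · have hea := Nat.le_of_dvd (by omega) hd
    have he2 := hu.two_le
    have hU := le_uTerm_odd (show 0 < e by omega) (hu.odd_le ho)
    have := a_bound2 (show 0 < e by omega) hea
    have heQ : (2 : ℚ) ≤ e := by exact_mod_cast he2
    have h1 : (1 : ℚ) / 2 - 1 / (2 * e) = ((e : ℚ) - 1) / (2 * e) := by field_simp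
    have h2 : (1 : ℚ) / (2 * e) ≤ 2 / (2 * e + 1) := by
      rw [div_le_div_iff₀ (by positivity) (by positivity)]; linarith
    linarith

lemma c24_two_a (hg : 72 < g) (ha : 5 ≤ a) (hcop : Nat.Coprime a 24) (hk : 1 ≤ k)
    (heq : 1 / (g : ℚ) + ((a : ℚ) - 1) / (2 * a) + (k : ℚ) / 9 = 43 / 72) : g = 2520 ∧ a = 35 := by
  have hg0 := inv_pos' (show 0 < g by omega)
  have h5 := a_bound2 (show 0 < 5 by norm_num) ha
  norm_num at h5
  have hk2 : k < 2 := by
    by_contra hc
    push Not at hc
    have : (2 : ℚ) / 9 ≤ (k : ℚ) / 9 := by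
      have : (2 : ℚ) ≤ k := by exact_mod_cast hc
      linarith
    linarith
  obtain rfl : k = 1 := by omega
  push_cast at heq
  have ha36 : a < 36 := by
    by_contra hc
    push Not at hc
    have := a_bound2 (show 0 < 36 by norm_num) hc
    norm_num at this
    linarith
  have haQ : (0 : ℚ) < a := by exact_mod_cast (show 0 < a by omega)
  have hgQ : (0 : ℚ) < g := by exact_mod_cast (show 0 < g by omega)
  have hq : (g : ℚ) * (36 - a) = 72 * a := by
    field_simp at heq
    linarith
  have hn : g * (36 - a) = 72 * a := by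
    have : ((g * (36 - a) : ℕ) : ℚ) = ((72 * a : ℕ) : ℚ) := by
      push_cast [Nat.cast_sub ha36.le]; linarith
    exact_mod_cast this
  interval_cases a
  all_goals first
    | omega
    | (exfalso; revert hcop; decide)

lemma c24_three_a (hg : 72 < g) (ha : 7 ≤ a) (hk : 1 ≤ k) (hk' : k ≤ 2) :
    1 / (g : ℚ) + ((a : ℚ) - 1) / (3 * a) + (k : ℚ) / 9 ≠ 43 / 72 := by
  intro heq
  have hg1 := inv_lt (show 0 < 72 by norm_num) hg
  push_cast at hg1
  have haQ : (0 : ℚ) < a := by exact_mod_cast (show 0 < a by omega)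
  have : ((a : ℚ) - 1) / (3 * a) < 1 / 3 := by
    rw [div_lt_div_iff₀ (by positivity) (by positivity)]; linarith
  have : (k : ℚ) / 9 ≤ 2 / 9 := by
    have : (k : ℚ) ≤ 2 := by exact_mod_cast hk'
    linarith
  linarith

lemma odd_six_false (hg : 72 < g) (ha : 7 ≤ a) (hodd : Odd a) (ha3 : a % 3 = 1) (hcop : Nat.Coprime a 24)
    (hu : UNum p P 6) (haP : Nat.Coprime P a) :
    1 / (g : ℚ) + uTerm P 6 + ((a : ℚ) - 1) / (3 * a) + 1 / 9 ≠ 43 / 72 := by
  intro heq
  have hP3 := hu.three_le
  obtain ⟨j, hj⟩ := hu.dvd_pred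
  have haQ : (0 : ℚ) < a := by exact_mod_cast (show 0 < a by omega)
  have hgQ : (0 : ℚ) < g := by exact_mod_cast (show 0 < g by omega)
  have hPQ : (0 : ℚ) < P := by exact_mod_cast (show 0 < P by omega)
  rw [uTerm] at heq
  push_cast at heq
  field_simp at heq
  have hq : (g : ℚ) * (24 * P + 12 * a - a * P) = 72 * (a * P) := by linarith
  have hle : a * P ≤ 24 * P + 12 * a := by
    by_contra hc
    push Not at hc
    have : (24 * P + 12 * a : ℚ) < a * P := by exact_mod_cast hc
    nlinarith [mul_pos haQ hPQ]
  obtain ⟨N, hN⟩ := Nat.exists_eq_add_of_le hle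
  have hn : g * N = 72 * (a * P) := by
    have h : ((24 * P + 12 * a : ℕ) : ℚ) = ((a * P + N : ℕ) : ℚ) := by rw [hN]
    push_cast at h
    have : (g : ℚ) * N = 72 * (a * P) := by
      rw [show (N : ℚ) = 24 * P + 12 * a - a * P by linarith]; exact hq
    exact_mod_cast this
  have hP24 : Nat.Coprime P 6 := by
    have : P % 6 = 1 := by omega
    rw [Nat.Coprime, Nat.gcd_comm, Nat.gcd_rec, this]; decide
  have hNa : Nat.Coprime N a := by
    rw [← Nat.coprime_add_mul_left_left N a P, show N + a * P = 24 * P + a * 12 by omega,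
      Nat.coprime_add_mul_left_left]
    exact Nat.Coprime.mul_left hcop.symm haP
  have hNP : Nat.Coprime N P := by
    rw [← Nat.coprime_add_mul_left_left N P a, show N + P * a = 12 * a + P * 24 by rw [mul_comm P a]; omega,
      Nat.coprime_add_mul_left_left]
    exact Nat.Coprime.mul_left (Nat.Coprime.mul_left (hP24.symm.coprime_dvd_left (show 2 ∣ 6 by norm_num))
      hP24.symm : Nat.Coprime (2 * 6) P) haP.symm
  have hd : N ∣ 72 := (hNa.mul_right hNP).dvd_of_dvd_mul_right ⟨g, by rw [← hn, mul_comm]⟩
  have h3 : N % 6 = 5 := by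
    obtain ⟨o, ho⟩ := hodd
    have h1 : (a * P) % 6 = 1 := by
      rw [Nat.mul_mod, show a % 6 = 1 by omega, show P % 6 = 1 by omega]
    omega
  have := Nat.le_of_dvd (by norm_num) hd
  interval_cases N
  all_goals first
    | omega
    | (exfalso; revert hd; decide)

lemma c24_three_aU (hg : 72 < g) (ha : 7 ≤ a) (hodd : Odd a) (ha3 : a % 3 = 1) (hcop : Nat.Coprime a 24)
    (hk : 1 ≤ k) (hk' : k ≤ 2) (hu : UNum p P e) (haP : Nat.Coprime P a) (hP24 : Nat.Coprime P 24)
    (hdvd : a * P ≤ g) (he : Small e ∨ (Odd e ∧ e ^ 2 ∣ a))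
    (heq : 1 / (g : ℚ) + uTerm P e + ((a : ℚ) - 1) / (3 * a) + (k : ℚ) / 9 = 43 / 72) :
    g = 2520 ∧ P = 5 ∧ k = 1 := by
  have hg0 := inv_pos' (show 0 < g by omega)
  have hg1 := inv_lt (show 0 < 72 by norm_num) hg
  push_cast at hg1
  have hgi : (0 : ℚ) < (g : ℚ)⁻¹ := by rw [← one_div]; exact hg0
  have hgi1 : (g : ℚ)⁻¹ < 1 / 72 := by rw [← one_div]; exact hg1
  have h7 := a_bound3 (show 0 < 7 by norm_num) ha
  norm_num at h7
  have haQ : (7 : ℚ) ≤ a := by exact_mod_cast ha
  have ha13 : ((a : ℚ) - 1) / (3 * a) = 1 / 3 - 1 / (3 * a) := by field_simp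
  have hlt := uTerm_lt (show 0 < e by have := hu.two_le; omega) (show 0 < P by have := hu.three_le; omega)
  rcases he with he | ⟨ho, hd⟩
  · rcases he with rfl | rfl | rfl | rfl
    · exfalso
      have := le_uTerm (show 0 < 2 by norm_num) hu.succ_le
      have : (1 : ℚ) / 9 ≤ (k : ℚ) / 9 := by
        have : (1 : ℚ) ≤ k := by exact_mod_cast hk
        linarith
      push_cast at *
      linarith
    · exfalso
      have := le_uTerm_odd (show 0 < 3 by norm_num) (hu.odd_le (by decide))
      have : (1 : ℚ) / 9 ≤ (k : ℚ) / 9 := by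
        have : (1 : ℚ) ≤ k := by exact_mod_cast hk
        linarith
      push_cast at *
      linarith
    · have h5 : (1 : ℚ) / 5 ≤ uTerm P 4 := by
        have := le_uTerm (show 0 < 4 by norm_num) hu.succ_le
        norm_num at this ⊢; linarith
      have hk1 : k = 1 := by
        by_contra hne
        have : (2 : ℚ) / 9 ≤ (k : ℚ) / 9 := by
          have : (2 : ℚ) ≤ k := by exact_mod_cast (show 2 ≤ k by omega)
          linarith
        linarith
      subst hk1
      obtain ⟨j, hj⟩ := hu.dvd_pred
      have hP5 : P = 5 := by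
        by_contra hne
        have : (2 : ℚ) / 9 ≤ uTerm P 4 := by
          have hP : 9 ≤ P := by have := hu.succ_le; omega
          have : (9 : ℚ) ≤ P := by exact_mod_cast hP
          rw [uTerm, div_le_div_iff₀ (by positivity) (by positivity)]; push_cast; linarith
        norm_num at heq
        linarith
      subst hP5
      have ha8 : a < 8 := by
        by_contra hc
        push Not at hc
        have := a_bound3 (show 0 < 8 by norm_num) hc
        norm_num [uTerm] at this heq hg0
        linarith
      obtain rfl : a = 7 := by omega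
      norm_num [uTerm] at heq
      have := g_eq (show 0 < g by omega) (show 0 < 2520 by norm_num) (n := 1) (by rw [one_div]; push_cast; linarith)
      omega
    · exfalso
      rcases Nat.lt_or_ge k 2 with h | h
      · obtain rfl : k = 1 := by omega
        exact odd_six_false hg ha hodd ha3 hcop hu haP (by norm_num at heq ⊢; linarith)
      · have := small_U hu le_rfl
        have : (2 : ℚ) / 9 ≤ (k : ℚ) / 9 := by
          have : (2 : ℚ) ≤ k := by exact_mod_cast h
          linarith
        linarith
  · exfalso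
    have hea := Nat.le_of_dvd (by omega) hd
    have he2 := hu.two_le
    have he3 : 5 ≤ e := by
      obtain ⟨o, rfl⟩ := ho
      by_contra hc
      obtain rfl : o = 1 := by omega
      omega
    have hU := le_uTerm_odd (show 0 < e by omega) (hu.odd_le ho)
    have heQ : (5 : ℚ) ≤ e := by exact_mod_cast he3
    have ha2 := a_bound3 (show 0 < e ^ 2 by positivity) hea
    push_cast at ha2
    have hgaP : (1 : ℚ) / g ≤ 1 / ((a : ℚ) * P) := by
      have hP : (0 : ℚ) < P := by exact_mod_cast (show 0 < P by have := hu.three_le; omega)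
      exact one_div_le_one_div_of_le (by positivity) (by exact_mod_cast hdvd)
    have hPe : (2 * e + 1 : ℚ) ≤ P := by exact_mod_cast hu.odd_le ho
    have hga : (1 : ℚ) / ((a : ℚ) * P) ≤ 1 / ((e : ℚ) ^ 2 * (2 * e + 1)) := by
      refine one_div_le_one_div_of_le (by positivity) ?_
      exact mul_le_mul (by exact_mod_cast hea) hPe (by positivity) (by positivity)
    have hh : (0 : ℚ) < 1 / (3 * a) := by positivity
    have hgb := hgaP.trans hga
    rcases Nat.lt_or_ge k 2 with hk2 | hk2
    · obtain rfl : k = 1 := by omega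
      push_cast at heq
      have he7 : e < 8 := by
        by_contra hc
        push Not at hc
        have : (1 : ℚ) / e ≤ 1 / 8 := one_div_le_one_div_of_le (by norm_num) (by exact_mod_cast hc)
        linarith
      interval_cases e
      all_goals first
        | (exfalso; revert ho; decide)
        | (norm_num at hU ha2 hlt hgb heq; linarith)
    · obtain rfl : k = 2 := by omega
      push_cast at heq
      rcases Nat.lt_or_ge e 24 with he24 | he24
      · interval_cases e
        all_goals first
          | (exfalso; revert ho; decide)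
          | (norm_num at hU ha2; linarith)
      · have : e ≠ 24 := fun h => by subst h; revert ho; decide
        have he25 : (25 : ℚ) ≤ e := by exact_mod_cast (show 25 ≤ e by omega)
        have : (1 : ℚ) / e ≤ 1 / 25 := one_div_le_one_div_of_le (by norm_num) he25
        have : (1 : ℚ) / ((e : ℚ) ^ 2 * (2 * e + 1)) ≤ 1 / 625 := by
          refine one_div_le_one_div_of_le (by norm_num) ?_
          nlinarith
        linarith

lemma c24_U (hg : 72 < g) (hk : 1 ≤ k) (hk' : k ≤ 5) (hu : UNum p P e) (he : Small e) (hcop : Nat.Coprime P 24) :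
    1 / (g : ℚ) + uTerm P e + (k : ℚ) / 9 ≠ 43 / 72 := by
  intro heq
  have hg0 := inv_pos' (show 0 < g by omega)
  have hg1 := inv_lt (show 0 < 72 by norm_num) hg
  push_cast at hg1
  have hgi : (0 : ℚ) < (g : ℚ)⁻¹ := by rw [← one_div]; exact hg0
  have hgi1 : (g : ℚ)⁻¹ < 1 / 72 := by rw [← one_div]; exact hg1
  have hlt := uTerm_lt (show 0 < e by have := hu.two_le; omega) (show 0 < P by have := hu.three_le; omega)
  have hle := le_uTerm (show 0 < e by have := hu.two_le; omega) hu.succ_le
  have hP3 := hu.three_le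
  obtain ⟨o, ho⟩ := hu.odd
  obtain ⟨m, hm⟩ := hu.pp
  rcases he with rfl | rfl | rfl | rfl
  · interval_cases k <;> norm_num at heq hle hlt
    · have hP36 : P < 36 := by
        by_contra hc
        push Not at hc
        have : (35 : ℚ) / 72 ≤ uTerm P 2 := by
          have : (36 : ℚ) ≤ P := by exact_mod_cast hc
          rw [uTerm, div_le_div_iff₀ (by positivity) (by positivity)]; push_cast; linarith
        norm_num at hg0
        linarith
      have hPQ : (0 : ℚ) < P := by exact_mod_cast (show 0 < P by omega)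
      have hgQ : (0 : ℚ) < g := by exact_mod_cast (show 0 < g by omega)
      rw [uTerm] at heq
      push_cast at heq
      field_simp at heq
      have hn : g * (36 - P) = 72 * P := by
        have : ((g * (36 - P) : ℕ) : ℚ) = ((72 * P : ℕ) : ℚ) := by
          push_cast [Nat.cast_sub hP36.le]; linarith
        exact_mod_cast this
      interval_cases P
      all_goals first
        | omega
        | (exfalso; revert hcop; decide)
        | skip
      exact not_pp hu.prime hm Nat.prime_five (show Nat.Prime 7 by norm_num) (by norm_num) (by norm_num) (by norm_num)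
    all_goals
      rcases Nat.lt_or_ge P 5 with hP | hP
      · obtain rfl : P = 3 := by omega
        revert hcop; decide
      · have : (2 : ℚ) / 5 ≤ uTerm P 2 := by
          have : (5 : ℚ) ≤ P := by exact_mod_cast hP
          rw [uTerm, div_le_div_iff₀ (by positivity) (by positivity)]; push_cast; linarith
        linarith
  · have := le_uTerm_odd (show 0 < 3 by norm_num) (hu.odd_le (by decide))
    interval_cases k <;> norm_num at heq hle hlt this <;> norm_num at hg0 hg1 <;> linarith
  · obtain ⟨j, hj⟩ := hu.dvd_pred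
    interval_cases k <;> norm_num at heq hle hlt <;> norm_num at hg0 hg1 <;> linarith
  · obtain ⟨j, hj⟩ := hu.dvd_pred
    interval_cases k <;> norm_num at heq hle hlt <;> norm_num at hg0 hg1 <;> try linarith
    rcases Nat.lt_or_ge P 13 with hP | hP
    · obtain rfl : P = 7 := by omega
      norm_num [uTerm] at heq
      have := g_eq (show 0 < g by omega) (show 0 < 504 by norm_num) (n := 5) (by rw [one_div]; push_cast; linarith)
      omega
    · have : (2 : ℚ) / 13 ≤ uTerm P 6 := by
        have : (13 : ℚ) ≤ P := by exact_mod_cast hP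
        rw [uTerm, div_le_div_iff₀ (by positivity) (by positivity)]; push_cast; linarith
      norm_num at this
      linarith

lemma c24_zero (hg : 72 < g) (hk : 1 ≤ k) (hk' : k ≤ 5) : 1 / (g : ℚ) + (k : ℚ) / 9 ≠ 43 / 72 := by
  intro heq
  have hg1 := inv_lt (show 0 < 72 by norm_num) hg
  have hg0 := inv_pos' (show 0 < g by omega)
  push_cast at hg1
  interval_cases k <;> norm_num at heq hg1 hg0 <;> linarith

end c24

end CfsgLib.Geo.D3.Num
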