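/-
Abelian centraliser of order greater than four.
-/
import Cfsg.Agent.Geo.DimThree.NoTv.CaseDih
import Cfsg.Agent.Geo.DimThree.NoTv.NumericSmall
import Cfsg.Agent.OneClass.Main
import Cfsg.Agent.Classical.LinearOrder
import Cfsg.Agent.S0949
import Cfsg.Agent.S5748

set_option autoImplicit false
set_option linter.style.haveILetI false
set_option linter.unusedSectionVars false

namespace CfsgLib.Geo.D3

open scoped Pointwise

variable {H : Type*} [Group H] [Finite H] {p : ℕ} {blk : H → Subgroup H} {Uni : H → Prop} {Spec : Prop}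

/-- A product over two indices. -/
def finTwoArrow (A : Type*) [CommGroup A] : (Fin 2 → A) ≃* A × A where
  toFun f := (f 0, f 1)
  invFun p := ![p.1, p.2]
  left_inv f := by funext i; fin_cases i <;> rfl
  right_inv p := rfl
  map_mul' _ _ := rfl

namespace Cfg

variable (h : Cfg H p blk Uni Spec)
include h

/-- The Sylow two-subgroups are four groups and the four group of the centraliser is its only one. -/
lemma ab_sylow {t : H} (ht : orderOf t = 2) (hC : CentAb t) :
    ∃ (P : Sylow 2 H) (u : H), u ∈ invOther t ∧ (P : Subgroup H) ≤ cen t ∧ u ∈ (P : Subgroup H) ∧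
      Nat.card ↥(P : Subgroup H) = 4 ∧ (∀ a : H, orderOf a ≠ 4) ∧ Nat.card ↥(cen t) % 8 = 4 := by
  classical
  haveI := h.simple
  haveI : Fact (Nat.Prime 2) := ⟨Nat.prime_two⟩
  haveI := Fintype.ofFinite H
  obtain ⟨hab, hT, hsum⟩ := hC
  have hcomm : ∀ x y : H, x ∈ cen t → y ∈ cen t → Commute x y := fun x y hx hy =>
    congrArg Subtype.val (hab.is_comm.comm ⟨x, hx⟩ ⟨y, hy⟩)
  have hmeet : ∀ u ∈ invOther t, cen t ⊓ cen u = cen t := fun u hu =>
    inf_eq_left.2 fun x hx => mem_cen.2 (hcomm x u hx (mem_cen.2 hu.2.1))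
  have htwo : (Finset.univ.filter fun u : H => orderOf u = 2 ∧ Commute u t ∧ u ≠ t).card = 2 := by
    rw [centSum_eq, Finset.sum_congr rfl (g := fun _ => Nat.card ↥(cen t) - 1) (fun u hu => by
      rw [hmeet u (Finset.mem_filter.1 hu).2]), Finset.sum_const, smul_eq_mul] at hsum
    exact Nat.eq_of_mul_eq_mul_right (by omega) hsum
  obtain ⟨u, hu⟩ : ∃ u, u ∈ invOther t := by
    obtain ⟨u, hu⟩ := Finset.card_pos.1 (by rw [htwo]; norm_num)
    exact ⟨u, (Finset.mem_filter.1 hu).2⟩
  -- a Sylow subgroup inside the centraliser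
  obtain ⟨P, hPC⟩ : ∃ P : Sylow 2 H, (P : Subgroup H) ≤ cen t := by
    obtain ⟨P⟩ : Nonempty (Sylow 2 H) := inferInstance
    have h2 : 2 ∣ Nat.card ↥(P : Subgroup H) :=
      P.dvd_card_of_dvd_card (ht ▸ orderOf_dvd_natCard t)
    haveI : Nontrivial ↥(P : Subgroup H) := Finite.one_lt_card_iff_nontrivial.1 (by
      have := Nat.le_of_dvd Nat.card_pos h2; omega)
    haveI := P.isPGroup'.center_nontrivial
    have h2c : 2 ∣ Nat.card (Subgroup.center ↥(P : Subgroup H)) := by
      obtain ⟨k, hk⟩ := IsPGroup.iff_card.1 (P.isPGroup'.to_subgroup (Subgroup.center ↥(P : Subgroup H)))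
      rcases k with _ | k
      · have := Finite.one_lt_card (α := Subgroup.center ↥(P : Subgroup H)); omega
      · exact hk ▸ dvd_pow_self 2 (by omega)
    obtain ⟨z, hz⟩ := exists_prime_orderOf_dvd_card' 2 h2c
    have hz' : orderOf ((z : ↥(P : Subgroup H)) : H) = 2 := by rw [Subgroup.orderOf_coe, Subgroup.orderOf_coe, hz]
    obtain ⟨g, hg⟩ := isConj_iff.1 (h.invol.one_class _ t hz' ht)
    refine ⟨g • P, ?_⟩
    rintro x hx
    rw [Sylow.coe_subgroup_smul, Subgroup.mem_pointwise_smul_iff_inv_smul_mem] at hx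
    rw [← map_inv, MulAut.smul_def, MulAut.conj_apply, inv_inv] at hx
    have hc : Commute (g⁻¹ * x * g) ((z : ↥(P : Subgroup H)) : H) :=
      congrArg Subtype.val (Subgroup.mem_center_iff.1 z.2 ⟨_, hx⟩)
    have := (Commute.conj_iff g).2 hc
    rw [hg, show g * (g⁻¹ * x * g) * g⁻¹ = x by group] at this
    exact mem_cen.2 this
  have hinP : ∀ a : H, orderOf a = 2 → Commute a t → a ∈ (P : Subgroup H) := by
    intro a ha hat
    have hnorm : Subgroup.zpowers a ≤ Subgroup.normalizer ((P : Subgroup H) : Set H) :=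
      Subgroup.zpowers_le.2 (Subgroup.mem_normalizer_iff.2 fun x => ⟨fun hx => by
        rwa [(hcomm a x (mem_cen.2 hat) (hPC hx)).eq, mul_inv_cancel_right], fun hx => by
        have e := (hcomm a _ (mem_cen.2 hat) (hPC hx)).inv_left.eq
        have : x = a * x * a⁻¹ := by
          calc x = a⁻¹ * (a * x * a⁻¹) * a := by group
            _ = (a * x * a⁻¹) * a⁻¹ * a := by rw [e]
            _ = a * x * a⁻¹ := by group
        exact this ▸ hx⟩)
    have hpg : IsPGroup 2 ↥(Subgroup.zpowers a ⊔ (P : Subgroup H)) :=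
      IsPGroup.to_sup_of_normal_right' (IsPGroup.of_card (n := 1) (by rw [pow_one, Nat.card_zpowers, ha]))
        P.isPGroup' hnorm
    have := P.is_maximal' hpg le_sup_right
    exact this ▸ Subgroup.mem_sup_left (Subgroup.mem_zpowers a)
  -- homocyclic
  haveI hPab : IsMulCommutative ↥(P : Subgroup H) :=
    ⟨⟨fun a b => Subtype.ext (hcomm _ _ (hPC a.2) (hPC b.2))⟩⟩
  letI : CommGroup ↥(P : Subgroup H) :=
    { (inferInstance : Group ↥(P : Subgroup H)) with mul_comm := fun a b => hPab.is_comm.comm a b }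
  obtain ⟨m, r, ⟨θ⟩⟩ := CfsgLib.OneClass.homocyclic_of_transitive P.isPGroup' fun x y hx1 hx2 hy1 hy2 => by
    have hox : orderOf (x : H) = 2 := by rw [Subgroup.orderOf_coe]; exact orderOf_eq_prime hx2 hx1
    have hoy : orderOf (y : H) = 2 := by rw [Subgroup.orderOf_coe]; exact orderOf_eq_prime hy2 hy1
    obtain ⟨g, hg⟩ := isConj_iff.1 (h.invol.one_class (x : H) y hox hoy)
    obtain ⟨n, hn, he⟩ := P.conj_eq_normalizer_conj_of_mem (x : H) g⁻¹ x.2 (by rw [inv_inv, hg]; exact y.2)
    refine ⟨(P : Subgroup H).normalizerMonoidHom ⟨n⁻¹, inv_mem hn⟩, Subtype.ext ?_⟩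
    rw [Subgroup.normalizerMonoidHom_apply_apply_coe]
    simp only [inv_inv]
    rw [← he, inv_inv, hg]
  -- exactly four solutions of the square
  have h4 : Nat.card {x : ↥(P : Subgroup H) // x * x = 1} = 4 := by
    rw [Nat.card_eq_fintype_card, Fintype.card_subtype]
    have hsq : (Finset.univ.filter fun x : ↥(P : Subgroup H) => x * x = 1).map
        ⟨Subtype.val, Subtype.val_injective⟩ =
        insert 1 (insert t (Finset.univ.filter fun u : H => orderOf u = 2 ∧ Commute u t ∧ u ≠ t)) := by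
      ext x
      simp only [Finset.mem_map, Finset.mem_filter, Finset.mem_univ, true_and, Function.Embedding.coeFn_mk,
        Finset.mem_insert]
      constructor
      · rintro ⟨z, hz, rfl⟩
        by_cases h1 : (z : H) = 1
        · exact Or.inl h1
        by_cases h2 : (z : H) = t
        · exact Or.inr (Or.inl h2)
        refine Or.inr (Or.inr ⟨?_, mem_cen.1 (hPC z.2), h2⟩)
        refine orderOf_eq_prime ?_ h1
        rw [sq]; exact congrArg Subtype.val hz
      · rintro (rfl | rfl | ⟨hx, hxt, -⟩)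
        · exact ⟨1, one_mul 1, rfl⟩
        · exact ⟨⟨x, hinP x ht (Commute.refl x)⟩, Subtype.ext (by
            show x * x = 1
            rw [← sq, ← ht, pow_orderOf_eq_one]), rfl⟩
        · exact ⟨⟨x, hinP x hx hxt⟩, Subtype.ext (by
            show x * x = 1
            rw [← sq, ← hx, pow_orderOf_eq_one]), rfl⟩
    have := congrArg Finset.card hsq
    rw [Finset.card_map] at this
    rw [this, Finset.card_insert_of_notMem, Finset.card_insert_of_notMem, htwo]
    · simp
    · simp only [Finset.mem_insert, Finset.mem_filter, Finset.mem_univ, true_and, not_or]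
      refine ⟨fun e => ?_, fun e => ?_⟩
      · rw [← e, orderOf_one] at ht; omega
      · rw [orderOf_one] at e; omega
  have hm : m = 1 ∧ r = 2 := by
    rcases Nat.eq_zero_or_pos m with rfl | hm
    · exfalso
      haveI : Subsingleton (ZMod (2 ^ 0)) := by rw [pow_zero]; infer_instance
      haveI : Subsingleton ↥(P : Subgroup H) := θ.toEquiv.injective.subsingleton
      have : Nat.card {x : ↥(P : Subgroup H) // x * x = 1} ≤ 1 :=
        Finite.card_le_one_iff_subsingleton.2 inferInstance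
      omega
    let A := Multiplicative (ZMod (2 ^ m))
    have hone : Nat.card {a : A // a * a = 1} = 2 := by
      have h := IsCyclic.card_powMonoidHom_ker A 2
      rw [Nat.card_congr Multiplicative.toAdd, Nat.card_zmod, Nat.gcd_eq_right (dvd_pow_self 2 (by omega))] at h
      exact (Nat.card_congr (Equiv.subtypeEquivRight fun a => by
        rw [MonoidHom.mem_ker, powMonoidHom_apply, pow_two])).trans h
    have hr : r = 2 := by
      have e1 : {x : ↥(P : Subgroup H) // x * x = 1} ≃ (Fin r → {a : A // a * a = 1}) :=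
        (Equiv.subtypeEquiv θ.toEquiv (q := fun f : Fin r → A => ∀ i, f i * f i = 1) fun x => by
          show x * x = 1 ↔ ∀ i, θ x i * θ x i = 1
          rw [← θ.map_eq_one_iff, map_mul]
          exact funext_iff).trans
          { toFun := fun f i => ⟨f.1 i, f.2 i⟩
            invFun := fun f => ⟨fun i => (f i).1, fun i => (f i).2⟩
            left_inv := fun f => rfl
            right_inv := fun f => rfl }
      rw [Nat.card_congr e1, Nat.card_fun, hone, Nat.card_fin] at h4
      exact Nat.pow_right_injective le_rfl (h4.trans (by norm_num : (4 : ℕ) = 2 ^ 2))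
    refine ⟨?_, hr⟩
    by_contra hm1
    subst hr
    have hnorm := (Cfsg.Agent.S0949.result P m (by omega)
      (θ.trans ((finTwoArrow _).trans (MulEquiv.prodMultiplicative _ _).symm)) fun N hN hodd => by
        rcases hN.eq_bot_or_eq_top with e | e
        · exact e
        · rw [e, Subgroup.card_top] at hodd
          exact absurd hodd (Nat.not_odd_iff_even.2 (even_iff_two_dvd.2 (ht ▸ orderOf_dvd_natCard t)))).1
    rcases hnorm.eq_bot_or_eq_top with e | e
    · have hmem := hinP t ht (Commute.refl t)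
      rw [e, Subgroup.mem_bot] at hmem
      rw [hmem, orderOf_one] at ht; omega
    · exact h.nonabelian ⟨⟨fun a b =>
        hcomm a b (hPC (e ▸ Subgroup.mem_top a)) (hPC (e ▸ Subgroup.mem_top b))⟩⟩
  obtain ⟨rfl, rfl⟩ := hm
  have hP4 : Nat.card ↥(P : Subgroup H) = 4 := by
    rw [Nat.card_congr θ.toEquiv, Nat.card_fun, Nat.card_congr Multiplicative.toAdd, Nat.card_zmod, Nat.card_fin]
    norm_num
  refine ⟨P, u, hu, hPC, hinP u hu.1 hu.2.1, hP4, fun a ha => ?_, ?_⟩
  · obtain ⟨Q, hQ⟩ := (IsPGroup.of_card (n := 2) (by rw [Nat.card_zpowers, ha]; norm_num) :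
      IsPGroup 2 ↥(Subgroup.zpowers a)).exists_le_sylow
    obtain ⟨g, hg⟩ := MulAction.exists_smul_eq H Q P
    have hmem : g * a * g⁻¹ ∈ (P : Subgroup H) := by
      rw [← hg, Sylow.coe_subgroup_smul]
      simpa using Subgroup.smul_mem_pointwise_smul _ (MulAut.conj g) _ (hQ (Subgroup.mem_zpowers a))
    have h2 : (⟨_, hmem⟩ : ↥(P : Subgroup H)) ^ 2 = 1 := by
      apply θ.injective
      rw [map_pow, map_one]
      funext i
      have := pow_card_eq_one' (x := θ ⟨_, hmem⟩ i)
      rwa [Nat.card_congr Multiplicative.toAdd, Nat.card_zmod] at this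
    have h3 := congrArg Subtype.val h2
    have hd := orderOf_dvd_of_pow_eq_one (show (g * a * g⁻¹) ^ 2 = 1 from h3)
    rw [← MulAut.conj_apply, MulEquiv.orderOf_eq, ha] at hd
    norm_num at hd
  · have h1 : 4 ∣ Nat.card ↥(cen t) := hP4 ▸ Subgroup.card_dvd_of_le hPC
    have h2 : ¬ 8 ∣ Nat.card ↥(cen t) := fun h8 => by
      have := (h8.trans (Subgroup.card_subgroup_dvd_card (cen t)))
      have hpm := P.card_eq_multiplicity
      rw [hP4] at hpm
      have hle := (Nat.prime_two.pow_dvd_iff_le_factorization Nat.card_pos.ne').1 (show 2 ^ 3 ∣ Nat.card H from this)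
      have := Nat.pow_le_pow_right (show 0 < 2 by norm_num) hle
      omega
    omega

/-- An abelian centraliser of order greater than four needs special elements. -/
lemma ab_spec {t : H} (ht : orderOf t = 2) (hC : CentAb t) : Spec := by
  by_contra hS
  haveI := h.simple
  obtain ⟨P, u, hu, hPC, huP, hP4, -, h84⟩ := h.ab_sylow ht hC
  obtain ⟨hab, hT, -⟩ := hC
  have habc : ∀ c : H, orderOf c = 2 → IsMulCommutative ↥(cen c) := fun c hc => by
    obtain ⟨g, hg⟩ := isConj_iff.1 (h.invol.one_class t c ht hc)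
    refine ⟨⟨fun a b => Subtype.ext ?_⟩⟩
    have hk : ∀ x : ↥(cen c), g⁻¹ * (x : H) * g ∈ cen t := fun x => mem_cen.2 (by
      have := (Commute.conj_iff g⁻¹).2 (mem_cen.1 x.2)
      rw [show g⁻¹ * c * g⁻¹⁻¹ = t by rw [← hg]; group, inv_inv] at this
      exact this)
    have := congrArg Subtype.val (hab.is_comm.comm ⟨_, hk a⟩ ⟨_, hk b⟩)
    show (a : H) * b = b * a
    have h2 := congrArg (fun z => g * z * g⁻¹) this
    simpa [mul_assoc] using h2
  have htrans : ∀ a b c : H, a ≠ 1 → b ≠ 1 → c ≠ 1 → Commute a b → Commute b c → Commute a c := by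
    intro a b c _ hb _ hab' hbc
    rcases h.ab_or_le hS b hb with hB | ⟨d, hd, hle⟩
    · exact congrArg Subtype.val (hB.is_comm.comm ⟨a, mem_cen.2 hab'⟩ ⟨c, mem_cen.2 hbc.symm⟩)
    · exact congrArg Subtype.val
        ((habc d hd).is_comm.comm ⟨a, hle (mem_cen.2 hab')⟩ ⟨c, hle (mem_cen.2 hbc.symm)⟩)
  obtain ⟨F, iF, iFt, f, hf, hF, ⟨φ⟩⟩ := (Cfsg.Agent.S5748.result h.nonabelian).1 htrans
  have hq4 : 4 ≤ 2 ^ f := le_trans (by norm_num) (Nat.pow_le_pow_right (by norm_num) hf)
  have heven : 2 ∣ 2 ^ f := dvd_pow_self 2 (by omega)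
  have hg : Nat.card H = 2 ^ f * (2 ^ f * 2 ^ f - 1) := by
    have hc := CfsgLib.Linear.card_PSL_mul (F := F) hF 2 (by norm_num)
    rw [← Nat.card_congr φ.toEquiv, Fin.prod_univ_two, show Nat.gcd 2 (2 ^ f - 1) = 1 from
      (Nat.prime_two.coprime_iff_not_dvd.2 (by omega)), one_mul] at hc
    simp only [Fin.val_zero, Fin.val_one, pow_zero, pow_one] at hc
    have hq1 : 0 < 2 ^ f - 1 := by omega
    refine Nat.eq_of_mul_eq_mul_left hq1 ?_
    rw [hc, sq, show 2 ^ f * 2 ^ f - 2 ^ f = (2 ^ f - 1) * 2 ^ f by rw [Nat.sub_mul, one_mul]]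
    ring
  haveI : Fact (Nat.Prime 2) := ⟨Nat.prime_two⟩
  have hf2 : f = 2 := by
    by_contra hne
    have h8 : 2 ^ 3 ∣ Nat.card H := hg ▸ (pow_dvd_pow 2 (by omega : 3 ≤ f)).trans (dvd_mul_right _ _)
    have hpm := P.card_eq_multiplicity
    rw [hP4] at hpm
    have := Nat.pow_le_pow_right (show 0 < 2 by norm_num)
      ((Nat.prime_two.pow_dvd_iff_le_factorization Nat.card_pos.ne').1 h8)
    omega
  subst hf2
  norm_num at hg
  have h3 := h.three_lt_involutions ht
  have hdvd := Subgroup.card_subgroup_dvd_card (cen t)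
  rw [hg] at hdvd h3
  obtain ⟨c, hc⟩ := hdvd
  have hT12 : Nat.card ↥(cen t) = 12 := by
    have : Nat.card ↥(cen t) = 4 ∨ Nat.card ↥(cen t) = 12 := by omega
    omega
  haveI : Fact (Nat.Prime 3) := ⟨Nat.prime_three⟩
  obtain ⟨y, hy⟩ := exists_prime_orderOf_dvd_card' 3 (show 3 ∣ Nat.card ↥(cen t) by rw [hT12]; norm_num)
  rw [← Subgroup.orderOf_coe] at hy
  obtain ⟨R, hR⟩ := (IsPGroup.of_card (n := 1) (by rw [pow_one, Nat.card_zpowers, hy]) :
    IsPGroup 3 ↥(Subgroup.zpowers (y : H))).exists_le_sylow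
  have hRy : (R : Subgroup H) = Subgroup.zpowers (y : H) := by
    refine (Subgroup.eq_of_le_of_card_ge hR ?_).symm
    obtain ⟨k, hk⟩ := IsPGroup.iff_card.1 R.isPGroup'
    have hd : 3 ^ k ∣ 60 := hk ▸ hg ▸ Subgroup.card_subgroup_dvd_card (R : Subgroup H)
    have hk2 : k < 2 := by
      by_contra hk2
      push Not at hk2
      have := (pow_dvd_pow 3 hk2).trans hd
      norm_num at this
    rw [hk, Nat.card_zpowers, hy]
    interval_cases k <;> norm_num
  have hN : cen t ≤ Subgroup.normalizer ((R : Subgroup H) : Set H) := fun z hz => by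
    have hzy : Commute z (y : H) := congrArg Subtype.val (hab.is_comm.comm ⟨z, hz⟩ y)
    rw [hRy, Subgroup.mem_normalizer_iff]
    intro x
    constructor
    · intro hx
      obtain ⟨j, rfl⟩ := Subgroup.mem_zpowers_iff.1 hx
      rw [(hzy.zpow_right j).eq, mul_inv_cancel_right]
      exact hx
    · intro hx
      obtain ⟨j, hj⟩ := Subgroup.mem_zpowers_iff.1 hx
      have : x = (y : H) ^ j := by
        calc x = z⁻¹ * (z * x * z⁻¹) * z := by group
          _ = (y : H) ^ j := by rw [← hj, (hzy.zpow_right j).inv_left.eq, inv_mul_cancel_right]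
      exact Subgroup.mem_zpowers_iff.2 ⟨j, this.symm⟩
  set N := Subgroup.normalizer ((R : Subgroup H) : Set H) with hNdef
  obtain ⟨d, hd⟩ := Subgroup.card_dvd_of_le hN
  have hmul := Subgroup.card_mul_index N
  rw [hd, hT12, hg] at hmul
  have hsyl := card_sylow_modEq_one 3 H
  rw [Sylow.card_eq_index_normalizer R, Nat.ModEq] at hsyl
  change N.index % 3 = 1 % 3 at hsyl
  have hi5 : N.index ∣ 5 := Dvd.intro_left d (by nlinarith)
  rcases (Nat.dvd_prime Nat.prime_five).1 hi5 with e | e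
  · have hnorm : (R : Subgroup H).Normal := Subgroup.normalizer_eq_top_iff.1 (Subgroup.index_eq_one.1 e)
    rcases hnorm.eq_bot_or_eq_top with e' | e'
    · rw [hRy, Subgroup.zpowers_eq_bot] at e'
      rw [e', orderOf_one] at hy; omega
    · have := congrArg (fun K : Subgroup H => Nat.card ↥K) (hRy.symm.trans e')
      simp only [Nat.card_zpowers, Subgroup.card_top] at this
      omega
  · rw [e] at hsyl; norm_num at hsyl

/-- With special elements three does not divide the order of an abelian centraliser. -/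
lemma ab_three {t : H} (ht : orderOf t = 2) (hC : CentAb t) (hS : Spec) : ¬ 3 ∣ Nat.card ↥(cen t) := by
  intro h3
  haveI : Fact (Nat.Prime 3) := ⟨Nat.prime_three⟩
  obtain ⟨hab, -, -⟩ := hC
  have hcomm : ∀ x y : H, x ∈ cen t → y ∈ cen t → Commute x y := fun x y hx hy =>
    congrArg Subtype.val (hab.is_comm.comm ⟨x, hx⟩ ⟨y, hy⟩)
  have hcomm' : ∀ (c : H), orderOf c = 2 → ∀ x y, x ∈ cen c → y ∈ cen c → Commute x y := fun c hc x y hx hy => by
    obtain ⟨g, hg⟩ := isConj_iff.1 (h.invol.one_class c t hc ht)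
    rw [← Commute.conj_iff g]
    exact hcomm _ _ (mem_cen.2 (hg ▸ (Commute.conj_iff g).2 (mem_cen.1 hx)))
      (mem_cen.2 (hg ▸ (Commute.conj_iff g).2 (mem_cen.1 hy)))
  obtain ⟨y', hy'⟩ := exists_prime_orderOf_dvd_card' 3 h3
  rw [← Subgroup.orderOf_coe] at hy'
  set y : H := (y' : H) with hydef
  have hyt : Commute y t := mem_cen.1 y'.2
  have hy1 : y ≠ 1 := fun e => by rw [e, orderOf_one] at hy'; omega
  obtain ⟨R, hR⟩ := h.exists_sylow_three hy'
  obtain ⟨h9, hcR, hinv, -, -, -, hfix, -⟩ := h.spec_sylow hS R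
  have hRc : ∀ r ∈ (R : Subgroup H), Commute r y := fun r hr =>
    congrArg Subtype.val ((h.sylow_three_comm hS R).is_comm.comm ⟨r, hr⟩ ⟨y, hR⟩)
  have hnotC : ∀ c : H, orderOf c = 2 → ¬ ∀ r ∈ (R : Subgroup H), r ∈ cen c := fun c hc hall => by
    have : c ∈ Subgroup.centralizer ((R : Subgroup H) : Set H) :=
      Subgroup.mem_centralizer_iff.2 fun r hr => (mem_cen.1 (hall r hr)).eq
    rw [hcR] at this
    have hd := Subgroup.orderOf_dvd_natCard _ this
    rw [hc, h9] at hd
    norm_num at hd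
  have hsame : ∀ a : H, orderOf a = 2 → Commute a y → Commute a t := by
    intro a ha hay
    by_cases hat : a = t
    · exact hat ▸ Commute.refl _
    rcases h.invol.centre y hy1 t a ht ha (Ne.symm hat) hyt.symm hay with hc | ⟨c, hc, -, -, hle⟩
    · exact hc.symm
    · exact absurd (fun r hr => hle (mem_cen.2 (hRc r hr))) (hnotC c hc)
  obtain ⟨r, hr, hrt⟩ : ∃ r ∈ (R : Subgroup H), r ∉ cen t := by
    have := hnotC t ht
    push Not at this
    exact this
  have hr1 : r ≠ 1 := fun e => hrt (e ▸ one_mem _)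
  have hro : Odd (orderOf r) := by rw [h.sylow_three_order hS hr hr1]; decide
  set u := r * t * r⁻¹ with hudef
  have hu2 : orderOf u = 2 := by rw [hudef, ← MulAut.conj_apply, MulEquiv.orderOf_eq, ht]
  have huy : Commute u y := (((hRc r hr).mul_left hyt.symm).mul_left (hRc r hr).inv_left)
  have hut : Commute u t := hsame u hu2 huy
  have hune : u ≠ t := fun e => hrt (mem_cen.2 (mul_inv_eq_iff_eq_mul.1 e))
  have hthree : ∀ a : H, orderOf a = 2 → Commute a y → a = t ∨ a = u ∨ a = t * u := fun a ha hay =>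
    h.invol.two_rank t u a ht hu2 ha hut.symm (hsame a ha hay).symm
      (hcomm _ _ (mem_cen.2 hut) (mem_cen.2 (hsame a ha hay))) (Ne.symm hune)
  have hu1 : u ≠ 1 := fun e => by rw [e, orderOf_one] at hu2; omega
  have hru : r * u * r⁻¹ = t * u := by
    have ha : orderOf (r * u * r⁻¹) = 2 := by rw [← MulAut.conj_apply, MulEquiv.orderOf_eq, hu2]
    have hay : Commute (r * u * r⁻¹) y := ((hRc r hr).mul_left huy).mul_left (hRc r hr).inv_left
    rcases hthree _ ha hay with e | e | e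
    · refine absurd (mem_cen.2 (commute_of_sq hro ?_)) hrt
      show r ^ 2 * t = t * r ^ 2
      rw [← mul_inv_eq_iff_eq_mul, sq, show r * r * t * (r * r)⁻¹ = r * u * r⁻¹ by rw [hudef]; group]
      exact e
    · exact absurd (by simpa using mul_left_cancel (mul_right_cancel (e.trans hudef) : r * u = r * t)) hune
    · exact e
  obtain ⟨n, hnN, hn⟩ := hinv y hR
  have hnr : n * r * n⁻¹ = r⁻¹ := by
    rcases hfix n hnN y hR hy1 (hn ▸ inv_mem (Subgroup.mem_zpowers y)) with e | e
    · exfalso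
      have e2 : y⁻¹ = y := hn.symm.trans (e y hR)
      have h2 : y ^ 2 = 1 := by
        calc y ^ 2 = y * y := sq y
          _ = y⁻¹ * y := by rw [e2]
          _ = 1 := inv_mul_cancel y
      have := orderOf_dvd_of_pow_eq_one h2
      rw [hy'] at this
      omega
    · exact e r hr
  have hfinal : ∀ w : H, orderOf w = 2 → Commute w y → n * w * n⁻¹ = w → False := by
    intro w hw hwy hnw
    have := hcomm' w hw n y (mem_cen.2 (mul_inv_eq_iff_eq_mul.1 hnw)) (mem_cen.2 hwy.symm)
    rw [this.eq, mul_inv_cancel_right] at hn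
    have h2 : y ^ 2 = 1 := by
      calc y ^ 2 = y * y := sq y
        _ = y⁻¹ * y := by rw [← hn]
        _ = 1 := inv_mul_cancel y
    have := orderOf_dvd_of_pow_eq_one h2
    rw [hy'] at this
    omega
  have hnt2 : orderOf (n * t * n⁻¹) = 2 := by rw [← MulAut.conj_apply, MulEquiv.orderOf_eq, ht]
  have hnty : Commute (n * t * n⁻¹) y := by
    have := (Commute.conj_iff n).2 (hyt.symm.inv_right)
    rwa [← conj_inv, hn, inv_inv] at this
  have hnu : n * u * n⁻¹ = r⁻¹ * (n * t * n⁻¹) * r := by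
    rw [hudef, show n * (r * t * r⁻¹) * n⁻¹ = (n * r * n⁻¹) * (n * t * n⁻¹) * (n * r * n⁻¹)⁻¹ by group, hnr,
      inv_inv]
  have htt : t * t = 1 := by rw [← sq, ← ht, pow_orderOf_eq_one]
  have huu : u * u = 1 := by rw [← sq, ← hu2, pow_orderOf_eq_one]
  have hrinvu : r⁻¹ * u * r = t := by rw [hudef]; group
  rcases hthree _ hnt2 hnty with e | e | e
  · exact hfinal t ht hyt.symm e
  · refine hfinal (t * u) (orderOf_mul_two ht hu2 hut.symm (Ne.symm hune)) (hyt.symm.mul_left huy) ?_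
    rw [show n * (t * u) * n⁻¹ = (n * t * n⁻¹) * (n * u * n⁻¹) by group, hnu, e, hrinvu, hut.eq]
  · refine hfinal u hu2 huy ?_
    rw [hnu, e]
    rw [← hru]
    group

open scoped Classical in
/-- The abelian case is impossible. -/
theorem not_centAb {t : H} (ht : orderOf t = 2) (hC : CentAb t) : False := by
  have hS := h.ab_spec ht hC
  have h3 := h.ab_three ht hC hS
  obtain ⟨P, u, hu, hPC, huP, hP4, hno4, h84⟩ := h.ab_sylow ht hC
  have hsum := hC.2.2
  have hab := hC.1
  set T := Nat.card ↥(cen t) with hTdef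
  have hT20 : 20 ≤ T := by have := hC.2.1; omega
  have hg := h.three_lt_involutions ht
  haveI : Fact (Nat.Prime 3) := ⟨Nat.prime_three⟩
  obtain ⟨R⟩ : Nonempty (Sylow 3 H) := inferInstance
  haveI := h.sylow_three_comm hS R
  obtain ⟨h9, -, hinv, h8, h4, hmem, hfix, -⟩ := h.spec_sylow hS R
  set N := Subgroup.normalizer ((R : Subgroup H) : Set H) with hN
  simp only [Set.mem_insert_iff, Set.mem_singleton_iff] at hmem
  have hrel : (R : Subgroup H).relIndex N = 2 := by
    rcases hmem with e | e | e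
    · exact e
    · exact absurd (h4 e) (by push Not; exact hno4)
    · obtain ⟨a, -, ha, -⟩ := h8 e
      exact absurd ha (hno4 a)
  -- every line is a block of index six
  have hodd : ∀ r ∈ (R : Subgroup H), r ≠ 1 → Odd (Nat.card ↥(cen r)) := by
    intro r hr hr1
    by_contra hev
    obtain ⟨a, ha, har⟩ := h.exists_involution_iff.1 hev
    obtain ⟨g, hg'⟩ := isConj_iff.1 (h.invol.one_class a t ha ht)
    refine h3 (hTdef ▸ ?_)
    rw [← h.sylow_three_order hS hr hr1, ← MulEquiv.orderOf_eq (MulAut.conj g) r]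
    exact Subgroup.orderOf_dvd_natCard _ (mem_cen.2 (hg' ▸ (Commute.conj_iff g).2 har.symm))
  obtain ⟨s2, s3, s6, U, heq, hs2, hs3, hs6, hinj, hcov, hU⟩ := h.decomp ht
  rw [hsum] at heq
  -- exactly four classes of lines
  have hfus : ∀ r r' : H, r ∈ (R : Subgroup H) → r' ∈ (R : Subgroup H) → r ≠ 1 → IsConj r r' →
      r' = r ∨ r' = r⁻¹ := by
    intro r r' hr hr' hr1 hc
    obtain ⟨g, hg'⟩ := isConj_iff.1 hc
    obtain ⟨n, hn, he⟩ := R.conj_eq_normalizer_conj_of_mem r g⁻¹ hr (by rw [inv_inv, hg']; exact hr')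
    rw [inv_inv, hg'] at he
    obtain ⟨ν, hνN, hν⟩ := hinv r hr
    have hνR : ν ∉ (R : Subgroup H) := fun hmem' => by
      have e : r⁻¹ = r := by
        rw [← hν, show ν * r = r * ν from congrArg Subtype.val
          ((h.sylow_three_comm hS R).is_comm.comm ⟨ν, hmem'⟩ ⟨r, hr⟩), mul_inv_cancel_right]
      have h2 : r ^ 2 = 1 := by
        calc r ^ 2 = r * r := sq r
          _ = r⁻¹ * r := by rw [e]
          _ = 1 := inv_mul_cancel r
      have := orderOf_dvd_of_pow_eq_one h2
      rw [h.sylow_three_order hS hr hr1] at this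
      omega
    have hidx : ((R : Subgroup H).subgroupOf N).index = 2 := hrel
    have hn' : n⁻¹ ∈ N := inv_mem hn
    have hcr : ∀ z ∈ (R : Subgroup H), z * r * z⁻¹ = r := fun z hz => by
      rw [show z * r = r * z from congrArg Subtype.val
          ((h.sylow_three_comm hS R).is_comm.comm ⟨z, hz⟩ ⟨r, hr⟩), mul_inv_cancel_right]
    by_cases hz : n⁻¹ ∈ (R : Subgroup H)
    · left
      rw [he]
      simpa using hcr n⁻¹ hz
    · right
      have hmul := (Subgroup.mul_mem_iff_of_index_two hidx (a := (⟨ν⁻¹, inv_mem hνN⟩ : ↥N))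
        (b := ⟨n⁻¹, hn'⟩)).2 (by simp only [Subgroup.mem_subgroupOf]; exact iff_of_false (fun hh => hνR (by simpa using inv_mem hh)) hz)
      have hmul' : ν⁻¹ * n⁻¹ ∈ (R : Subgroup H) := Subgroup.mem_subgroupOf.1 hmul
      rw [he, show n⁻¹ * r * n = ν * ((ν⁻¹ * n⁻¹) * r * (ν⁻¹ * n⁻¹)⁻¹) * ν⁻¹ by group, hcr _ hmul', hν]
  have hrep : ∀ r : {r : H // r ∈ (R : Subgroup H) ∧ r ≠ 1}, ∃ B : {B // B ∈ s6}, ∃ g : H,
      g * r * g⁻¹ ∈ (B : Subgroup H) := by
    rintro ⟨r, hr, hr1⟩
    obtain ⟨hA, hAe, hA3, hA6, hAu⟩ := h.block_three hS (h.sylow_three_order hS hr hr1) (hodd r hr hr1)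
    obtain ⟨B, hB, g, hg'⟩ := hcov _ hA hA3 hA6 hAu
    refine ⟨⟨B, hB⟩, g⁻¹, ?_⟩
    have : r ∈ B.map (MulAut.conj g).toMonoidHom := hg' ▸ h.blocks.mem r hr1 (hodd r hr hr1)
    obtain ⟨b, hb, hbr⟩ := this
    have hbr' : g * b * g⁻¹ = r := hbr
    show g⁻¹ * r * g⁻¹⁻¹ ∈ B
    rw [← hbr', show g⁻¹ * (g * b * g⁻¹) * g⁻¹⁻¹ = b by group]
    exact hb
  choose f gf hf using hrep
  have hfib : ∀ B, Nat.card {r // f r = B} ≤ 2 := by
    intro B
    rcases isEmpty_or_nonempty {r // f r = B} with he | ⟨⟨r₀, hr₀⟩⟩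
    · simp [Nat.card_of_isEmpty]
    let φ : {r // f r = B} → Bool := fun r => decide ((r.1 : H) = r₀)
    refine (Nat.card_le_card_of_injective φ fun a b e => ?_).trans (by simp)
    have key : ∀ x : {r // f r = B}, (x.1 : H) = r₀ ∨ (x.1 : H) = (r₀ : H)⁻¹ := by
      intro x
      have h3B := (hs6 B.1 B.2).2.1
      have hmr : gf x.1 * (x.1 : H) * (gf x.1)⁻¹ ∈ (B : Subgroup H) := by
        have := hf x.1; rwa [x.2] at this
      have hm₀ : gf r₀ * (r₀ : H) * (gf r₀)⁻¹ ∈ (B : Subgroup H) := by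
        have := hf r₀; rwa [hr₀] at this
      have ho : orderOf (gf r₀ * (r₀ : H) * (gf r₀)⁻¹) = 3 := by
        rw [← MulAut.conj_apply, MulEquiv.orderOf_eq, h.sylow_three_order hS r₀.2.1 r₀.2.2]
      have hz : Subgroup.zpowers (gf r₀ * (r₀ : H) * (gf r₀)⁻¹) = B.1 :=
        Subgroup.eq_of_le_of_card_ge (Subgroup.zpowers_le.2 hm₀) (by rw [h3B, Nat.card_zpowers, ho])
      rcases eq_or_eq_inv_of_three ho (hz ▸ hmr) (fun e => x.1.2.2 (by simpa using e)) with e' | e'
      · rcases hfus r₀ x.1 r₀.2.1 x.1.2.1 r₀.2.2 (isConj_iff.2 ⟨(gf x.1)⁻¹ * gf r₀, by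
          rw [show (gf x.1)⁻¹ * gf r₀ * (r₀ : H) * ((gf x.1)⁻¹ * gf r₀)⁻¹ =
            (gf x.1)⁻¹ * (gf r₀ * (r₀ : H) * (gf r₀)⁻¹) * gf x.1 by group, ← e']
          group⟩) with e'' | e''
        · exact Or.inl e''
        · exact Or.inr e''
      · rcases hfus ((r₀ : H)⁻¹) x.1 (inv_mem r₀.2.1) x.1.2.1 (inv_ne_one.2 r₀.2.2)
          (isConj_iff.2 ⟨(gf x.1)⁻¹ * gf r₀, by
          rw [show (gf x.1)⁻¹ * gf r₀ * (r₀ : H)⁻¹ * ((gf x.1)⁻¹ * gf r₀)⁻¹ =
            (gf x.1)⁻¹ * (gf r₀ * (r₀ : H) * (gf r₀)⁻¹)⁻¹ * gf x.1 by group, ← e']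
          group⟩) with e'' | e''
        · exact Or.inr e''
        · rw [inv_inv] at e''; exact Or.inl e''
    have e' : (a.1 : H) = r₀ ↔ (b.1 : H) = r₀ := decide_eq_decide.1 e
    refine Subtype.ext (Subtype.ext ?_)
    rcases key a with ha | ha <;> rcases key b with hb | hb
    · rw [ha, hb]
    · rw [ha, e'.1 ha]
    · rw [e'.2 hb, hb]
    · rw [ha, hb]
  -- each class meets the Sylow subgroup in two elements
  have hge : ∀ B, 2 ≤ Nat.card {r // f r = B} := by
    intro B
    obtain ⟨hB, hB3, -⟩ := hs6 B.1 B.2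
    obtain ⟨b, hb⟩ := exists_prime_orderOf_dvd_card' 3 (show 3 ∣ Nat.card ↥B.1 by rw [hB3])
    rw [← Subgroup.orderOf_coe] at hb
    obtain ⟨Q, hQ⟩ := h.exists_sylow_three hb
    obtain ⟨k, hk⟩ := MulAction.exists_smul_eq H Q R
    have hbR : k * (b : H) * k⁻¹ ∈ (R : Subgroup H) := by
      rw [← hk, Sylow.coe_subgroup_smul]
      simpa using Subgroup.smul_mem_pointwise_smul _ (MulAut.conj k) _ hQ
    have hb1 : k * (b : H) * k⁻¹ ≠ 1 := fun e => by
      have : (b : H) = 1 := by simpa using e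
      rw [this, orderOf_one] at hb; omega
    have hin : ∀ r : {r : H // r ∈ (R : Subgroup H) ∧ r ≠ 1}, k⁻¹ * (r : H) * k ∈ B.1 → f r = B := by
      intro r hrB
      have hA := (hs6 (f r).1 (f r).2).1
      have hC : IsBlock blk (B.1.map (MulAut.conj (gf r * k)).toMonoidHom) := hB.conj h.blocks _
      have := hC.unique h.blocks hA (y := gf r * (r : H) * (gf r)⁻¹) (fun e => r.2.2 (by simpa using e))
        ⟨_, hrB, by show gf r * k * (k⁻¹ * (r : H) * k) * (gf r * k)⁻¹ = _; group⟩ (hf r)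
      exact (Subtype.ext (hinj B.1 B.2 (f r).1 (f r).2 _ this)).symm
    let ψ : Bool → {r // f r = B} := fun c => if c then
        ⟨⟨_, hbR, hb1⟩, hin _ (by rw [show k⁻¹ * (k * (b : H) * k⁻¹) * k = (b : H) by group]; exact b.2)⟩
      else ⟨⟨_, inv_mem hbR, inv_ne_one.2 hb1⟩, hin _ (by
        rw [show k⁻¹ * (k * (b : H) * k⁻¹)⁻¹ * k = (b : H)⁻¹ by group]; exact inv_mem b.2)⟩
    have hψ : Function.Injective ψ := by
      have hd : k * (b : H) * k⁻¹ ≠ (k * (b : H) * k⁻¹)⁻¹ := fun e => by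
        have h2 : (k * (b : H) * k⁻¹) ^ 2 = 1 := by rw [sq]; nth_rewrite 2 [e]; exact mul_inv_cancel _
        have := orderOf_dvd_of_pow_eq_one h2
        rw [← MulAut.conj_apply, MulEquiv.orderOf_eq, hb] at this
        omega
      intro a b' e
      cases a <;> cases b' <;> simp [ψ] at e ⊢
      · exact absurd e.symm (by simpa using hd)
      · exact absurd e (by simpa using hd)
    simpa using Nat.card_le_card_of_injective ψ hψ
  have hk : s6.card = 4 := by
    haveI := Fintype.ofFinite H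
    have h8' : Nat.card {r : H // r ∈ (R : Subgroup H) ∧ r ≠ 1} = 8 := by
      rw [Nat.card_eq_fintype_card, Fintype.card_subtype,
        show (Finset.univ.filter fun r : H => r ∈ (R : Subgroup H) ∧ r ≠ 1) =
          (Finset.univ.filter fun r : H => r ∈ (R : Subgroup H)).erase 1 by ext; simp [and_comm],
        Finset.card_erase_of_mem (by simp [one_mem]), ← Fintype.card_subtype, ← Nat.card_eq_fintype_card, h9]
    rw [← Nat.card_congr (Equiv.sigmaFiberEquiv f), Nat.card_sigma,
      Finset.sum_congr rfl (g := fun _ => 2) fun B _ => le_antisymm (hfib B) (hge B), Finset.sum_const,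
      Finset.card_univ, Fintype.card_coe, smul_eq_mul] at h8'
    omega
  rw [hk] at heq
  have hTQ : (20 : ℚ) ≤ T := by exact_mod_cast hT20
  have hR : (1 : ℚ) / T + ((2 * (T - 1) : ℕ) : ℚ) / (3 * T) = 2 / 3 + 1 / (3 * T) := by
    push_cast [Nat.cast_sub (show 1 ≤ T by omega)]
    field_simp
    ring
  rw [hR] at heq
  have h60 : (1 : ℚ) / (3 * T) ≤ 1 / 60 := by
    rw [div_le_div_iff₀ (by positivity) (by positivity)]; linarith
  have hg0 : (0 : ℚ) < 1 / Nat.card H := Num.inv_pos' Nat.card_pos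
  have hU0 : 0 ≤ U := by
    rcases hU with ⟨rfl, -⟩ | ⟨Pp, e, hd, rfl, -⟩
    · exact le_rfl
    · have h1 : 2 ≤ e := hd.two_le
      have : (0 : ℚ) ≤ (Pp : ℚ) - 1 := by
        have : 1 ≤ Pp := by obtain ⟨m, -, rfl⟩ := hd.prime_pow; exact Nat.one_le_pow _ _ h.prime.pos
        have : (1 : ℚ) ≤ Pp := by exact_mod_cast this
        linarith
      positivity
  push_cast at heq
  obtain ⟨hs2e, hs3e⟩ : s2 = ∅ ∧ s3 = ∅ := by
    have hn3 : (0 : ℚ) ≤ ∑ A ∈ s3, ((Nat.card ↥A : ℚ) - 1) / (3 * Nat.card ↥A) :=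
      Finset.sum_nonneg fun A hA => div_nonneg (by
        have : (1 : ℚ) ≤ Nat.card ↥A := by exact_mod_cast Nat.card_pos
        linarith) (by positivity)
    have hn2 : (0 : ℚ) ≤ ∑ A ∈ s2, ((Nat.card ↥A : ℚ) - 1) / (2 * Nat.card ↥A) :=
      Finset.sum_nonneg fun A hA => div_nonneg (by
        have : (1 : ℚ) ≤ Nat.card ↥A := by exact_mod_cast Nat.card_pos
        linarith) (by positivity)
    constructor
    · by_contra hne
      obtain ⟨A, hA⟩ := Finset.nonempty_of_ne_empty hne
      have h1 := Num.a_bound2 (show 0 < 3 by norm_num) (hs2 A hA).1.three_le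
      have h2 := Finset.single_le_sum (f := fun A : Subgroup H => ((Nat.card ↥A : ℚ) - 1) / (2 * Nat.card ↥A))
        (fun B hB => div_nonneg (by
          have : (1 : ℚ) ≤ Nat.card ↥B := by exact_mod_cast Nat.card_pos
          linarith) (by positivity)) hA
      norm_num at h1
      linarith
    · by_contra hne
      obtain ⟨A, hA⟩ := Finset.nonempty_of_ne_empty hne
      have h1 := Num.a_bound3 (show 0 < 7 by norm_num) (hs3 A hA).2.2.1
      have h2 := Finset.single_le_sum (f := fun A : Subgroup H => ((Nat.card ↥A : ℚ) - 1) / (3 * Nat.card ↥A))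
        (fun B hB => div_nonneg (by
          have : (1 : ℚ) ≤ Nat.card ↥B := by exact_mod_cast Nat.card_pos
          linarith) (by positivity)) hA
      norm_num at h1
      linarith
  rw [hs2e, hs3e, Finset.sum_empty, Finset.sum_empty, add_zero, add_zero] at heq
  rcases hU with ⟨rfl, -⟩ | ⟨Pp, e, hd, rfl, -⟩
  · exact Num.ab_zero hT20 hg (by linarith)
  · have hp : ∃ m, 1 ≤ m ∧ Pp = p ^ m := hd.prime_pow
    have hpred := h.uData_pred hd.dvd_pred hp
    obtain ⟨m, -, hPm⟩ := hp
    refine Num.ab_U (p := p) (P := Pp) (e := e) hT20 hg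
      ⟨h.prime, hd.two_le, hd.dvd_pred, hPm ▸ h.p_odd.pow, hpred.1, hpred.2, m, hPm⟩ (fun he => ?_)
      (by rw [Num.uTerm]; linarith)
    subst he
    rcases hd.source with ⟨x, -, hx⟩ | ⟨ho, -⟩
    · exact hno4 x hx
    · revert ho; decide

end Cfg

end CfsgLib.Geo.D3
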