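/-
The case analysis over the centraliser of an involution.
-/
import Cfsg.Agent.Geo.DimThree.NoTv.CaseAb
import Cfsg.Agent.Geo.DimThree.NoTv.Numeric
import Cfsg.Agent.Geo.DimThree.NoTv.NumericSmall

set_option autoImplicit false
set_option linter.style.haveILetI false
set_option linter.unusedSectionVars false

namespace CfsgLib.Geo.D3

variable {H : Type*} [Group H] [Finite H] {p : ℕ} {blk : H → Subgroup H} {Uni : H → Prop} {Spec : Prop}

section sums

variable (s : Finset (Subgroup H))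

lemma sum2_nonneg : (0 : ℚ) ≤ ∑ A ∈ s, ((Nat.card ↥A : ℚ) - 1) / (2 * Nat.card ↥A) :=
  Finset.sum_nonneg fun A _ => div_nonneg (by
    have : (1 : ℚ) ≤ Nat.card ↥A := by exact_mod_cast Nat.card_pos
    linarith) (by positivity)

lemma sum3_nonneg : (0 : ℚ) ≤ ∑ A ∈ s, ((Nat.card ↥A : ℚ) - 1) / (3 * Nat.card ↥A) :=
  Finset.sum_nonneg fun A _ => div_nonneg (by
    have : (1 : ℚ) ≤ Nat.card ↥A := by exact_mod_cast Nat.card_pos
    linarith) (by positivity)

lemma le_sum2 {n : ℕ} (hn : 0 < n) (h : ∀ A ∈ s, n ≤ Nat.card ↥A) :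
    (s.card : ℚ) * (((n : ℚ) - 1) / (2 * n)) ≤ ∑ A ∈ s, ((Nat.card ↥A : ℚ) - 1) / (2 * Nat.card ↥A) := by
  rw [← nsmul_eq_mul]
  exact Finset.card_nsmul_le_sum _ _ _ fun A hA => Num.a_bound2 hn (h A hA)

lemma le_sum3 {n : ℕ} (hn : 0 < n) (h : ∀ A ∈ s, n ≤ Nat.card ↥A) :
    (s.card : ℚ) * (((n : ℚ) - 1) / (3 * n)) ≤ ∑ A ∈ s, ((Nat.card ↥A : ℚ) - 1) / (3 * Nat.card ↥A) := by
  rw [← nsmul_eq_mul]
  exact Finset.card_nsmul_le_sum _ _ _ fun A hA => Num.a_bound3 hn (h A hA)

lemma card_le_one_of_rat {n : ℕ} {b c : ℚ} (hb : 0 < b) (h : (n : ℚ) * b ≤ c) (hc : c < 2 * b) : n ≤ 1 := by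
  by_contra hn
  push Not at hn
  have : (2 : ℚ) ≤ n := by exact_mod_cast hn
  nlinarith

lemma eq_empty_of_rat {s : Finset (Subgroup H)} {b c : ℚ} (hb : 0 < b) (h : (s.card : ℚ) * b ≤ c) (hc : c < b) :
    s = ∅ := by
  by_contra hs
  have : (1 : ℚ) ≤ s.card := by exact_mod_cast Finset.card_pos.2 (Finset.nonempty_of_ne_empty hs)
  nlinarith

end sums

namespace Cfg

variable (h : Cfg H p blk Uni Spec)
include h

lemma uNum {t : H} {P e : ℕ} {s2 s3 s6 : Finset (Subgroup H)} (hd : UData H t p P e s2 s3 s6) :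
    Num.UNum p P e := by
  obtain ⟨m, -, hPm⟩ := hd.prime_pow
  have hpred := h.uData_pred hd.dvd_pred hd.prime_pow
  exact ⟨h.prime, hd.two_le, hd.dvd_pred, hPm ▸ h.p_odd.pow, hpred.1, hpred.2, m, hPm⟩

lemma uTerm_nonneg {t : H} {P e : ℕ} {s2 s3 s6 : Finset (Subgroup H)} (hd : UData H t p P e s2 s3 s6) :
    (0 : ℚ) ≤ Num.uTerm P e := by
  have hu := h.uNum hd
  have := Num.le_uTerm (show 0 < e by have := hu.two_le; omega) hu.succ_le
  have : (0 : ℚ) ≤ 1 / ((e : ℚ) + 1) := by positivity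
  linarith

theorem not_cent48 {t : H} (ht : orderOf t = 2) (hC : Cent48 t) : False := by
  obtain ⟨hc, hsum, -, hmeet⟩ := hC
  have hS : ¬ Spec := h.not_spec_of_meet ht (by rw [hc]; norm_num) (by rw [hc]; norm_num)
    fun u hu => by rw [hmeet u hu]; norm_num
  have hg := h.three_lt_involutions ht
  obtain ⟨s2, s3, s6, U, heq, hs2, hs3, hs6, -, -, hU⟩ := h.decomp ht
  rw [hsum, hc] at heq
  have h6e : s6 = ∅ := Finset.eq_empty_of_forall_notMem fun A hA =>
    hS (h.spec_of_six (hs6 A hA).1 (hs6 A hA).2.1 (hs6 A hA).2.2)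
  rw [h6e] at heq
  have hg0 : (0 : ℚ) < 1 / Nat.card H := Num.inv_pos' Nat.card_pos
  have hU0 : 0 ≤ U := by
    rcases hU with ⟨rfl, -⟩ | ⟨P, e, hd, rfl, -⟩
    · exact le_rfl
    · exact h.uTerm_nonneg hd
  push_cast at heq
  simp only [Finset.card_empty, Nat.cast_zero] at heq
  have h2e : s2 = ∅ := by
    refine eq_empty_of_rat (b := (1 : ℚ) / 3) (c := 13 / 48) (by norm_num) ?_ (by norm_num)
    have hl := le_sum2 s2 (show 0 < 3 by norm_num) fun A hA => (hs2 A hA).1.three_le
    have := sum3_nonneg s3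
    norm_num only [Nat.cast_ofNat] at hl
    linarith
  have h3e : s3 = ∅ := by
    refine eq_empty_of_rat (b := (2 : ℚ) / 7) (c := 13 / 48) (by norm_num) ?_ (by norm_num)
    have hl := le_sum3 s3 (show 0 < 7 by norm_num) fun A hA => (hs3 A hA).2.2.1
    have := sum2_nonneg s2
    norm_num only [Nat.cast_ofNat] at hl
    linarith
  simp only [h2e, h3e, Finset.sum_empty] at heq
  rcases hU with ⟨rfl, -⟩ | ⟨P, e, hd, rfl, -⟩
  · have hg1 := Num.inv_lt (show 0 < 144 by norm_num) (show 144 < Nat.card H by omega)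
    push_cast at hg1
    linarith
  · exact Num.c48 (show 144 < Nat.card H by omega) (h.uNum hd) (by rw [Num.uTerm]; linarith)

theorem not_cent96 {t : H} (ht : orderOf t = 2) (hC : Cent96 t) : False := by
  obtain ⟨hc, hsum, hexp, hmeet⟩ := hC
  have hS : ¬ Spec := h.not_spec_of_meet ht (by rw [hc]; norm_num) (by rw [hc]; norm_num)
    fun u hu => by rw [hmeet u hu]; norm_num
  have hg := h.three_lt_involutions ht
  obtain ⟨s2, s3, s6, U, heq, hs2, hs3, hs6, -, -, hU⟩ := h.decomp ht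
  rw [hsum, hc] at heq
  have h6e : s6 = ∅ := Finset.eq_empty_of_forall_notMem fun A hA =>
    hS (h.spec_of_six (hs6 A hA).1 (hs6 A hA).2.1 (hs6 A hA).2.2)
  rw [h6e] at heq
  have hg0 : (0 : ℚ) < 1 / Nat.card H := Num.inv_pos' Nat.card_pos
  have hU0 : 0 ≤ U := by
    rcases hU with ⟨rfl, -⟩ | ⟨P, e, hd, rfl, -⟩
    · exact le_rfl
    · exact h.uTerm_nonneg hd
  push_cast at heq
  simp only [Finset.card_empty, Nat.cast_zero] at heq
  have h2e : s2 = ∅ := by
    refine eq_empty_of_rat (b := (1 : ℚ) / 3) (c := 31 / 96) (by norm_num) ?_ (by norm_num)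
    have hl := le_sum2 s2 (show 0 < 3 by norm_num) fun A hA => (hs2 A hA).1.three_le
    have := sum3_nonneg s3
    norm_num only [Nat.cast_ofNat] at hl
    linarith
  have h3e : s3.card ≤ 1 := by
    refine card_le_one_of_rat (b := (2 : ℚ) / 7) (c := 31 / 96) (by norm_num) ?_ (by norm_num)
    have hl := le_sum3 s3 (show 0 < 7 by norm_num) fun A hA => (hs3 A hA).2.2.1
    have := sum2_nonneg s2
    norm_num only [Nat.cast_ofNat] at hl
    linarith
  simp only [h2e, Finset.sum_empty] at heq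
  rcases Nat.eq_zero_or_pos s3.card with h3z | h3p
  · rw [Finset.card_eq_zero] at h3z
    simp only [h3z, Finset.sum_empty] at heq
    rcases hU with ⟨rfl, -⟩ | ⟨P, e, hd, rfl, u, hu, hPu, hue⟩
    · have hg1 := Num.inv_lt (show 0 < 288 by norm_num) (show 288 < Nat.card H by omega)
      push_cast at hg1
      linarith
    · obtain ⟨hgN, he, hP⟩ := Num.c96_U (show 288 < Nat.card H by omega) (h.uNum hd)
        (by rw [Num.uTerm]; linarith)
      obtain ⟨hu1, huo, hblk⟩ := h.uni_odd u hu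
      exact h.no_2976 hS ⟨u, hu1, huo, hblk⟩ (hPu.trans hP) (hue.trans he) hgN ht (by rw [hc]; norm_num)
  · obtain ⟨A, rfl⟩ := Finset.card_eq_one.1 (show s3.card = 1 by omega)
    rw [Finset.sum_singleton] at heq
    obtain ⟨hAd, hA3, hA7, hAb, hAw⟩ := hs3 A (Finset.mem_singleton_self A)
    rcases hU with ⟨rfl, -⟩ | ⟨P, e, hd, rfl, -⟩
    · obtain ⟨hgN, ha⟩ := Num.c96_a (show 288 < Nat.card H by omega) hA7 hAd.odd hA3 (by linarith)
      exact h.no_2976 hS hAb ha hAw hgN ht (by rw [hc]; norm_num)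
    · refine Num.c96_aU (show 0 < Nat.card H by omega) hA7 (h.uNum hd) ?_ (by rw [Num.uTerm]; linarith)
      rcases hd.source with ⟨x, hx, rfl⟩ | ⟨-, ⟨B, hB, -⟩ | ⟨B, hB, hBd⟩ | ⟨-, hne⟩⟩
      · left
        rcases hexp x hx with hh | hh
        · exact (Nat.le_of_dvd (by norm_num) hh).trans (by norm_num)
        · exact Nat.le_of_dvd (by norm_num) hh
      · rw [h2e] at hB; simp at hB
      · right; rwa [Finset.mem_singleton.1 hB] at hBd
      · rw [h6e] at hne; simp at hne

theorem of_cent24 {t : H} (ht : orderOf t = 2) (hC : Cent24 t) : Concl H p Uni := by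
  obtain ⟨hc, hsum, hexp, ⟨u₁, hu₁, n, hn12, hnt, hnu⟩, hq⟩ := hC
  have hS : Spec := h.spec_of_cycle ht hu₁ hn12 hnt hnu
  have hg := h.three_lt_involutions ht
  obtain ⟨s2, s3, s6, U, heq, hs2, hs3, hs6, -, hcov, hU⟩ := h.decomp ht
  rw [hsum, hc] at heq
  have hk : 1 ≤ s6.card := by
    obtain ⟨x, hx, hxo⟩ := h.exists_odd_three hS ht hc hq
    obtain ⟨hA, -, hA3, hA6, hAu⟩ := h.block_three hS hx hxo
    obtain ⟨B, hB, -⟩ := hcov _ hA hA3 hA6 hAu
    exact Finset.card_pos.2 ⟨B, hB⟩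
  have hg0 : (0 : ℚ) < 1 / Nat.card H := Num.inv_pos' Nat.card_pos
  have hU0 : 0 ≤ U := by
    rcases hU with ⟨rfl, -⟩ | ⟨P, e, hd, rfl, -⟩
    · exact le_rfl
    · exact h.uTerm_nonneg hd
  push_cast at heq
  have hkQ : (1 : ℚ) / 9 ≤ (s6.card : ℚ) / 9 := by
    have : (1 : ℚ) ≤ s6.card := by exact_mod_cast hk
    linarith
  have hn2 := sum2_nonneg s2
  have hn3 := sum3_nonneg s3
  have h43 : (1 : ℚ) / 24 + 40 / (3 * 24) = 43 / 72 := by norm_num
  rw [h43] at heq
  have ha5 : ∀ A ∈ s2, 5 ≤ Nat.card ↥A := fun A hA => by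
    obtain ⟨hAd, -⟩ := hs2 A hA
    have h1 := hAd.three_le
    obtain ⟨o, ho⟩ := hAd.odd
    by_contra hlt
    have : Nat.card ↥A = 3 := by omega
    have h2 := hAd.coprime
    rw [this, hc] at h2
    norm_num at h2
  have hl2 := le_sum2 s2 (show 0 < 5 by norm_num) ha5
  have hl3 := le_sum3 s3 (show 0 < 7 by norm_num) fun A hA => (hs3 A hA).2.2.1
  norm_num at hl2 hl3
  rcases Nat.eq_zero_or_pos s2.card with h2z | h2p
  · rw [Finset.card_eq_zero] at h2z
    simp only [h2z, Finset.sum_empty] at heq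
    rcases Nat.eq_zero_or_pos s3.card with h3z | h3p
    · rw [Finset.card_eq_zero] at h3z
      simp only [h3z, Finset.sum_empty] at heq
      have hk5 : s6.card ≤ 5 := by
        by_contra hlt
        push Not at hlt
        have : (6 : ℚ) ≤ s6.card := by exact_mod_cast hlt
        linarith
      rcases hU with ⟨rfl, -⟩ | ⟨P, e, hd, rfl, -⟩
      · exact (Num.c24_zero (show 72 < Nat.card H by omega) hk hk5 (by linarith)).elim
      · refine (Num.c24_U (show 72 < Nat.card H by omega) hk hk5 (h.uNum hd) ?_ (hc ▸ hd.coprime)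
          (by rw [Num.uTerm]; linarith)).elim
        rcases hd.source with ⟨x, hx, rfl⟩ | ⟨-, ⟨B, hB, -⟩ | ⟨B, hB, -⟩ | ⟨he3, -⟩⟩
        · have h2 := hd.two_le
          rcases hexp x hx with hh | hh <;>
            · have hle := Nat.le_of_dvd (by norm_num) hh
              unfold Num.Small
              interval_cases orderOf x <;> omega
        · rw [h2z] at hB; simp at hB
        · rw [h3z] at hB; simp at hB
        · exact Or.inr (Or.inl he3)
    · have h3one : s3.card ≤ 1 := card_le_one_of_rat (b := (2 : ℚ) / 7) (c := 43 / 72 - 1 / 9) (by norm_num)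
        (by linarith) (by norm_num)
      obtain ⟨A, rfl⟩ := Finset.card_eq_one.1 (show s3.card = 1 by omega)
      rw [Finset.sum_singleton] at heq
      obtain ⟨hAd, hA3, hA7, hAb, hAw⟩ := hs3 A (Finset.mem_singleton_self A)
      have h27 := Num.a_bound3 (show 0 < 7 by norm_num) hA7
      norm_num at h27
      have hk2 : s6.card ≤ 2 := by
        by_contra hlt
        push Not at hlt
        have : (3 : ℚ) ≤ s6.card := by exact_mod_cast hlt
        linarith
      rcases hU with ⟨rfl, -⟩ | ⟨P, e, hd, rfl, -⟩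
      · exact (Num.c24_three_a (show 72 < Nat.card H by omega) hA7 hk hk2 (by linarith)).elim
      · have hcopA : Nat.Coprime P (Nat.card ↥A) := hd.coprime_block A (by simp)
        obtain ⟨hgN, hP5, -⟩ := Num.c24_three_aU (show 72 < Nat.card H by omega) hA7 hAd.odd hA3 (hc ▸ hAd.coprime)
          hk hk2 (h.uNum hd) hcopA (hc ▸ hd.coprime)
          (Nat.le_of_dvd Nat.card_pos (hcopA.symm.mul_dvd_of_dvd_of_dvd hAd.dvd_card hd.dvd_card))
          (e := e) (by
            rcases hd.source with ⟨x, hx, rfl⟩ | ⟨ho, ⟨B, hB, -⟩ | ⟨B, hB, hBd⟩ | ⟨he3, -⟩⟩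
            · left
              have h2 := hd.two_le
              rcases hexp x hx with hh | hh <;>
                · have hle := Nat.le_of_dvd (by norm_num) hh
                  unfold Num.Small
                  interval_cases orderOf x <;> omega
            · rw [h2z] at hB; simp at hB
            · right; rw [Finset.mem_singleton.1 hB] at hBd; exact ⟨ho, hBd⟩
            · left; exact Or.inr (Or.inl he3))
          (by rw [Num.uTerm]; linarith)
        refine Or.inr (Or.inr (Or.inr (Or.inr ⟨hgN, ?_⟩)))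
        obtain ⟨m, hm, hPm⟩ := hd.prime_pow
        have : p ∣ 5 := hP5 ▸ hPm ▸ dvd_pow_self p (by omega)
        exact (Nat.prime_dvd_prime_iff_eq h.prime Nat.prime_five).1 this
  · have h2one : s2.card ≤ 1 := card_le_one_of_rat (b := (2 : ℚ) / 5) (c := 43 / 72 - 1 / 9) (by norm_num)
      (by linarith) (by norm_num)
    have h3z : s3 = ∅ := by
      refine eq_empty_of_rat (b := (2 : ℚ) / 7) (c := 43 / 72 - 1 / 9 - 2 / 5) (by norm_num) ?_ (by norm_num)
      have : (1 : ℚ) ≤ s2.card := by exact_mod_cast h2p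
      linarith
    obtain ⟨A, rfl⟩ := Finset.card_eq_one.1 (show s2.card = 1 by omega)
    rw [Finset.sum_singleton, h3z, Finset.sum_empty] at heq
    obtain ⟨hAd, hAb, hAw⟩ := hs2 A (Finset.mem_singleton_self A)
    have hA5 := ha5 A (Finset.mem_singleton_self A)
    rcases hU with ⟨rfl, -⟩ | ⟨P, e, hd, rfl, -⟩
    · obtain ⟨hgN, ha⟩ := Num.c24_two_a (show 72 < Nat.card H by omega) hA5 (hc ▸ hAd.coprime) hk (by linarith)
      exact (h.no_2520 hAb ha hAw hgN ht hc).elim
    · refine (Num.c24_two_aU (show 0 < Nat.card H by omega) hA5 hk (h.uNum hd) ?_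
        (by rw [Num.uTerm]; linarith)).elim
      rcases hd.source with ⟨x, hx, rfl⟩ | ⟨ho, ⟨B, hB, hBd⟩ | ⟨B, hB, -⟩ | ⟨he3, -⟩⟩
      · left
        rcases hexp x hx with hh | hh
        · exact (Nat.le_of_dvd (by norm_num) hh).trans (by norm_num)
        · exact Nat.le_of_dvd (by norm_num) hh
      · right; rw [Finset.mem_singleton.1 hB] at hBd; exact ⟨ho, hBd⟩
      · rw [h3z] at hB; simp at hB
      · left; omega

theorem not_centBig {t : H} (ht : orderOf t = 2) (hC : CentBig t) : False := by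
  obtain ⟨T, hT, hc, hsum, hexp, -⟩ := hC
  have hg := h.three_lt_involutions ht
  obtain ⟨s2, s3, s6, U, heq, hs2, hs3, hs6, -, -, hU⟩ := h.decomp ht
  rw [hsum, hc] at heq
  have hTQ : (16 : ℚ) ≤ T := by exact_mod_cast hT
  have hR : (1 : ℚ) / ((2 * T : ℕ) : ℚ) + ((2 * (T - 1) : ℕ) : ℚ) / (3 * ((2 * T : ℕ) : ℚ)) =
      1 / 3 + 1 / (6 * T) := by
    push_cast [Nat.cast_sub (show 1 ≤ T by omega)]
    field_simp
    ring
  rw [hR] at heq
  have h96 : (1 : ℚ) / (6 * T) ≤ 1 / 96 := by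
    rw [div_le_div_iff₀ (by positivity) (by positivity)]; linarith
  have hg6 : 6 * T < Nat.card H := by omega
  have hg0 : (0 : ℚ) < 1 / Nat.card H := Num.inv_pos' Nat.card_pos
  have hg1 := Num.inv_lt (show 0 < 6 * T by omega) hg6
  push_cast at hg1
  have hU0 : 0 ≤ U := by
    rcases hU with ⟨rfl, -⟩ | ⟨P, e, hd, rfl, -⟩
    · exact le_rfl
    · exact h.uTerm_nonneg hd
  have hn2 := sum2_nonneg s2
  have hn3 := sum3_nonneg s3
  have hk0 : (0 : ℚ) ≤ (s6.card : ℚ) / 9 := by positivity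
  have hl2 := le_sum2 s2 (show 0 < 3 by norm_num) fun A hA => (hs2 A hA).1.three_le
  have hl3 := le_sum3 s3 (show 0 < 7 by norm_num) fun A hA => (hs3 A hA).2.2.1
  norm_num at hl2 hl3
  rcases Nat.eq_zero_or_pos s2.card with h2z | h2p
  · rw [Finset.card_eq_zero] at h2z
    rw [h2z, Finset.sum_empty, add_zero] at heq
    rcases Nat.eq_zero_or_pos s3.card with h3z | h3p
    · rw [Finset.card_eq_zero] at h3z
      rw [h3z, Finset.sum_empty, add_zero] at heq
      have hk3 : s6.card ≤ 3 := by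
        by_contra hlt
        push Not at hlt
        have : (4 : ℚ) ≤ s6.card := by exact_mod_cast hlt
        linarith
      rcases hU with ⟨rfl, -⟩ | ⟨P, e, hd, rfl, -⟩
      · rcases Nat.lt_or_ge s6.card 3 with hk2 | hk2
        · have : (s6.card : ℚ) ≤ 2 := by exact_mod_cast (show s6.card ≤ 2 by omega)
          linarith
        · have : (s6.card : ℚ) = 3 := by exact_mod_cast (show s6.card = 3 by omega)
          linarith
      · refine Num.big_U hT hg6 hk3 (h.uNum hd) ?_ (by rw [Num.uTerm]; linarith)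
        rcases hd.source with ⟨x, hx, rfl⟩ | ⟨-, ⟨B, hB, -⟩ | ⟨B, hB, -⟩ | ⟨he3, hne⟩⟩
        · exact Or.inl (hexp x hx)
        · rw [h2z] at hB; simp at hB
        · rw [h3z] at hB; simp at hB
        · exact Or.inr ⟨he3, Finset.card_pos.2 hne⟩
    · have h3one : s3.card ≤ 1 := card_le_one_of_rat (b := (2 : ℚ) / 7) (c := 1 / 3 + 1 / 96) (by norm_num)
        (by linarith) (by norm_num)
      obtain ⟨A, rfl⟩ := Finset.card_eq_one.1 (show s3.card = 1 by omega)
      rw [Finset.sum_singleton] at heq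
      obtain ⟨hAd, hA3, hA7, -, -⟩ := hs3 A (Finset.mem_singleton_self A)
      have h27 := Num.a_bound3 (show 0 < 7 by norm_num) hA7
      norm_num at h27
      have hkz : s6 = ∅ := eq_empty_of_rat (b := (1 : ℚ) / 9) (c := 1 / 3 + 1 / 96 - 2 / 7) (by norm_num)
        (by linarith) (by norm_num)
      simp only [hkz, Finset.card_empty, Nat.cast_zero] at heq
      rcases hU with ⟨rfl, -⟩ | ⟨P, e, hd, rfl, -⟩
      · exact Num.big_a_only (g := Nat.card H) hT hA7 hAd.odd
          (Nat.Coprime.coprime_dvd_right (dvd_mul_left T 2) (hc ▸ hAd.coprime)) Nat.card_pos (by linarith)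
      · have hcopA : Nat.Coprime P (Nat.card ↥A) := hd.coprime_block A (by simp)
        refine Num.big_a_U (g := Nat.card H) (e := e) (P := P) (p := p) hT hA7 hA3 (h.uNum hd) Nat.card_pos ?_ ?_ (by rw [Num.uTerm]; linarith)
        · rcases hd.source with ⟨x, hx, rfl⟩ | ⟨ho, ⟨B, hB, -⟩ | ⟨B, hB, hBd⟩ | ⟨-, hne⟩⟩
          · exact Or.inl (hexp x hx)
          · rw [h2z] at hB; simp at hB
          · right; rw [Finset.mem_singleton.1 hB] at hBd; exact ⟨ho, hBd⟩
          · rw [hkz] at hne; simp at hne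
        · refine Nat.Coprime.mul_dvd_of_dvd_of_dvd ?_ ?_ hd.dvd_card
          · exact Nat.Coprime.mul_left (hc ▸ hd.coprime.symm) hcopA.symm
          · exact Nat.Coprime.mul_dvd_of_dvd_of_dvd (hc ▸ hAd.coprime.symm)
              (hc ▸ Subgroup.card_subgroup_dvd_card (cen t)) hAd.dvd_card
  · have h2one : s2.card ≤ 1 := card_le_one_of_rat (b := (1 : ℚ) / 3) (c := 1 / 3 + 1 / 96) (by norm_num)
      (by linarith) (by norm_num)
    obtain ⟨A, rfl⟩ := Finset.card_eq_one.1 (show s2.card = 1 by omega)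
    rw [Finset.sum_singleton] at heq
    obtain ⟨hAd, -, -⟩ := hs2 A (Finset.mem_singleton_self A)
    have ha3 : Nat.card ↥A = 3 := by
      by_contra hne
      obtain ⟨o, ho⟩ := hAd.odd
      have := hAd.three_le
      have h5 := Num.a_bound2 (show 0 < 5 by norm_num) (show 5 ≤ Nat.card ↥A by omega)
      norm_num at h5
      linarith
    rw [ha3] at heq
    rw [show (((3 : ℕ) : ℚ) - 1) / (2 * ((3 : ℕ) : ℚ)) = 1 / 3 by norm_num] at heq
    have hkz : s6 = ∅ := eq_empty_of_rat (b := (1 : ℚ) / 9) (c := 1 / 96) (by norm_num)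
      (by linarith) (by norm_num)
    have h3z : s3 = ∅ := eq_empty_of_rat (b := (2 : ℚ) / 7) (c := 1 / 96) (by norm_num)
      (by linarith) (by norm_num)
    simp only [hkz, h3z, Finset.card_empty, Nat.cast_zero, Finset.sum_empty] at heq
    rcases hU with ⟨rfl, -⟩ | ⟨P, e, hd, rfl, -⟩
    · linarith
    · refine Num.big_two_three (p := p) (P := P) (e := e) hT hg6 (h.uNum hd) ?_ le_rfl
        (by rw [Num.uTerm]; linarith)
      rcases hd.source with ⟨x, hx, rfl⟩ | ⟨-, ⟨B, hB, hBd⟩ | ⟨B, hB, -⟩ | ⟨he3, -⟩⟩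
      · exact Or.inl (hexp x hx)
      · right
        rw [Finset.mem_singleton.1 hB, ha3] at hBd
        rcases (Nat.dvd_prime Nat.prime_three).1 hBd with hh | hh
        · have := hd.two_le; omega
        · exact hh
      · rw [h3z] at hB; simp at hB
      · exact Or.inr he3

/-- The possible configurations. -/
theorem classify {t : H} (ht : orderOf t = 2) : Concl H p Uni := by
  rcases h.cases t ht with hC | hC | hC | hC | hC | hC
  · exact h.of_centDih ht hC
  · exact (h.not_centAb ht hC).elim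
  · exact (h.not_centBig ht hC).elim
  · exact (h.not_cent48 ht hC).elim
  · exact (h.not_cent96 ht hC).elim
  · exact h.of_cent24 ht hC

end Cfg

end CfsgLib.Geo.D3
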