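/-
The types of elements of GL of dimension three with split characteristic polynomial: one eigenvalue, or
diagonalisable, or a power is a transvection.
-/
import Cfsg.Agent.Geo.DimThree.NoTv.Defs

set_option autoImplicit false

namespace CfsgLib.Geo.D3

open Matrix Polynomial Cfsg Cfsg.Geo CfsgLib.Geo

variable {F : Type*} [Field F]

local notation "Mat" => Matrix (Fin 3) (Fin 3) F

/-- Three independent eigenvectors diagonalise. -/
lemma diag3_of_eigen {g : GL (Fin 3) F} {v : Fin 3 → Fin 3 → F} (hv : LinearIndependent F v) (d : Fin 3 → F)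
    (h : ∀ i, (g : Mat) *ᵥ v i = d i • v i) : Diag3 g d := by
  have hu : IsUnit (Matrix.of v) := linearIndependent_rows_iff_isUnit.1 hv
  set P : GL (Fin 3) F := ((isUnit_transpose (Matrix.of v)).2 hu).unit with hP
  have hPc : ∀ i, (P : Mat) *ᵥ Pi.single i 1 = v i := fun i => by
    rw [hP, IsUnit.unit_spec]
    ext j
    simp [Matrix.mulVec_single]
  refine ⟨P⁻¹, Matrix.ext_iff_mulVec.2 ?_⟩
  have hlin : (((P⁻¹ * g * P⁻¹⁻¹ : GL (Fin 3) F)) : Mat).toLin' = (Matrix.diagonal d).toLin' := by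
    refine (Pi.basisFun F (Fin 3)).ext fun i => ?_
    simp only [Pi.basisFun_apply, Matrix.toLin'_apply]
    rw [inv_inv, mul_mulVec, mul_mulVec, hPc, h, Matrix.mulVec_smul, ← hPc, inv_mulVec_mulVec]
    ext j
    rcases eq_or_ne j i with rfl | hji
    · simp [Matrix.mulVec_single]
    · simp [Matrix.mulVec_single, hji]
  intro x
  have := LinearMap.congr_fun hlin x
  simpa only [Matrix.toLin'_apply] using this

/-- Permuting the entries of a diagonal form. -/
lemma Diag3.perm {g : GL (Fin 3) F} {d : Fin 3 → F} (h : Diag3 g d) (π : Equiv.Perm (Fin 3)) :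
    Diag3 g (d ∘ π) := by
  obtain ⟨B, hB⟩ := h
  refine diag3_of_eigen (v := fun i => ((B⁻¹ : GL (Fin 3) F) : Mat) *ᵥ Pi.single (π i) 1) ?_ _ fun i => ?_
  · have h0 : LinearIndependent F fun i : Fin 3 => (Pi.single (π i) (1 : F) : Fin 3 → F) := by
      simpa [Function.comp_def, Pi.basisFun_apply] using
        (Pi.basisFun F (Fin 3)).linearIndependent.comp π π.injective
    simpa [Function.comp_def] using h0.map' (glEquiv B⁻¹).toLinearMap (LinearEquiv.ker _)
  · have hg : g = B⁻¹ * (B * g * B⁻¹) * B := by group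
    conv_lhs => rw [hg]
    rw [mul_mulVec, mul_mulVec, mulVec_inv_mulVec, hB]
    rw [show Matrix.diagonal d *ᵥ Pi.single (π i) 1 = d (π i) • (Pi.single (π i) 1 : Fin 3 → F) by
      ext j; rcases eq_or_ne j (π i) with rfl | hne <;> simp [Matrix.mulVec_single, *],
      Matrix.mulVec_smul, Function.comp_apply]

lemma Diag3.det {g : GL (Fin 3) F} {d : Fin 3 → F} (h : Diag3 g d) : (g : Mat).det = d 0 * d 1 * d 2 := by
  obtain ⟨B, hB⟩ := h
  have := congrArg Matrix.det hB
  rwa [Units.val_mul, Units.val_mul, Matrix.det_units_conj, Matrix.det_diagonal, Fin.prod_univ_three] at this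

lemma Diag3.trace {g : GL (Fin 3) F} {d : Fin 3 → F} (h : Diag3 g d) : (g : Mat).trace = d 0 + d 1 + d 2 := by
  obtain ⟨B, hB⟩ := h
  have := congrArg Matrix.trace hB
  rwa [Units.val_mul, Units.val_mul, Matrix.trace_units_conj, Matrix.trace_diagonal, Fin.sum_univ_three] at this

/-- The eigenvalues of a split element. -/
lemma exists_three_roots {g : GL (Fin 3) F} (hs : (g : Mat).charpoly.Splits) :
    ∃ a b c : F, (g : Mat).charpoly = (X - C a) * (X - C b) * (X - C c) ∧
      ((g : Mat) - a • 1) * ((g : Mat) - b • 1) * ((g : Mat) - c • 1) = 0 := by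
  have hc : Multiset.card (g : Mat).charpoly.roots = 3 := by
    rw [← hs.natDegree_eq_card_roots, Matrix.charpoly_natDegree_eq_dim, Fintype.card_fin]
  obtain ⟨a, b, c, habc⟩ := Multiset.card_eq_three.1 hc
  have he : (g : Mat).charpoly = (X - C a) * (X - C b) * (X - C c) := by
    rw [hs.eq_prod_roots, (Matrix.charpoly_monic (g : Mat)).leadingCoeff, habc]
    simp [mul_assoc]
  refine ⟨a, b, c, he, ?_⟩
  have h := Matrix.aeval_self_charpoly (g : Mat)
  rw [he] at h
  simpa [Algebra.algebraMap_eq_smul_one] using h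

/-- Eigenvalues have eigenvectors. -/
lemma exists_eigvec {g : GL (Fin 3) F} {a : F} (h : (g : Mat).charpoly.eval a = 0) :
    ∃ v : Fin 3 → F, v ≠ 0 ∧ (g : Mat) *ᵥ v = a • v := by
  rw [Matrix.eval_charpoly] at h
  obtain ⟨v, hv, h0⟩ := Matrix.exists_mulVec_eq_zero_iff.2 h
  refine ⟨v, hv, ?_⟩
  rw [Matrix.sub_mulVec, sub_eq_zero, Matrix.scalar_apply, ← Matrix.smul_one_eq_diagonal,
    Matrix.smul_mulVec, Matrix.one_mulVec] at h0
  exact h0.symm

lemma ne_zero_of_eigvec {g : GL (Fin 3) F} {a : F} {v : Fin 3 → F} (hv : v ≠ 0) (h : (g : Mat) *ᵥ v = a • v) :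
    a ≠ 0 := fun ha => by
  rw [ha, zero_smul] at h
  have := congrArg (fun w => ((g⁻¹ : GL (Fin 3) F) : Mat) *ᵥ w) h
  simp only [inv_mulVec_mulVec, Matrix.mulVec_zero] at this
  exact hv this

/-- Two eigenvalues and squarefree minimal polynomial. -/
lemma isHom_of_quadratic {g : GL (Fin 3) F} {a b : F} (hab : a ≠ b)
    (h : ((g : Mat) - a • 1) * ((g : Mat) - b • 1) = 0) (hns : g ∉ scalars (Fin 3) F) : IsHom g := by
  set A : Submodule F (Fin 3 → F) := LinearMap.ker ((g : Mat) - a • 1).toLin'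
  set B : Submodule F (Fin 3 → F) := LinearMap.ker ((g : Mat) - b • 1).toLin'
  have hA : ∀ v, v ∈ A ↔ (g : Mat) *ᵥ v = a • v := fun v => by
    simp [A, Matrix.sub_mulVec, Matrix.smul_mulVec, sub_eq_zero]
  have hB : ∀ v, v ∈ B ↔ (g : Mat) *ᵥ v = b • v := fun v => by
    simp [B, Matrix.sub_mulVec, Matrix.smul_mulVec, sub_eq_zero]
  have hcomp : IsCompl A B := by
    constructor
    · rw [Submodule.disjoint_def]
      intro v hv hv'
      rw [hA] at hv; rw [hB, hv] at hv'
      by_contra h0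
      exact hab (smul_left_injective F h0 hv')
    · rw [codisjoint_iff, eq_top_iff]
      intro v _
      have h' : ((g : Mat) - b • 1) * ((g : Mat) - a • 1) = 0 := by
        rw [← h]; simp only [mul_sub, sub_mul, mul_smul_comm, smul_mul_assoc, one_mul, mul_one]
        rw [smul_sub, smul_sub, smul_comm a b]; abel
      have e1 : ((g : Mat) - b • 1) *ᵥ v ∈ A := LinearMap.mem_ker.2 (by
        rw [Matrix.toLin'_apply, Matrix.mulVec_mulVec, h, Matrix.zero_mulVec])
      have e2 : ((g : Mat) - a • 1) *ᵥ v ∈ B := LinearMap.mem_ker.2 (by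
        rw [Matrix.toLin'_apply, Matrix.mulVec_mulVec, h', Matrix.zero_mulVec])
      have hd : a - b ≠ 0 := sub_ne_zero.2 hab
      have hv : v = (a - b)⁻¹ • (((g : Mat) - b • 1) *ᵥ v) + (-(a - b)⁻¹) • (((g : Mat) - a • 1) *ᵥ v) := by
        rw [neg_smul, ← sub_eq_add_neg, ← smul_sub, Matrix.sub_mulVec, Matrix.sub_mulVec, Matrix.smul_mulVec,
          Matrix.smul_mulVec, Matrix.one_mulVec, sub_sub_sub_cancel_left, ← sub_smul, inv_smul_smul₀ hd]
      rw [hv]
      exact add_mem (Submodule.smul_mem _ _ (Submodule.mem_sup_left e1))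
        (Submodule.smul_mem _ _ (Submodule.mem_sup_right e2))
  have hsum : Module.finrank F A + Module.finrank F B = 3 := by
    rw [Submodule.finrank_add_eq_of_isCompl hcomp, Module.finrank_fin_fun]
  have hne : ∀ {x y : F} {S T : Submodule F (Fin 3 → F)}, IsCompl S T → (∀ v, v ∈ T ↔ (g : Mat) *ᵥ v = y • v) →
      (∀ v, v ∈ S ↔ (g : Mat) *ᵥ v = x • v) → Module.finrank F S ≠ 0 := by
    intro x y S T hc hT hS h0
    rw [Submodule.finrank_eq_zero] at h0
    have htop : T = ⊤ := eq_top_of_bot_isCompl (h0 ▸ hc)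
    apply hns
    rw [mem_scalars_iff]
    have hy : y ≠ 0 := ne_zero_of_eigvec (v := Pi.single 0 1) (by simp) ((hT _).1 (htop ▸ Submodule.mem_top))
    refine ⟨Units.mk0 y hy, Matrix.ext_iff_mulVec.2 fun v => ?_⟩
    rw [(hT v).1 (htop ▸ Submodule.mem_top), Units.val_mk0, Matrix.smul_mulVec, Matrix.one_mulVec]
  have hA0 := hne hcomp hB hA
  have hB0 := hne hcomp.symm hA hB
  have key : ∀ {x y : F} {S T : Submodule F (Fin 3 → F)}, x ≠ y → IsCompl S T → Module.finrank F S = 1 →
      Module.finrank F T = 2 → (∀ v, v ∈ T ↔ (g : Mat) *ᵥ v = y • v) →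
      (∀ v, v ∈ S ↔ (g : Mat) *ᵥ v = x • v) → IsHom g := by
    intro x y S T hxy hc h1 h2 hT hS
    have bS := Module.finBasisOfFinrankEq F S h1
    have bT := Module.finBasisOfFinrankEq F T h2
    let b := (bS.prod bT).map (Submodule.prodEquivOfIsCompl S T hc)
    let e : Fin 1 ⊕ Fin 2 ≃ Fin 3 := finSumFinEquiv
    refine ⟨x, y, hxy, diag3_of_eigen (b.reindex e).linearIndependent _ fun i => ?_⟩
    obtain ⟨j, rfl⟩ := e.surjective i
    rw [Module.Basis.reindex_apply, Equiv.symm_apply_apply]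
    rcases j with j | j
    · have : b (Sum.inl j) = ((bS j : S) : Fin 3 → F) := by simp [b]
      rw [this, (hS _).1 (bS j).2]
      congr 1
      fin_cases j; rfl
    · have : b (Sum.inr j) = ((bT j : T) : Fin 3 → F) := by simp [b]
      rw [this, (hT _).1 (bT j).2]
      congr 1
      fin_cases j <;> rfl
  rcases (by omega : Module.finrank F A = 1 ∧ Module.finrank F B = 2 ∨
      Module.finrank F A = 2 ∧ Module.finrank F B = 1) with ⟨h1, h2⟩ | ⟨h2, h1⟩
  · exact key hab hcomp h1 h2 hB hA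
  · exact key hab.symm hcomp.symm h1 h2 hA hB

/-- A matrix with square zero and rank at most one is an outer product. -/
lemma exists_vecMulVec_of_sq_zero {N : Mat} (hN : N ≠ 0) (h : N * N = 0) :
    ∃ v φ : Fin 3 → F, v ≠ 0 ∧ φ ≠ 0 ∧ φ ⬝ᵥ v = 0 ∧ N = vecMulVec v φ := by
  set f := N.toLin' with hf
  have hle : LinearMap.range f ≤ LinearMap.ker f := by
    rintro _ ⟨x, rfl⟩
    rw [LinearMap.mem_ker, hf, Matrix.toLin'_apply, Matrix.toLin'_apply, Matrix.mulVec_mulVec, h, Matrix.zero_mulVec]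
  have h3 := f.finrank_range_add_finrank_ker
  rw [Module.finrank_fin_fun] at h3
  have h4 := Submodule.finrank_mono hle
  have hr0 : Module.finrank F (LinearMap.range f) ≠ 0 := fun h0 => hN (by
    rw [Submodule.finrank_eq_zero, LinearMap.range_eq_bot] at h0
    rw [← LinearMap.map_eq_zero_iff _ (Matrix.toLin').injective]
    exact h0)
  obtain ⟨⟨v, hv⟩, hv0, hall⟩ := finrank_eq_one_iff'.1 (show Module.finrank F (LinearMap.range f) = 1 by omega)
  have hv0' : v ≠ 0 := fun e => hv0 (Subtype.ext e)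
  choose φ hφ using fun j : Fin 3 => hall ⟨f (Pi.single j 1), LinearMap.mem_range_self f _⟩
  have hφ' : ∀ j, φ j • v = N *ᵥ Pi.single j 1 := fun j => by
    have := congrArg Subtype.val (hφ j); simpa [hf] using this
  have hN' : N = vecMulVec v φ := by
    ext i j
    have := congrFun (hφ' j) i
    simp [Matrix.mulVec_single] at this
    rw [vecMulVec_apply, ← this, mul_comm]
  refine ⟨v, φ, hv0', fun e => hN (by rw [hN', e]; simp), ?_, hN'⟩
  have hdot : N *ᵥ v = (φ ⬝ᵥ v) • v := by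
    rw [hN', Matrix.vecMulVec_mulVec]
    ext i; simp [mul_comm]
  obtain ⟨x, hx⟩ := hv
  rw [← hx, hf, Matrix.toLin'_apply, Matrix.mulVec_mulVec, h, Matrix.zero_mulVec, ← Matrix.toLin'_apply] at hdot
  rw [← hf, hx] at hdot
  exact (smul_eq_zero.1 hdot.symm).resolve_right hv0'

/-- If the square factor is needed, a power is a transvection. -/
lemma pow_sub_one_eq [Fintype F] {g : GL (Fin 3) F} {a b : F} (ha : a ≠ 0) (hb : b ≠ 0) (hab : a ≠ b)
    (h : ((g : Mat) - a • 1) * ((g : Mat) - b • 1) * ((g : Mat) - b • 1) = 0) :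
    ((g : Mat) ^ (Fintype.card F - 1)) =
      1 + (-(b * (b - a))⁻¹) • (((g : Mat) - a • 1) * ((g : Mat) - b • 1)) := by
  set n := Fintype.card F - 1 with hn
  have hn0 : 1 ≤ n := by have := Fintype.one_lt_card (α := F); omega
  set c : F := -(b * (b - a))⁻¹
  set r : F[X] := X ^ n - 1 - C c * ((X - C a) * (X - C b)) with hr
  have hra : r.IsRoot a := by simp [hr, hn, FiniteField.pow_card_sub_one_eq_one a ha]
  have hrb : r.IsRoot b := by simp [hr, hn, FiniteField.pow_card_sub_one_eq_one b hb]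
  have hcast : (n : F) = -1 := by
    rw [hn, Nat.cast_sub (by have := Fintype.one_lt_card (α := F); omega), Nat.cast_card_eq_zero, Nat.cast_one, zero_sub]
  have hpow : b ^ (n - 1) = b⁻¹ := by
    refine eq_inv_of_mul_eq_one_left ?_
    rw [← pow_succ, Nat.sub_add_cancel hn0, hn, FiniteField.pow_card_sub_one_eq_one b hb]
  have hdr : r.derivative.IsRoot b := by
    simp only [hr, IsRoot.def, derivative_sub, derivative_X_pow, derivative_one, derivative_mul, derivative_C,
      derivative_X, zero_mul, zero_add, sub_zero, eval_sub, eval_mul, eval_C, eval_pow, eval_X, eval_add,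
      one_mul, mul_one, sub_self, mul_zero, add_zero, hcast, hpow]
    have hba : b - a ≠ 0 := sub_ne_zero.2 hab.symm
    simp only [c]
    field_simp
    ring
  have hdb : (X - C b) ^ 2 ∣ r := by
    obtain ⟨s, hs⟩ := dvd_iff_isRoot.2 hrb
    have hsb : s.IsRoot b := by
      rw [hs] at hdr
      simpa [derivative_mul] using hdr
    obtain ⟨t, ht⟩ := dvd_iff_isRoot.2 hsb
    exact ⟨t, by rw [hs, ht]; ring⟩
  obtain ⟨t, ht⟩ := (IsCoprime.pow_right (n := 2) (isCoprime_X_sub_C_of_isUnit_sub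
    (sub_ne_zero.2 hab).isUnit)).mul_dvd (dvd_iff_isRoot.2 hra) hdb
  have h0 : aeval (g : Mat) r = 0 := by
    rw [ht, map_mul]
    simp only [map_mul, map_pow, map_sub, aeval_X, aeval_C, Algebra.algebraMap_eq_smul_one]
    rw [sq, ← mul_assoc, h, zero_mul]
  simp only [hr, map_sub, map_mul, map_pow, map_one, aeval_X, aeval_C, Algebra.algebraMap_eq_smul_one,
    smul_mul_assoc, one_mul] at h0
  rw [sub_sub, sub_eq_zero] at h0
  exact h0

/-- The three types. -/
theorem type_or_transvection [Fintype F] {g : GL (Fin 3) F} (hs : (g : Mat).charpoly.Splits)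
    (hns : g ∉ scalars (Fin 3) F) :
    IsUni g ∨ IsHom g ∨ IsReg g ∨
      ∃ (v φ : Fin 3 → F) (h : φ ⬝ᵥ v = 0), v ≠ 0 ∧ φ ≠ 0 ∧ g ^ (Fintype.card F - 1) = tvec v φ h := by
  obtain ⟨a, b, c, hp, h0⟩ := exists_three_roots hs
  have hroot : ∀ x, x = a ∨ x = b ∨ x = c → ∃ v : Fin 3 → F, v ≠ 0 ∧ (g : Mat) *ᵥ v = x • v := fun x hx =>
    exists_eigvec (by rcases hx with rfl | rfl | rfl <;> simp [hp])
  obtain ⟨va, hva, ea⟩ := hroot a (Or.inl rfl)
  obtain ⟨vb, hvb, eb⟩ := hroot b (Or.inr (Or.inl rfl))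
  obtain ⟨vc, hvc, ec⟩ := hroot c (Or.inr (Or.inr rfl))
  have hcomm : ∀ x y : F, Commute ((g : Mat) - x • 1) ((g : Mat) - y • 1) := fun x y =>
    (((Commute.refl (g : Mat)).sub_right ((Commute.one_right _).smul_right y)).sub_left
      (((Commute.one_left _).smul_left x).sub_right (((Commute.one_left _).smul_left x).smul_right y)))
  have two : ∀ x y : F, x ≠ 0 → y ≠ 0 → x ≠ y → ((g : Mat) - x • 1) * ((g : Mat) - y • 1) * ((g : Mat) - y • 1) = 0 →
      IsUni g ∨ IsHom g ∨ IsReg g ∨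
        ∃ (v φ : Fin 3 → F) (h : φ ⬝ᵥ v = 0), v ≠ 0 ∧ φ ≠ 0 ∧ g ^ (Fintype.card F - 1) = tvec v φ h := by
    intro x y hx hy hxy hz
    by_cases hN : ((g : Mat) - x • 1) * ((g : Mat) - y • 1) = 0
    · exact Or.inr (Or.inl (isHom_of_quadratic hxy hN hns))
    have hN2 : ((g : Mat) - x • 1) * ((g : Mat) - y • 1) * (((g : Mat) - x • 1) * ((g : Mat) - y • 1)) = 0 := by
      rw [mul_assoc, ← mul_assoc ((g : Mat) - y • 1), (hcomm y x).eq, hz, mul_zero]
    set c : F := -(y * (y - x))⁻¹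
    have hc : c ≠ 0 := neg_ne_zero.2 (inv_ne_zero (mul_ne_zero hy (sub_ne_zero.2 hxy.symm)))
    obtain ⟨v, φ, hv, hφ, hd, hNe⟩ := exists_vecMulVec_of_sq_zero (smul_ne_zero hc hN)
      (by rw [smul_mul_smul_comm, hN2, smul_zero])
    refine Or.inr (Or.inr (Or.inr ⟨v, φ, hd, hv, hφ, Units.ext ?_⟩))
    rw [Units.val_pow_eq_pow_val, pow_sub_one_eq hx hy hxy hz, tvec_val, ← hNe]
  by_cases hab : a = b
  · subst hab
    by_cases hac : a = c
    · subst hac
      exact Or.inl ⟨hns, a, by rw [pow_succ, pow_two]; exact h0⟩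
    · refine two c a (ne_zero_of_eigvec hvc ec) (ne_zero_of_eigvec hva ea) (Ne.symm hac) ?_
      rw [(hcomm c a).eq, mul_assoc, (hcomm c a).eq, ← mul_assoc]; exact h0
  by_cases hbc : b = c
  · subst hbc
    exact two a b (ne_zero_of_eigvec hva ea) (ne_zero_of_eigvec hvb eb) hab h0
  by_cases hac : a = c
  · subst hac
    refine two b a (ne_zero_of_eigvec hvb eb) (ne_zero_of_eigvec hva ea) (Ne.symm hab) ?_
    rw [(hcomm b a).eq]; exact h0
  have hinj : Function.Injective ![a, b, c] := by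
    intro i j; fin_cases i <;> fin_cases j <;> simp [hab, hac, hbc, Ne.symm hab, Ne.symm hac, Ne.symm hbc]
  refine Or.inr (Or.inr (Or.inl ⟨![a, b, c], hinj, diag3_of_eigen (v := ![va, vb, vc]) ?_ _ ?_⟩))
  · refine Module.End.eigenvectors_linearIndependent' (g : Mat).toLin' ![a, b, c] hinj ![va, vb, vc] fun i => ?_
    rw [Module.End.hasEigenvector_iff, Module.End.mem_eigenspace_iff]
    fin_cases i <;> simp [Matrix.toLin'_apply, ea, eb, ec, hva, hvb, hvc]
  · intro i; fin_cases i <;> simp [ea, eb, ec]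

end CfsgLib.Geo.D3
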