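/-
First facts on perfect groups of dimension three without transvections: element types, involutions and their
lifts, two-rank two.
-/
import Cfsg.Agent.Geo.DimThree.NoTv.Types
import Cfsg.Agent.OddEnd.FourteenFinal

set_option autoImplicit false

namespace CfsgLib.Geo.D3

open Matrix Cfsg Cfsg.Geo CfsgLib.Geo

variable {F : Type*} [Field F] {G : Subgroup (GL (Fin 3) F)}

local notation "Mat" => Matrix (Fin 3) (Fin 3) F

lemma toPro_eq_one {g : G} : toPro G g = 1 ↔ (g : GL (Fin 3) F) ∈ scalars (Fin 3) F := by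
  rw [QuotientGroup.mk'_apply, QuotientGroup.eq_one_iff, Subgroup.mem_subgroupOf]

lemma toPro_surjective : Function.Surjective (toPro G) := QuotientGroup.mk'_surjective _

lemma scalar_comm {z : GL (Fin 3) F} (hz : z ∈ scalars (Fin 3) F) (g : GL (Fin 3) F) : Commute z g := by
  obtain ⟨c, hc⟩ := (mem_scalars_iff z).1 hz
  exact Units.ext (by simp [hc])

/-- A perfect group has determinant one. -/
theorem NoTv.le_specialLinear (hG : NoTv G) : G ≤ specialLinear (Fin 3) F := by
  conv_lhs => rw [← hG.perfect]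
  refine Subgroup.commutator_le.2 fun a _ b _ => ?_
  rw [specialLinear, MonoidHom.mem_ker, map_commutatorElement, commutatorElement_eq_one_iff_mul_comm]
  exact mul_comm _ _

/-- Scalars in the group are cube roots of one. -/
theorem NoTv.scalar_cube (hG : NoTv G) {z : GL (Fin 3) F} (hz : z ∈ G) (hs : z ∈ scalars (Fin 3) F) :
    z ^ 3 = 1 := by
  obtain ⟨c, hc⟩ := (mem_scalars_iff z).1 hs
  have hd := mem_specialLinear.1 (hG.le_specialLinear hz)
  rw [hc, Matrix.det_smul, Matrix.det_one, mul_one, Fintype.card_fin] at hd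
  exact Units.ext (by rw [Units.val_pow_eq_pow_val, hc, smul_pow, one_pow, hd, one_smul, Units.val_one])

/-- Two lifts of square one coincide. -/
theorem NoTv.lift_unique (hG : NoTv G) {g h : G} (hg : g * g = 1) (hh : h * h = 1)
    (e : toPro G g = toPro G h) : g = h := by
  have hz : ((g⁻¹ * h : G) : GL (Fin 3) F) ∈ scalars (Fin 3) F := by
    rw [← toPro_eq_one, map_mul, map_inv, e, inv_mul_cancel]
  set z : G := g⁻¹ * h with hzdef
  have hc : Commute z g := Subtype.ext (scalar_comm hz _)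
  have hgz : h = g * z := by rw [hzdef, mul_inv_cancel_left]
  have h2 : z * z = 1 := by
    rw [hgz] at hh
    have e1 : g * z * (g * z) = g * g * (z * z) := by rw [mul_assoc g z (g * z), ← mul_assoc z g z, hc.eq]; group
    rw [hg, one_mul] at e1
    exact e1.symm.trans hh
  have h3 : z ^ 3 = 1 := Subtype.ext (by simpa using hG.scalar_cube z.2 hz)
  rw [hgz, show z = 1 by rw [pow_succ, pow_two, h2, one_mul] at h3; exact h3, mul_one]

/-- Commuting modulo scalars with an involution is commuting. -/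
theorem NoTv.commute_lift (hG : NoTv G) {g h : G} (hg : g * g = 1)
    (hc : Commute (toPro G g) (toPro G h)) : Commute g h := by
  have h1 : h * g * h⁻¹ * (h * g * h⁻¹) = 1 := by
    rw [show h * g * h⁻¹ * (h * g * h⁻¹) = h * (g * g) * h⁻¹ by group, hg, mul_one, mul_inv_cancel]
  have h2 : toPro G (h * g * h⁻¹) = toPro G g := by
    rw [map_mul, map_mul, map_inv, ← hc.eq, mul_inv_cancel_right]
  have := hG.lift_unique h1 hg h2
  show g * h = h * g
  calc g * h = h * g * h⁻¹ * h := by rw [this]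
    _ = h * g := by group

section finite

variable [Finite F]

/-- Every element outside the scalars has one of the three types. -/
theorem NoTv.cases' (hG : NoTv G) {g : GL (Fin 3) F} (hg : g ∈ G) (hs : g ∉ scalars (Fin 3) F) :
    IsUni g ∨ IsHom g ∨ IsReg g := by
  haveI := Fintype.ofFinite F
  rcases type_or_transvection (hG.splits g hg) hs with h | h | h | ⟨v, φ, hd, hv, hφ, he⟩
  · exact Or.inl h
  · exact Or.inr (Or.inl h)
  · exact Or.inr (Or.inr h)
  · exact absurd ⟨hd, he ▸ G.pow_mem hg _⟩ (hG.noTv v φ hv hφ)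

omit [Finite F] in
lemma diag3_of_sq_one (hG : NoTv G) {g : GL (Fin 3) F} (hg : g ∈ G) (h2 : g * g = 1) (hns : g ∉ scalars (Fin 3) F) :
    Diag3 g ![1, -1, -1] := by
  have hM : (g : Mat) * g = 1 := by rw [← Units.val_mul, h2, Units.val_one]
  have h : ((g : Mat) - (1 : F) • 1) * ((g : Mat) - (-1 : F) • 1) = 0 := by
    simp only [one_smul, neg_smul, sub_neg_eq_add, sub_mul, mul_add, mul_one, one_mul, hM]
    abel
  have h1 : (1 : F) ≠ -1 := fun e => hG.two_ne (by linear_combination e)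
  obtain ⟨a, b, hab, hd⟩ := isHom_of_quadratic h1 h hns
  obtain ⟨B, hB⟩ := hd
  have hsq : Matrix.diagonal ![a, b, b] * Matrix.diagonal ![a, b, b] = 1 := by
    rw [← hB, ← Units.val_mul, show B * g * B⁻¹ * (B * g * B⁻¹) = B * (g * g) * B⁻¹ by group, h2, mul_one,
      mul_inv_cancel, Units.val_one]
  have ha : a * a = 1 := by simpa using congrFun (congrFun hsq 0) 0
  have hb : b * b = 1 := by simpa using congrFun (congrFun hsq 1) 1
  have hdet := Diag3.det ⟨B, hB⟩
  rw [mem_specialLinear.1 (hG.le_specialLinear hg)] at hdet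
  simp at hdet
  have ha1 : a = 1 := by rw [mul_assoc, hb, mul_one] at hdet; exact hdet.symm
  have hb1 : b = -1 := (mul_self_eq_one_iff.1 hb).resolve_left fun e => hab (ha1.trans e.symm)
  subst ha1; subst hb1
  exact ⟨B, hB⟩

omit [Finite F] in
/-- The lift of an involution. -/
theorem NoTv.exists_lift_involution (hG : NoTv G) {t : Pro G} (ht : orderOf t = 2) :
    ∃ g : G, toPro G g = t ∧ g * g = 1 ∧ Diag3 (g : GL (Fin 3) F) ![1, -1, -1] := by
  obtain ⟨g₀, rfl⟩ := toPro_surjective t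
  have hsq : ((g₀ * g₀ : G) : GL (Fin 3) F) ∈ scalars (Fin 3) F := by
    rw [← toPro_eq_one, map_mul, ← pow_two, ← ht, pow_orderOf_eq_one]
  set z : G := g₀ * g₀ with hz
  have h3 : z ^ 3 = 1 := Subtype.ext (by simpa using hG.scalar_cube z.2 hsq)
  have hc : Commute g₀ z := (Commute.refl g₀).mul_right (Commute.refl g₀)
  have hgz : toPro G (g₀ * z) = toPro G g₀ := by rw [map_mul, toPro_eq_one.2 hsq, mul_one]
  have h2 : g₀ * z * (g₀ * z) = 1 := by
    calc g₀ * z * (g₀ * z) = g₀ * (z * g₀) * z := by group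
      _ = g₀ * (g₀ * z) * z := by rw [hc.eq]
      _ = z * z * z := by rw [hz]; group
      _ = 1 := by rw [← pow_two, ← pow_succ, h3]
  refine ⟨g₀ * z, hgz, h2, diag3_of_sq_one hG (g₀ * z).2 (by simpa using congrArg Subtype.val h2) fun hs => ?_⟩
  have h1 := toPro_eq_one.2 hs
  rw [hgz] at h1
  rw [h1, orderOf_one] at ht
  omega

/-- The order is even. -/
theorem NoTv.even_card (hG : NoTv G) : Even (Nat.card (Pro G)) := by
  haveI := hG.simple
  by_contra h
  have hs := CfsgLib.OddEnd.odd_solvable (Pro G) (Nat.not_even_iff_odd.1 h)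
  exact hG.nonabelian ⟨⟨IsSimpleGroup.comm_iff_isSolvable.2 hs⟩⟩

end finite

section involutions

/-- The fixed vector of a lifted involution. -/
lemma exists_fix_line (h2 : (2 : F) ≠ 0) {g : GL (Fin 3) F} (hd : Diag3 g ![1, -1, -1]) :
    ∃ v : Fin 3 → F, v ≠ 0 ∧ (g : Mat) *ᵥ v = v ∧ ∀ w, (g : Mat) *ᵥ w = w → ∃ c : F, w = c • v := by
  obtain ⟨B, hB⟩ := hd
  refine ⟨((B⁻¹ : GL (Fin 3) F) : Mat) *ᵥ Pi.single 0 1, fun e => ?_, ?_, fun w hw => ?_⟩
  · have := congrArg (fun u => (B : Mat) *ᵥ u) e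
    simp only [mulVec_inv_mulVec, Matrix.mulVec_zero] at this
    simpa using congrFun this 0
  · have hg : g = B⁻¹ * (B * g * B⁻¹) * B := by group
    conv_lhs => rw [hg]
    rw [mul_mulVec, mul_mulVec, mulVec_inv_mulVec, hB]
    congr 1
    ext j; fin_cases j <;> simp [Matrix.mulVec_single]
  · refine ⟨((B : Mat) *ᵥ w) 0, ?_⟩
    have h1 : Matrix.diagonal ![1, -1, -1] *ᵥ ((B : Mat) *ᵥ w) = (B : Mat) *ᵥ w := by
      rw [← hB, mul_mulVec, mul_mulVec, inv_mulVec_mulVec, hw]
    have h0 : (B : Mat) *ᵥ w = ((B : Mat) *ᵥ w) 0 • (Pi.single 0 1 : Fin 3 → F) := by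
      ext j
      have := congrFun h1 j
      rw [Matrix.mulVec_diagonal] at this
      fin_cases j <;> simp at this ⊢
      · exact (mul_eq_zero.1 (show (2 : F) * _ = 0 by linear_combination -this)).resolve_left h2
      · exact (mul_eq_zero.1 (show (2 : F) * _ = 0 by linear_combination -this)).resolve_left h2
    conv_lhs => rw [← inv_mulVec_mulVec B w, h0, Matrix.mulVec_smul]

/-- Commuting lifted involutions with the same fixed vector coincide. -/
lemma eq_of_fix_same (h2 : (2 : F) ≠ 0) {a b : GL (Fin 3) F} (ha : Diag3 a ![1, -1, -1])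
    (hb : Diag3 b ![1, -1, -1]) (haa : a * a = 1) (hbb : b * b = 1) (hc : Commute a b) {v : Fin 3 → F}
    (hv : v ≠ 0) (hav : (a : Mat) *ᵥ v = v) (hbv : (b : Mat) *ᵥ v = v) : a = b := by
  obtain ⟨va, -, -, hfa⟩ := exists_fix_line h2 ha
  obtain ⟨vb, -, -, hfb⟩ := exists_fix_line h2 hb
  have line : ∀ {va : Fin 3 → F} {w : Fin 3 → F}, (∃ c : F, w = c • va) → (∃ c : F, v = c • va) →
      ∃ c : F, w = c • v := by
    rintro va w ⟨c, rfl⟩ ⟨d, hd⟩
    have hd0 : d ≠ 0 := fun e => hv (by rw [hd, e, zero_smul])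
    exact ⟨c * d⁻¹, by rw [hd, smul_smul, inv_mul_cancel_right₀ hd0]⟩
  refine gl_ext_mulVec fun x => ?_
  have key : ∀ y, (a : Mat) *ᵥ y = -y → (b : Mat) *ᵥ y = -y := by
    intro y hy
    have h1 : (b : Mat) *ᵥ ((b : Mat) *ᵥ y + y) = (b : Mat) *ᵥ y + y := by
      rw [Matrix.mulVec_add, ← mul_mulVec, hbb, Units.val_one, Matrix.one_mulVec, add_comm]
    obtain ⟨c, hcy⟩ := line (hfb _ h1) (hfb v hbv)
    have h3 : (a : Mat) *ᵥ ((b : Mat) *ᵥ y + y) = -((b : Mat) *ᵥ y + y) := by
      rw [Matrix.mulVec_add, ← mul_mulVec, hc.eq, mul_mulVec, hy, Matrix.mulVec_neg, neg_add]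
    rw [hcy, Matrix.mulVec_smul, hav] at h3
    have h4 : ((2 : F) * c) • v = 0 := by
      rw [two_mul, add_smul]; nth_rewrite 1 [h3]; exact neg_add_cancel _
    have hc0 : c = 0 := (mul_eq_zero.1 ((smul_eq_zero.1 h4).resolve_right hv)).resolve_left h2
    rw [hc0, zero_smul] at hcy
    exact eq_neg_of_add_eq_zero_left hcy
  have hx1 : (a : Mat) *ᵥ (x + (a : Mat) *ᵥ x) = x + (a : Mat) *ᵥ x := by
    rw [Matrix.mulVec_add, ← mul_mulVec, haa, Units.val_one, Matrix.one_mulVec, add_comm]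
  have hx2 : (a : Mat) *ᵥ (x - (a : Mat) *ᵥ x) = -(x - (a : Mat) *ᵥ x) := by
    rw [Matrix.mulVec_sub, ← mul_mulVec, haa, Units.val_one, Matrix.one_mulVec, neg_sub]
  obtain ⟨c, hc'⟩ := line (hfa _ hx1) (hfa v hav)
  have hb1 : (b : Mat) *ᵥ (x + (a : Mat) *ᵥ x) = x + (a : Mat) *ᵥ x := by rw [hc', Matrix.mulVec_smul, hbv]
  have hb2 := key _ hx2
  have h5 : (2 : F) • ((b : Mat) *ᵥ x) = (2 : F) • ((a : Mat) *ᵥ x) := by
    rw [← Matrix.mulVec_smul, show (2 : F) • x = (x + (a : Mat) *ᵥ x) + (x - (a : Mat) *ᵥ x) by module,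
      Matrix.mulVec_add, hb1, hb2]
    module
  exact (smul_right_injective _ h2 h5).symm

/-- Two-rank two. -/
theorem NoTv.no_eight (hG : NoTv G) {a b c : Pro G} (ha : orderOf a = 2) (hb : orderOf b = 2) (hc : orderOf c = 2)
    (hab : Commute a b) (hac : Commute a c) (hbc : Commute b c) (hne : a ≠ b) :
    c = a ∨ c = b ∨ c = a * b := by
  obtain ⟨x, rfl, hx, hxd⟩ := hG.exists_lift_involution ha
  obtain ⟨y, rfl, hy, hyd⟩ := hG.exists_lift_involution hb
  obtain ⟨z, rfl, hz, hzd⟩ := hG.exists_lift_involution hc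
  have cxy := hG.commute_lift hx hab
  have cxz := hG.commute_lift hx hac
  have cyz := hG.commute_lift hy hbc
  have hw : x * y * (x * y) = 1 := by
    rw [show x * y * (x * y) = x * (y * x) * y by group, ← cxy.eq,
      show x * (x * y) * y = (x * x) * (y * y) by group, hx, hy, mul_one]
  have hwd : Diag3 ((x * y : G) : GL (Fin 3) F) ![1, -1, -1] := by
    refine diag3_of_sq_one hG (x * y).2 (by simpa using congrArg Subtype.val hw) fun hs => hne ?_
    have h1 := toPro_eq_one.2 hs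
    rw [map_mul, mul_eq_one_iff_eq_inv] at h1
    rw [h1, inv_eq_iff_mul_eq_one, ← map_mul, hy, map_one]
  have h2 := hG.two_ne
  have val2 : ∀ {u : G}, u * u = 1 → (u : GL (Fin 3) F) * u = 1 := fun h => by simpa using congrArg Subtype.val h
  have valc : ∀ {u w : G}, Commute u w → Commute (u : GL (Fin 3) F) w := fun h =>
    (by simpa using congrArg Subtype.val h.eq : (_ : GL (Fin 3) F) = _)
  have mv : ∀ {u w : G}, Commute u w → ∀ v, ((u : GL (Fin 3) F) : Mat) *ᵥ v = v →
      ((u : GL (Fin 3) F) : Mat) *ᵥ (((w : GL (Fin 3) F) : Mat) *ᵥ v) = ((w : GL (Fin 3) F) : Mat) *ᵥ v :=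
    fun h v hv => by rw [← mul_mulVec, (valc h).eq, mul_mulVec, hv]
  have pm : ∀ {u w : G}, u * u = 1 → w * w = 1 → Diag3 (u : GL (Fin 3) F) ![1, -1, -1] →
      Diag3 (w : GL (Fin 3) F) ![1, -1, -1] → Commute u w → ∀ v, v ≠ 0 → ((u : GL (Fin 3) F) : Mat) *ᵥ v = v →
      ((w : GL (Fin 3) F) : Mat) *ᵥ v = -v ∨ u = w := by
    intro u w hu hw' hud hwd' huw v hv huv
    obtain ⟨v₀, hv₀, hu₀, hline⟩ := exists_fix_line h2 hud
    obtain ⟨d, hd⟩ := hline v huv
    obtain ⟨l, hl⟩ := hline _ (mv huw v₀ hu₀)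
    have hll : l * l = 1 := by
      have := congrArg (fun r => ((w : GL (Fin 3) F) : Mat) *ᵥ r) hl
      rw [← mul_mulVec, val2 hw', Units.val_one, Matrix.one_mulVec, Matrix.mulVec_smul, hl, smul_smul] at this
      exact smul_left_injective F hv₀ (by simpa using this.symm)
    rcases mul_self_eq_one_iff.1 hll with rfl | rfl
    · rw [one_smul] at hl
      exact Or.inr (Subtype.ext (eq_of_fix_same h2 hud hwd' (val2 hu) (val2 hw') (valc huw) hv₀ hu₀ hl))
    · exact Or.inl (by rw [hd, Matrix.mulVec_smul, hl, smul_comm, neg_one_smul])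
  obtain ⟨va, hva, hxa, -⟩ := exists_fix_line h2 hxd
  obtain ⟨vb, hvb, hyb, -⟩ := exists_fix_line h2 hyd
  obtain ⟨vc, hvc, hwc, -⟩ := exists_fix_line h2 hwd
  rcases pm hx hz hxd hzd cxz va hva hxa with za | e
  swap; · exact Or.inl (by rw [e])
  rcases pm hy hz hyd hzd cyz vb hvb hyb with zb | e
  swap; · exact Or.inr (Or.inl (by rw [e]))
  rcases pm hw hz hwd hzd (cxz.mul_left cyz) vc hvc hwc with zc | e
  swap; · exact Or.inr (Or.inr (by rw [← e, map_mul]))
  exfalso
  have xy : x ≠ y := fun e => hne (by rw [e])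
  have ya := (pm hx hy hxd hyd cxy va hva hxa).resolve_right xy
  have xb := (pm hy hx hyd hxd cxy.symm vb hvb hyb).resolve_right xy.symm
  have cwx : Commute (x * y) x := (Commute.refl x).mul_left cxy.symm
  have xc := (pm hw hx hwd hxd cwx vc hvc hwc).resolve_right fun e => by
    have hy1 : y = 1 := mul_left_cancel (e.trans (mul_one x).symm)
    rw [hy1, map_one, orderOf_one] at hb
    omega
  have hli : LinearIndependent F ![va, vb, vc] := by
    rw [Fintype.linearIndependent_iff]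
    intro cf hcf
    simp only [Fin.sum_univ_three, Matrix.cons_val_zero, Matrix.cons_val_one, Matrix.cons_val_two, Matrix.head_cons,
      Matrix.tail_cons] at hcf
    have hxs := congrArg (fun r => ((x : GL (Fin 3) F) : Mat) *ᵥ r) hcf
    simp only [Matrix.mulVec_add, Matrix.mulVec_smul, hxa, xb, xc, Matrix.mulVec_zero] at hxs
    have e0 : ((2 : F) * cf 0) • va = 0 :=
      calc ((2 : F) * cf 0) • va
          = (cf 0 • va + cf 1 • vb + cf 2 • vc) + (cf 0 • va + cf 1 • -vb + cf 2 • -vc) := by module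
        _ = 0 := by rw [hcf, hxs, add_zero]
    have c0 : cf 0 = 0 := (mul_eq_zero.1 ((smul_eq_zero.1 e0).resolve_right hva)).resolve_left h2
    rw [c0, zero_smul, zero_add] at hcf
    have hys := congrArg (fun r => ((y : GL (Fin 3) F) : Mat) *ᵥ r) hcf
    have yc : ((y : GL (Fin 3) F) : Mat) *ᵥ vc = -vc := by
      have h' := congrArg (fun r => ((x : GL (Fin 3) F) : Mat) *ᵥ r) hwc
      simp only [Subgroup.coe_mul, mul_mulVec, xc] at h'
      rw [← mul_mulVec (x : GL (Fin 3) F), val2 hx, Units.val_one, Matrix.one_mulVec] at h'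
      exact h'
    simp only [Matrix.mulVec_add, Matrix.mulVec_smul, hyb, yc, Matrix.mulVec_zero] at hys
    have e1 : ((2 : F) * cf 1) • vb = 0 :=
      calc ((2 : F) * cf 1) • vb = (cf 1 • vb + cf 2 • vc) + (cf 1 • vb + cf 2 • -vc) := by module
        _ = 0 := by rw [hcf, hys, add_zero]
    have c1 : cf 1 = 0 := (mul_eq_zero.1 ((smul_eq_zero.1 e1).resolve_right hvb)).resolve_left h2
    rw [c1, zero_smul, zero_add] at hcf
    have c2 : cf 2 = 0 := (smul_eq_zero.1 hcf).resolve_right hvc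
    intro i; fin_cases i <;> assumption
  have hdet := Diag3.det (diag3_of_eigen (g := (z : GL (Fin 3) F)) hli ![-1, -1, -1] fun i => by
    fin_cases i <;> simp [za, zb, zc])
  rw [mem_specialLinear.1 (hG.le_specialLinear z.2)] at hdet
  simp at hdet
  exact h2 (by linear_combination hdet)

end involutions

end CfsgLib.Geo.D3
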