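/-
Involutions of a group without transvections in dimension three: coordinates at an involution, the homology
group, the image of the centraliser in PGL of dimension two.
-/
import Cfsg.Agent.Geo.DimThree.NoTv.Basic
import Cfsg.Agent.Dickson.Transfer

set_option autoImplicit false
set_option linter.unusedSectionVars false

namespace CfsgLib.Geo.D3

open Matrix Cfsg Cfsg.Geo CfsgLib.Geo
open scoped commutatorElement

variable {F : Type*} [Field F]

local notation "Mat" => Matrix (Fin 3) (Fin 3) F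

/-! ### Coordinates -/

/-- The matrix of `g` in the coordinates given by `B`. -/
def mloc (B g : GL (Fin 3) F) : Mat := ((B * g * B⁻¹ : GL (Fin 3) F) : Mat)

lemma mloc_eq (B g : GL (Fin 3) F) : mloc B g = (B : Mat) * (g : Mat) * ((B⁻¹ : GL (Fin 3) F) : Mat) := rfl

lemma mloc_mul (B g h : GL (Fin 3) F) : mloc B (g * h) = mloc B g * mloc B h := by
  rw [mloc, mloc, mloc, ← Units.val_mul]
  congr 1
  group

lemma mloc_one (B : GL (Fin 3) F) : mloc B 1 = 1 := by simp [mloc]

lemma mloc_pow (B g : GL (Fin 3) F) (n : ℕ) : mloc B (g ^ n) = mloc B g ^ n := by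
  induction n with
  | zero => simp [mloc_one]
  | succ n ih => rw [pow_succ, pow_succ, mloc_mul, ih]

lemma mloc_inj {B g h : GL (Fin 3) F} (e : mloc B g = mloc B h) : g = h :=
  (MulAut.conj B).injective (Units.ext e)

lemma mloc_commute {B g h : GL (Fin 3) F} : Commute g h ↔ mloc B g * mloc B h = mloc B h * mloc B g := by
  rw [← mloc_mul, ← mloc_mul]
  exact ⟨fun c => by rw [c.eq], fun e => mloc_inj e⟩

lemma mloc_smul_one {B g : GL (Fin 3) F} {c : F} : mloc B g = c • (1 : Mat) ↔ (g : Mat) = c • (1 : Mat) := by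
  constructor
  · intro e
    have : (g : Mat) = ((B⁻¹ : GL (Fin 3) F) : Mat) * mloc B g * (B : Mat) := by
      rw [mloc, ← Units.val_mul, ← Units.val_mul]; congr 1; group
    rw [this, e, mul_smul_comm, mul_one, smul_mul_assoc, ← Units.val_mul, inv_mul_cancel, Units.val_one]
  · intro e
    rw [mloc_eq, e, mul_smul_comm, mul_one, smul_mul_assoc, ← Units.val_mul, mul_inv_cancel, Units.val_one]

lemma mem_scalars_mloc {B g : GL (Fin 3) F} (h : ∃ c : F, mloc B g = c • (1 : Mat)) : g ∈ scalars (Fin 3) F := by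
  obtain ⟨c, hc⟩ := h
  rw [mloc_smul_one] at hc
  have hc0 : c ≠ 0 := fun e => by
    rw [e, zero_smul] at hc
    exact g.det_ne_zero (by rw [hc, Matrix.det_zero])
  exact (mem_scalars_iff g).2 ⟨Units.mk0 c hc0, hc⟩

lemma apply_eq_zero_of_comm {M : Mat} {d : Fin 3 → F} (h : M * diagonal d = diagonal d * M) {i j : Fin 3}
    (hij : d i ≠ d j) : M i j = 0 := by
  have e := congrFun (congrFun h i) j
  rw [Matrix.mul_diagonal, Matrix.diagonal_mul] at e
  by_contra hne
  exact hij (mul_right_cancel₀ hne (by rw [mul_comm (M i j)] at e; exact e.symm))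

lemma comm_diagonal_of_comm {M : Mat} {d e : Fin 3 → F} (h : M * diagonal d = diagonal d * M)
    (hde : ∀ i j, d i = d j → e i = e j) : M * diagonal e = diagonal e * M := by
  ext i j
  rw [Matrix.mul_diagonal, Matrix.diagonal_mul]
  by_cases hij : d i = d j
  · rw [hde i j hij, mul_comm]
  · rw [apply_eq_zero_of_comm h hij, zero_mul, mul_zero]

/-- The sign pattern of a lifted involution. -/
def pat0 : Fin 3 → F := ![1, -1, -1]

/-- The sign pattern of a commuting one. -/
def pat1 : Fin 3 → F := ![-1, 1, -1]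

/-- The lower block. -/
def blk (M : Mat) : Matrix (Fin 2) (Fin 2) F := M.submatrix ![1, 2] ![1, 2]

lemma ne_neg_one (h2 : (2 : F) ≠ 0) : (1 : F) ≠ -1 := fun e => h2 (by linear_combination e)

lemma block_entries (h2 : (2 : F) ≠ 0) {M : Mat} (h : M * diagonal pat0 = diagonal pat0 * M) :
    M 0 1 = 0 ∧ M 0 2 = 0 ∧ M 1 0 = 0 ∧ M 2 0 = 0 := by
  have hne := ne_neg_one h2
  refine ⟨apply_eq_zero_of_comm h ?_, apply_eq_zero_of_comm h ?_, apply_eq_zero_of_comm h ?_,
    apply_eq_zero_of_comm h ?_⟩ <;> simp [pat0, hne, hne.symm]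

lemma blk_mul (h2 : (2 : F) ≠ 0) {M : Mat} (hM : M * diagonal pat0 = diagonal pat0 * M) (N : Mat) :
    blk (M * N) = blk M * blk N := by
  obtain ⟨-, -, a, b⟩ := block_entries h2 hM
  ext i j
  simp only [blk, submatrix_apply, Matrix.mul_apply, Fin.sum_univ_three, Fin.sum_univ_two]
  fin_cases i <;> fin_cases j <;> simp [a, b]

lemma corner_mul (h2 : (2 : F) ≠ 0) {M : Mat} (hM : M * diagonal pat0 = diagonal pat0 * M) (N : Mat) :
    (M * N) 0 0 = M 0 0 * N 0 0 := by
  obtain ⟨a, b, -, -⟩ := block_entries h2 hM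
  simp [Matrix.mul_apply, Fin.sum_univ_three, a, b]

/-- Commuting with two sign patterns is being diagonal. -/
lemma eq_diagonal_of_comm (h2 : (2 : F) ≠ 0) {M : Mat} (h : M * diagonal pat0 = diagonal pat0 * M)
    (h' : M * diagonal pat1 = diagonal pat1 * M) : M = diagonal fun i => M i i := by
  have hne := ne_neg_one h2
  obtain ⟨a, b, c, d⟩ := block_entries h2 h
  have e : M 1 2 = 0 := apply_eq_zero_of_comm h' (by simp [pat1, hne])
  have f : M 2 1 = 0 := apply_eq_zero_of_comm h' (by simp [pat1, hne.symm])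
  ext i j
  fin_cases i <;> fin_cases j <;> simp [a, b, c, d, e, f]

/-- An element of order two with three given signs. -/
noncomputable def diagGL (d : Fin 3 → Fˣ) : GL (Fin 3) F :=
  GeneralLinearGroup.mkOfDetNeZero (diagonal fun i => (d i : F))
    (by rw [Matrix.det_diagonal]; exact Finset.prod_ne_zero_iff.2 fun i _ => (d i).ne_zero)

/-! ### Homology groups -/

variable {G : Subgroup (GL (Fin 3) F)}

/-- The elements commuting with `g` that are scalar on its negative eigenspace. -/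
def homSub (G : Subgroup (GL (Fin 3) F)) (g : G) : Subgroup G where
  carrier := {h | Commute h g ∧ ∃ b : Fˣ,
    ((h : GL (Fin 3) F) : Mat) * (((g : GL (Fin 3) F) : Mat) - 1) = (b : F) • (((g : GL (Fin 3) F) : Mat) - 1)}
  one_mem' := ⟨Commute.one_left g, 1, by simp⟩
  mul_mem' := by
    rintro x y ⟨hx, a, ha⟩ ⟨hy, b, hb⟩
    refine ⟨hx.mul_left hy, a * b, ?_⟩
    rw [Subgroup.coe_mul, Units.val_mul, Matrix.mul_assoc, hb, mul_smul_comm, ha, smul_smul, Units.val_mul, mul_comm]
  inv_mem' := by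
    rintro x ⟨hx, a, ha⟩
    refine ⟨hx.inv_left, a⁻¹, ?_⟩
    have e := congrArg (fun N => ((((x : GL (Fin 3) F))⁻¹ : GL (Fin 3) F) : Mat) * N) ha
    simp only [← Matrix.mul_assoc, ← Units.val_mul, inv_mul_cancel, Units.val_one, Matrix.one_mul,
      mul_smul_comm] at e
    rw [InvMemClass.coe_inv]
    conv_rhs => rw [e, smul_smul, ← Units.val_mul, inv_mul_cancel, Units.val_one, one_smul]

lemma scalar_mem_homSub {g h : G} (hh : (h : GL (Fin 3) F) ∈ scalars (Fin 3) F) : h ∈ homSub G g := by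
  obtain ⟨c, hc⟩ := (mem_scalars_iff _).1 hh
  exact ⟨Subtype.ext (scalar_comm hh _), c, by rw [hc]; simp⟩

lemma self_mem_homSub {g : G} (hg : g * g = 1) : g ∈ homSub G g := by
  refine ⟨Commute.refl g, -1, ?_⟩
  have e : ((g : GL (Fin 3) F) : Mat) * ((g : GL (Fin 3) F) : Mat) = 1 := by
    rw [← Units.val_mul, show (g : GL (Fin 3) F) * g = 1 from congrArg Subtype.val hg, Units.val_one]
  rw [mul_sub, e, mul_one, Units.val_neg, Units.val_one, neg_one_smul, neg_sub]

/-- The homology group of an involution. -/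
def homK (G : Subgroup (GL (Fin 3) F)) (t : Pro G) : Subgroup (Pro G) :=
  ⨆ g : {g : G // toPro G g = t ∧ g * g = 1}, (homSub G g.1).map (toPro G)

lemma homK_eq (hG : NoTv G) {g : G} (hg : g * g = 1) : homK G (toPro G g) = (homSub G g).map (toPro G) := by
  refine le_antisymm (iSup_le fun k => ?_) (le_iSup_of_le ⟨g, rfl, hg⟩ le_rfl)
  rw [hG.lift_unique k.2.2 hg k.2.1]

lemma toPro_mem_homK (hG : NoTv G) {g h : G} (hg : g * g = 1) :
    toPro G h ∈ homK G (toPro G g) ↔ h ∈ homSub G g := by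
  rw [homK_eq hG hg]
  refine ⟨?_, fun e => ⟨h, e, rfl⟩⟩
  rintro ⟨k, hk, e⟩
  have : ((k⁻¹ * h : G) : GL (Fin 3) F) ∈ scalars (Fin 3) F := by
    rw [← toPro_eq_one, map_mul, map_inv, e, inv_mul_cancel]
  simpa using (homSub G g).mul_mem hk (scalar_mem_homSub (g := g) this)

variable {t u : Pro G}

lemma NoTv.homK_le (hG : NoTv G) (ht : orderOf t = 2) : homK G t ≤ cen t := by
  obtain ⟨g, rfl, hg, -⟩ := hG.exists_lift_involution ht
  rw [homK_eq hG hg]
  rintro _ ⟨h, hh, rfl⟩
  rw [Subgroup.mem_centralizer_singleton_iff]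
  exact (hh.1.map (toPro G)).eq

lemma NoTv.self_mem_homK (hG : NoTv G) (ht : orderOf t = 2) : t ∈ homK G t := by
  obtain ⟨g, rfl, hg, -⟩ := hG.exists_lift_involution ht
  exact (toPro_mem_homK hG hg).2 (self_mem_homSub hg)

lemma NoTv.homK_conj (hG : NoTv G) (ht : orderOf t = 2) (c : Pro G) {x : Pro G} (hx : x ∈ homK G t) :
    c * x * c⁻¹ ∈ homK G (c * t * c⁻¹) := by
  obtain ⟨g, rfl, hg, -⟩ := hG.exists_lift_involution ht
  obtain ⟨c, rfl⟩ := toPro_surjective c
  obtain ⟨h, rfl⟩ := toPro_surjective x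
  rw [toPro_mem_homK hG hg] at hx
  have hg' : c * g * c⁻¹ * (c * g * c⁻¹) = 1 := by
    rw [show c * g * c⁻¹ * (c * g * c⁻¹) = c * (g * g) * c⁻¹ by group, hg, mul_one, mul_inv_cancel]
  rw [← map_inv, ← map_mul, ← map_mul, ← map_mul, ← map_mul, toPro_mem_homK hG hg']
  obtain ⟨hc, b, hb⟩ := hx
  refine ⟨(Commute.conj_iff c).2 hc, b, ?_⟩
  have e : ((c : GL (Fin 3) F) : Mat) * (((h : GL (Fin 3) F) : Mat) * (((g : GL (Fin 3) F) : Mat) - 1)) *
      ((((c : GL (Fin 3) F))⁻¹ : GL (Fin 3) F) : Mat) = ((c : GL (Fin 3) F) : Mat) *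
      ((b : F) • (((g : GL (Fin 3) F) : Mat) - 1)) * ((((c : GL (Fin 3) F))⁻¹ : GL (Fin 3) F) : Mat) := by rw [hb]
  simp only [Subgroup.coe_mul, InvMemClass.coe_inv, Units.val_mul] at *
  have hcc : ((((c : GL (Fin 3) F))⁻¹ : GL (Fin 3) F) : Mat) * ((c : GL (Fin 3) F) : Mat) = 1 := by
    rw [← Units.val_mul, inv_mul_cancel, Units.val_one]
  have hcc' : ((c : GL (Fin 3) F) : Mat) * ((((c : GL (Fin 3) F))⁻¹ : GL (Fin 3) F) : Mat) = 1 := by
    rw [← Units.val_mul, mul_inv_cancel, Units.val_one]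
  simp only [mul_sub, sub_mul, mul_one, mul_smul_comm, smul_mul_assoc, smul_sub, Matrix.mul_assoc, hcc'] at e ⊢
  simp only [← Matrix.mul_assoc _ ((c : GL (Fin 3) F) : Mat), hcc, Matrix.one_mul] at e ⊢
  exact e

/-- Conjugate involutions have homology groups of the same order. -/
theorem NoTv.card_homK_conj (hG : NoTv G) (ht : orderOf t = 2) (c : Pro G) :
    Nat.card (homK G (c * t * c⁻¹)) = Nat.card (homK G t) := by
  have ht' : orderOf (c * t * c⁻¹) = 2 := by
    rw [← MulAut.conj_apply, MulEquiv.orderOf_eq, ht]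
  have e : (homK G t).map (MulAut.conj c).toMonoidHom = homK G (c * t * c⁻¹) := by
    refine le_antisymm ?_ fun y hy => ⟨c⁻¹ * y * c⁻¹⁻¹, ?_, ?_⟩
    · rintro _ ⟨x, hx, rfl⟩; exact hG.homK_conj ht c hx
    · have := hG.homK_conj ht' c⁻¹ hy
      rwa [show c⁻¹ * (c * t * c⁻¹) * c⁻¹⁻¹ = t by group] at this
    · show c * (c⁻¹ * y * c⁻¹⁻¹) * c⁻¹ = y
      group
  rw [← e, Subgroup.card_map_of_injective (MulAut.conj c).injective]

/-! ### Frames -/

lemma frame_comm {B : GL (Fin 3) F} {g : G} (hB : mloc B g = diagonal pat0) {h : G} (hc : Commute h g) :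
    mloc B h * diagonal pat0 = diagonal pat0 * mloc B h := by
  have := (mloc_commute (B := B)).1 (hc.map G.subtype)
  rw [← hB]
  exact this

lemma homSub_iff (h2 : (2 : F) ≠ 0) {B : GL (Fin 3) F} {g : G} (hB : mloc B g = diagonal pat0) {h : G}
    (hc : Commute h g) : h ∈ homSub G g ↔ ∃ b : F, blk (mloc B h) = b • 1 := by
  have key : ∀ b : F, ((h : GL (Fin 3) F) : Mat) * (((g : GL (Fin 3) F) : Mat) - 1) =
      b • (((g : GL (Fin 3) F) : Mat) - 1) ↔ mloc B h * (diagonal pat0 - 1) = b • (diagonal pat0 - 1) := by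
    intro b
    rw [← hB]
    have hBB : ((B⁻¹ : GL (Fin 3) F) : Mat) * (B : Mat) = 1 := by
      rw [← Units.val_mul, inv_mul_cancel, Units.val_one]
    have hBB' : (B : Mat) * ((B⁻¹ : GL (Fin 3) F) : Mat) = 1 := by
      rw [← Units.val_mul, mul_inv_cancel, Units.val_one]
    have e1 : mloc B g - 1 = (B : Mat) * (((g : GL (Fin 3) F) : Mat) - 1) * ((B⁻¹ : GL (Fin 3) F) : Mat) := by
      rw [mloc_eq, mul_sub, sub_mul, mul_one, hBB']
    rw [e1, mloc_eq]
    have e2 : (B : Mat) * ((h : GL (Fin 3) F) : Mat) * ((B⁻¹ : GL (Fin 3) F) : Mat) *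
        ((B : Mat) * (((g : GL (Fin 3) F) : Mat) - 1) * ((B⁻¹ : GL (Fin 3) F) : Mat)) =
        (B : Mat) * (((h : GL (Fin 3) F) : Mat) * (((g : GL (Fin 3) F) : Mat) - 1)) * ((B⁻¹ : GL (Fin 3) F) : Mat) := by
      simp only [Matrix.mul_assoc]
      rw [← Matrix.mul_assoc ((B⁻¹ : GL (Fin 3) F) : Mat) (B : Mat), hBB, Matrix.one_mul]
    rw [e2]
    constructor
    · intro e; rw [e, mul_smul_comm, smul_mul_assoc]
    · intro e
      have := congrArg (fun X => ((B⁻¹ : GL (Fin 3) F) : Mat) * X * (B : Mat)) e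
      simpa [Matrix.mul_assoc, hBB, hBB', ← Matrix.mul_assoc ((B⁻¹ : GL (Fin 3) F) : Mat) (B : Mat)] using this
  obtain ⟨a01, a02, a10, a20⟩ := block_entries h2 (frame_comm hB hc)
  have h2' : (-1 : F) - 1 ≠ 0 := fun e => h2 (by linear_combination -e)
  constructor
  · rintro ⟨-, b, hb⟩
    have e := (key b).1 hb
    refine ⟨b, ?_⟩
    ext i j
    have := congrFun (congrFun e (![1, 2] i)) (![1, 2] j)
    fin_cases i <;> fin_cases j <;>
      simp [Matrix.mul_apply, Fin.sum_univ_three, pat0, blk] at this ⊢ <;>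
      exact mul_right_cancel₀ h2' (by simpa using this)
  · rintro ⟨b, hb⟩
    have e11 : mloc B h 1 1 = b := by simpa [blk] using congrFun (congrFun hb 0) 0
    have e12 : mloc B h 1 2 = 0 := by simpa [blk] using congrFun (congrFun hb 0) 1
    have e21 : mloc B h 2 1 = 0 := by simpa [blk] using congrFun (congrFun hb 1) 0
    have e22 : mloc B h 2 2 = b := by simpa [blk] using congrFun (congrFun hb 1) 1
    have hb0 : b ≠ 0 := fun e => by
      apply (B * (h : GL (Fin 3) F) * B⁻¹).det_ne_zero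
      show (mloc B h).det = 0
      simp [Matrix.det_fin_three, e11, e12, e21, e22, a01, a02, a10, a20, e]
    refine ⟨hc, Units.mk0 b hb0, (key b).2 ?_⟩
    ext i j
    fin_cases i <;> fin_cases j <;>
      simp [Matrix.mul_apply, Fin.sum_univ_three, pat0, e11, e12, e21, e22, a01, a02, a10, a20]

lemma homSub_diag (h2 : (2 : F) ≠ 0) {B : GL (Fin 3) F} {g : G} (hB : mloc B g = diagonal pat0) {h : G}
    (hh : h ∈ homSub G g) : ∃ a b : F, mloc B h = diagonal ![a, b, b] := by
  obtain ⟨b, hb⟩ := (homSub_iff h2 hB hh.1).1 hh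
  obtain ⟨a01, a02, a10, a20⟩ := block_entries h2 (frame_comm hB hh.1)
  refine ⟨mloc B h 0 0, b, ?_⟩
  ext i j
  have e11 := congrFun (congrFun hb 0) 0
  have e12 := congrFun (congrFun hb 0) 1
  have e21 := congrFun (congrFun hb 1) 0
  have e22 := congrFun (congrFun hb 1) 1
  simp [blk] at e11 e12 e21 e22
  fin_cases i <;> fin_cases j <;> simp [e11, e12, e21, e22, a01, a02, a10, a20]

/-- Two commuting involutions in one frame. -/
theorem NoTv.exists_frame (hG : NoTv G) (ht : orderOf t = 2) (hu : u ∈ invOther t) :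
    ∃ (g k : G) (B : GL (Fin 3) F), toPro G g = t ∧ toPro G k = u ∧ g * g = 1 ∧ k * k = 1 ∧ Commute g k ∧
      mloc B g = diagonal pat0 ∧ mloc B k = diagonal pat1 := by
  obtain ⟨huo, huc, hut⟩ := hu
  obtain ⟨g, rfl, hg, hgd⟩ := hG.exists_lift_involution ht
  obtain ⟨k, rfl, hk, hkd⟩ := hG.exists_lift_involution huo
  have hc : Commute g k := hG.commute_lift hg huc.symm
  have hw : g * k * (g * k) = 1 := by
    rw [show g * k * (g * k) = g * (k * g) * k by group, ← hc.eq,
      show g * (g * k) * k = (g * g) * (k * k) by group, hg, hk, mul_one]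
  have hwd : Diag3 ((g * k : G) : GL (Fin 3) F) ![1, -1, -1] := by
    refine diag3_of_sq_one hG (g * k).2 (by simpa using congrArg Subtype.val hw) fun hs => hut ?_
    have h1 := toPro_eq_one.2 hs
    rw [map_mul] at h1
    calc toPro G k = toPro G g * (toPro G g * toPro G k) := by rw [← mul_assoc, ← map_mul, hg, map_one, one_mul]
      _ = toPro G g := by rw [h1, mul_one]
  set a : Mat := ((g : GL (Fin 3) F) : Mat)
  set b : Mat := ((k : GL (Fin 3) F) : Mat)
  have haa : a * a = 1 := by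
    simpa [a] using congrArg (fun x : G => ((x : GL (Fin 3) F) : Mat)) hg
  have hbb : b * b = 1 := by
    simpa [b] using congrArg (fun x : G => ((x : GL (Fin 3) F) : Mat)) hk
  have hab : a * b = b * a := by
    simpa [a, b] using congrArg (fun x : G => ((x : GL (Fin 3) F) : Mat)) hc.eq
  have h2 := hG.two_ne
  have t1 : a.trace = -1 := by rw [hgd.trace]; simp
  have t2 : b.trace = -1 := by rw [hkd.trace]; simp
  have t3 : (a * b).trace = -1 := by
    have := hwd.trace
    simp [a, b] at this ⊢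
    exact this
  have hab' : b * a = a * b := hab.symm
  have ha1 : ∀ X : Mat, a * (a * X) = X := fun X => by rw [← mul_assoc, haa, one_mul]
  have hb1 : ∀ X : Mat, b * (b * X) = X := fun X => by rw [← mul_assoc, hbb, one_mul]
  have hba1 : ∀ X : Mat, b * (a * X) = a * (b * X) := fun X => by rw [← mul_assoc, hab', mul_assoc]
  have pick : ∀ (ε δ : F) (P : Mat), a * P = ε • P → b * P = δ • P → P.trace ≠ 0 →
      ∃ v : Fin 3 → F, v ≠ 0 ∧ a *ᵥ v = ε • v ∧ b *ᵥ v = δ • v := by
    intro ε δ P e1 e2 hP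
    have hP0 : P ≠ 0 := fun e => hP (by simp [e])
    obtain ⟨w, hw⟩ : ∃ w, P *ᵥ w ≠ 0 := by
      by_contra hcon
      push Not at hcon
      exact hP0 (Matrix.ext_iff_mulVec.2 fun w => by rw [hcon w, zero_mulVec])
    exact ⟨P *ᵥ w, hw, by rw [mulVec_mulVec, e1, smul_mulVec], by rw [mulVec_mulVec, e2, smul_mulVec]⟩
  have h4 : (4 : F) ≠ 0 := by
    rw [show (4 : F) = 2 * 2 by norm_num]; exact mul_ne_zero h2 h2
  obtain ⟨v0, hv0, a0, b0⟩ := pick 1 (-1) (1 + a - b - a * b)
    (by simp only [mul_add, mul_sub, mul_one, haa, ha1, one_smul]; abel)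
    (by simp only [mul_add, mul_sub, mul_one, hbb, hab', hba1, neg_smul, one_smul]; abel)
    (by simp only [trace_add, trace_sub, trace_one, t1, t2, t3, Fintype.card_fin]; norm_num; exact h4)
  obtain ⟨v1, hv1, a1, b1⟩ := pick (-1) 1 (1 - a + b - a * b)
    (by simp only [mul_add, mul_sub, mul_one, haa, ha1, neg_smul, one_smul]; abel)
    (by simp only [mul_add, mul_sub, mul_one, hbb, hab', hba1, one_smul]; abel)
    (by simp only [trace_add, trace_sub, trace_one, t1, t2, t3, Fintype.card_fin]; norm_num; exact h4)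
  obtain ⟨v2, hv2, a2, b2⟩ := pick (-1) (-1) (1 - a - b + a * b)
    (by simp only [mul_add, mul_sub, mul_one, haa, ha1, neg_smul, one_smul]; abel)
    (by simp only [mul_add, mul_sub, mul_one, hbb, hab', hba1, neg_smul, one_smul]; abel)
    (by simp only [trace_add, trace_sub, trace_one, t1, t2, t3, Fintype.card_fin]; norm_num; exact h4)
  have hli : LinearIndependent F ![v0, v1, v2] := by
    rw [Fintype.linearIndependent_iff]
    intro c hc'
    simp only [Fin.sum_univ_three, Matrix.cons_val_zero, Matrix.cons_val_one, Matrix.cons_val_two, Matrix.head_cons,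
      Matrix.tail_cons] at hc'
    have ea := congrArg (fun r => a *ᵥ r) hc'
    have eb := congrArg (fun r => b *ᵥ r) hc'
    simp only [mulVec_add, mulVec_smul, a0, a1, a2, b0, b1, b2, mulVec_zero] at ea eb
    have c0 : ((2 : F) * c 0) • v0 = 0 :=
      calc ((2 : F) * c 0) • v0 = (c 0 • v0 + c 1 • v1 + c 2 • v2) +
            (c 0 • (1 : F) • v0 + c 1 • (-1 : F) • v1 + c 2 • (-1 : F) • v2) := by module
        _ = 0 := by rw [hc', ea, add_zero]
    have c1 : ((2 : F) * c 1) • v1 = 0 :=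
      calc ((2 : F) * c 1) • v1 = (c 0 • v0 + c 1 • v1 + c 2 • v2) +
            (c 0 • (-1 : F) • v0 + c 1 • (1 : F) • v1 + c 2 • (-1 : F) • v2) := by module
        _ = 0 := by rw [hc', eb, add_zero]
    have z0 := (mul_eq_zero.1 ((smul_eq_zero.1 c0).resolve_right hv0)).resolve_left h2
    have z1 := (mul_eq_zero.1 ((smul_eq_zero.1 c1).resolve_right hv1)).resolve_left h2
    rw [z0, z1, zero_smul, zero_smul, zero_add, zero_add] at hc'
    have z2 := (smul_eq_zero.1 hc').resolve_right hv2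
    intro i; fin_cases i <;> assumption
  have hu' : IsUnit (Matrix.of ![v0, v1, v2]) := linearIndependent_rows_iff_isUnit.1 hli
  set P : GL (Fin 3) F := ((isUnit_transpose (Matrix.of ![v0, v1, v2])).2 hu').unit with hP
  have hPv : (P : Mat) = (Matrix.of ![v0, v1, v2])ᵀ := by rw [hP, IsUnit.unit_spec]
  have conjP : ∀ (x : GL (Fin 3) F) (d : Fin 3 → F), (∀ i, (x : Mat) *ᵥ ![v0, v1, v2] i = d i • ![v0, v1, v2] i) →
      mloc P⁻¹ x = diagonal d := by
    intro x d hx
    have e : (x : Mat) * (P : Mat) = (P : Mat) * diagonal d := by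
      ext i j
      rw [Matrix.mul_diagonal, hPv]
      have := congrFun (hx j) i
      simpa [Matrix.mul_apply, Matrix.mulVec, dotProduct, mul_comm] using this
    rw [mloc_eq, inv_inv, Matrix.mul_assoc, e, ← Matrix.mul_assoc, ← Units.val_mul, inv_mul_cancel, Units.val_one,
      Matrix.one_mul]
  refine ⟨g, k, P⁻¹, rfl, rfl, hg, hk, hc, conjP _ _ fun i => ?_, conjP _ _ fun i => ?_⟩
  · fin_cases i <;> simp [pat0, a, a0, a1, a2] 
  · fin_cases i <;> simp [pat1, b, b0, b1, b2]

lemma NoTv.exists_frame_one (hG : NoTv G) (ht : orderOf t = 2) :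
    ∃ (g : G) (B : GL (Fin 3) F), toPro G g = t ∧ g * g = 1 ∧ mloc B g = diagonal pat0 := by
  obtain ⟨g, e, hg, B, hB⟩ := hG.exists_lift_involution ht
  exact ⟨g, B, e, hg, hB⟩

lemma NoTv.lift_of_cen (hG : NoTv G) {g : G} (hg : g * g = 1) {x : Pro G} (hx : x ∈ cen (toPro G g)) :
    ∃ h : G, toPro G h = x ∧ Commute h g := by
  obtain ⟨h, rfl⟩ := toPro_surjective x
  exact ⟨h, rfl, (hG.commute_lift hg (Subgroup.mem_centralizer_singleton_iff.1 hx).symm).symm⟩

theorem NoTv.homK_central (hG : NoTv G) (ht : orderOf t = 2) {k x : Pro G} (hk : k ∈ homK G t) (hx : x ∈ cen t) :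
    Commute k x := by
  obtain ⟨g, B, rfl, hg, hB⟩ := hG.exists_frame_one ht
  obtain ⟨h, rfl, hh⟩ := hG.lift_of_cen hg hx
  obtain ⟨k, rfl⟩ := toPro_surjective k
  rw [toPro_mem_homK hG hg] at hk
  obtain ⟨a, b, e⟩ := homSub_diag hG.two_ne hB hk
  have : Commute k h := Subtype.ext ((mloc_commute (B := B)).2 (by
    rw [e]
    refine (comm_diagonal_of_comm (frame_comm hB hh) fun i j hij => ?_).symm
    have hne := ne_neg_one hG.two_ne
    fin_cases i <;> fin_cases j <;> simp [pat0, hne, hne.symm] at hij ⊢))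
  exact this.map (toPro G)

theorem NoTv.notMem_homK (hG : NoTv G) (ht : orderOf t = 2) (hu : u ∈ invOther t) : u ∉ homK G t := by
  obtain ⟨g, k, B, rfl, rfl, hg, -, hc, hB, hB'⟩ := hG.exists_frame ht hu
  intro h
  rw [toPro_mem_homK hG hg] at h
  obtain ⟨a, b, e⟩ := homSub_diag hG.two_ne hB h
  rw [hB', diagonal_eq_diagonal_iff] at e
  have e1 := e 1
  have e2 := e 2
  simp [pat1] at e1 e2
  exact ne_neg_one hG.two_ne (e1.trans e2.symm)

theorem NoTv.homK_inf (hG : NoTv G) (ht : orderOf t = 2) (hu : u ∈ invOther t) :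
    homK G t ⊓ homK G u = ⊥ := by
  obtain ⟨g, k, B, rfl, rfl, hg, hk, hc, hB, hB'⟩ := hG.exists_frame ht hu
  rw [Subgroup.eq_bot_iff_forall]
  rintro x ⟨hxt, hxu⟩
  obtain ⟨h, rfl⟩ := toPro_surjective x
  replace hxt : h ∈ homSub G g := (toPro_mem_homK hG hg).1 hxt
  replace hxu : h ∈ homSub G k := (toPro_mem_homK hG hk).1 hxu
  obtain ⟨a, b, e⟩ := homSub_diag hG.two_ne hB hxt
  obtain ⟨c, hb'⟩ := hxu.2
  have key := congrArg (fun X => (B : Mat) * X * ((B⁻¹ : GL (Fin 3) F) : Mat)) hb'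
  have hk1 : (B : Mat) * (((k : GL (Fin 3) F) : Mat) - 1) * ((B⁻¹ : GL (Fin 3) F) : Mat) = diagonal pat1 - 1 := by
    rw [mul_sub, sub_mul, mul_one, ← hB', mloc_eq]
    congr 1
    rw [← Units.val_mul, mul_inv_cancel, Units.val_one]
  have e' : mloc B h * (diagonal pat1 - 1) = (c : F) • (diagonal pat1 - 1) := by
    rw [← hk1]
    refine Eq.trans ?_ (key.trans (by rw [mul_smul_comm, smul_mul_assoc]))
    rw [mloc_eq]
    simp only [Matrix.mul_assoc]
    rw [← Matrix.mul_assoc ((B⁻¹ : GL (Fin 3) F) : Mat) (B : Mat), ← Units.val_mul, inv_mul_cancel, Units.val_one,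
      Matrix.one_mul]
  have e0 := congrFun (congrFun e' 0) 0
  have e2 := congrFun (congrFun e' 2) 2
  have h2' : (-1 : F) - 1 ≠ 0 := fun e => hG.two_ne (by linear_combination -e)
  simp [e, pat1, Matrix.mul_apply, Fin.sum_univ_three] at e0 e2
  have hab : a = b := (e0.resolve_right h2').trans (e2.resolve_right h2').symm
  rw [toPro_eq_one]
  exact mem_scalars_mloc ⟨a, by rw [e, hab, smul_one_eq_diagonal]; congr 1; ext i; fin_cases i <;> rfl⟩

theorem NoTv.isMulCommutative_meet (hG : NoTv G) (ht : orderOf t = 2) (hu : u ∈ invOther t) :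
    IsMulCommutative ↥(cen t ⊓ cen u) := by
  obtain ⟨g, k, B, rfl, rfl, hg, hk, hc, hB, hB'⟩ := hG.exists_frame ht hu
  refine ⟨⟨fun x y => ?_⟩⟩
  obtain ⟨x, hxg, hxk⟩ := x
  obtain ⟨y, hyg, hyk⟩ := y
  obtain ⟨a, rfl, hag⟩ := hG.lift_of_cen hg hxg
  obtain ⟨b, rfl, hbg⟩ := hG.lift_of_cen hg hyg
  have hak : Commute a k := (hG.commute_lift hk (Subgroup.mem_centralizer_singleton_iff.1 hxk).symm).symm
  have hbk : Commute b k := (hG.commute_lift hk (Subgroup.mem_centralizer_singleton_iff.1 hyk).symm).symm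
  have dd : ∀ {h : G}, Commute h g → Commute h k → mloc B h = diagonal fun i => mloc B h i i := fun h1 h2 =>
    eq_diagonal_of_comm hG.two_ne (frame_comm hB h1) (by
      have := (mloc_commute (B := B)).1 (h2.map G.subtype)
      rw [← hB']; exact this)
  have : Commute a b := Subtype.ext ((mloc_commute (B := B)).2 (by
    rw [dd hag hak, dd hbg hbk, diagonal_mul_diagonal, diagonal_mul_diagonal]
    simp only [mul_comm]))
  exact Subtype.ext (this.map (toPro G)).eq

/-- A commutator differing from an involution by a homology has a square root of the centre. -/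
theorem NoTv.exists_sqrt (hG : NoTv G) (ht : orderOf t = 2) (hu : u ∈ invOther t) {x y : Pro G} (hx : x ∈ cen t)
    (hy : y ∈ cen t) (h : u⁻¹ * ⁅x, y⁆ ∈ homK G t) : ∃ k ∈ homK G t, k * k = t := by
  obtain ⟨g, k, B, rfl, rfl, hg, hk, hc, hB, hB'⟩ := hG.exists_frame ht hu
  obtain ⟨a, rfl, hag⟩ := hG.lift_of_cen hg hx
  obtain ⟨b, rfl, hbg⟩ := hG.lift_of_cen hg hy
  refine ⟨_, h, ?_⟩
  rw [← map_commutatorElement, ← map_inv, ← map_mul, toPro_mem_homK hG hg] at h
  rw [← map_commutatorElement, ← map_inv, ← map_mul, ← map_mul]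
  congr 1
  obtain ⟨c, d, e⟩ := homSub_diag hG.two_ne hB h
  have hwg : Commute ⁅a, b⁆ g := by
    rw [commutatorElement_def]
    exact ((hag.mul_left hbg).mul_left hag.inv_left).mul_left hbg.inv_left
  have hw : mloc B (⁅a, b⁆ : G) = diagonal ![-c, d, -d] := by
    have : (⁅a, b⁆ : G) = k * (k⁻¹ * ⁅a, b⁆) := by group
    rw [this, Subgroup.coe_mul, mloc_mul, hB', e, diagonal_mul_diagonal]
    congr 1; ext i; fin_cases i <;> simp [pat1]
  have hcor : mloc B (⁅a, b⁆ : G) 0 0 = 1 := by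
    have cm : ∀ {p q : G}, Commute p g → mloc B (p * q : G) 0 0 = mloc B p 0 0 * mloc B q 0 0 := fun hp => by
      rw [Subgroup.coe_mul, mloc_mul]; exact corner_mul hG.two_ne (frame_comm hB hp) _
    rw [commutatorElement_def, cm ((hag.mul_left hbg).mul_left hag.inv_left), cm (hag.mul_left hbg), cm hag,
      mul_right_comm (mloc B a 0 0), mul_assoc _ (mloc B b 0 0), ← cm hag, ← cm hbg, mul_inv_cancel, mul_inv_cancel]
    simp [mloc_one]
  have hc1 : c = -1 := by
    rw [hw] at hcor; simp at hcor; linear_combination -hcor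
  have hd : d * d = -1 := by
    have h1 : (mloc B (⁅a, b⁆ : G)).det = 1 := by
      rw [mloc_eq, det_units_conj]; exact mem_specialLinear.1 (hG.le_specialLinear (⁅a, b⁆ : G).2)
    rw [hw, det_diagonal, Fin.prod_univ_three] at h1
    simp [hc1] at h1
    linear_combination -h1
  apply Subtype.ext
  apply mloc_inj (B := B)
  rw [Subgroup.coe_mul, mloc_mul, e, hB, diagonal_mul_diagonal]
  congr 1; ext i; fin_cases i <;> simp [pat0, hc1, hd]

end CfsgLib.Geo.D3
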