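/-
The centraliser of an involution in PGL of dimension two, cyclic parts, semisimplicity, homologies and their inverses.
-/
import Cfsg.Agent.Geo.DimThree.NoTv.InvolFrame

set_option autoImplicit false
set_option linter.unusedSectionVars false

namespace CfsgLib.Geo.D3

open Matrix Cfsg Cfsg.Geo CfsgLib.Geo

variable {F : Type*} [Field F] {G : Subgroup (GL (Fin 3) F)} {t u : Pro G}

local notation "Mat" => Matrix (Fin 3) (Fin 3) F

/-- The centraliser of an involution maps to PGL of dimension two with the homology group as kernel. -/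
theorem NoTv.exists_proj (hG : NoTv G) (ht : orderOf t = 2) :
    ∃ π : cen t →* CfsgLib.Dickson.PGL2 F, ∀ x : cen t, π x = 1 ↔ (x : Pro G) ∈ homK G t := by
  obtain ⟨g, B, rfl, hg, hB⟩ := hG.exists_frame_one ht
  set C : Subgroup G := Subgroup.centralizer ({g} : Set G) with hC
  have hcm : ∀ a : C, Commute (a : G) g := fun a => Subgroup.mem_centralizer_singleton_iff.1 a.2
  let Φ : C →* GL (Fin 2) F := MonoidHom.toHomUnits
    { toFun := fun a => blk (mloc B ((a : G) : GL (Fin 3) F))
      map_one' := by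
        rw [Subgroup.coe_one, Subgroup.coe_one, mloc_one, blk]
        exact Matrix.submatrix_one _ (by decide)
      map_mul' := fun a b => by
        rw [Subgroup.coe_mul, Subgroup.coe_mul, mloc_mul, blk_mul hG.two_ne (frame_comm hB (hcm a))] }
  let π₀ : C →* CfsgLib.Dickson.PGL2 F := Matrix.ProjGenLinGroup.mk.comp Φ
  let f : C →* cen (toPro G g) := ((toPro G).comp C.subtype).codRestrict (cen (toPro G g))
    fun a => Subgroup.mem_centralizer_singleton_iff.2 ((hcm a).map (toPro G)).eq
  have hf : Function.Surjective f := fun x => by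
    obtain ⟨h, e, hh⟩ := hG.lift_of_cen hg x.2
    exact ⟨⟨h, Subgroup.mem_centralizer_singleton_iff.2 hh.eq⟩, Subtype.ext e⟩
  have key : ∀ a : C, π₀ a = 1 ↔ toPro G (a : G) ∈ homK G (toPro G g) := by
    intro a
    rw [toPro_mem_homK hG hg, homSub_iff hG.two_ne hB (hcm a)]
    show Matrix.ProjGenLinGroup.mk (Φ a) = 1 ↔ _
    rw [Matrix.ProjGenLinGroup.mk_eq_one, Matrix.GeneralLinearGroup.center_eq_range_scalar]
    constructor
    · rintro ⟨w, hw⟩
      refine ⟨(w : F), ?_⟩
      have := congrArg Units.val hw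
      rw [GeneralLinearGroup.coe_scalar, scalar_apply] at this
      show ((Φ a : GL (Fin 2) F) : Matrix (Fin 2) (Fin 2) F) = _
      rw [← this, smul_one_eq_diagonal]
    · rintro ⟨b, hb⟩
      have hb0 : b ≠ 0 := fun e => (Φ a).det_ne_zero (by
        show (blk (mloc B ((a : G) : GL (Fin 3) F))).det = 0
        rw [hb, e, zero_smul, Matrix.det_zero])
      refine ⟨Units.mk0 b hb0, Units.ext ?_⟩
      show (GeneralLinearGroup.scalar (Fin 2) (Units.mk0 b hb0) : Matrix (Fin 2) (Fin 2) F) =
        blk (mloc B ((a : G) : GL (Fin 3) F))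
      rw [hb, GeneralLinearGroup.coe_scalar, scalar_apply, smul_one_eq_diagonal, Units.val_mk0]
  have hker : f.ker ≤ π₀.ker := fun a ha => by
    rw [MonoidHom.mem_ker] at ha ⊢
    have e : toPro G (a : G) = 1 := congrArg Subtype.val ha
    exact (key a).2 (e ▸ one_mem _)
  refine ⟨MonoidHom.liftOfSurjective f hf ⟨π₀, hker⟩, fun x => ?_⟩
  obtain ⟨a, rfl⟩ := hf x
  rw [MonoidHom.liftOfRightInverse_comp_apply]
  exact key a

/-- A finite family of nonzero field elements generated by one of them. -/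
lemma exists_gen [Finite F] {C : Type*} [Group C] (ρ : C →* Fˣ) :
    ∃ a : C, ∀ b : C, ∃ n : ℕ, ρ b = ρ a ^ n := by
  obtain ⟨⟨_, a, rfl⟩, ha⟩ := IsCyclic.exists_monoid_generator (α := ρ.range)
  refine ⟨a, fun b => ?_⟩
  obtain ⟨n, hn⟩ := ha ⟨_, b, rfl⟩
  exact ⟨n, (congrArg Subtype.val hn).symm⟩

/-- The meet of two commuting involution centralisers is cyclic modulo the homology group. -/
theorem NoTv.exists_meet_gen [Finite F] (hG : NoTv G) (ht : orderOf t = 2) (hu : u ∈ invOther t) :
    ∃ x ∈ cen t ⊓ cen u, ∀ y ∈ cen t ⊓ cen u, ∃ n : ℕ, y * (x ^ n)⁻¹ ∈ homK G t := by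
  obtain ⟨g, k, B, rfl, rfl, hg, hk, hc, hB, hB'⟩ := hG.exists_frame ht hu
  set C : Subgroup G := Subgroup.centralizer ({g, k} : Set G) with hC
  have hcg : ∀ a : C, Commute (a : G) g := fun a =>
    ((Subgroup.mem_centralizer_iff.1 a.2) g (Set.mem_insert g {k})).symm
  have hck : ∀ a : C, Commute (a : G) k := fun a =>
    ((Subgroup.mem_centralizer_iff.1 a.2) k (Set.mem_insert_of_mem g rfl)).symm
  have dd : ∀ a : C, mloc B ((a : G) : GL (Fin 3) F) =
      diagonal fun i => mloc B ((a : G) : GL (Fin 3) F) i i := fun a =>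
    eq_diagonal_of_comm hG.two_ne (frame_comm hB (hcg a)) (by
      have := (mloc_commute (B := B)).1 ((hck a).map G.subtype)
      rw [← hB']; exact this)
  let ρ : C →* Fˣ := MonoidHom.toHomUnits
    { toFun := fun a => mloc B ((a : G) : GL (Fin 3) F) 1 1 / mloc B ((a : G) : GL (Fin 3) F) 2 2
      map_one' := by simp [mloc_one]
      map_mul' := fun a b => by
        rw [Subgroup.coe_mul, Subgroup.coe_mul, mloc_mul, dd a, dd b, diagonal_mul_diagonal]
        simp only [diagonal_apply_eq]
        exact mul_div_mul_comm _ _ _ _ }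
  obtain ⟨a, ha⟩ := exists_gen ρ
  have memT : ∀ a : C, toPro G (a : G) ∈ cen (toPro G g) ⊓ cen (toPro G k) := fun a =>
    ⟨Subgroup.mem_centralizer_singleton_iff.2 ((hcg a).map (toPro G)).eq,
      Subgroup.mem_centralizer_singleton_iff.2 ((hck a).map (toPro G)).eq⟩
  refine ⟨toPro G (a : G), memT a, fun y hy => ?_⟩
  obtain ⟨hy1, hy2⟩ := hy
  obtain ⟨b, rfl, hbg⟩ := hG.lift_of_cen hg hy1
  have hbk : Commute b k := (hG.commute_lift hk (Subgroup.mem_centralizer_singleton_iff.1 hy2).symm).symm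
  let b' : C := ⟨b, Subgroup.mem_centralizer_iff.2 (by
    rintro h (rfl | rfl); exacts [hbg.symm.eq, hbk.symm.eq])⟩
  obtain ⟨n, hn⟩ := ha b'
  refine ⟨n, ?_⟩
  set c : C := b' * (a ^ n)⁻¹
  have hρ : ρ c = 1 := by rw [map_mul, map_inv, map_pow, hn, mul_inv_cancel]
  have e : toPro G b * (toPro G (a : G) ^ n)⁻¹ = toPro G (c : G) := by
    simp [c, b']
  rw [e, toPro_mem_homK hG hg, homSub_iff hG.two_ne hB (hcg c)]
  have e1 : mloc B ((c : G) : GL (Fin 3) F) 1 1 / mloc B ((c : G) : GL (Fin 3) F) 2 2 = 1 :=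
    congrArg Units.val hρ
  have e12 := eq_of_div_eq_one e1
  refine ⟨mloc B ((c : G) : GL (Fin 3) F) 1 1, ?_⟩
  ext i j
  rw [dd c]
  fin_cases i <;> fin_cases j <;> simp [blk, e12]

/-- The homology group is cyclic. -/
theorem NoTv.isCyclic_homK [Finite F] (hG : NoTv G) (ht : orderOf t = 2) : IsCyclic (homK G t) := by
  obtain ⟨g, B, rfl, hg, hB⟩ := hG.exists_frame_one ht
  have dd : ∀ a : homSub G g, mloc B ((a : G) : GL (Fin 3) F) =
      diagonal fun i => mloc B ((a : G) : GL (Fin 3) F) i i := fun a => by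
    obtain ⟨x, y, e⟩ := homSub_diag hG.two_ne hB a.2
    rw [e]; simp
  let ρ : homSub G g →* Fˣ := MonoidHom.toHomUnits
    { toFun := fun a => mloc B ((a : G) : GL (Fin 3) F) 0 0 / mloc B ((a : G) : GL (Fin 3) F) 1 1
      map_one' := by simp [mloc_one]
      map_mul' := fun a b => by
        rw [Subgroup.coe_mul, Subgroup.coe_mul, mloc_mul, dd a, dd b, diagonal_mul_diagonal]
        simp only [diagonal_apply_eq]
        exact mul_div_mul_comm _ _ _ _ }
  obtain ⟨a, ha⟩ := exists_gen ρ
  refine ⟨⟨⟨toPro G (a : G), (toPro_mem_homK hG hg).2 a.2⟩, ?_⟩⟩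
  rintro ⟨y, hy⟩
  obtain ⟨b, rfl⟩ := toPro_surjective y
  obtain ⟨n, hn⟩ := ha ⟨b, (toPro_mem_homK hG hg).1 hy⟩
  refine ⟨(n : ℤ), Subtype.ext ?_⟩
  simp only [zpow_natCast, SubmonoidClass.coe_pow]
  rw [← map_pow]
  set c : homSub G g := ⟨b, (toPro_mem_homK hG hg).1 hy⟩ * (a ^ n)⁻¹ with hc
  have e1 : mloc B ((c : G) : GL (Fin 3) F) 0 0 / mloc B ((c : G) : GL (Fin 3) F) 1 1 = 1 :=
    congrArg Units.val (show ρ c = 1 by rw [hc, map_mul, map_inv, map_pow, hn, mul_inv_cancel])
  obtain ⟨x, z, e⟩ := homSub_diag hG.two_ne hB c.2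
  rw [e] at e1
  simp at e1
  have hxz := eq_of_div_eq_one e1
  have : toPro G (c : G) = 1 := toPro_eq_one.2 (mem_scalars_mloc ⟨x, by
    rw [e, ← hxz, smul_one_eq_diagonal]; congr 1; ext i; fin_cases i <;> rfl⟩)
  rw [hc, Subgroup.coe_mul, InvMemClass.coe_inv, SubmonoidClass.coe_pow, map_mul, map_inv, mul_inv_eq_one] at this
  exact this.symm

/-- No element of characteristic order centralises an involution. -/
theorem NoTv.eq_one_of_pow_char [Finite F] (hG : NoTv G) {p : ℕ} [CharP F p] (ht : orderOf t = 2) {x : Pro G}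
    (hx : x ∈ cen t) (hxp : x ^ p = 1) : x = 1 := by
  have hp : p.Prime := CharP.char_is_prime F p
  have := Fact.mk hp
  have hp2 : p ≠ 2 := fun e => hG.two_ne (by subst e; exact_mod_cast CharP.cast_eq_zero F 2)
  have hpodd : Odd p := hp.odd_of_ne_two hp2
  have h3p : 3 ≤ p := by have := hp.two_le; omega
  obtain ⟨g, B, rfl, hg, hB⟩ := hG.exists_frame_one ht
  obtain ⟨h, rfl, hh⟩ := hG.lift_of_cen hg hx
  have htp : toPro G g ^ p = toPro G g := by
    obtain ⟨k, hk⟩ := hpodd
    rw [hk, pow_succ, pow_mul, pow_two, ← map_mul, hg, map_one, one_pow, one_mul]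
  have hgh : toPro G (g * h) ^ p = toPro G g := by
    rw [map_mul, Commute.mul_pow (hh.symm.map (toPro G)), hxp, mul_one, htp]
  have hns : ((g * h : G) : GL (Fin 3) F) ∉ scalars (Fin 3) F := fun hs => by
    rw [← toPro_eq_one] at hs
    rw [hs, one_pow] at hgh
    rw [← hgh, orderOf_one] at ht
    omega
  have hsc : ∀ {q : GL (Fin 3) F} {c : F}, (q : Mat) = c • (1 : Mat) → q ∈ scalars (Fin 3) F := fun {q c} e =>
    mem_scalars_mloc (B := 1) ⟨c, by simpa [mloc] using e⟩
  rcases hG.cases' (g * h).2 hns with hu | hss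
  · exfalso
    obtain ⟨-, c, hc⟩ := hu
    have h0 : (((g * h : G) : GL (Fin 3) F) : Mat) ^ p = c ^ p • (1 : Mat) := by
      have e := pow_eq_zero_of_le h3p hc
      rw [sub_pow_char_of_commute (p := p) ((Commute.one_right _).smul_right c), sub_eq_zero, smul_pow, one_pow] at e
      exact e
    have h1 : toPro G ((g * h) ^ p) = 1 := toPro_eq_one.2 (hsc (c := c ^ p) (by
      rw [SubmonoidClass.coe_pow, Units.val_pow_eq_pow_val]; exact h0))
    rw [map_pow, hgh] at h1
    rw [h1, orderOf_one] at ht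
    omega
  · obtain ⟨d, B', hd⟩ : ∃ d, Diag3 ((g * h : G) : GL (Fin 3) F) d := by
      rcases hss with ⟨a, b, -, hd⟩ | ⟨d, -, hd⟩ <;> exact ⟨_, hd⟩
    have hsq : toPro G ((g * h) ^ (2 * p)) = 1 := by
      rw [map_pow, mul_comm, pow_mul, hgh, pow_two, ← map_mul, hg, map_one]
    obtain ⟨c, hc⟩ := (mem_scalars_iff _).1 (toPro_eq_one.1 hsq)
    have hdp : ∀ i, d i ^ (2 * p) = (c : F) := fun i => by
      have e : mloc B' (((g * h) ^ (2 * p) : G) : GL (Fin 3) F) = (c : F) • (1 : Mat) := mloc_smul_one.2 hc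
      rw [SubmonoidClass.coe_pow, mloc_pow, show mloc B' ((g * h : G) : GL (Fin 3) F) = diagonal d from hd,
        diagonal_pow] at e
      simpa using congrFun (congrFun e i) i
    have heq : ∀ i, d i ^ 2 = d 0 ^ 2 := fun i => frobenius_inj F p (by
      rw [frobenius_def, frobenius_def, ← pow_mul, ← pow_mul, hdp, hdp])
    have h2 : toPro G ((g * h) ^ 2) = 1 := toPro_eq_one.2 (mem_scalars_mloc (B := B') ⟨d 0 ^ 2, by
      rw [SubmonoidClass.coe_pow, mloc_pow, show mloc B' ((g * h : G) : GL (Fin 3) F) = diagonal d from hd,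
        diagonal_pow, smul_one_eq_diagonal]
      congr 1; ext i; exact heq i⟩)
    rw [map_pow, map_mul, Commute.mul_pow (hh.symm.map (toPro G)), pow_two, ← map_mul (toPro G) g g, hg, map_one, one_mul] at h2
    obtain ⟨k, hk⟩ := hpodd
    rwa [hk, pow_succ, pow_mul, h2, one_pow, one_mul] at hxp

/-! ### Homologies and regular elements -/

/-- A homology conjugate to a scalar multiple of itself commutes or has scalar square. -/
lemma hom_conj_self {h y : GL (Fin 3) F} (hh : IsHom h) {c : F}
    (e : ((y * h * y⁻¹ : GL (Fin 3) F) : Mat) = c • (h : Mat)) :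
    Commute y h ∨ h * h ∈ scalars (Fin 3) F := by
  obtain ⟨a, b, hab, B, hB⟩ := hh
  set Y := B * y * B⁻¹
  have e' : (Y : Mat) * diagonal ![a, b, b] = c • (diagonal ![a, b, b] * (Y : Mat)) := by
    have h1 : ((y * h : GL (Fin 3) F) : Mat) = c • ((h * y : GL (Fin 3) F) : Mat) := by
      rw [Units.val_mul h y, ← smul_mul_assoc, ← e, ← Units.val_mul]; congr 1; group
    rw [← hB, ← Units.val_mul, ← Units.val_mul, show Y * (B * h * B⁻¹) = B * (y * h) * B⁻¹ by simp only [Y]; group,
      show B * h * B⁻¹ * Y = B * (h * y) * B⁻¹ by simp only [Y]; group, Units.val_mul, Units.val_mul, h1,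
      mul_smul_comm, smul_mul_assoc, ← Units.val_mul, ← Units.val_mul]
  have key : ∀ i j, (Y : Mat) i j * ![a, b, b] j = c * (![a, b, b] i * (Y : Mat) i j) := fun i j => by
    have := congrFun (congrFun e' i) j
    simpa [Matrix.mul_diagonal, Matrix.diagonal_mul] using this
  have ha0 : a ≠ 0 := fun e => (B * h * B⁻¹).det_ne_zero (by
    rw [hB, det_diagonal, Fin.prod_univ_three]; simp [e])
  have hb0 : b ≠ 0 := fun e => (B * h * B⁻¹).det_ne_zero (by
    rw [hB, det_diagonal, Fin.prod_univ_three]; simp [e])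
  by_cases hc : c = 1
  · exact Or.inl (mloc_inj (B := B) (by
      rw [mloc_mul, mloc_mul, show mloc B h = diagonal ![a, b, b] from hB]
      simpa [hc, Y, mloc] using e'))
  right
  have z : ∀ i j, ![a, b, b] i = ![a, b, b] j → (Y : Mat) i j = 0 := fun i j hij => by
    have k := key i j
    rw [hij] at k
    have hd : ![a, b, b] j ≠ 0 := by fin_cases j <;> simp [ha0, hb0]
    have : (Y : Mat) i j * (![a, b, b] j * (1 - c)) = 0 := by linear_combination k
    rcases mul_eq_zero.1 this with h | h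
    · exact h
    · exact absurd (mul_eq_zero.1 h) (by simp [hd, sub_eq_zero, Ne.symm hc])
  refine absurd ?_ Y.det_ne_zero
  have z00 := z 0 0 rfl
  have z11 := z 1 1 rfl
  have z12 := z 1 2 rfl
  have z21 := z 2 1 rfl
  have z22 := z 2 2 rfl
  simp [Matrix.det_fin_three, z00, z11, z12, z21, z22]

/-- A homology is not conjugate to a scalar multiple of its inverse, unless its square is scalar. -/
lemma hom_conj_inv {h y : GL (Fin 3) F} (hh : IsHom h) {c : F}
    (e : ((y * h * y⁻¹ : GL (Fin 3) F) : Mat) = c • ((h⁻¹ : GL (Fin 3) F) : Mat)) :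
    h * h ∈ scalars (Fin 3) F := by
  obtain ⟨a, b, hab, B, hB⟩ := hh
  set Y := B * y * B⁻¹
  have ha0 : a ≠ 0 := fun e => (B * h * B⁻¹).det_ne_zero (by
    rw [hB, det_diagonal, Fin.prod_univ_three]; simp [e])
  have hb0 : b ≠ 0 := fun e => (B * h * B⁻¹).det_ne_zero (by
    rw [hB, det_diagonal, Fin.prod_univ_three]; simp [e])
  have e' : diagonal ![a, b, b] * (Y : Mat) * diagonal ![a, b, b] = c • (Y : Mat) := by
    have h1 : ((h * (y * h) : GL (Fin 3) F) : Mat) = c • (y : Mat) := by
      rw [show h * (y * h) = h * (y * h * y⁻¹) * y by group, Units.val_mul, Units.val_mul, e, mul_smul_comm,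
        smul_mul_assoc, ← Units.val_mul, mul_inv_cancel, Units.val_one, one_mul]
    rw [← hB, ← Units.val_mul, ← Units.val_mul,
      show B * h * B⁻¹ * Y * (B * h * B⁻¹) = B * (h * (y * h)) * B⁻¹ by simp only [Y]; group, Units.val_mul,
      Units.val_mul, h1, mul_smul_comm, smul_mul_assoc, ← Units.val_mul, ← Units.val_mul]
  have key : ∀ i j, ![a, b, b] i * (Y : Mat) i j * ![a, b, b] j = c * (Y : Mat) i j := fun i j => by
    have := congrFun (congrFun e' i) j
    simpa [Matrix.mul_diagonal, Matrix.diagonal_mul] using this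
  by_cases hsum : a + b = 0
  · refine mem_scalars_mloc (B := B) ⟨a * a, ?_⟩
    rw [mloc_mul, show mloc B h = diagonal ![a, b, b] from hB, diagonal_mul_diagonal, smul_one_eq_diagonal]
    congr 1
    ext i
    have : b = -a := by linear_combination hsum
    fin_cases i <;> simp [this]
  exfalso
  have z : ∀ i j, (Y : Mat) i j ≠ 0 → ![a, b, b] i * ![a, b, b] j = c := fun i j hne => by
    refine mul_right_cancel₀ hne ?_
    linear_combination key i j
  have hne : a * a ≠ b * b := fun e => by
    rcases mul_self_eq_mul_self_iff.1 e with h | h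
    · exact hab h
    · exact hsum (by rw [h]; ring)
  refine Y.det_ne_zero ?_
  rcases em (c = a * b) with rfl | hc
  · have z00 : (Y : Mat) 0 0 = 0 := by_contra fun h => by
      have := z 0 0 h; simp at this; exact hab (this.resolve_right ha0)
    have zb : ∀ i j, i ≠ 0 → j ≠ 0 → (Y : Mat) i j = 0 := fun i j hi hj => by_contra fun h => by
      have := z i j h
      fin_cases i <;> fin_cases j <;> simp at hi hj this <;>
        exact hab (this.resolve_right hb0).symm
    simp [Matrix.det_fin_three, z00, zb 1 1 (by decide) (by decide), zb 1 2 (by decide) (by decide),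
      zb 2 1 (by decide) (by decide), zb 2 2 (by decide) (by decide)]
  · have z01 : ∀ j, j ≠ 0 → (Y : Mat) 0 j = 0 ∧ (Y : Mat) j 0 = 0 := fun j hj =>
      ⟨by_contra fun h => by have := z 0 j h; fin_cases j <;> simp at hj this <;> exact hc this.symm,
        by_contra fun h => by
          have := z j 0 h
          fin_cases j <;> simp at hj this <;> exact hc (this.symm.trans (mul_comm _ _))⟩
    have z1 := z01 1 (by decide)
    have z2 := z01 2 (by decide)
    by_cases hca : c = a * a
    · have zb : ∀ i j, i ≠ 0 → j ≠ 0 → (Y : Mat) i j = 0 := fun i j hi hj => by_contra fun h => by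
        have := z i j h
        fin_cases i <;> fin_cases j <;> simp at hi hj this <;> exact hne (hca.symm.trans this.symm)
      simp [Matrix.det_fin_three, z1.1, z1.2, z2.1, z2.2, zb 1 1 (by decide) (by decide),
        zb 1 2 (by decide) (by decide)]
    · have z00 : (Y : Mat) 0 0 = 0 := by_contra fun h => by
        have := z 0 0 h; simp at this; exact hca this.symm
      simp [Matrix.det_fin_three, z00, z1.1, z1.2, z2.1, z2.2]

/-- Centralisers of regular elements are commutative. -/
lemma reg_commute {h x y : GL (Fin 3) F} (hh : IsReg h) (hx : Commute x h) (hy : Commute y h) : Commute x y := by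
  obtain ⟨d, hd, B, hB⟩ := hh
  have diag : ∀ {x}, Commute x h → mloc B x = diagonal fun i => mloc B x i i := fun {x} hx => by
    have e := (mloc_commute (B := B)).1 hx
    rw [show mloc B h = diagonal d from hB] at e
    ext i j
    rcases eq_or_ne i j with rfl | hij
    · simp
    · rw [diagonal_apply_ne _ hij, apply_eq_zero_of_comm e fun h' => hij (hd h')]
  refine (mloc_commute (B := B)).2 ?_
  rw [diag hx, diag hy, diagonal_mul_diagonal, diagonal_mul_diagonal]
  simp only [mul_comm]

/-- An element centralising an involution is semisimple. -/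
theorem NoTv.hom_or_reg [Finite F] (hG : NoTv G) {h : G} (ht : orderOf t = 2) (hx : toPro G h ∈ cen t)
    (hne : toPro G h ≠ 1) : IsHom (h : GL (Fin 3) F) ∨ IsReg (h : GL (Fin 3) F) := by
  have hns : (h : GL (Fin 3) F) ∉ scalars (Fin 3) F := fun e => hne (toPro_eq_one.2 e)
  rcases hG.cases' h.2 hns with ⟨-, c, hc⟩ | hss
  · exfalso
    obtain ⟨p, hp⟩ := CharP.exists F
    have := Fact.mk (CharP.char_is_prime F p)
    have hp2 : p ≠ 2 := fun e => hG.two_ne (by subst e; exact_mod_cast CharP.cast_eq_zero F 2)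
    have h3p : 3 ≤ p := by have := (CharP.char_is_prime F p).two_le; omega
    refine hne (hG.eq_one_of_pow_char (p := p) ht hx ?_)
    rw [← map_pow]
    refine toPro_eq_one.2 (mem_scalars_mloc (B := 1) ⟨c ^ p, ?_⟩)
    have e := pow_eq_zero_of_le h3p hc
    rw [sub_pow_char_of_commute (p := p) ((Commute.one_right _).smul_right c), sub_eq_zero, smul_pow, one_pow] at e
    simpa [mloc, SubmonoidClass.coe_pow] using e
  · exact hss

end CfsgLib.Geo.D3
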