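/-
One class of involutions.
-/
import Cfsg.Agent.Geo.DimThree.NoTv.InvolProj
import Cfsg.Agent.Dickson.PGLSub
import Cfsg.Agent.Invol.ThompsonTransfer
import Cfsg.Agent.ZStar.Final

set_option autoImplicit false
set_option linter.unusedSectionVars false
set_option linter.style.haveILetI false

namespace CfsgLib.Geo.D3

open Matrix Cfsg Cfsg.Geo CfsgLib.Geo
open scoped commutatorElement

/-! ### Group theory -/

section group

variable {H : Type*} [Group H] [Finite H]

/-- Transfer of an element of order four: a normal subgroup of index two, if no conjugate of it lies in `Q` but all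
conjugates of its square inside `P` do. -/
theorem transfer_four (P Q : Subgroup H) (hP : Odd P.index) (hQi : Q.relIndex P = 2) {u : H} (hu : u ^ 4 = 1)
    (h1 : ∀ g : H, g * u * g⁻¹ ∈ P → g * u * g⁻¹ ∉ Q) (h2 : ∀ g : H, g * u ^ 2 * g⁻¹ ∈ P → g * u ^ 2 * g⁻¹ ∈ Q) :
    ∃ M : Subgroup H, M.Normal ∧ M.index = 2 := by
  classical
  open CfsgLib.ThompsonTransfer MulAction in
  set φ := parity (Q.subgroupOf P) hQi with hφ
  haveI : P.FiniteIndex := inferInstance
  set a : Multiplicative (ZMod 2) := Multiplicative.ofAdd 1 with ha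
  have ha1 : a ≠ 1 := by decide
  have ha2 : a * a = 1 := by decide
  have key : MonoidHom.transfer φ u = a := by
    haveI : Fintype (Quotient (MulAction.orbitRel (Subgroup.zpowers u) (H ⧸ P))) := Fintype.ofFinite _
    rw [MonoidHom.transfer_eq_prod_quotient_orbitRel_zpowers_quot φ u]
    calc ∏ q : Quotient (MulAction.orbitRel (Subgroup.zpowers u) (H ⧸ P)), _
        = ∏ q : Quotient (MulAction.orbitRel (Subgroup.zpowers u) (H ⧸ P)),
            a ^ Function.minimalPeriod (u • ·) q.out := by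
          refine Finset.prod_congr rfl fun q _ => ?_
          have hd : Function.minimalPeriod (u • ·) q.out ∣ 4 := by
            refine Function.IsPeriodicPt.minimalPeriod_dvd ?_
            show (u • ·)^[4] q.out = q.out
            rw [smul_iterate_apply, hu, one_smul]
          have hd' : Function.minimalPeriod (u • ·) q.out ∣ 2 ^ 2 := by norm_num; exact hd
          obtain ⟨i, hi, e⟩ := (Nat.dvd_prime_pow Nat.prime_two).1 hd'
          interval_cases i
          · refine (CfsgLib.ThompsonTransfer.parity_apply_not_mem hQi fun hmem => ?_).trans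
              (by rw [e, pow_zero, pow_one])
            rw [Subgroup.mem_subgroupOf] at hmem
            simp only [e, pow_zero, pow_one] at hmem
            have hinP : (q.out.out)⁻¹ * u * q.out.out ∈ P := by
              have hfix : u • q.out = q.out := by
                have := Function.isPeriodicPt_minimalPeriod (u • ·) q.out
                rw [e] at this
                simpa [Function.IsPeriodicPt, Function.IsFixedPt] using this
              have hmk : ((q.out.out : H) : H ⧸ P) = ((u * q.out.out : H) : H ⧸ P) := by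
                rw [← smul_eq_mul, ← MulAction.Quotient.smul_coe, QuotientGroup.out_eq', hfix]
              simpa [mul_assoc] using QuotientGroup.eq.1 hmk
            exact h1 (q.out.out)⁻¹ (by rwa [inv_inv]) (by rwa [inv_inv])
          · refine (CfsgLib.ThompsonTransfer.parity_apply_mem hQi ?_).trans
              (by rw [e, pow_one, sq a, ha2])
            rw [Subgroup.mem_subgroupOf]
            simp only [e, pow_one]
            have hinP : (q.out.out)⁻¹ * u ^ 2 * q.out.out ∈ P := by
              have hfix : u ^ 2 • q.out = q.out := by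
                have := Function.isPeriodicPt_minimalPeriod (u • ·) q.out
                rw [e, pow_one] at this
                rw [← smul_iterate_apply]
                exact this
              have hmk : ((q.out.out : H) : H ⧸ P) = ((u ^ 2 * q.out.out : H) : H ⧸ P) := by
                rw [← smul_eq_mul, ← MulAction.Quotient.smul_coe, QuotientGroup.out_eq', hfix]
              simpa [mul_assoc] using QuotientGroup.eq.1 hmk
            have := h2 (q.out.out)⁻¹ (by rwa [inv_inv])
            rwa [inv_inv] at this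
          · refine (CfsgLib.ThompsonTransfer.parity_apply_mem hQi ?_).trans
              (by rw [e, ha]; decide)
            rw [Subgroup.mem_subgroupOf]
            simp [e, hu]
      _ = a ^ P.index := by
          rw [Finset.prod_pow_eq_pow_sum, ← Subgroup.index_eq_sum_minimalPeriod P u]
      _ = a := by
          obtain ⟨k, hk⟩ := hP
          rw [hk, pow_succ, pow_mul, sq, ha2, one_pow, one_mul]
  refine ⟨(MonoidHom.transfer φ).ker, inferInstance, ?_⟩
  rw [Subgroup.index_ker]
  have h2' : Nat.card (MonoidHom.transfer φ).range ∣ 2 := by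
    have h := (MonoidHom.transfer φ).range.card_subgroup_dvd_card
    rwa [show Nat.card (Multiplicative (ZMod 2)) = 2 by simp] at h
  refine ((Nat.dvd_prime Nat.prime_two).1 h2').resolve_left fun h => ha1 ?_
  have h3 : a ∈ (MonoidHom.transfer φ).range := ⟨u, key⟩
  rw [Subgroup.card_eq_one.1 h, Subgroup.mem_bot] at h3
  exact h3

variable [IsSimpleGroup H]

lemma no_index_two (hna : ¬ IsMulCommutative H) {M : Subgroup H} (hM : M.Normal) (hi : M.index = 2) : False := by
  rcases hM.eq_bot_or_eq_top with rfl | rfl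
  · rw [Subgroup.index_bot] at hi
    have := Fact.mk Nat.prime_two
    haveI := isCyclic_of_prime_card (α := H) hi
    exact hna ⟨⟨fun a b => (IsCyclic.commGroup (α := H)).mul_comm a b⟩⟩
  · rw [Subgroup.index_top] at hi; omega

/-- In a non-abelian simple group every involution of a Sylow subgroup has another conjugate there. -/
theorem exists_conj_ne (hna : ¬ IsMulCommutative H) (P : Sylow 2 H) {u : H} (hu : orderOf u = 2) :
    ∃ g : H, g * u * g⁻¹ ∈ P ∧ g * u * g⁻¹ ≠ u := by
  by_contra hc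
  push Not at hc
  obtain ⟨N, hN, hodd, hcomm⟩ := CfsgLib.ZStar.zstar_of_sylow P hu hc
  rcases hN.eq_bot_or_eq_top with rfl | rfl
  · have hcen : u ∈ Subgroup.center H := Subgroup.mem_center_iff.2 fun g => by
      have := hcomm g
      rw [Subgroup.mem_bot, mul_inv_eq_one, mul_inv_eq_iff_eq_mul] at this
      exact this.symm
    rcases (inferInstance : (Subgroup.center H).Normal).eq_bot_or_eq_top with h | h
    · rw [h, Subgroup.mem_bot] at hcen
      rw [hcen, orderOf_one] at hu
      omega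
    · exact hna ⟨⟨fun a b => (Subgroup.mem_center_iff.1 (h ▸ Subgroup.mem_top b) a)⟩⟩
  · rw [Subgroup.card_top] at hodd
    have := orderOf_dvd_natCard u
    rw [hu] at this
    exact Nat.not_even_iff_odd.2 hodd (even_iff_two_dvd.2 this)

/-- If the involutions of a subgroup of index two of a Sylow subgroup are conjugate to `t`, then so are all. -/
theorem conj_of_index_two (hna : ¬ IsMulCommutative H) (P : Sylow 2 H) {M : Subgroup H}
    (hM : M.relIndex P = 2) {t : H} (h : ∀ u ∈ M, orderOf u = 2 → IsConj t u) {u : H} (hu : orderOf u = 2) :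
    IsConj t u := by
  have := Fact.mk Nat.prime_two
  have hodd : Odd (P : Subgroup H).index :=
    Nat.not_even_iff_odd.1 (fun e => P.not_dvd_index (even_iff_two_dvd.1 e))
  rcases CfsgLib.ThompsonTransfer.thompson_transfer (P : Subgroup H) M hodd hM
      (by rw [← pow_two, ← hu, pow_orderOf_eq_one]) (u := u) with ⟨N, hN, hi, -⟩ | ⟨g, hg⟩
  · exact (no_index_two hna hN hi).elim
  · refine (h _ hg (by rw [← MulAut.conj_apply, MulEquiv.orderOf_eq, hu])).trans ?_
    exact (isConj_iff.2 ⟨g, rfl⟩).symm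

end group

/-! ### Involutions of a group without transvections -/

variable {F : Type*} [Field F] {G : Subgroup (GL (Fin 3) F)} {t u v : Pro G}

lemma invOther_symm (ht : orderOf t = 2) (hu : u ∈ invOther t) : t ∈ invOther u :=
  ⟨ht, hu.2.1.symm, hu.2.2.symm⟩

lemma mul_self_of_orderOf {H : Type*} [Group H] {x : H} (hx : orderOf x = 2) : x * x = 1 := by
  rw [← pow_two, ← hx, pow_orderOf_eq_one]

lemma orderOf_two {H : Type*} [Group H] {x : H} (h : x * x = 1) (h1 : x ≠ 1) : orderOf x = 2 :=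
  orderOf_eq_prime (by rw [pow_two, h]) h1

lemma mul_mem_invOther (ht : orderOf t = 2) (hu : u ∈ invOther t) : t * u ∈ invOther t := by
  obtain ⟨huo, huc, hut⟩ := hu
  refine ⟨orderOf_two ?_ ?_, (Commute.refl t).mul_left huc, ?_⟩
  · rw [show t * u * (t * u) = t * (u * t) * u by group, huc.eq,
      show t * (t * u) * u = (t * t) * (u * u) by group, mul_self_of_orderOf ht, mul_self_of_orderOf huo, one_mul]
  · intro e
    rw [mul_eq_one_iff_inv_eq] at e
    exact hut (e.symm.trans (inv_eq_of_mul_eq_one_right (mul_self_of_orderOf ht)))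
  · intro e
    rw [mul_eq_left] at e
    rw [e, orderOf_one] at huo
    omega

lemma invOther_mem_cen (hu : u ∈ invOther t) : u ∈ cen t :=
  Subgroup.mem_centralizer_singleton_iff.2 hu.2.1.eq

/-- The only involution of the homology group. -/
lemma NoTv.homK_sq (hG : NoTv G) (ht : orderOf t = 2) {k : Pro G} (hk : k ∈ homK G t) (h : k * k = 1) :
    k = 1 ∨ k = t := by
  by_contra hc
  push Not at hc
  exact hG.notMem_homK ht ⟨orderOf_two h hc.1,
    Subgroup.mem_centralizer_singleton_iff.1 (hG.homK_le ht hk), hc.2⟩ hk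

/-- Two involutions with the same image. -/
lemma NoTv.eq_or_eq_mul (hG : NoTv G) (ht : orderOf t = 2) (hu : u ∈ invOther t) (hv : v ∈ invOther t)
    (h : u⁻¹ * v ∈ homK G t) : v = u ∨ v = t * u := by
  obtain ⟨k, hk⟩ : ∃ k, k = u⁻¹ * v := ⟨_, rfl⟩
  have hv' : v = u * k := by rw [hk, mul_inv_cancel_left]
  have hc : Commute k u := hG.homK_central ht (hk ▸ h) (invOther_mem_cen hu)
  have hkk : k * k = 1 := by
    have := mul_self_of_orderOf hv.1
    rwa [hv', show u * k * (u * k) = u * (k * u) * k by group, hc.eq,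
      show u * (u * k) * k = u * u * (k * k) by group, mul_self_of_orderOf hu.1, one_mul] at this
  rcases hG.homK_sq ht (hk ▸ h) hkk with e | e
  · exact Or.inl (by rw [hv', e, mul_one])
  · exact Or.inr (by rw [hv', e, hu.2.1.eq])

/-- No element of characteristic order centralises an involution. -/
lemma NoTv.not_char_dvd [Finite F] (hG : NoTv G) {p : ℕ} [CharP F p] (ht : orderOf t = 2) :
    ¬ p ∣ Nat.card (cen t) := fun hd => by
  have := Fact.mk (CharP.char_is_prime F p)
  obtain ⟨x, hx⟩ := exists_prime_orderOf_dvd_card' p hd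
  have h1 := hG.eq_one_of_pow_char ht x.2 (p := p) (by
    rw [← SubmonoidClass.coe_pow, ← hx, pow_orderOf_eq_one, Subgroup.coe_one])
  have h2 : x = 1 := Subtype.ext h1
  rw [h2, orderOf_one] at hx
  exact (CharP.char_is_prime F p).one_lt.ne hx

/-- The image of a subgroup of the centraliser. -/
theorem NoTv.image_cases [Finite F] (hG : NoTv G) (ht : orderOf t = 2) {π : cen t →* CfsgLib.Dickson.PGL2 F}
    (Q : Subgroup (cen t)) :
    IsCyclic (Q.map π) ∨ (∃ n, 2 ≤ n ∧ Nonempty (Q.map π ≃* DihedralGroup n)) ∨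
      (Nat.card (Q.map π) = 12 ∧ Nonempty (Q.map π ≃* alternatingGroup (Fin 4))) ∨
      (Nat.card (Q.map π) = 24 ∧ Nonempty (Q.map π ≃* Equiv.Perm (Fin 4))) ∨
      (Nat.card (Q.map π) = 60 ∧ Nonempty (Q.map π ≃* alternatingGroup (Fin 5))) := by
  classical
  obtain ⟨p, hp⟩ := CharP.exists F
  have := Fact.mk (CharP.char_is_prime F p)
  have hdvd : ¬ p ∣ Nat.card (Q.map π) := fun h =>
    hG.not_char_dvd ht (h.trans ((Subgroup.card_map_dvd Q π).trans (Subgroup.card_subgroup_dvd_card Q)))
  have hfin : Finite (CfsgLib.Dickson.PGL2 F) := Finite.of_surjective _ Matrix.ProjGenLinGroup.mk_surjective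
  rcases CfsgLib.Dickson.pgl_classification p (algebraMap F (AlgebraicClosure F)) (Q.map π) with
    ⟨h, -⟩ | ⟨-, h⟩ | ⟨n, hn, -, -, h⟩ | ⟨-, h⟩ | ⟨-, h⟩ | ⟨-, -, h⟩ | ⟨f, m, hf, -, -, ψ, g, h⟩
  · exact absurd h hdvd
  · exact Or.inl h
  · exact Or.inr (Or.inl ⟨n, hn, h⟩)
  · exact Or.inr (Or.inr (Or.inl h))
  · exact Or.inr (Or.inr (Or.inr (Or.inl h)))
  · exact Or.inr (Or.inr (Or.inr (Or.inr h)))
  · exfalso
    have e := Nat.card_congr (CfsgLib.Dickson.conjHEquiv g (Q.map π)).toEquiv
    have hle : CfsgLib.Dickson.pslImage ψ ≤ CfsgLib.Dickson.conjH g (Q.map π) := by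
      rcases h with h | ⟨-, h⟩
      · rw [h]; rintro _ ⟨y, rfl⟩; exact ⟨_, rfl⟩
      · rw [h]
    have hmem : CfsgLib.Dickson.pslHom ψ (QuotientGroup.mk (CfsgLib.SL2Pair.up 1)) ∈
        CfsgLib.Dickson.conjH g (Q.map π) := hle ⟨_, rfl⟩
    have hord : orderOf (⟨_, hmem⟩ : CfsgLib.Dickson.conjH g (Q.map π)) = p := by
      rw [← Subgroup.orderOf_coe]
      show orderOf (CfsgLib.Dickson.pslHom ψ (QuotientGroup.mk (CfsgLib.SL2Pair.up 1))) = p
      rw [CfsgLib.Dickson.pslHom_up, map_one]
      refine orderOf_eq_prime ?_ ?_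
      · rw [CfsgLib.Dickson.aff_one_pow, CharP.cast_eq_zero, zero_mul, CfsgLib.Dickson.aff_one_zero]
      · rw [Ne, CfsgLib.Dickson.aff_eq_one]; simp
    exact hdvd (e ▸ hord ▸ orderOf_dvd_natCard _)

lemma dihedral_comm_of_two_nsmul {n : ℕ} {j : ZMod n} (hj : j + j = 0) (x : DihedralGroup n) :
    Commute (DihedralGroup.r j) x := by
  cases x with
  | r i => show DihedralGroup.r (j + i) = DihedralGroup.r (i + j); rw [add_comm]
  | sr i =>
    show DihedralGroup.sr (i - j) = DihedralGroup.sr (i + j)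
    rw [sub_eq_add_neg, neg_eq_of_add_eq_zero_left hj]

/-- The parity of an element of a dihedral group. -/
def dihParity (n : ℕ) : DihedralGroup n →* Multiplicative (ZMod 2) where
  toFun x := match x with
    | .r _ => 1
    | .sr _ => Multiplicative.ofAdd 1
  map_one' := rfl
  map_mul' x y := by
    cases x <;> cases y <;>
      simp [DihedralGroup.r_mul_r, DihedralGroup.r_mul_sr, DihedralGroup.sr_mul_r, DihedralGroup.sr_mul_sr] <;> decide

lemma parity_values : ∀ y : Multiplicative (ZMod 2), y = 1 ∨ y = Multiplicative.ofAdd 1 := by decide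

lemma parity_ne : (Multiplicative.ofAdd (1 : ZMod 2)) ≠ 1 := by decide

lemma dihedral_involution_commutator {n : ℕ} (h4 : 4 ∣ n) (hn : n ≠ 0) {j : ZMod n} (hj : j + j = 0) (hj0 : j ≠ 0) :
    ∃ a b : DihedralGroup n, ⁅a, b⁆ = DihedralGroup.r j := by
  obtain ⟨l, rfl⟩ := h4
  have : NeZero (4 * l) := ⟨hn⟩
  have hd : 4 * l ∣ j.val + j.val := by
    rw [← ZMod.natCast_eq_zero_iff, Nat.cast_add, ZMod.natCast_zmod_val, hj] 
  have hlt := j.val_lt
  have hne : j.val ≠ 0 := fun e => hj0 ((ZMod.val_eq_zero j).1 e)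
  obtain ⟨c, hc⟩ := hd
  have hc1 : c = 1 := by
    rcases c with _ | _ | c
    · omega
    · rfl
    · exfalso; nlinarith
  subst hc1
  refine ⟨DihedralGroup.r (l : ZMod (4 * l)), DihedralGroup.sr 0, ?_⟩
  have e : j = ((2 * l : ℕ) : ZMod (4 * l)) := by
    rw [← ZMod.natCast_zmod_val j]; congr 1; omega
  rw [commutatorElement_def, DihedralGroup.inv_r, DihedralGroup.inv_sr, DihedralGroup.r_mul_sr,
    DihedralGroup.sr_mul_r, DihedralGroup.sr_mul_sr, e]
  congr 1
  push_cast
  ring

/-- An element of 2-power order of the centraliser is conjugate there into a given Sylow subgroup inside it. -/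
lemma conj_into {H : Type*} [Group H] [Finite H] {t : H} (S : Sylow 2 H) (hS : (S : Subgroup H) ≤ cen t) {x : H}
    (hx : x ∈ cen t) {k : ℕ} (hk : x ^ 2 ^ k = 1) : ∃ c ∈ cen t, c * x * c⁻¹ ∈ S := by
  have := Fact.mk Nat.prime_two
  let S' : Sylow 2 (cen t) := S.subtype hS
  have hp : IsPGroup 2 (Subgroup.zpowers (⟨x, hx⟩ : cen t)) := by
    intro y
    obtain ⟨i, hi⟩ := Subgroup.mem_zpowers_iff.1 y.2
    refine ⟨k, Subtype.ext ?_⟩
    rw [SubmonoidClass.coe_pow, ← hi, Subgroup.coe_one]
    have e : (⟨x, hx⟩ : cen t) ^ 2 ^ k = 1 := Subtype.ext (by rw [SubmonoidClass.coe_pow]; exact hk)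
    rw [← zpow_natCast, ← _root_.zpow_mul, mul_comm, _root_.zpow_mul, zpow_natCast, e, _root_.one_zpow]
  obtain ⟨P, hP⟩ := hp.exists_le_sylow
  obtain ⟨c, hc⟩ := MulAction.exists_smul_eq (cen t) P S'
  refine ⟨c, c.2, ?_⟩
  have h1 : c * ⟨x, hx⟩ * c⁻¹ ∈ ((c • P : Sylow 2 (cen t)) : Subgroup (cen t)) := by
    rw [Sylow.coe_subgroup_smul]
    exact ⟨⟨x, hx⟩, hP (Subgroup.mem_zpowers _), rfl⟩
  rw [hc] at h1
  exact h1

/-- **One class of involutions.** -/
theorem one_class [Finite F] (hG : NoTv G) {s t : Pro G} (hs : orderOf s = 2) (ht : orderOf t = 2) :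
    IsConj s t := by
  classical
  haveI := hG.simple
  have hna := hG.nonabelian
  have := Fact.mk Nat.prime_two
  suffices h : ∃ t₀ : Pro G, ∀ u : Pro G, orderOf u = 2 → IsConj t₀ u by
    obtain ⟨t₀, h⟩ := h
    exact (h s hs).symm.trans (h t ht)
  let S : Sylow 2 (Pro G) := default
  have hev : 2 ∣ Nat.card (S : Subgroup (Pro G)) :=
    S.dvd_card_of_dvd_card (even_iff_two_dvd.1 hG.even_card)
  haveI : Nontrivial (S : Subgroup (Pro G)) := Finite.one_lt_card_iff_nontrivial.1 (by
    have := Nat.le_of_dvd Nat.card_pos hev; omega)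
  haveI := S.isPGroup'.center_nontrivial
  have h2c : 2 ∣ Nat.card (Subgroup.center (S : Subgroup (Pro G))) := by
    obtain ⟨k, hk⟩ := IsPGroup.iff_card.1 (S.isPGroup'.to_subgroup (Subgroup.center (S : Subgroup (Pro G))))
    have h1 : 1 < Nat.card (Subgroup.center (S : Subgroup (Pro G))) := Finite.one_lt_card
    rw [hk] at h1 ⊢
    exact dvd_pow_self 2 (fun e => by rw [e, pow_zero] at h1; omega)
  obtain ⟨⟨⟨t₀, ht₀S⟩, ht₀c⟩, ht₀o⟩ := exists_prime_orderOf_dvd_card' 2 h2c
  rw [← Subgroup.orderOf_coe, ← Subgroup.orderOf_coe] at ht₀o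
  replace ht₀o : orderOf t₀ = 2 := ht₀o
  clear hs ht
  refine ⟨t₀, ?_⟩
  have hSC : (S : Subgroup (Pro G)) ≤ cen t₀ := fun x hx => Subgroup.mem_centralizer_singleton_iff.2
    (congrArg Subtype.val (Subgroup.mem_center_iff.1 ht₀c ⟨x, hx⟩))
  -- a conjugate of `t₀` whose image is central
  have case1 : ∀ r ∈ invOther t₀, r ∈ S → IsConj t₀ r → (∀ x ∈ S, x * r * x⁻¹ = r ∨ x * r * x⁻¹ = t₀ * r) →
      ∀ u : Pro G, orderOf u = 2 → IsConj t₀ u := by
    intro r hr hrS hrc hnorm u hu
    have hinv : ∀ v ∈ S, orderOf v = 2 → Commute v r → v = t₀ ∨ v = r ∨ v = t₀ * r := fun v hv hvo hvr =>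
      hG.no_eight ht₀o hr.1 hvo hr.2.1.symm (Subgroup.mem_centralizer_singleton_iff.1 (hSC hv)).symm hvr.symm
        hr.2.2.symm
    by_cases hall : ∀ x ∈ S, Commute x r
    · -- all involutions of the Sylow subgroup commute with `r`
      have htr : IsConj t₀ (t₀ * r) := by
        have hm := mul_mem_invOther ht₀o hr
        obtain ⟨g, hg, hne⟩ := exists_conj_ne hna S hm.1
        have hgo : orderOf (g * (t₀ * r) * g⁻¹) = 2 := by
          rw [← MulAut.conj_apply, MulEquiv.orderOf_eq, hm.1]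
        have hc : IsConj (g * (t₀ * r) * g⁻¹) (t₀ * r) := (isConj_iff.2 ⟨g, rfl⟩).symm
        rcases hinv _ hg hgo (hall _ hg) with e | e | e
        · rw [e] at hc; exact hc
        · rw [e] at hc; exact hrc.trans hc
        · exact absurd e hne
      obtain ⟨c, hc⟩ : ∃ c : Pro G, c * u * c⁻¹ ∈ S := by
        have hp : IsPGroup 2 (Subgroup.zpowers u) := IsPGroup.iff_card.2 ⟨1, by rw [Nat.card_zpowers, hu, pow_one]⟩
        obtain ⟨P, hP⟩ := hp.exists_le_sylow
        obtain ⟨c, rfl⟩ := MulAction.exists_smul_eq (Pro G) S P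
        refine ⟨c⁻¹, ?_⟩
        have h1 := hP (Subgroup.mem_zpowers u)
        rw [Sylow.coe_subgroup_smul] at h1
        obtain ⟨y, hy, e⟩ := h1
        rw [← e]
        simpa [mul_assoc] using hy
      have hco : orderOf (c * u * c⁻¹) = 2 := by rw [← MulAut.conj_apply, MulEquiv.orderOf_eq, hu]
      refine IsConj.trans ?_ ((isConj_iff.2 ⟨c, rfl⟩ : IsConj u (c * u * c⁻¹)).symm)
      rcases hinv _ hc hco (hall _ hc) with e | e | e <;> rw [e]
      · exact hrc
      · exact htr
    · push Not at hall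
      obtain ⟨a, ha, hna'⟩ := hall
      have har : a * r * a⁻¹ = t₀ * r := (hnorm a ha).resolve_left fun e => hna' (by
        show a * r = r * a
        calc a * r = a * r * a⁻¹ * a := by group
          _ = r * a := by rw [e])
      have htr : IsConj t₀ (t₀ * r) := hrc.trans (isConj_iff.2 ⟨a, har⟩)
      refine conj_of_index_two hna S (M := (S : Subgroup (Pro G)) ⊓ cen r) ?_ (fun v hv hvo => ?_) hu
      · refine Subgroup.index_eq_two_iff.2 ⟨⟨a, ha⟩, fun b => ?_⟩
        have hb' := hnorm b b.2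
        have memiff : ∀ x : (S : Subgroup (Pro G)),
            x ∈ ((S : Subgroup (Pro G)) ⊓ cen r).subgroupOf S ↔ (x : Pro G) * r * (x : Pro G)⁻¹ = r := fun x => by
          rw [Subgroup.mem_subgroupOf, Subgroup.mem_inf, Subgroup.mem_centralizer_singleton_iff,
            mul_inv_eq_iff_eq_mul]
          exact ⟨fun h => h.2, fun h => ⟨x.2, h⟩⟩
        rw [memiff, memiff]
        have e : (b : Pro G) * a * r * ((b : Pro G) * a)⁻¹ = t₀ * ((b : Pro G) * r * (b : Pro G)⁻¹) := by
          have hbt : Commute (b : Pro G) t₀ := Subgroup.mem_centralizer_singleton_iff.1 (hSC b.2)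
          calc (b : Pro G) * a * r * ((b : Pro G) * a)⁻¹ = b * (a * r * a⁻¹) * (b : Pro G)⁻¹ := by group
            _ = (b * t₀) * r * (b : Pro G)⁻¹ := by rw [har]; group
            _ = (t₀ * b) * r * (b : Pro G)⁻¹ := by rw [hbt.eq]
            _ = _ := by group
        have hne : t₀ * r ≠ r := fun e => by
          rw [mul_eq_right] at e
          rw [e, orderOf_one] at ht₀o
          omega
        rcases hb' with h | h
        · refine Or.inr ⟨h, ?_⟩
          rw [Subgroup.coe_mul, e, h]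
          exact hne
        · refine Or.inl ⟨?_, ?_⟩
          · rw [Subgroup.coe_mul, e, h, ← mul_assoc, mul_self_of_orderOf ht₀o, one_mul]
          · rw [h]; exact hne
      · rcases hinv v hv.1 hvo (Subgroup.mem_centralizer_singleton_iff.1 hv.2) with e | e | e <;> rw [e]
        · exact hrc
        · exact htr
  obtain ⟨g₁, hg₁, hne₁⟩ := exists_conj_ne hna S ht₀o
  set r := g₁ * t₀ * g₁⁻¹
  have hro : orderOf r = 2 := by rw [show r = MulAut.conj g₁ t₀ from rfl, MulEquiv.orderOf_eq, ht₀o]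
  have hr : r ∈ invOther t₀ := ⟨hro, Subgroup.mem_centralizer_singleton_iff.1 (hSC hg₁), hne₁⟩
  have hrc : IsConj t₀ r := isConj_iff.2 ⟨g₁, rfl⟩
  by_cases hn : ∀ x ∈ S, x * r * x⁻¹ = r ∨ x * r * x⁻¹ = t₀ * r
  · exact case1 r hr hg₁ hrc hn
  -- the image is dihedral of order at least eight
  obtain ⟨π, hπ⟩ := hG.exists_proj ht₀o
  set Q : Subgroup (cen t₀) := (S : Subgroup (Pro G)).subgroupOf (cen t₀) with hQ
  let e₀ : (S : Subgroup (Pro G)) ≃* Q := (Subgroup.subgroupOfEquivOfLe hSC).symm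
  let π' : (S : Subgroup (Pro G)) →* Q.map π := (π.subgroupMap Q).comp e₀.toMonoidHom
  have hker : ∀ x, π' x = 1 ↔ (x : Pro G) ∈ homK G t₀ := fun x =>
    ⟨fun h => (hπ ⟨x, hSC x.2⟩).1 (congrArg Subtype.val h), fun h => Subtype.ext ((hπ ⟨x, hSC x.2⟩).2 h)⟩
  have hsurj : Function.Surjective π' := (π.subgroupMap_surjective Q).comp e₀.surjective
  have hcentral : ∀ w : (S : Subgroup (Pro G)), (w : Pro G) ∈ invOther t₀ → (∀ x, Commute (π' w) (π' x)) →
      ∀ x ∈ S, x * (w : Pro G) * x⁻¹ = w ∨ x * (w : Pro G) * x⁻¹ = t₀ * w := by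
    intro w hw hc x hx
    have hxt : Commute x t₀ := Subgroup.mem_centralizer_singleton_iff.1 (hSC hx)
    refine hG.eq_or_eq_mul ht₀o hw ⟨?_, ?_, ?_⟩ ?_
    · rw [← MulAut.conj_apply, MulEquiv.orderOf_eq, hw.1]
    · exact (hxt.mul_left hw.2.1).mul_left hxt.inv_left
    · intro e
      rw [mul_inv_eq_iff_eq_mul, ← hxt.eq, mul_right_inj] at e
      exact hw.2.2 e
    · have := (hker (w⁻¹ * (⟨x, hx⟩ * w * ⟨x, hx⟩⁻¹))).1 (by
        rw [map_mul, map_mul, map_mul, map_inv, map_inv, ← (hc ⟨x, hx⟩).eq]; group)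
      exact this
  obtain ⟨a, hSa⟩ := IsPGroup.iff_card.1 S.isPGroup'
  have hdvd : Nat.card (Q.map π) ∣ 2 ^ a := by
    rw [← hSa]
    exact Subgroup.card_dvd_of_surjective π' hsurj
  have hnotab : ¬ ∀ x y : Q.map π, Commute x y := fun h =>
    hn (hcentral ⟨r, hg₁⟩ hr fun x => h _ _)
  have hbad : ∀ m, ¬ m ∣ 2 ^ a → Nat.card (Q.map π) ≠ m := fun m hm e => hm (e ▸ hdvd)
  rcases hG.image_cases ht₀o Q (π := π) with hcyc | ⟨n, hn2, ⟨e⟩⟩ | ⟨h, -⟩ | ⟨h, -⟩ | ⟨h, -⟩
  · exact absurd (fun x y => (IsCyclic.commGroup (α := Q.map π)).mul_comm x y) hnotab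
  rotate_left
  · refine absurd h (hbad 12 fun hd => ?_)
    exact absurd (Nat.prime_three.dvd_of_dvd_pow (dvd_trans (by norm_num) hd)) (by norm_num)
  · refine absurd h (hbad 24 fun hd => ?_)
    exact absurd (Nat.prime_three.dvd_of_dvd_pow (dvd_trans (by norm_num) hd)) (by norm_num)
  · refine absurd h (hbad 60 fun hd => ?_)
    exact absurd (Nat.prime_three.dvd_of_dvd_pow (dvd_trans (by norm_num) hd)) (by norm_num)
  have h4 : 4 ∣ n := by
    rw [Nat.card_congr e.toEquiv, DihedralGroup.nat_card] at hdvd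
    obtain ⟨b, -, hb⟩ := (Nat.dvd_prime_pow Nat.prime_two).1 (dvd_trans (dvd_mul_left n 2) hdvd)
    rcases b with _ | _ | b
    · simp at hb; omega
    · exfalso
      refine hnotab fun x y => e.injective ?_
      rw [map_mul, map_mul]
      subst hb
      have key : ∀ u v : DihedralGroup (2 ^ (0 + 1)), u * v = v * u := by decide
      exact key _ _
    · exact ⟨2 ^ b, by rw [hb]; ring⟩
  let ψ : (S : Subgroup (Pro G)) →* DihedralGroup n := e.toMonoidHom.comp π'
  have hψ : ∀ x, ψ x = 1 ↔ (x : Pro G) ∈ homK G t₀ := fun x => by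
    rw [← hker]; exact MulEquiv.map_eq_one_iff e
  have hψs : Function.Surjective ψ := e.surjective.comp hsurj
  let χ := (dihParity n).comp ψ
  let M : Subgroup (Pro G) := χ.ker.map (S : Subgroup (Pro G)).subtype
  have hMi : M.relIndex S = 2 := by
    show (M.subgroupOf S).index = 2
    rw [show M.subgroupOf (S : Subgroup (Pro G)) = χ.ker from Subgroup.comap_map_eq_self_of_injective (Subgroup.subtype_injective _) _, Subgroup.index_ker]
    have : χ.range = ⊤ := by
      rw [eq_top_iff]
      intro y _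
      obtain ⟨x, hx⟩ := hψs (DihedralGroup.sr 0)
      have hcases := parity_values
      rcases hcases y with rfl | rfl
      · exact one_mem _
      · exact ⟨x, by show dihParity n (ψ x) = _; rw [hx]; rfl⟩
    rw [this, Subgroup.card_top]
    simp
  by_cases hM : ∀ u ∈ M, orderOf u = 2 → IsConj t₀ u
  · exact fun u hu => conj_of_index_two hna S hMi hM hu
  push Not at hM
  obtain ⟨_, ⟨⟨u, huS⟩, huχ, rfl⟩, huo, hunc⟩ := hM
  replace huo : orderOf u = 2 := huo
  have hu : u ∈ invOther t₀ :=
    ⟨huo, Subgroup.mem_centralizer_singleton_iff.1 (hSC huS), fun e => hunc (by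
      show IsConj t₀ u
      rw [e])⟩
  -- `u` has the image of a commutator
  have hnz : n ≠ 0 := by omega
  obtain ⟨j, hj⟩ : ∃ j, ψ ⟨u, huS⟩ = DihedralGroup.r j := by
    rcases hh : ψ ⟨u, huS⟩ with j | j
    · exact ⟨j, rfl⟩
    · exfalso
      have h1 : dihParity n (ψ ⟨u, huS⟩) = 1 := huχ
      rw [hh] at h1
      exact parity_ne h1
  have hj2 : j + j = 0 := by
    have e2 : ψ (⟨u, huS⟩ * ⟨u, huS⟩) = 1 := by
      rw [show (⟨u, huS⟩ * ⟨u, huS⟩ : (S : Subgroup (Pro G))) = 1 from Subtype.ext (mul_self_of_orderOf huo), map_one]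
    rw [map_mul, hj, DihedralGroup.r_mul_r] at e2
    exact DihedralGroup.r.inj e2
  have hj0 : j ≠ 0 := fun e0 => hG.notMem_homK ht₀o hu ((hψ ⟨u, huS⟩).1 (by rw [hj, e0]; rfl))
  obtain ⟨a', b', hab⟩ := dihedral_involution_commutator h4 hnz hj2 hj0
  obtain ⟨x, rfl⟩ := hψs a'
  obtain ⟨y, rfl⟩ := hψs b'
  obtain ⟨k, hk, hkk⟩ := hG.exists_sqrt ht₀o hu (hSC x.2) (hSC y.2) (by
    have := (hψ (⟨u, huS⟩⁻¹ * ⁅x, y⁆)).1 (by
      rw [map_mul, map_inv, map_commutatorElement, hab, hj, inv_mul_cancel])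
    simpa [commutatorElement_def] using this)
  set w := g₁ * k * g₁⁻¹
  have hw : w ∈ homK G r := hG.homK_conj ht₀o g₁ hk
  have hww : w * w = r := by rw [show w * w = g₁ * (k * k) * g₁⁻¹ by simp only [w]; group, hkk]
  have hwt : w ∈ cen t₀ := Subgroup.mem_centralizer_singleton_iff.2
    (hG.homK_central hro hw (invOther_mem_cen (invOther_symm ht₀o hr))).eq
  obtain ⟨c, hc, hcS⟩ := conj_into S hSC hwt (k := 2) (by
    rw [show 2 ^ 2 = 2 * 2 by norm_num, pow_mul, pow_two w, hww, pow_two, mul_self_of_orderOf hro])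
  set w' : (S : Subgroup (Pro G)) := ⟨c * w * c⁻¹, hcS⟩
  set r' : Pro G := c * r * c⁻¹ with hr'
  have hr'e : ((w' * w' : (S : Subgroup (Pro G))) : Pro G) = r' := by
    rw [Subgroup.coe_mul, hr', ← hww]; simp only [w']; group
  have hct : Commute c t₀ := Subgroup.mem_centralizer_singleton_iff.1 hc
  have hr'i : r' ∈ invOther t₀ := by
    refine ⟨by rw [hr', ← MulAut.conj_apply, MulEquiv.orderOf_eq, hro],
      (hct.mul_left hr.2.1).mul_left hct.inv_left, fun h => hr.2.2 ?_⟩
    rw [hr', mul_inv_eq_iff_eq_mul, ← hct.eq, mul_right_inj] at h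
    exact h
  have hcen' : ∀ x, Commute (π' (w' * w')) (π' x) := by
    intro x
    have key : Commute (ψ (w' * w')) (ψ x) := by
      rcases hh : ψ w' with i | i
      · rw [map_mul, hh, DihedralGroup.r_mul_r]
        refine dihedral_comm_of_two_nsmul ?_ _
        have e1 : ψ (w' * w' * (w' * w')) = 1 := by
          rw [show w' * w' * (w' * w') = 1 from Subtype.ext (by
            rw [Subgroup.coe_mul, hr'e]; exact mul_self_of_orderOf hr'i.1), map_one]
        rw [map_mul, map_mul, hh, DihedralGroup.r_mul_r, DihedralGroup.r_mul_r] at e1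
        exact DihedralGroup.r.inj e1
      · rw [map_mul, hh, DihedralGroup.sr_mul_sr, sub_self]
        exact Commute.one_left _
    show π' (w' * w') * π' x = π' x * π' (w' * w')
    apply e.injective
    rw [map_mul e, map_mul e]
    exact key.eq
  have hnorm := hcentral (w' * w') (hr'e.symm ▸ hr'i) hcen'
  rw [hr'e] at hnorm
  exact case1 r' hr'i (hr'e ▸ (w' * w').2) (hrc.trans (isConj_iff.2 ⟨c, rfl⟩)) hnorm

end CfsgLib.Geo.D3
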