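/-
The centraliser of an involution: counting tools and the recognition of a dihedral centraliser.
-/
import Cfsg.Agent.Geo.DimThree.NoTv.OneClass

set_option autoImplicit false
set_option linter.unusedSectionVars false
set_option linter.style.haveILetI false

namespace CfsgLib.Geo.D3

open Matrix Cfsg Cfsg.Geo CfsgLib.Geo
open scoped commutatorElement

section group

variable {H : Type*} [Group H]

lemma card_mul_dvd {A B T : Subgroup H} (hT : IsMulCommutative T) (hA : A ≤ T) (hB : B ≤ T) (hd : A ⊓ B = ⊥) :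
    Nat.card A * Nat.card B ∣ Nat.card T := by
  have hc : ∀ x y : H, x ∈ T → y ∈ T → x * y = y * x := fun x y hx hy =>
    congrArg Subtype.val (hT.is_comm.comm ⟨x, hx⟩ ⟨y, hy⟩)
  let f : A × B →* H := MonoidHom.mk' (fun p => (p.1 : H) * p.2) fun p q => by
    show (p.1 : H) * q.1 * ((p.2 : H) * q.2) = (p.1 : H) * p.2 * ((q.1 : H) * q.2)
    rw [mul_assoc, ← mul_assoc (q.1 : H), hc q.1 p.2 (hA q.1.2) (hB p.2.2)]
    group
  have hf : Function.Injective f := by
    rw [injective_iff_map_eq_one]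
    rintro ⟨a, b⟩ h
    replace h : (a : H) * b = 1 := h
    have ha : (a : H) ∈ A ⊓ B := ⟨a.2, by rw [eq_inv_of_mul_eq_one_left h]; exact B.inv_mem b.2⟩
    rw [hd, Subgroup.mem_bot] at ha
    rw [ha, one_mul] at h
    exact Prod.ext (Subtype.ext ha) (Subtype.ext h)
  have hle : f.range ≤ T := by
    rintro _ ⟨p, rfl⟩
    exact T.mul_mem (hA p.1.2) (hB p.2.2)
  have := Subgroup.card_dvd_of_le hle
  rwa [← Nat.card_congr (MonoidHom.ofInjective hf).toEquiv, Nat.card_prod] at this

lemma inv_unique_of_cyclic [Finite H] [IsCyclic H] {a b : H} (ha : orderOf a = 2) (hb : orderOf b = 2) : a = b := by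
  classical
  haveI := Fintype.ofFinite H
  by_contra hne
  have h := IsCyclic.card_pow_eq_one_le (α := H) (n := 2) Nat.two_pos
  have h1 : ({1, a, b} : Finset H) ⊆ Finset.univ.filter fun x : H => x ^ 2 = 1 := by
    intro x hx
    simp only [Finset.mem_insert, Finset.mem_singleton] at hx
    simp only [Finset.mem_filter, Finset.mem_univ, true_and]
    rcases hx with rfl | rfl | rfl
    · exact one_pow 2
    · rw [← ha]; exact pow_orderOf_eq_one _
    · rw [← hb]; exact pow_orderOf_eq_one _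
  have h3 : ({1, a, b} : Finset H).card = 3 := by
    have a1 : (1 : H) ≠ a := fun e => by rw [← e, orderOf_one] at ha; omega
    have b1 : (1 : H) ≠ b := fun e => by rw [← e, orderOf_one] at hb; omega
    simp [a1, b1, hne]
  have := (Finset.card_le_card h1).trans h
  omega

lemma eq_of_zpowers {x a b : H} [Finite H] (ha : a ∈ Subgroup.zpowers x) (hb : b ∈ Subgroup.zpowers x)
    (ha2 : orderOf a = 2) (hb2 : orderOf b = 2) : a = b :=
  congrArg Subtype.val (inv_unique_of_cyclic (a := (⟨a, ha⟩ : Subgroup.zpowers x)) (b := ⟨b, hb⟩)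
    (by rw [← Subgroup.orderOf_coe]; exact ha2) (by rw [← Subgroup.orderOf_coe]; exact hb2))

end group

variable {F : Type*} [Field F] [Finite F] {G : Subgroup (GL (Fin 3) F)} {t u : Pro G}

/-- An involution is central in a Sylow subgroup. -/
lemma NoTv.exists_sylow_le_cen (hG : NoTv G) (ht : orderOf t = 2) :
    ∃ S : Sylow 2 (Pro G), (S : Subgroup (Pro G)) ≤ cen t := by
  have := Fact.mk Nat.prime_two
  haveI := hG.simple
  let S : Sylow 2 (Pro G) := default
  have hev : 2 ∣ Nat.card (S : Subgroup (Pro G)) :=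
    S.dvd_card_of_dvd_card (even_iff_two_dvd.1 hG.even_card)
  haveI : Nontrivial (S : Subgroup (Pro G)) := Finite.one_lt_card_iff_nontrivial.1 (by
    have := Nat.le_of_dvd Nat.card_pos hev; omega)
  haveI := S.isPGroup'.center_nontrivial
  have h2c : 2 ∣ Nat.card (Subgroup.center (S : Subgroup (Pro G))) := by
    obtain ⟨k, hk⟩ := IsPGroup.iff_card.1 (S.isPGroup'.to_subgroup (Subgroup.center (S : Subgroup (Pro G))))
    have h1 : 1 < Nat.card (Subgroup.center (S : Subgroup (Pro G))) := Finite.one_lt_card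
    rw [hk] at h1 ⊢
    exact dvd_pow_self 2 (fun e => by rw [e, pow_zero] at h1; omega)
  obtain ⟨⟨⟨t₀, ht₀S⟩, ht₀c⟩, ht₀o⟩ := exists_prime_orderOf_dvd_card' 2 h2c
  rw [← Subgroup.orderOf_coe, ← Subgroup.orderOf_coe] at ht₀o
  obtain ⟨g, hg⟩ := isConj_iff.1 (one_class hG (s := t₀) ht₀o ht)
  refine ⟨g • S, fun y hy => ?_⟩
  rw [Sylow.coe_subgroup_smul] at hy
  obtain ⟨x, hx, rfl⟩ := hy
  have hc : Commute x t₀ := congrArg Subtype.val (Subgroup.mem_center_iff.1 ht₀c ⟨x, hx⟩)
  rw [Subgroup.mem_centralizer_singleton_iff, ← hg]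
  exact ((Commute.conj_iff g).2 hc).eq

/-- Every involution commutes with another one. -/
lemma NoTv.exists_invOther (hG : NoTv G) (ht : orderOf t = 2) : ∃ u, u ∈ invOther t := by
  haveI := hG.simple
  obtain ⟨S, hS⟩ := hG.exists_sylow_le_cen ht
  obtain ⟨g, hg, hne⟩ := exists_conj_ne hG.nonabelian S ht
  exact ⟨g * t * g⁻¹, by rw [← MulAut.conj_apply, MulEquiv.orderOf_eq, ht],
    Subgroup.mem_centralizer_singleton_iff.1 (hS hg), hne⟩

/-- Homology groups of two involutions have the same order. -/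
lemma NoTv.card_homK_eq (hG : NoTv G) (ht : orderOf t = 2) (hu : orderOf u = 2) :
    Nat.card (homK G u) = Nat.card (homK G t) := by
  obtain ⟨c, hc⟩ := isConj_iff.1 (one_class hG ht hu)
  rw [← hc]
  exact hG.card_homK_conj ht c

lemma NoTv.homK_le_meet (hG : NoTv G) (ht : orderOf t = 2) (hu : u ∈ invOther t) :
    homK G t ≤ cen t ⊓ cen u := fun k hk => ⟨hG.homK_le ht hk,
  Subgroup.mem_centralizer_singleton_iff.2 (hG.homK_central ht hk (invOther_mem_cen hu)).eq⟩

lemma NoTv.two_dvd_card_homK (hG : NoTv G) (ht : orderOf t = 2) : 2 ∣ Nat.card (homK G t) := by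
  have := orderOf_dvd_natCard (⟨t, hG.self_mem_homK ht⟩ : homK G t)
  rwa [← Subgroup.orderOf_coe, ht] at this

lemma NoTv.sq_dvd_meet (hG : NoTv G) (ht : orderOf t = 2) (hu : u ∈ invOther t) :
    Nat.card (homK G t) * Nat.card (homK G t) ∣ Nat.card ↥(cen t ⊓ cen u) := by
  have e := hG.card_homK_eq ht hu.1
  nth_rewrite 2 [← e]
  refine card_mul_dvd (hG.isMulCommutative_meet ht hu) (hG.homK_le_meet ht hu) ?_ (hG.homK_inf ht hu)
  rw [inf_comm]
  exact hG.homK_le_meet hu.1 (invOther_symm ht hu)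

lemma NoTv.four_dvd_homK (hG : NoTv G) (ht : orderOf t = 2) (h : ∃ k ∈ homK G t, k * k = t) :
    4 ∣ Nat.card (homK G t) := by
  have := Fact.mk Nat.prime_two
  obtain ⟨k, hk, hkk⟩ := h
  have ho : orderOf k = 2 ^ (1 + 1) := by
    refine orderOf_eq_prime_pow ?_ ?_
    · rw [pow_one, pow_two, hkk]; exact fun e => by rw [e, orderOf_one] at ht; omega
    · rw [show 2 ^ (1 + 1) = 2 * 2 by norm_num, pow_mul, pow_two k, hkk, pow_two, mul_self_of_orderOf ht]
  have := orderOf_dvd_natCard (⟨k, hk⟩ : homK G t)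
  rw [← Subgroup.orderOf_coe] at this
  simpa [ho] using this

/-! ### An abstract image -/

section image

variable {D : Type*} [Group D] [Finite D] (φ : cen t →* D) (hφs : Function.Surjective φ)
  (hφ : ∀ x, φ x = 1 ↔ (x : Pro G) ∈ homK G t)

/-- The images of the involutions other than `t`. -/
def reflSet : Set D := {d | ∃ (v : Pro G) (hv : v ∈ invOther t), φ ⟨v, invOther_mem_cen hv⟩ = d}

lemma mem_reflSet_of {v : Pro G} (hv : v ∈ invOther t) : φ ⟨v, invOther_mem_cen hv⟩ ∈ reflSet φ :=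
  ⟨v, hv, rfl⟩

include hφ in
lemma card_meet_eq (hG : NoTv G) (ht : orderOf t = 2) (hu : u ∈ invOther t) :
    Nat.card ↥(cen t ⊓ cen u) =
      Nat.card (homK G t) * Nat.card (((cen t ⊓ cen u).subgroupOf (cen t)).map φ) := by
  set T := (cen t ⊓ cen u).subgroupOf (cen t)
  have hle : φ.ker ≤ T := fun x hx => Subgroup.mem_subgroupOf.2
    (hG.homK_le_meet ht hu ((hφ x).1 hx))
  have e : φ.ker = (homK G t).subgroupOf (cen t) := by
    ext x; rw [MonoidHom.mem_ker, hφ, Subgroup.mem_subgroupOf]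
  have h := Subgroup.card_eq_card_quotient_mul_card_subgroup (φ.comp T.subtype).ker
  rw [Nat.card_congr (QuotientGroup.quotientKerEquivRange _).toEquiv, MonoidHom.range_comp,
    Subgroup.range_subtype, ← MonoidHom.comap_ker] at h
  have h1 : Nat.card (φ.ker.comap T.subtype) = Nat.card (homK G t) := by
    rw [show φ.ker.comap T.subtype = φ.ker.subgroupOf T from rfl,
      Nat.card_congr (Subgroup.subgroupOfEquivOfLe hle).toEquiv, e,
      Nat.card_congr (Subgroup.subgroupOfEquivOfLe (hG.homK_le ht)).toEquiv]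
  rw [h1, Nat.card_congr (Subgroup.subgroupOfEquivOfLe (inf_le_left : cen t ⊓ cen u ≤ cen t)).toEquiv] at h
  rw [h, mul_comm]

include hφs hφ in
lemma card_cen_eq (hG : NoTv G) (ht : orderOf t = 2) :
    Nat.card (cen t) = Nat.card (homK G t) * Nat.card D := by
  have e : φ.ker = (homK G t).subgroupOf (cen t) := by
    ext x; rw [MonoidHom.mem_ker, hφ, Subgroup.mem_subgroupOf]
  rw [Subgroup.card_eq_card_quotient_mul_card_subgroup φ.ker,
    Nat.card_congr (QuotientGroup.quotientKerEquivOfSurjective φ hφs).toEquiv, e,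
    Nat.card_congr (Subgroup.subgroupOfEquivOfLe (hG.homK_le ht)).toEquiv, mul_comm]

include hφ in
lemma reflSet_ne_one (hG : NoTv G) (ht : orderOf t = 2) {d : D} (hd : d ∈ reflSet φ) : orderOf d = 2 := by
  obtain ⟨v, hv, rfl⟩ := hd
  refine orderOf_two ?_ fun e => hG.notMem_homK ht hv ((hφ _).1 e)
  rw [← map_mul, show (⟨v, invOther_mem_cen hv⟩ : cen t) * ⟨v, invOther_mem_cen hv⟩ = 1 from
    Subtype.ext (mul_self_of_orderOf hv.1), map_one]

include hφ in
lemma eq_or_of_image (hG : NoTv G) (ht : orderOf t = 2) (hu : u ∈ invOther t) {v : Pro G} (hv : v ∈ invOther t)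
    (h : φ ⟨v, invOther_mem_cen hv⟩ = φ ⟨u, invOther_mem_cen hu⟩) : v = u ∨ v = t * u := by
  refine hG.eq_or_eq_mul ht hu hv ?_
  exact (hφ (⟨u, invOther_mem_cen hu⟩⁻¹ * ⟨v, invOther_mem_cen hv⟩)).1 (by rw [map_mul, map_inv, h, inv_mul_cancel])

include hφ in
/-- An element whose image commutes with that of `u` normalises the pair. -/
lemma conj_pair (hG : NoTv G) (ht : orderOf t = 2) (hu : u ∈ invOther t) (x : cen t)
    (hc : Commute (φ x) (φ ⟨u, invOther_mem_cen hu⟩)) :
    (x : Pro G) * u * (x : Pro G)⁻¹ = u ∨ (x : Pro G) * u * (x : Pro G)⁻¹ = t * u := by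
  have hxt : Commute (x : Pro G) t := Subgroup.mem_centralizer_singleton_iff.1 x.2
  have hv : (x : Pro G) * u * (x : Pro G)⁻¹ ∈ invOther t := by
    refine ⟨by rw [← MulAut.conj_apply, MulEquiv.orderOf_eq, hu.1],
      (hxt.mul_left hu.2.1).mul_left hxt.inv_left, fun e => hu.2.2 ?_⟩
    rw [mul_inv_eq_iff_eq_mul, ← hxt.eq, mul_right_inj] at e
    exact e
  refine eq_or_of_image φ hφ hG ht hu hv ?_
  rw [show (⟨(x : Pro G) * u * (x : Pro G)⁻¹, invOther_mem_cen hv⟩ : cen t) = x * ⟨u, invOther_mem_cen hu⟩ * x⁻¹ from rfl,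
    map_mul, map_mul, map_inv, hc.eq, mul_inv_cancel_right]

include hφs in
lemma reflSet_conj {d : D} (hd : d ∈ reflSet φ) (c : D) : c * d * c⁻¹ ∈ reflSet φ := by
  obtain ⟨v, hv, rfl⟩ := hd
  obtain ⟨x, rfl⟩ := hφs c
  have hxt : Commute (x : Pro G) t := Subgroup.mem_centralizer_singleton_iff.1 x.2
  have hv' : (x : Pro G) * v * (x : Pro G)⁻¹ ∈ invOther t := by
    refine ⟨by rw [← MulAut.conj_apply, MulEquiv.orderOf_eq, hv.1],
      (hxt.mul_left hv.2.1).mul_left hxt.inv_left, fun e => hv.2.2 ?_⟩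
    rw [mul_inv_eq_iff_eq_mul, ← hxt.eq, mul_right_inj] at e
    exact e
  exact ⟨_, hv', by rw [← map_inv, ← map_mul, ← map_mul]; rfl⟩

include hφs hφ in
/-- An involution image that is a commutator. -/
lemma four_dvd_of_commutator (hG : NoTv G) (ht : orderOf t = 2) {d a b : D} (hd : d ∈ reflSet φ)
    (h : ⁅a, b⁆ = d) : 4 ∣ Nat.card (homK G t) := by
  obtain ⟨v, hv, rfl⟩ := hd
  obtain ⟨x, rfl⟩ := hφs a
  obtain ⟨y, rfl⟩ := hφs b
  refine hG.four_dvd_homK ht (hG.exists_sqrt ht hv x.2 y.2 ?_)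
  have := (hφ (⟨v, invOther_mem_cen hv⟩⁻¹ * ⁅x, y⁆)).1 (by
    rw [map_mul, map_inv, map_commutatorElement, h, inv_mul_cancel])
  simpa [commutatorElement_def] using this

include hφ in
/-- The image of the meet is generated by one element, and contains its square roots. -/
lemma meet_image (hG : NoTv G) (ht : orderOf t = 2) (hu : u ∈ invOther t) :
    ∃ g : D, ((cen t ⊓ cen u).subgroupOf (cen t)).map φ = Subgroup.zpowers g ∧
      φ ⟨u, invOther_mem_cen hu⟩ ∈ Subgroup.zpowers g ∧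
      (∀ x : cen t, (x : Pro G) ∈ cen u ↔ φ x ∈ Subgroup.zpowers g) ∧
      ∀ a b : D, Commute a (φ ⟨u, invOther_mem_cen hu⟩) → Commute b (φ ⟨u, invOther_mem_cen hu⟩) →
        a ∉ Subgroup.zpowers g → b ∉ Subgroup.zpowers g → ∀ a' b' : cen t, φ a' = a → φ b' = b →
        φ (a' * b') ∈ Subgroup.zpowers g := by
  obtain ⟨x, hx, hgen⟩ := hG.exists_meet_gen ht hu
  set g := φ ⟨x, hx.1⟩ with hg
  have hmap : ((cen t ⊓ cen u).subgroupOf (cen t)).map φ = Subgroup.zpowers g := by
    refine le_antisymm ?_ (Subgroup.zpowers_le.2 ⟨⟨x, hx.1⟩, hx, rfl⟩)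
    rintro _ ⟨y, hy, rfl⟩
    obtain ⟨n, hn⟩ := hgen y (Subgroup.mem_subgroupOf.1 hy)
    have := (hφ (y * ((⟨x, hx.1⟩ : cen t) ^ n)⁻¹)).2 (by simpa using hn)
    rw [map_mul, map_inv, map_pow, mul_inv_eq_one] at this
    rw [this]
    exact Subgroup.npow_mem_zpowers g n
  have hu' : φ ⟨u, invOther_mem_cen hu⟩ ∈ Subgroup.zpowers g := by
    rw [← hmap]
    exact ⟨_, Subgroup.mem_subgroupOf.2 ⟨invOther_mem_cen hu, Subgroup.mem_centralizer_singleton_iff.2 rfl⟩, rfl⟩
  have hiff : ∀ y : cen t, (y : Pro G) ∈ cen u ↔ φ y ∈ Subgroup.zpowers g := by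
    intro y
    constructor
    · intro hy
      rw [← hmap]
      exact ⟨y, Subgroup.mem_subgroupOf.2 ⟨y.2, hy⟩, rfl⟩
    · intro hy
      rw [← hmap] at hy
      obtain ⟨z, hz, e⟩ := hy
      have h1 : ((z⁻¹ * y : cen t) : Pro G) ∈ homK G t := (hφ _).1 (by rw [map_mul, map_inv, e, inv_mul_cancel])
      have h2 := (cen u).mul_mem (Subgroup.mem_subgroupOf.1 hz).2 (hG.homK_le_meet ht hu h1).2
      simpa using h2
  refine ⟨g, hmap, hu', hiff, ?_⟩
  rintro a b ha hb ha' hb' x y rfl rfl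
  rw [← hiff] at ha' hb' ⊢
  have e : ∀ z : cen t, Commute (φ z) (φ ⟨u, invOther_mem_cen hu⟩) → (z : Pro G) ∉ cen u →
      (z : Pro G) * u * (z : Pro G)⁻¹ = t * u := fun z hz hz' =>
    (conj_pair φ hφ hG ht hu z hz).resolve_left fun h => hz' (by
      rw [Subgroup.mem_centralizer_singleton_iff]; rwa [mul_inv_eq_iff_eq_mul] at h)
  have hx1 := e x ha ha'
  have hy1 := e y hb hb'
  have hxt : Commute (x : Pro G) t := Subgroup.mem_centralizer_singleton_iff.1 x.2
  rw [Subgroup.mem_centralizer_singleton_iff, ← mul_inv_eq_iff_eq_mul, Subgroup.coe_mul]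
  calc (x : Pro G) * y * u * ((x : Pro G) * y)⁻¹ = x * (y * u * (y : Pro G)⁻¹) * (x : Pro G)⁻¹ := by group
    _ = (x * t) * u * (x : Pro G)⁻¹ := by rw [hy1]; group
    _ = (t * x) * u * (x : Pro G)⁻¹ := by rw [hxt.eq]
    _ = t * (x * u * (x : Pro G)⁻¹) := by group
    _ = u := by rw [hx1, ← mul_assoc, mul_self_of_orderOf ht, one_mul]

include hφ in
/-- The number of involutions other than `t`. -/
lemma ncard_invOther (hG : NoTv G) (ht : orderOf t = 2) : (invOther t).ncard = 2 * (reflSet φ).ncard := by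
  classical
  haveI := Fintype.ofFinite (Pro G)
  haveI := Fintype.ofFinite D
  set A : Finset (Pro G) := (invOther t).toFinset
  let f : Pro G → D := fun v => if h : v ∈ cen t then φ ⟨v, h⟩ else 1
  have hf : ∀ v (hv : v ∈ invOther t), f v = φ ⟨v, invOther_mem_cen hv⟩ := fun v hv => dif_pos _
  have himg : reflSet φ = ↑(A.image f) := by
    ext d
    simp only [Finset.coe_image, Set.mem_image, A, Set.coe_toFinset]
    exact ⟨fun ⟨v, hv, e⟩ => ⟨v, hv, (hf v hv).trans e⟩, fun ⟨v, hv, e⟩ => ⟨v, hv, (hf v hv).symm.trans e⟩⟩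
  rw [himg, Set.ncard_coe_finset, Set.ncard_eq_toFinset_card', mul_comm]
  show A.card = _
  rw [Finset.card_eq_sum_card_image f A]
  refine (Finset.sum_const_nat fun d hd => ?_)
  obtain ⟨v, hv, rfl⟩ := Finset.mem_image.1 hd
  replace hv : v ∈ invOther t := Set.mem_toFinset.1 hv
  have hne : t * v ≠ v := fun e => by rw [mul_eq_right] at e; rw [e, orderOf_one] at ht; omega
  have : A.filter (fun w => f w = f v) = {v, t * v} := by
    ext w
    simp only [Finset.mem_filter, A, Set.mem_toFinset, Finset.mem_insert, Finset.mem_singleton]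
    constructor
    · rintro ⟨hw, e⟩
      rw [hf w hw, hf v hv] at e
      exact eq_or_of_image φ hφ hG ht hv hw e
    · rintro (rfl | rfl)
      · exact ⟨hv, rfl⟩
      · have hm := mul_mem_invOther ht hv
        refine ⟨hm, ?_⟩
        rw [hf _ hm, hf v hv,
          show (⟨t * v, invOther_mem_cen hm⟩ : cen t) = ⟨t, hG.homK_le ht (hG.self_mem_homK ht)⟩ * ⟨v, invOther_mem_cen hv⟩ from rfl,
          map_mul, (hφ _).2 (hG.self_mem_homK ht), one_mul]
  rw [this, Finset.card_pair hne.symm]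

end image

lemma centSum_const {c : ℕ} (h : ∀ u ∈ invOther t, Nat.card ↥(cen t ⊓ cen u) = c) :
    centSum t = (invOther t).ncard * (c - 1) := by
  have hfin : (invOther t).Finite := Set.toFinite _
  rw [centSum, finsum_mem_eq_finite_toFinset_sum _ hfin, Set.ncard_eq_toFinset_card _ hfin]
  refine Finset.sum_const_nat fun u hu => ?_
  rw [h u (hfin.mem_toFinset.1 hu)]

/-- The dihedral configuration. -/
theorem centDih_mk (hG : NoTv G) (ht : orderOf t = 2) {K : Subgroup (Pro G)} {s : Pro G}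
    (hab : IsMulCommutative K) (hK : K ≤ cen t) (htK : t ∈ K) (hs : s ∈ invOther t) (hsK : s ∉ K)
    (hcov : ∀ x ∈ cen t, x ∈ K ∨ x * s ∈ K) (hinv : ∀ x ∈ K, s * x * s⁻¹ = x⁻¹)
    (hone : ∀ x ∈ K, x * x = 1 → x = 1 ∨ x = t) : CentDih t := by
  have hsC := invOther_mem_cen hs
  refine ⟨K, s, hab, hK, htK, hs.1, hsC, hsK, le_antisymm (sup_le hK (Subgroup.zpowers_le.2 hsC)) ?_, ?_, hinv, ?_⟩
  · intro x hx
    rcases hcov x hx with h | h
    · exact Subgroup.mem_sup_left h
    · rw [show x = x * s * s by rw [mul_assoc, mul_self_of_orderOf hs.1, mul_one]]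
      exact Subgroup.mul_mem_sup h (Subgroup.mem_zpowers s)
  · refine le_antisymm ?_ (Subgroup.zpowers_le.2 ⟨htK, Subgroup.mem_centralizer_singleton_iff.2 hs.2.1.symm.eq⟩)
    rintro x ⟨hxK, hxs⟩
    have e : x * x = 1 := by
      have h1 := hinv x hxK
      rw [← Subgroup.mem_centralizer_singleton_iff.1 hxs, mul_inv_cancel_right] at h1
      rw [← eq_inv_iff_mul_eq_one]; exact h1
    rcases hone x hxK e with rfl | rfl
    · exact one_mem _
    · exact Subgroup.mem_zpowers _
  intro g hg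
  rw [Subgroup.eq_bot_iff_forall]
  rintro x ⟨hxK, ⟨k, hk, hxk⟩⟩
  replace hxk : g * k * g⁻¹ = x := hxk
  by_contra hx1
  rcases Nat.even_or_odd (orderOf x) with ⟨i, hi⟩ | hodd
  · have hpos := orderOf_pos x
    have hxi : x ^ i = t := by
      refine (hone _ (K.pow_mem hxK i) ?_).resolve_left ?_
      · rw [← pow_add, ← hi, pow_orderOf_eq_one]
      · exact fun e => pow_ne_one_of_lt_orderOf (by omega) (by omega) e
    have hki : k ^ i = t := by
      refine (hone _ (K.pow_mem hk i) ?_).resolve_left ?_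
      · have : orderOf k = orderOf x := by rw [← hxk, ← MulAut.conj_apply, MulEquiv.orderOf_eq]
        rw [← pow_add, ← hi, ← this, pow_orderOf_eq_one]
      · intro e
        rw [← hxk, conj_pow, e, mul_one, mul_inv_cancel] at hxi
        rw [← hxi, orderOf_one] at ht
        omega
    refine hg ?_
    rw [Subgroup.mem_centralizer_singleton_iff, ← mul_inv_eq_iff_eq_mul]
    conv_rhs => rw [← hxi, ← hxk, conj_pow, hki]
  obtain ⟨a, rfl⟩ := toPro_surjective x
  obtain ⟨b, rfl⟩ := toPro_surjective s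
  have hsq : toPro G a * toPro G a ≠ 1 := fun e => by
    rcases hone _ hxK e with h | h
    · exact hx1 h
    · rw [h, ht] at hodd; exact absurd hodd (by decide)
  have hreg : IsReg (a : GL (Fin 3) F) := by
    refine (hG.hom_or_reg ht (hK hxK) hx1).resolve_left fun hh => hsq ?_
    obtain ⟨c, hc⟩ := (mem_scalars_iff _).1 (toPro_eq_one.1
      (show toPro G (b * a * b⁻¹ * a) = 1 by
        rw [map_mul, map_mul, map_mul, map_inv, hinv _ hxK, inv_mul_cancel]))
    rw [← map_mul]
    refine toPro_eq_one.2 ?_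
    refine hom_conj_inv hh (y := (b : GL (Fin 3) F)) (c := (c : F)) ?_
    have e : ((b : GL (Fin 3) F) * a * (b : GL (Fin 3) F)⁻¹) =
        ((b * a * b⁻¹ * a : G) : GL (Fin 3) F) * (a : GL (Fin 3) F)⁻¹ := by simp
    rw [e, Units.val_mul, hc, smul_mul_assoc, one_mul]
  set t' := g * t * g⁻¹
  obtain ⟨gt, hgte, hgt, -⟩ := hG.exists_lift_involution ht
  obtain ⟨gu, hgue, hgu, -⟩ := hG.exists_lift_involution (t := t') (by
    rw [show t' = MulAut.conj g t from rfl, MulEquiv.orderOf_eq, ht])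
  have hxt' : Commute (toPro G a) t' := by
    rw [← hxk]; exact (Commute.conj_iff g).2 (Subgroup.mem_centralizer_singleton_iff.1 (hK hk))
  have c1 := hG.commute_lift (h := a) hgt (by rw [hgte]; exact (Subgroup.mem_centralizer_singleton_iff.1 (hK hxK)).symm)
  have c2 := hG.commute_lift (h := a) hgu (by rw [hgue]; exact hxt'.symm)
  have c3 : Commute gt gu := Subtype.ext (reg_commute hreg (c1.map G.subtype) (c2.map G.subtype)).eq
  have htt : Commute t' t := by
    have := c3.symm.map (toPro G)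
    rwa [hgte, hgue] at this
  have ht'o : orderOf t' = 2 := by rw [show t' = MulAut.conj g t from rfl, MulEquiv.orderOf_eq, ht]
  by_cases htt' : t' = t
  · refine hg ?_
    rw [Subgroup.mem_centralizer_singleton_iff]
    exact mul_inv_eq_iff_eq_mul.1 htt'
  have ht'C : t' ∈ cen t := Subgroup.mem_centralizer_singleton_iff.2 htt.eq
  rcases hcov t' ht'C with h | h
  · rcases hone _ h (mul_self_of_orderOf ht'o) with e | e
    · rw [e, orderOf_one] at ht'o; omega
    · exact htt' e
  · refine hsq ?_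
    set ks := t' * toPro G b
    have hks : Commute ks (toPro G a) := congrArg Subtype.val (hab.is_comm.comm ⟨ks, h⟩ ⟨_, hxK⟩)
    have hb1 : toPro G b = t'⁻¹ * ks := by simp only [ks]; group
    have h1 := hinv _ hxK
    rw [hb1] at h1
    have h2 : t'⁻¹ * ks * toPro G a * (t'⁻¹ * ks)⁻¹ = toPro G a := by
      rw [mul_inv_eq_iff_eq_mul]
      exact (hxt'.symm.inv_left.mul_left hks).eq
    rw [h2] at h1
    rw [← eq_inv_iff_mul_eq_one]
    exact h1

end CfsgLib.Geo.D3
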