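/-
The centraliser of an involution: dihedral image.
-/
import Cfsg.Agent.Geo.DimThree.NoTv.CentTools

set_option autoImplicit false
set_option linter.unusedSectionVars false
set_option linter.style.haveILetI false

namespace CfsgLib.Geo.D3

open Matrix Cfsg Cfsg.Geo CfsgLib.Geo

section group

variable {H : Type*} [Group H]

/-- Odd elements centralised up to inversion: a product of two commuting elements of odd order. -/
lemma eq_one_of_odd_mul {a b t : H} (ht : orderOf t = 2) (hc : Commute a b) (ha : Odd (orderOf a))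
    (hb : Odd (orderOf b)) (h : a * b = 1 ∨ a * b = t) : a * b = 1 := by
  rcases h with h | h
  · exact h
  exfalso
  have hd := hc.orderOf_mul_dvd_mul_orderOf
  rw [h, ht] at hd
  exact Nat.not_even_iff_odd.2 (ha.mul hb) (even_iff_two_dvd.2 hd)

lemma eq_one_of_odd_sq {x : H} (hx : Odd (orderOf x)) (h : x * x = 1) : x = 1 := by
  obtain ⟨k, hk⟩ := hx
  have := pow_orderOf_eq_one x
  rwa [hk, pow_succ, pow_mul, pow_two, h, one_pow, one_mul] at this

/-- Two commuting involutions and their product have the same pairwise centralisers. -/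
lemma meet_mul_eq (t u : H) : cen t ⊓ cen (t * u) = cen t ⊓ cen u := by
  ext x
  simp only [Subgroup.mem_inf, Subgroup.mem_centralizer_singleton_iff]
  constructor
  · rintro ⟨h1, h2⟩
    refine ⟨h1, mul_left_cancel (a := t) ?_⟩
    rw [← mul_assoc, ← mul_assoc, ← h1, mul_assoc, h2, mul_assoc]
  · rintro ⟨h1, h2⟩
    exact ⟨h1, (Commute.mul_right (h1 : Commute x t) h2).eq⟩

end group

variable {F : Type*} [Field F] {G : Subgroup (GL (Fin 3) F)} {t u : Pro G}

local notation "Mat" => Matrix (Fin 3) (Fin 3) F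

/-- An element of a torus fixed by a cyclic permutation of the three vertices. -/
theorem NoTv.cube_of_three_cycle (hG : NoTv G) (ht : orderOf t = 2) (hu : u ∈ invOther t) {n x : Pro G}
    (h1 : n * t * n⁻¹ = u) (h2 : n * u * n⁻¹ = t * u) (hx : x ∈ cen t ⊓ cen u) (hnx : Commute n x) : x ^ 3 = 1 := by
  obtain ⟨g, k, B, rfl, rfl, hg, hk, hc, hB, hB'⟩ := hG.exists_frame ht hu
  obtain ⟨N, rfl⟩ := toPro_surjective n
  obtain ⟨hxg, hxk⟩ := hx
  obtain ⟨h, rfl, hhg⟩ := hG.lift_of_cen hg hxg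
  have hhk : Commute h k := (hG.commute_lift hk (Subgroup.mem_centralizer_singleton_iff.1 hxk).symm).symm
  have sq : ∀ {a : G}, a * a = 1 → N * a * N⁻¹ * (N * a * N⁻¹) = 1 := fun {a} ha => by
    rw [show N * a * N⁻¹ * (N * a * N⁻¹) = N * (a * a) * N⁻¹ by group, ha, mul_one, mul_inv_cancel]
  have e1 : N * g * N⁻¹ = k := hG.lift_unique (sq hg) hk (by simpa using h1)
  have e2 : N * k * N⁻¹ = g * k := hG.lift_unique (sq hk)
    (by rw [show g * k * (g * k) = g * (k * g) * k by group, ← hc.eq,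
      show g * (g * k) * k = (g * g) * (k * k) by group, hg, hk, mul_one]) (by simpa using h2)
  set Y := mloc B (N : GL (Fin 3) F) with hY
  have E1 : Y * diagonal pat0 = diagonal pat1 * Y := by
    rw [hY, ← hB, ← hB', ← mloc_mul, ← mloc_mul, ← Subgroup.coe_mul, ← Subgroup.coe_mul, ← e1, inv_mul_cancel_right]
  have E2 : Y * diagonal pat1 = diagonal (fun i => pat0 i * pat1 i) * Y := by
    rw [hY, ← diagonal_mul_diagonal, ← hB, ← hB', ← mloc_mul, ← mloc_mul, ← mloc_mul, ← Subgroup.coe_mul,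
      ← Subgroup.coe_mul, ← Subgroup.coe_mul, ← e2, inv_mul_cancel_right]
  obtain ⟨c, hcs⟩ := (mem_scalars_iff _).1 (toPro_eq_one.1 (show toPro G (N * h * N⁻¹ * h⁻¹) = 1 by
    rw [map_mul, map_mul, map_mul, map_inv, map_inv, hnx.eq, mul_inv_cancel_right, mul_inv_cancel]))
  have hd := eq_diagonal_of_comm hG.two_ne (frame_comm hB hhg) (by
    have := (mloc_commute (B := B)).1 (hhk.map G.subtype)
    rw [← hB']; exact this)
  set d : Fin 3 → F := fun i => mloc B (h : GL (Fin 3) F) i i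
  have E3 : Y * diagonal d = (c : F) • (diagonal d * Y) := by
    have e : ((N * h : G) : GL (Fin 3) F) = ((N * h * N⁻¹ * h⁻¹ : G) : GL (Fin 3) F) * ((h * N : G) : GL (Fin 3) F) := by
      rw [← Subgroup.coe_mul]; congr 1; group
    rw [hY, ← hd, ← mloc_mul, ← mloc_mul, ← Subgroup.coe_mul, ← Subgroup.coe_mul, e, mloc_mul,
      mloc_smul_one.2 hcs, smul_mul_assoc, one_mul]
  have hne := ne_neg_one hG.two_ne
  have z : ∀ i j, ((pat1 : Fin 3 → F) i ≠ pat0 j ∨ (pat0 i * pat1 i : F) ≠ (pat1 : Fin 3 → F) j) → Y i j = 0 := by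
    intro i j hij
    rcases hij with hij | hij
    · have e := congrFun (congrFun E1 i) j
      rw [Matrix.mul_diagonal, Matrix.diagonal_mul, mul_comm] at e
      by_contra h0
      exact hij (mul_right_cancel₀ h0 e).symm
    · have e := congrFun (congrFun E2 i) j
      rw [Matrix.mul_diagonal, Matrix.diagonal_mul, mul_comm] at e
      by_contra h0
      exact hij (mul_right_cancel₀ h0 e).symm
  have hdet : Y.det ≠ 0 := (B * (N : GL (Fin 3) F) * B⁻¹).det_ne_zero
  have z00 := z 0 0 (Or.inl (by simp [pat0, pat1, hne.symm]))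
  have z01 := z 0 1 (Or.inr (by simp [pat0, pat1, hne.symm]))
  have z11 := z 1 1 (Or.inl (by simp [pat0, pat1, hne]))
  have z12 := z 1 2 (Or.inl (by simp [pat0, pat1, hne]))
  have z20 := z 2 0 (Or.inl (by simp [pat0, pat1, hne.symm]))
  have z22 := z 2 2 (Or.inr (by simp [pat0, pat1, hne]))
  simp [Matrix.det_fin_three, z00, z01, z11, z12, z20, z22] at hdet
  have rel : ∀ i j, Y i j ≠ 0 → d j = (c : F) * d i := fun i j h0 => by
    have e := congrFun (congrFun E3 i) j
    rw [Matrix.mul_diagonal, Matrix.smul_apply, Matrix.diagonal_mul, smul_eq_mul, ← mul_assoc, mul_comm] at e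
    exact mul_right_cancel₀ h0 e
  have r0 := rel 1 0 (by intro e; simp [e] at hdet)
  have r1 := rel 2 1 (by intro e; simp [e] at hdet)
  have r2 := rel 0 2 (by intro e; simp [e] at hdet)
  have hd0 : d 0 ≠ 0 := fun e => (B * (h : GL (Fin 3) F) * B⁻¹).det_ne_zero (by
    show (mloc B (h : GL (Fin 3) F)).det = 0
    rw [hd, det_diagonal, Fin.prod_univ_three, e]; ring)
  have hc3 : (c : F) ^ 3 = 1 := mul_right_cancel₀ hd0 (by
    rw [one_mul]; conv_rhs => rw [r0, r1, r2]
    ring)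
  rw [← map_pow]
  refine toPro_eq_one.2 (mem_scalars_mloc (B := B) ⟨d 0 ^ 3, ?_⟩)
  rw [SubmonoidClass.coe_pow, mloc_pow, hd, diagonal_pow, smul_one_eq_diagonal]
  congr 1
  ext i
  fin_cases i
  · rfl
  · show d 1 ^ 3 = d 0 ^ 3
    rw [r0, mul_pow, hc3, one_mul]
  · show d 2 ^ 3 = d 0 ^ 3
    rw [r2, mul_pow, hc3, one_mul]

/-- Every element of odd order of the centraliser is a homology at `t`, centralises another involution, or is real. -/
def OddProp (G : Subgroup (GL (Fin 3) F)) (t : Pro G) : Prop :=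
  ∀ x ∈ cen t, Odd (orderOf x) → x ∈ homK G t ∨ (∃ u ∈ invOther t, Commute u x) ∨ IsConj x x⁻¹

/-- The conclusion of the case analysis. -/
def CentConcl (G : Subgroup (GL (Fin 3) F)) (t : Pro G) : Prop :=
  (CentDih t ∨ CentAb t ∨ CentBig t ∨ Cent48 t ∨ Cent96 t ∨ Cent24 t) ∧ OddProp G t

section dihedral

variable {m : ℕ}

/-- The rotations. -/
def rotSub (m : ℕ) : Subgroup (DihedralGroup m) := (dihParity m).ker

lemma r_mem_rotSub (i : ZMod m) : DihedralGroup.r i ∈ rotSub m := rfl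

lemma sr_notMem_rotSub (i : ZMod m) : DihedralGroup.sr i ∉ rotSub m := fun h => parity_ne h

lemma rot_cases {a : DihedralGroup m} (ha : a ∈ rotSub m) : ∃ i, a = DihedralGroup.r i := by
  rcases a with i | i
  · exact ⟨i, rfl⟩
  · exact absurd ha (sr_notMem_rotSub i)

lemma swap_cases {a : DihedralGroup m} (ha : a ∉ rotSub m) : ∃ i, a = DihedralGroup.sr i := by
  rcases a with i | i
  · exact absurd (r_mem_rotSub i) ha
  · exact ⟨i, rfl⟩

lemma swap_sq {a : DihedralGroup m} (ha : a ∉ rotSub m) : a * a = 1 := by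
  obtain ⟨i, rfl⟩ := swap_cases ha
  exact DihedralGroup.sr_mul_self i

lemma swap_inv {a b : DihedralGroup m} (ha : a ∉ rotSub m) (hb : b ∈ rotSub m) : a * b * a⁻¹ = b⁻¹ := by
  obtain ⟨i, rfl⟩ := swap_cases ha
  obtain ⟨j, rfl⟩ := rot_cases hb
  rw [DihedralGroup.inv_sr, DihedralGroup.inv_r, DihedralGroup.sr_mul_r, DihedralGroup.sr_mul_sr]
  congr 1
  ring

lemma swap_mul {a b : DihedralGroup m} (ha : a ∉ rotSub m) (hb : b ∉ rotSub m) : a * b ∈ rotSub m := by
  obtain ⟨i, rfl⟩ := swap_cases ha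
  obtain ⟨j, rfl⟩ := swap_cases hb
  rw [DihedralGroup.sr_mul_sr]; exact r_mem_rotSub _

lemma rotSub_comm {a b : DihedralGroup m} (ha : a ∈ rotSub m) (hb : b ∈ rotSub m) : Commute a b := by
  obtain ⟨i, rfl⟩ := rot_cases ha
  obtain ⟨j, rfl⟩ := rot_cases hb
  show DihedralGroup.r (i + j) = DihedralGroup.r (j + i)
  rw [add_comm]

lemma card_rotSub [NeZero m] : Nat.card (rotSub m) = m := by
  have h := (rotSub m).card_mul_index
  have hi : (rotSub m).index = 2 := by
    rw [rotSub, Subgroup.index_ker]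
    have : (dihParity m).range = ⊤ := by
      rw [eq_top_iff]
      intro y _
      rcases parity_values y with rfl | rfl
      · exact one_mem _
      · exact ⟨DihedralGroup.sr 0, rfl⟩
    rw [this, Subgroup.card_top]
    simp
  rw [hi, DihedralGroup.nat_card] at h
  omega

lemma isCyclic_rotSub [NeZero m] : rotSub m = Subgroup.zpowers (DihedralGroup.r 1) := by
  refine le_antisymm (fun a ha => ?_) (Subgroup.zpowers_le.2 (r_mem_rotSub 1))
  obtain ⟨i, rfl⟩ := rot_cases ha
  exact ⟨(i.val : ℤ), by simp⟩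

variable [Finite F] [NeZero m] (φ : cen t →* DihedralGroup m) (hφs : Function.Surjective φ)
  (hφ : ∀ x, φ x = 1 ↔ (x : Pro G) ∈ homK G t)

include hφs hφ in
lemma meet_rot (hG : NoTv G) (ht : orderOf t = 2) (hu : u ∈ invOther t)
    (hr : φ ⟨u, invOther_mem_cen hu⟩ ∈ rotSub m) :
    (∀ x : cen t, (x : Pro G) ∈ cen u ↔ φ x ∈ rotSub m) ∧
      Nat.card ↥(cen t ⊓ cen u) = Nat.card (homK G t) * m := by
  set d := φ ⟨u, invOther_mem_cen hu⟩ with hd
  obtain ⟨g, hmap, hgd, hiff, hprod⟩ := meet_image φ hφ hG ht hu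
  have hd2 : orderOf d = 2 := reflSet_ne_one φ hφ hG ht ⟨u, hu, rfl⟩
  have hg : g ∈ rotSub m := by
    by_contra hg
    obtain ⟨k, hk⟩ := Subgroup.mem_zpowers_iff.1 hgd
    rcases Int.even_or_odd k with ⟨l, rfl⟩ | ⟨l, rfl⟩
    · rw [← two_mul, _root_.zpow_mul, zpow_two, swap_sq hg, _root_.one_zpow] at hk
      rw [hd, ← hk, orderOf_one] at hd2
      omega
    · rw [_root_.zpow_add, _root_.zpow_mul, zpow_two, swap_sq hg, _root_.one_zpow, one_mul, zpow_one] at hk
      exact hg (hk ▸ hr)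
  have hle : Subgroup.zpowers g ≤ rotSub m := Subgroup.zpowers_le.2 hg
  obtain ⟨j, hj⟩ := rot_cases hr
  have hjj : j + j = 0 := by
    have := mul_self_of_orderOf hd2
    rw [hj, DihedralGroup.r_mul_r] at this
    exact DihedralGroup.r.inj this
  have heq : Subgroup.zpowers g = rotSub m := by
    refine le_antisymm hle fun a ha => ?_
    by_contra hna
    obtain ⟨a', rfl⟩ := hφs a
    obtain ⟨s', hs'⟩ := hφs (DihedralGroup.sr 0)
    have hs : φ s' ∉ rotSub m := hs' ▸ sr_notMem_rotSub 0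
    have := hprod (φ a') (φ s') (rotSub_comm ha hr)
      (by rw [show φ ⟨u, invOther_mem_cen hu⟩ = d from rfl, hj]; exact (dihedral_comm_of_two_nsmul hjj _).symm) hna
      (fun h => hs (hle h)) a' s' rfl rfl
    rw [map_mul] at this
    exact hs ((Subgroup.mul_mem_cancel_left _ ha).1 (hle this))
  refine ⟨fun x => by rw [hiff, heq], ?_⟩
  rw [card_meet_eq φ hφ hG ht hu, hmap, heq, card_rotSub]

include hφs hφ in
lemma meet_swap (hG : NoTv G) (ht : orderOf t = 2) (hu : u ∈ invOther t)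
    (hr : φ ⟨u, invOther_mem_cen hu⟩ ∉ rotSub m) :
    Nat.card (homK G t) = 2 ∧ Nat.card ↥(cen t ⊓ cen u) = 4 := by
  obtain ⟨g, hmap, hgd, -, -⟩ := meet_image φ hφ hG ht hu
  have hg : g ∉ rotSub m := fun hg => hr (Subgroup.zpowers_le.2 hg hgd)
  have ho : orderOf g = 2 := orderOf_two (swap_sq hg) fun e => hg (e ▸ one_mem _)
  have hc := card_meet_eq φ hφ hG ht hu
  rw [hmap, Nat.card_zpowers, ho] at hc
  have h2 := hG.two_dvd_card_homK ht
  have hd := hG.sq_dvd_meet ht hu
  rw [hc] at hd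
  have hn : Nat.card (homK G t) ∣ 2 := Nat.dvd_of_mul_dvd_mul_left Nat.card_pos hd
  have hn2 : Nat.card (homK G t) = 2 := Nat.dvd_antisymm hn h2
  exact ⟨hn2, by rw [hc, hn2]⟩

include hφs hφ in
/-- No rotation is the image of an involution. -/
theorem dihedral_no_rot (hG : NoTv G) (ht : orderOf t = 2)
    (hno : ∀ v (hv : v ∈ invOther t), φ ⟨v, invOther_mem_cen hv⟩ ∉ rotSub m) : CentConcl G t := by
  haveI := hG.simple
  have := Fact.mk Nat.prime_two
  obtain ⟨s, hs⟩ := hG.exists_invOther ht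
  have hsC := invOther_mem_cen hs
  have hsr := hno s hs
  have hss : s * s = 1 := mul_self_of_orderOf hs.1
  have hsi : s⁻¹ = s := inv_eq_of_mul_eq_one_right hss
  obtain ⟨hn, -⟩ := meet_swap φ hφs hφ hG ht hs hsr
  let K : Subgroup (Pro G) := ((rotSub m).comap φ).map (cen t).subtype
  have memK : ∀ {x : Pro G} (hx : x ∈ cen t), x ∈ K ↔ φ ⟨x, hx⟩ ∈ rotSub m := by
    intro x hx
    constructor
    · rintro ⟨⟨y, hy⟩, hyK, rfl⟩; exact hyK
    · exact fun h => ⟨⟨x, hx⟩, h, rfl⟩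
  have hKC : K ≤ cen t := by rintro _ ⟨y, -, rfl⟩; exact y.2
  have htC : t ∈ cen t := hG.homK_le ht (hG.self_mem_homK ht)
  have hk2 : ∀ {k : Pro G}, k ∈ homK G t → k = 1 ∨ k = t := fun {k} hk => by
    refine hG.homK_sq ht hk ?_
    have := congrArg Subtype.val (pow_card_eq_one' (x := (⟨k, hk⟩ : homK G t)))
    rwa [hn, SubmonoidClass.coe_pow, Subgroup.coe_one, pow_two] at this
  have htK : t ∈ K := (memK htC).2 (by rw [(hφ _).2 (hG.self_mem_homK ht)]; exact one_mem _)
  have hsK : s ∉ K := fun h => hsr ((memK hsC).1 h)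
  have hab : IsMulCommutative K := by
    let ψ : K →* rotSub m := (φ.comp (Subgroup.inclusion hKC)).codRestrict (rotSub m)
      fun y => (memK (hKC y.2)).1 y.2
    haveI : IsCyclic (rotSub m) := isCyclic_iff_exists_zpowers_eq_top.2 ⟨⟨DihedralGroup.r 1, r_mem_rotSub 1⟩, by
      rw [eq_top_iff]
      rintro ⟨y, hy⟩ -
      have hy' : y ∈ Subgroup.zpowers (DihedralGroup.r (1 : ZMod m)) := isCyclic_rotSub (m := m) ▸ hy
      obtain ⟨i, hi⟩ := hy'
      exact ⟨i, Subtype.ext (by simpa using hi)⟩⟩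
    refine ψ.isMulCommutative_of_isCyclic_of_ker_le_center (fun z hz => ?_)
    rw [Subgroup.mem_center_iff]
    intro w
    have hzk : (z : Pro G) ∈ homK G t := (hφ ⟨z, hKC z.2⟩).1 (congrArg Subtype.val (MonoidHom.mem_ker.1 hz))
    exact Subtype.ext (hG.homK_central ht hzk (hKC w.2)).eq.symm
  have hcov : ∀ x ∈ cen t, x ∈ K ∨ x * s ∈ K := by
    intro x hx
    by_cases h : φ ⟨x, hx⟩ ∈ rotSub m
    · exact Or.inl ((memK hx).2 h)
    · refine Or.inr ((memK ((cen t).mul_mem hx hsC)).2 ?_)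
      rw [show (⟨x * s, (cen t).mul_mem hx hsC⟩ : cen t) = ⟨x, hx⟩ * ⟨s, hsC⟩ from rfl, map_mul]
      exact swap_mul h hsr
  have hone : ∀ x ∈ K, x * x = 1 → x = 1 ∨ x = t := by
    intro x hx hxx
    by_contra hc
    push Not at hc
    exact hno x ⟨orderOf_two hxx hc.1, Subgroup.mem_centralizer_singleton_iff.1 (hKC hx), hc.2⟩ ((memK (hKC hx)).1 hx)
  have hconjK : ∀ {x}, x ∈ K → s * x * s⁻¹ ∈ K := by
    intro x hx
    have hxC := hKC hx
    have hm : s * x * s⁻¹ ∈ cen t := (cen t).mul_mem ((cen t).mul_mem hsC hxC) ((cen t).inv_mem hsC)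
    rw [memK hm, show (⟨s * x * s⁻¹, hm⟩ : cen t) = ⟨s, hsC⟩ * ⟨x, hxC⟩ * ⟨s, hsC⟩⁻¹ from rfl, map_mul, map_mul,
      map_inv, swap_inv hsr ((memK hxC).1 hx)]
    exact inv_mem ((memK hxC).1 hx)
  have hκ : ∀ x ∈ K, x * (s * x * s⁻¹) = 1 ∨ x * (s * x * s⁻¹) = t := by
    intro x hx
    refine hk2 ?_
    have hxC := hKC hx
    refine (hφ (⟨x, hxC⟩ * (⟨s, hsC⟩ * ⟨x, hxC⟩ * ⟨s, hsC⟩⁻¹))).1 ?_
    rw [map_mul, map_mul, map_mul, map_inv, swap_inv hsr ((memK hxC).1 hx), mul_inv_cancel]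
  have hinv : ∀ x ∈ K, s * x * s⁻¹ = x⁻¹ := by
    intro x₀ hx₀
    refine eq_inv_of_mul_eq_one_right ((hκ x₀ hx₀).resolve_right fun hx₀t => ?_)
    -- the semidihedral configuration
    have hmul : ∀ a b, a ∈ K → b ∈ K → a * b * (s * (a * b) * s⁻¹) = a * (s * a * s⁻¹) * (b * (s * b * s⁻¹)) := by
      intro a b ha hb
      have hc : b * (s * a * s⁻¹) = s * a * s⁻¹ * b :=
        congrArg Subtype.val (hab.is_comm.comm ⟨b, hb⟩ ⟨_, hconjK ha⟩)
      calc a * b * (s * (a * b) * s⁻¹) = a * (b * (s * a * s⁻¹)) * (s * b * s⁻¹) := by group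
        _ = _ := by rw [hc]; group
    obtain ⟨e, o, ho, heo⟩ := Nat.exists_eq_two_pow_mul_odd (orderOf_pos x₀).ne'
    set x := x₀ ^ o
    have hx : x ∈ K := K.pow_mem hx₀ o
    have hxt : x * (s * x * s⁻¹) = t := by
      have : ∀ i : ℕ, x₀ ^ i * (s * x₀ ^ i * s⁻¹) = t ^ i := by
        intro i
        induction i with
        | zero => simp
        | succ i ih => rw [pow_succ, hmul _ _ (K.pow_mem hx₀ i) hx₀, ih, hx₀t, pow_succ]
      rw [this o]
      obtain ⟨l, hl⟩ := ho
      rw [hl, pow_succ, pow_mul, pow_two, mul_self_of_orderOf ht, one_pow, one_mul]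
    have hx2 : x ^ 2 ^ e = 1 := by rw [← pow_mul, mul_comm, ← heo, pow_orderOf_eq_one]
    have hx1 : x ≠ 1 := fun h => by
      rw [h] at hxt; simp only [mul_one, mul_inv_cancel] at hxt
      rw [← hxt, orderOf_one] at ht; omega
    have htx : t ∈ Subgroup.zpowers x := by
      obtain ⟨f, hf, hfo⟩ := (Nat.dvd_prime_pow Nat.prime_two).1 (orderOf_dvd_of_pow_eq_one hx2)
      rcases f with _ | f
      · exact absurd (orderOf_eq_one_iff.1 (by simpa using hfo)) hx1
      have h1 : x ^ 2 ^ f ≠ 1 := pow_ne_one_of_lt_orderOf (by positivity)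
        (by rw [hfo]; exact Nat.pow_lt_pow_right one_lt_two (Nat.lt_succ_self f))
      have h2 : x ^ 2 ^ f * x ^ 2 ^ f = 1 := by
        rw [← pow_add, ← two_mul, ← pow_succ', ← hfo, pow_orderOf_eq_one]
      rcases hone _ (K.pow_mem hx _) h2 with h | h
      · exact absurd h h1
      · exact h ▸ Subgroup.npow_mem_zpowers x _
    have hsx : s * x * s⁻¹ = x⁻¹ * t := eq_inv_mul_of_mul_eq hxt
    -- a Sylow subgroup containing `x` and `s`
    set P₀ : Subgroup (Pro G) := Subgroup.zpowers s ⊔ Subgroup.zpowers x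
    have hnorm : Subgroup.zpowers s ≤ Subgroup.normalizer (Subgroup.zpowers x : Set (Pro G)) := by
      rw [Subgroup.zpowers_le]
      have hm : ∀ y ∈ Subgroup.zpowers x, s * y * s⁻¹ ∈ Subgroup.zpowers x := by
        intro y hy
        obtain ⟨i, rfl⟩ := Subgroup.mem_zpowers_iff.1 hy
        rw [← conj_zpow, hsx]
        exact Subgroup.zpow_mem _ (mul_mem (inv_mem (Subgroup.mem_zpowers x)) htx) i
      rw [Subgroup.mem_normalizer_iff]
      intro y
      refine ⟨hm y, fun h => ?_⟩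
      have := hm _ h
      rw [hsi] at this
      rwa [show s * (s * y * s) * s = (s * s) * y * (s * s) by group, hss, one_mul, mul_one] at this
    have hP₀ : IsPGroup 2 P₀ := by
      refine IsPGroup.to_sup_of_normal_right' ?_ ?_ hnorm
      · exact IsPGroup.iff_card.2 ⟨1, by rw [Nat.card_zpowers, hs.1, pow_one]⟩
      · obtain ⟨f, hf, hfo⟩ := (Nat.dvd_prime_pow Nat.prime_two).1 (orderOf_dvd_of_pow_eq_one hx2)
        exact IsPGroup.iff_card.2 ⟨f, by rw [Nat.card_zpowers, hfo]⟩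
    have hP₀C : P₀ ≤ cen t := sup_le (Subgroup.zpowers_le.2 hsC) (Subgroup.zpowers_le.2 (hKC hx))
    obtain ⟨S, hS⟩ := hG.exists_sylow_le_cen ht
    obtain ⟨R, hR⟩ := (hP₀.of_equiv (Subgroup.subgroupOfEquivOfLe hP₀C).symm).exists_le_sylow
    obtain ⟨c, hc⟩ := MulAction.exists_smul_eq (cen t) (S.subtype hS) R
    set P : Sylow 2 (Pro G) := (c : Pro G) • S
    have hPC : (P : Subgroup (Pro G)) ≤ cen t := by
      intro y hy
      rw [Sylow.coe_subgroup_smul] at hy
      obtain ⟨z, hz, rfl⟩ := hy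
      exact (cen t).mul_mem ((cen t).mul_mem c.2 (hS hz)) ((cen t).inv_mem c.2)
    have hP₀P : P₀ ≤ (P : Subgroup (Pro G)) := by
      intro y hy
      have h1 : (⟨y, hP₀C hy⟩ : cen t) ∈ (R : Subgroup (cen t)) := hR (Subgroup.mem_subgroupOf.2 hy)
      rw [← hc, Sylow.coe_subgroup_smul] at h1
      obtain ⟨z, hz, e⟩ := h1
      rw [Sylow.coe_subgroup_smul]
      exact ⟨z, hz, congrArg Subtype.val e⟩
    -- the maximal subgroup
    let Q : Subgroup (Pro G) :=
      { carrier := {y | ∃ k ∈ K, k * (s * k * s⁻¹) = 1 ∧ (y = k ∨ y = k * s)}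
        one_mem' := ⟨1, K.one_mem, by simp, Or.inl rfl⟩
        mul_mem' := by
          rintro a b ⟨k, hk, hk1, hak⟩ ⟨l, hl, hl1, hbl⟩
          have hks : s * k * s⁻¹ = k⁻¹ := eq_inv_of_mul_eq_one_right hk1
          have hls : s * l * s⁻¹ = l⁻¹ := eq_inv_of_mul_eq_one_right hl1
          have hlinv : l⁻¹ * (s * l⁻¹ * s⁻¹) = 1 := by
            rw [show s * l⁻¹ * s⁻¹ = (s * l * s⁻¹)⁻¹ by group, hls, inv_inv, inv_mul_cancel]
          have hkl : k * l * (s * (k * l) * s⁻¹) = 1 := by rw [hmul k l hk hl, hk1, hl1, one_mul]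
          have hkl' : k * l⁻¹ * (s * (k * l⁻¹) * s⁻¹) = 1 := by
            rw [hmul k _ hk (K.inv_mem hl), hk1, hlinv, one_mul]
          rcases hak with rfl | rfl <;> rcases hbl with rfl | rfl
          · exact ⟨_, K.mul_mem hk hl, hkl, Or.inl rfl⟩
          · exact ⟨_, K.mul_mem hk hl, hkl, Or.inr (by group)⟩
          · refine ⟨_, K.mul_mem hk (K.inv_mem hl), hkl', Or.inr ?_⟩
            rw [← hls]; group
          · refine ⟨_, K.mul_mem hk (K.inv_mem hl), hkl', Or.inl ?_⟩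
            rw [← hls, hsi]; group
        inv_mem' := by
          rintro a ⟨k, hk, hk1, hak⟩
          have hks : s * k * s⁻¹ = k⁻¹ := eq_inv_of_mul_eq_one_right hk1
          rcases hak with rfl | rfl
          · refine ⟨a⁻¹, K.inv_mem hk, ?_, Or.inl rfl⟩
            rw [show s * a⁻¹ * s⁻¹ = (s * a * s⁻¹)⁻¹ by group, hks, inv_inv, inv_mul_cancel]
          · refine ⟨k, hk, hk1, Or.inr ?_⟩
            rw [_root_.mul_inv_rev, hsi, ← hks, hsi,
              show s * (s * k * s) = (s * s) * (k * s) by group, hss, one_mul] }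
    have hout : ∀ y ∈ cen t, y ∉ Q → ∃ k ∈ K, k * (s * k * s⁻¹) = t ∧ (y = k ∨ y = k * s) := by
      intro y hy hyQ
      rcases hcov y hy with h | h
      · exact ⟨y, h, (hκ y h).resolve_left fun e => hyQ ⟨y, h, e, Or.inl rfl⟩, Or.inl rfl⟩
      · refine ⟨y * s, h, (hκ _ h).resolve_left fun e => hyQ ⟨y * s, h, e, Or.inr ?_⟩, Or.inr ?_⟩ <;>
          rw [mul_assoc, hss, mul_one]
    have hxQ : x ∉ Q := by
      rintro ⟨k, hk, hk1, h | h⟩
      · rw [← h, hxt] at hk1
        rw [hk1, orderOf_one] at ht; omega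
      · exact hsK (by rw [show s = k⁻¹ * x by rw [h, inv_mul_cancel_left]]; exact K.mul_mem (K.inv_mem hk) hx)
    have hidx : Q.relIndex P = 2 := by
      refine Subgroup.index_eq_two_iff.2 ⟨⟨x, hP₀P (Subgroup.mem_sup_right (Subgroup.mem_zpowers x))⟩, fun b => ?_⟩
      rw [Subgroup.mem_subgroupOf, Subgroup.mem_subgroupOf, Subgroup.coe_mul]
      by_cases hb : (b : Pro G) ∈ Q
      · exact Or.inr ⟨hb, fun h => hxQ ((Subgroup.mul_mem_cancel_left Q hb).1 h)⟩
      · refine Or.inl ⟨?_, hb⟩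
        obtain ⟨k, hk, hkt, h⟩ := hout b (hPC b.2) hb
        rcases h with h | h <;> rw [h]
        · exact ⟨_, K.mul_mem hk hx, by rw [hmul k x hk hx, hkt, hxt, mul_self_of_orderOf ht], Or.inl rfl⟩
        · refine ⟨_, K.mul_mem hk (hconjK hx), ?_, Or.inr (show k * s * x = k * (s * x * s⁻¹) * s by group)⟩
          rw [hmul k _ hk (hconjK hx), hkt, show s * (s * x * s⁻¹) * s⁻¹ = x by
            rw [show s * (s * x * s⁻¹) * s⁻¹ = (s * s) * x * (s * s)⁻¹ by group, hss]; group]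
          have hcx : Commute (s * x * s⁻¹) x := congrArg Subtype.val (hab.is_comm.comm ⟨_, hconjK hx⟩ ⟨x, hx⟩)
          rw [hcx.eq, hxt, mul_self_of_orderOf ht]
    set u := x * s
    have hu2 : u * u = t := by
      rw [← hxt]; simp only [u]; rw [hsi]; group
    have hu4 : u ^ 4 = 1 := by
      rw [show (4 : ℕ) = 2 * 2 by norm_num, pow_mul, pow_two u, hu2, pow_two, mul_self_of_orderOf ht]
    have huC : u ∈ cen t := (cen t).mul_mem (hKC hx) hsC
    have hur : φ ⟨u, huC⟩ ∉ rotSub m := by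
      rw [show (⟨u, huC⟩ : cen t) = ⟨x, hKC hx⟩ * ⟨s, hsC⟩ from rfl, map_mul]
      exact fun h => hsr ((Subgroup.mul_mem_cancel_left _ ((memK (hKC hx)).1 hx)).1 h)
    obtain ⟨N, hN, hi⟩ : ∃ N : Subgroup (Pro G), N.Normal ∧ N.index = 2 := by
      refine transfer_four (P : Subgroup (Pro G)) Q
        (Nat.not_even_iff_odd.1 fun h => P.not_dvd_index (even_iff_two_dvd.1 h)) hidx hu4 ?_ ?_
      · intro g hg hgQ
        have hsq : g * u * g⁻¹ * (g * u * g⁻¹) = g * t * g⁻¹ := by rw [← hu2]; group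
        obtain ⟨k, hk, hk1, h | h⟩ := hgQ
        · have hkk : g * t * g⁻¹ = t := by
            rw [h] at hsq
            rw [← hsq]
            refine (hone _ (K.mul_mem hk hk) ?_).resolve_left fun e => ?_
            · rw [hsq, show g * t * g⁻¹ * (g * t * g⁻¹) = g * (t * t) * g⁻¹ by group, mul_self_of_orderOf ht]; group
            · rw [e] at hsq
              rw [eq_comm, mul_inv_eq_one, mul_eq_left] at hsq
              rw [hsq, orderOf_one] at ht; omega
          have hgC : g ∈ cen t := Subgroup.mem_centralizer_singleton_iff.2 (mul_inv_eq_iff_eq_mul.1 hkk)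
          have e : φ (⟨g, hgC⟩ * ⟨u, huC⟩ * ⟨g, hgC⟩⁻¹) = φ ⟨k, hKC hk⟩ := congrArg φ (Subtype.ext h)
          rw [map_mul, map_mul, map_inv] at e
          have hk' := (memK (hKC hk)).1 hk
          rw [← e] at hk'
          haveI : (rotSub m).Normal := MonoidHom.normal_ker _
          have := Subgroup.Normal.conj_mem inferInstance _ hk' (φ ⟨g, hgC⟩)⁻¹
          exact hur (by simpa [mul_assoc] using this)
        · have e : g * t * g⁻¹ = 1 := by
            rw [← hsq, h]
            calc k * s * (k * s) = k * (s * k * s⁻¹) := by rw [hsi]; group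
              _ = 1 := hk1
          rw [mul_inv_eq_one, mul_eq_left] at e
          rw [e, orderOf_one] at ht
          omega
      · intro g hg
        have hv : g * u ^ 2 * g⁻¹ = g * t * g⁻¹ := by rw [pow_two, hu2]
        rw [hv] at hg ⊢
        have hvv : g * t * g⁻¹ * (g * t * g⁻¹) = 1 := by
          rw [show g * t * g⁻¹ * (g * t * g⁻¹) = g * (t * t) * g⁻¹ by group, mul_self_of_orderOf ht]; group
        rcases hcov _ (hPC hg) with h | h
        · rcases hone _ h hvv with e | e <;> rw [e]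
          · exact one_mem Q
          · exact ⟨t, htK, by rw [hs.2.1.eq, mul_inv_cancel_right, mul_self_of_orderOf ht], Or.inl rfl⟩
        · refine ⟨_, h, ?_, Or.inr (by rw [mul_assoc _ s s, hss, mul_one])⟩
          calc g * t * g⁻¹ * s * (s * (g * t * g⁻¹ * s) * s⁻¹) = g * t * g⁻¹ * (s * s) * (g * t * g⁻¹) := by group
            _ = 1 := by rw [hss, mul_one, hvv]
    exact no_index_two hG.nonabelian hN hi
  refine ⟨Or.inl (centDih_mk hG ht hab hKC htK hs hsK hcov hinv hone), fun y hy hodd => Or.inr (Or.inr ?_)⟩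
  have hyr : φ ⟨y, hy⟩ ∈ rotSub m := by
    by_contra h
    have hd : orderOf (φ ⟨y, hy⟩) ∣ orderOf y := by
      rw [show orderOf y = orderOf (⟨y, hy⟩ : cen t) from Subgroup.orderOf_coe (⟨y, hy⟩ : cen t)]
      exact orderOf_map_dvd φ _
    rw [orderOf_two (swap_sq h) (fun e => h (e ▸ one_mem _))] at hd
    exact Nat.not_even_iff_odd.2 hodd (even_iff_two_dvd.2 hd)
  exact isConj_iff.2 ⟨s, hinv y ((memK hy).2 hyr)⟩

end dihedral

end CfsgLib.Geo.D3
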