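/-
The centraliser of an involution: dihedral image with an involution of the rotation group.
-/
import Cfsg.Agent.Geo.DimThree.NoTv.CentDihedral

set_option autoImplicit false
set_option linter.unusedSectionVars false
set_option linter.style.haveILetI false

namespace CfsgLib.Geo.D3

open Matrix Cfsg Cfsg.Geo CfsgLib.Geo
open scoped commutatorElement

section group

variable {H : Type*} [Group H] [Finite H]

/-- In an abelian group with two involutions an element has order dividing half the order. -/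
lemma two_mul_orderOf_dvd {T : Subgroup H} (hT : IsMulCommutative T) {t u x : H} (ht : orderOf t = 2)
    (hu : orderOf u = 2) (htu : u ≠ t) (htT : t ∈ T) (huT : u ∈ T) (hx : x ∈ T) : 2 * orderOf x ∣ Nat.card T := by
  obtain ⟨v, hv, hvT, hvx⟩ : ∃ v, orderOf v = 2 ∧ v ∈ T ∧ v ∉ Subgroup.zpowers x := by
    by_cases h : t ∈ Subgroup.zpowers x
    · exact ⟨u, hu, huT, fun hux => htu (eq_of_zpowers hux h hu ht)⟩
    · exact ⟨t, ht, htT, h⟩
  have hd : Subgroup.zpowers v ⊓ Subgroup.zpowers x = ⊥ := by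
    rw [Subgroup.eq_bot_iff_forall]
    rintro y ⟨hyv, hyx⟩
    obtain ⟨i, rfl⟩ := Subgroup.mem_zpowers_iff.1 hyv
    rcases Int.even_or_odd i with ⟨l, rfl⟩ | ⟨l, rfl⟩
    · rw [← two_mul, _root_.zpow_mul, zpow_two, mul_self_of_orderOf hv, _root_.one_zpow]
    · rw [SetLike.mem_coe, _root_.zpow_add, _root_.zpow_mul, zpow_two, mul_self_of_orderOf hv, _root_.one_zpow,
        one_mul, zpow_one] at hyx
      exact absurd hyx hvx
  have := card_mul_dvd hT (Subgroup.zpowers_le.2 hvT) (Subgroup.zpowers_le.2 hx) hd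
  rwa [Nat.card_zpowers, Nat.card_zpowers, hv] at this

end group

variable {F : Type*} [Field F] [Finite F] {G : Subgroup (GL (Fin 3) F)} {t u : Pro G}

variable {m : ℕ} [NeZero m] (φ : cen t →* DihedralGroup m) (hφs : Function.Surjective φ)
  (hφ : ∀ x, φ x = 1 ↔ (x : Pro G) ∈ homK G t)

include hφs hφ in
/-- A rotation is the image of an involution. -/
theorem dihedral_rot (hG : NoTv G) (ht : orderOf t = 2) (hu : u ∈ invOther t)
    (hr : φ ⟨u, invOther_mem_cen hu⟩ ∈ rotSub m) : CentConcl G t := by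
  classical
  have huC := invOther_mem_cen hu
  obtain ⟨hTiff, hTcard⟩ := meet_rot φ hφs hφ hG ht hu hr
  set n := Nat.card (homK G t) with hn
  set T := cen t ⊓ cen u with hTdef
  have hTab : IsMulCommutative T := hG.isMulCommutative_meet ht hu
  have htC : t ∈ cen t := hG.homK_le ht (hG.self_mem_homK ht)
  have huT : u ∈ T := ⟨huC, Subgroup.mem_centralizer_singleton_iff.2 rfl⟩
  have htT : t ∈ T := hG.homK_le_meet ht hu (hG.self_mem_homK ht)
  have hnpos : 0 < n := Nat.card_pos
  have h2n : 2 ∣ n := hG.two_dvd_card_homK ht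
  have hnm : n ∣ m := by
    have := hG.sq_dvd_meet ht hu
    rw [hTcard] at this
    exact Nat.dvd_of_mul_dvd_mul_left hnpos this
  have hC : Nat.card (cen t) = 2 * (n * m) := by
    rw [card_cen_eq φ hφs hφ hG ht, DihedralGroup.nat_card]; ring
  set d := φ ⟨u, huC⟩ with hd
  have hd2 : orderOf d = 2 := reflSet_ne_one φ hφ hG ht ⟨u, hu, rfl⟩
  obtain ⟨jd, hjd⟩ := rot_cases hr
  have hjj : jd + jd = 0 := by
    have := mul_self_of_orderOf hd2
    rw [hjd, DihedralGroup.r_mul_r] at this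
    exact DihedralGroup.r.inj this
  have huniq : ∀ v (hv : v ∈ invOther t), φ ⟨v, invOther_mem_cen hv⟩ ∈ rotSub m → v = u ∨ v = t * u := by
    intro v hv hvr
    refine eq_or_of_image φ hφ hG ht hu hv ?_
    refine eq_of_zpowers (x := DihedralGroup.r (1 : ZMod m)) ?_ ?_ (reflSet_ne_one φ hφ hG ht ⟨v, hv, rfl⟩) hd2
    · exact isCyclic_rotSub (m := m) ▸ hvr
    · exact isCyclic_rotSub (m := m) ▸ hr
  have hswap : ∀ y : cen t, φ y ∉ rotSub m → (y : Pro G) ∉ T ∧ (y : Pro G) * u * (y : Pro G)⁻¹ = t * u := by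
    intro y hy
    have hyu : (y : Pro G) ∉ cen u := fun h => hy ((hTiff y).1 h)
    refine ⟨fun h => hyu h.2, (conj_pair φ hφ hG ht hu y ?_).resolve_left fun h => hyu ?_⟩
    · rw [show φ ⟨u, invOther_mem_cen hu⟩ = d from rfl, hjd]
      exact (dihedral_comm_of_two_nsmul hjj _).symm
    · rw [Subgroup.mem_centralizer_singleton_iff]; exact mul_inv_eq_iff_eq_mul.1 h
  have hyu2 : ∀ y : cen t, φ y ∉ rotSub m →
      (y : Pro G) * u * ((y : Pro G) * u) = (y : Pro G) * y * t := by
    intro y hy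
    have hc := (hswap y hy).2
    have hyt : Commute (y : Pro G) t := Subgroup.mem_centralizer_singleton_iff.1 y.2
    have e : u * (y : Pro G) = (y : Pro G) * (t * u) := by
      have h1 : (y : Pro G) * (t * u) * (y : Pro G)⁻¹ = u := by
        calc (y : Pro G) * (t * u) * (y : Pro G)⁻¹ = (y * t) * u * (y : Pro G)⁻¹ := by group
          _ = (t * y) * u * (y : Pro G)⁻¹ := by rw [hyt.eq]
          _ = t * (y * u * (y : Pro G)⁻¹) := by group
          _ = u := by rw [hc, ← mul_assoc, mul_self_of_orderOf ht, one_mul]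
      rw [mul_inv_eq_iff_eq_mul] at h1
      exact h1.symm
    calc (y : Pro G) * u * (y * u) = y * (u * y) * u := by group
      _ = y * y * t * (u * u) := by rw [e]; group
      _ = _ := by rw [mul_self_of_orderOf hu.1, mul_one]
  have hodd : OddProp G t := by
    intro y hy hyo
    refine Or.inr (Or.inl ⟨u, hu, ?_⟩)
    have : φ ⟨y, hy⟩ ∈ rotSub m := by
      by_contra h
      have hdv : orderOf (φ ⟨y, hy⟩) ∣ orderOf y := by
        rw [show orderOf y = orderOf (⟨y, hy⟩ : cen t) from Subgroup.orderOf_coe (⟨y, hy⟩ : cen t)]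
        exact orderOf_map_dvd φ _
      rw [orderOf_two (swap_sq h) (fun e => h (e ▸ one_mem _))] at hdv
      exact Nat.not_even_iff_odd.2 hyo (even_iff_two_dvd.2 hdv)
    exact (Subgroup.mem_centralizer_singleton_iff.1 ((hTiff ⟨y, hy⟩).2 this) : Commute y u).symm
  have hm2 : 2 ∣ m := by
    have := orderOf_dvd_natCard (⟨d, hr⟩ : rotSub m)
    rwa [← Subgroup.orderOf_coe, card_rotSub, show orderOf ((⟨d, hr⟩ : rotSub m) : DihedralGroup m) = 2 from hd2] at this
  obtain ⟨y₀, hy₀⟩ := hφs (DihedralGroup.sr 0)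
  have hy₀r : φ y₀ ∉ rotSub m := hy₀ ▸ sr_notMem_rotSub 0
  have hKsq : ∀ y : cen t, φ y ∉ rotSub m → (y : Pro G) * y ∈ homK G t := fun y hy => by
    have := (hφ (y * y)).1 (by rw [map_mul, swap_sq hy])
    simpa using this
  have mkswap : ∀ y : cen t, φ y ∉ rotSub m → (y : Pro G) * y = 1 ∨ (y : Pro G) * y = t →
      ∃ s, ∃ hs : s ∈ invOther t, φ ⟨s, invOther_mem_cen hs⟩ ∉ rotSub m := by
    intro y hy hsq
    obtain ⟨z, hz, hzr⟩ : ∃ z : cen t, (z : Pro G) * z = 1 ∧ φ z ∉ rotSub m := by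
      rcases hsq with h | h
      · exact ⟨y, h, hy⟩
      · refine ⟨y * ⟨u, huC⟩, ?_, ?_⟩
        · show (y : Pro G) * u * (y * u) = 1
          rw [hyu2 y hy, h, mul_self_of_orderOf ht]
        · rw [map_mul]; exact fun h' => hy ((Subgroup.mul_mem_cancel_right _ hr).1 h')
    have h1 : (z : Pro G) ≠ 1 := fun e => hzr (by
      rw [show z = 1 from Subtype.ext e, map_one]; exact one_mem _)
    have h2 : (z : Pro G) ≠ t := fun e => hzr (by
      rw [(hφ z).2 (by rw [e]; exact hG.self_mem_homK ht)]; exact one_mem _)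
    exact ⟨z, ⟨orderOf_two hz h1, Subgroup.mem_centralizer_singleton_iff.1 z.2, h2⟩, hzr⟩
  refine ⟨?_, hodd⟩
  by_cases hn2 : n = 2
  swap
  · -- a homology group of order at least four
    have hall : ∀ v (hv : v ∈ invOther t), φ ⟨v, invOther_mem_cen hv⟩ ∈ rotSub m := fun v hv => by
      by_contra h
      exact hn2 (meet_swap φ hφs hφ hG ht hv h).1
    have hn4 : 4 ≤ n := by
      obtain ⟨i, hi⟩ := h2n
      omega
    have hinv : invOther t = {u, t * u} := by
      ext v
      refine ⟨fun hv => ?_, ?_⟩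
      · exact huniq v hv (hall v hv)
      · rintro (rfl | rfl)
        exacts [hu, mul_mem_invOther ht hu]
    have h4m : 4 ∣ m := by
      by_contra h4
      obtain ⟨q, hq⟩ := h2n
      have hqodd : Odd q := Nat.not_even_iff_odd.1 fun ⟨l, hl⟩ => h4 (Nat.dvd_trans (show 4 ∣ n from ⟨l, by omega⟩) hnm)
      set y := y₀ ^ q
      have hyr : φ y ∉ rotSub m := by
        obtain ⟨l, hl⟩ := hqodd
        rw [map_pow, hl, pow_succ, pow_mul, pow_two, swap_sq hy₀r, one_pow, one_mul]
        exact hy₀r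
      have hk := hKsq y₀ hy₀r
      have hsq : (y : Pro G) * y = 1 ∨ (y : Pro G) * y = t := by
        have e : (y : Pro G) * y = ((y₀ : Pro G) * y₀) ^ q := by
          rw [SubmonoidClass.coe_pow, ← pow_add, ← two_mul, pow_mul, pow_two]
        rw [e]
        refine hG.homK_sq ht ((homK G t).pow_mem hk q) ?_
        have := congrArg Subtype.val (pow_card_eq_one' (x := (⟨_, hk⟩ : homK G t)))
        rw [SubmonoidClass.coe_pow, Subgroup.coe_one, ← hn, hq] at this
        rw [← pow_add, ← two_mul]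
        exact this
      obtain ⟨s, hs, hsr⟩ := mkswap y hyr hsq
      exact hsr (hall s hs)
    have h16 : 16 ≤ n * m := by
      have : n ≤ m := Nat.le_of_dvd (Nat.pos_of_ne_zero (NeZero.ne m)) hnm
      nlinarith
    refine Or.inr (Or.inr (Or.inl ⟨n * m, h16, hC, ?_, ?_, T, inf_le_left, hTab, hTcard⟩))
    · rw [centSum_const (c := n * m) (fun v hv => ?_), hinv, Set.ncard_pair]
      · exact fun e => by
          have := congrArg (fun z => z * u) e
          simp [mul_assoc, mul_self_of_orderOf hu.1] at this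
          rw [← this, orderOf_one] at ht
          omega
      · exact (meet_rot φ hφs hφ hG ht hv (hall v hv)).2
    · intro x hx
      by_cases hxr : φ ⟨x, hx⟩ ∈ rotSub m
      · rw [← hTcard]
        exact two_mul_orderOf_dvd hTab ht hu.1 hu.2.2 htT huT ⟨hx, (hTiff ⟨x, hx⟩).2 hxr⟩
      · have hk := hKsq ⟨x, hx⟩ hxr
        have h1 : orderOf x ∣ 2 * n := by
          refine orderOf_dvd_of_pow_eq_one ?_
          have := congrArg Subtype.val (pow_card_eq_one' (x := (⟨_, hk⟩ : homK G t)))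
          rw [SubmonoidClass.coe_pow, Subgroup.coe_one] at this
          rw [pow_mul, pow_two]
          exact this
        refine (Nat.mul_dvd_mul_left 2 h1).trans ?_
        rw [← mul_assoc, mul_comm]
        exact Nat.mul_dvd_mul_left n h4m
  · -- a homology group of order two
    have hk2 : ∀ {k : Pro G}, k ∈ homK G t → k = 1 ∨ k = t := fun {k} hk => by
      refine hG.homK_sq ht hk ?_
      have := congrArg Subtype.val (pow_card_eq_one' (x := (⟨k, hk⟩ : homK G t)))
      rwa [← hn, hn2, SubmonoidClass.coe_pow, Subgroup.coe_one, pow_two] at this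
    have h4m : ¬ 4 ∣ m := by
      intro h4
      obtain ⟨a, b, hab⟩ := dihedral_involution_commutator h4 (NeZero.ne m) hjj (fun e => by
        rw [hjd, e] at hd2; simp at hd2)
      have := four_dvd_of_commutator φ hφs hφ hG ht (d := d) ⟨u, hu, rfl⟩ (hab.trans hjd.symm)
      rw [← hn, hn2] at this
      omega
    obtain ⟨s, hs, hsr⟩ := mkswap y₀ hy₀r (hk2 (hKsq y₀ hy₀r))
    have hsC := invOther_mem_cen hs
    have hss := mul_self_of_orderOf hs.1
    have hsu : s * u * s⁻¹ = t * u := (hswap ⟨s, hsC⟩ hsr).2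
    have hwsq : s * u * (s * u) = t := by
      have := hyu2 ⟨s, hsC⟩ hsr
      simpa [hss] using this
    obtain ⟨j, hj⟩ := hm2
    have hjodd : Odd j := Nat.not_even_iff_odd.1 fun ⟨l, hl⟩ => h4m ⟨l, by omega⟩
    by_cases hm : m = 2
    · left
      have hC8 : Nat.card (cen t) = 8 := by rw [hC, hn2, hm]
      set w := s * u with hw
      have hwo : orderOf w = 2 ^ (1 + 1) := by
        have := Fact.mk Nat.prime_two
        refine orderOf_eq_prime_pow ?_ ?_
        · rw [pow_one, pow_two, hwsq]; exact fun e => by rw [e, orderOf_one] at ht; omega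
        · rw [show 2 ^ (1 + 1) = 2 * 2 by norm_num, pow_mul, pow_two w, hwsq, pow_two, mul_self_of_orderOf ht]
      have hwC : Subgroup.zpowers w ≤ cen t := Subgroup.zpowers_le.2 ((cen t).mul_mem hsC huC)
      have htw : t ∈ Subgroup.zpowers w := ⟨2, by rw [← hwsq]; exact zpow_two w⟩
      have hswn : s ∉ Subgroup.zpowers w := fun h => hs.2.2 (eq_of_zpowers h htw hs.1 ht)
      have hidx : ((Subgroup.zpowers w).subgroupOf (cen t)).index = 2 := by
        have h := ((Subgroup.zpowers w).subgroupOf (cen t)).card_mul_index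
        rw [Nat.card_congr (Subgroup.subgroupOfEquivOfLe hwC).toEquiv, Nat.card_zpowers, hwo, hC8] at h
        omega
      refine centDih_mk hG ht inferInstance hwC htw hs hswn (fun x hx => ?_) (fun x hx => ?_) (fun x hx hxx => ?_)
      · have h := Subgroup.mul_mem_iff_of_index_two hidx (a := (⟨x, hx⟩ : cen t)) (b := ⟨s, hsC⟩)
        simp only [Subgroup.mem_subgroupOf, Subgroup.coe_mul, hswn, iff_false] at h
        exact (em _).imp id fun hx' => h.2 hx'
      · obtain ⟨i, rfl⟩ := Subgroup.mem_zpowers_iff.1 hx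
        have e : s * w * s⁻¹ = w⁻¹ := by
          rw [hw, _root_.mul_inv_rev, inv_eq_of_mul_eq_one_right hss, inv_eq_of_mul_eq_one_right (mul_self_of_orderOf hu.1),
            ← mul_assoc s s u, hss, one_mul]
        rw [← conj_zpow, e, _root_.inv_zpow]
      · by_contra hc
        push Not at hc
        exact hc.2 (eq_of_zpowers hx htw (orderOf_two hxx hc.1) ht)
    right; right; right; right; right
    have hTm : Nat.card T = 2 * m := by rw [hTcard, hn2]
    -- an element permuting `t`, `u`, `t * u` cyclically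
    obtain ⟨g, hg⟩ := isConj_iff.1 (one_class hG hu.1 ht)
    set a := g * t * g⁻¹ with ha
    have hao : orderOf a = 2 := by rw [show a = MulAut.conj g t from rfl, MulEquiv.orderOf_eq, ht]
    have haI : a ∈ invOther t := ⟨hao, by rw [← hg]; exact (Commute.conj_iff g).2 hu.2.1.symm, fun e => hu.2.2 (by
      have : g * t * g⁻¹ = g * u * g⁻¹ := by rw [← ha, e, hg]
      simpa using this.symm)⟩
    have hmeet : Nat.card ↥(cen t ⊓ cen a) = Nat.card T := by
      have e : T.map (MulAut.conj g).toMonoidHom = cen t ⊓ cen a := by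
        ext z
        constructor
        · rintro ⟨y, ⟨hy1, hy2⟩, rfl⟩
          show g * y * g⁻¹ ∈ _
          refine Subgroup.mem_inf.2 ⟨?_, ?_⟩ <;> rw [Subgroup.mem_centralizer_singleton_iff]
          · rw [← hg]; exact ((Commute.conj_iff g).2 (Subgroup.mem_centralizer_singleton_iff.1 hy2)).eq
          · exact ((Commute.conj_iff g).2 (Subgroup.mem_centralizer_singleton_iff.1 hy1)).eq
        · rintro ⟨h1, h2⟩
          refine ⟨g⁻¹ * z * g, Subgroup.mem_inf.2 ⟨?_, ?_⟩, by show g * (g⁻¹ * z * g) * g⁻¹ = z; group⟩ <;>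
            rw [Subgroup.mem_centralizer_singleton_iff]
          · refine ((Commute.conj_iff g).1 ?_).eq
            rw [show g * (g⁻¹ * z * g) * g⁻¹ = z by group]
            exact Subgroup.mem_centralizer_singleton_iff.1 h2
          · refine ((Commute.conj_iff g).1 ?_).eq
            rw [show g * (g⁻¹ * z * g) * g⁻¹ = z by group, hg]
            exact Subgroup.mem_centralizer_singleton_iff.1 h1
      rw [← e, Subgroup.card_map_of_injective (MulAut.conj g).injective]
    have har : φ ⟨a, invOther_mem_cen haI⟩ ∈ rotSub m := by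
      by_contra h
      rw [(meet_swap φ hφs hφ hG ht haI h).2, hTm] at hmeet
      omega
    have hst : Commute s t := Subgroup.mem_centralizer_singleton_iff.1 hsC
    obtain ⟨ν, hν1, hν2⟩ : ∃ ν : Pro G, ν * t * ν⁻¹ = u ∧ ν * u * ν⁻¹ = t * u := by
      rcases huniq a haI har with e | e
      · refine ⟨g * s, ?_, ?_⟩
        · rw [show g * s * t * (g * s)⁻¹ = g * (s * t * s⁻¹) * g⁻¹ by group, hst.eq, mul_inv_cancel_right, ← ha, e]
        · rw [show g * s * u * (g * s)⁻¹ = g * (s * u * s⁻¹) * g⁻¹ by group, hsu,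
            show g * (t * u) * g⁻¹ = g * t * g⁻¹ * (g * u * g⁻¹) by group, ← ha, e, hg, hu.2.1.eq]
      · refine ⟨g⁻¹, ?_, ?_⟩
        · rw [← hg]; group
        · have h1 : g⁻¹ * a * g⁻¹⁻¹ = t := by rw [ha]; group
          have h2 : g⁻¹ * t * g⁻¹⁻¹ = u := by rw [← hg]; group
          rw [e] at h1
          have h3 : g⁻¹ * t * g⁻¹⁻¹ * (g⁻¹ * u * g⁻¹⁻¹) = t := by
            rw [show g⁻¹ * t * g⁻¹⁻¹ * (g⁻¹ * u * g⁻¹⁻¹) = g⁻¹ * (t * u) * g⁻¹⁻¹ by group]
            exact h1
          rw [h2] at h3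
          calc g⁻¹ * u * g⁻¹⁻¹ = u⁻¹ * t := eq_inv_mul_of_mul_eq h3
            _ = t * u := by rw [inv_eq_of_mul_eq_one_right (mul_self_of_orderOf hu.1), hu.2.1.eq]
    -- elements of odd order of the torus have order dividing three
    have hνT : ∀ y ∈ T, ν * y * ν⁻¹ ∈ T := by
      rintro y ⟨hy1, hy2⟩
      have c1 : Commute (ν * y * ν⁻¹) u := by
        rw [← hν1]; exact (Commute.conj_iff ν).2 (Subgroup.mem_centralizer_singleton_iff.1 hy1)
      have c2 : Commute (ν * y * ν⁻¹) (t * u) := by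
        rw [← hν2]; exact (Commute.conj_iff ν).2 (Subgroup.mem_centralizer_singleton_iff.1 hy2)
      refine ⟨Subgroup.mem_centralizer_singleton_iff.2 ?_, Subgroup.mem_centralizer_singleton_iff.2 c1.eq⟩
      have := c2.mul_right c1
      rw [mul_assoc t u u, mul_self_of_orderOf hu.1, mul_one] at this
      exact this.eq
    have hTcomm : ∀ y ∈ T, ∀ z ∈ T, Commute y z := fun y hy z hz =>
      congrArg Subtype.val (hTab.is_comm.comm ⟨y, hy⟩ ⟨z, hz⟩)
    have hinv : ∀ y ∈ T, Odd (orderOf y) → s * y * s⁻¹ = y⁻¹ := by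
      intro y hy hyo
      have hy' : s * y * s⁻¹ ∈ T := by
        have h1 : φ ⟨y, hy.1⟩ ∈ rotSub m := (hTiff ⟨y, hy.1⟩).1 hy.2
        have hm' : s * y * s⁻¹ ∈ cen t := (cen t).mul_mem ((cen t).mul_mem hsC hy.1) ((cen t).inv_mem hsC)
        refine ⟨hm', (hTiff ⟨_, hm'⟩).2 ?_⟩
        rw [show (⟨s * y * s⁻¹, hm'⟩ : cen t) = ⟨s, hsC⟩ * ⟨y, hy.1⟩ * ⟨s, hsC⟩⁻¹ from rfl, map_mul, map_mul,
          map_inv, swap_inv hsr h1]
        exact inv_mem h1
      refine eq_inv_of_mul_eq_one_right (eq_one_of_odd_mul ht (hTcomm y hy _ hy') hyo (by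
        rw [← MulAut.conj_apply, MulEquiv.orderOf_eq]; exact hyo) (hk2 ?_))
      refine (hφ (⟨y, hy.1⟩ * (⟨s, hsC⟩ * ⟨y, hy.1⟩ * ⟨s, hsC⟩⁻¹))).1 ?_
      rw [map_mul, map_mul, map_mul, map_inv, swap_inv hsr ((hTiff ⟨y, hy.1⟩).1 hy.2), mul_inv_cancel]
    have hcube : ∀ y ∈ T, Odd (orderOf y) → y ^ 3 = 1 := by
      intro y hy hyo
      refine hG.cube_of_three_cycle ht hu hν1 hν2 hy ?_
      set f := fun z => ν * z * ν⁻¹ with hf
      have hfo : Odd (orderOf (f y)) := by
        show Odd (orderOf (ν * y * ν⁻¹)); rw [← MulAut.conj_apply, MulEquiv.orderOf_eq]; exact hyo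
      have hνtu : ν * (t * u) * ν⁻¹ = t := by
        rw [show ν * (t * u) * ν⁻¹ = ν * t * ν⁻¹ * (ν * u * ν⁻¹) by group, hν1, hν2, ← mul_assoc,
          hu.2.1.eq, mul_assoc, mul_self_of_orderOf hu.1, mul_one]
      have hssi : s⁻¹ = s := inv_eq_of_mul_eq_one_right hss
      set w := ν * (s * ν * s⁻¹) with hw
      have hwT : w ∈ T := by
        have h1 : s * ν * s⁻¹ * t * (s * ν * s⁻¹)⁻¹ = t * u := by
          rw [show s * ν * s⁻¹ * t * (s * ν * s⁻¹)⁻¹ = s * (ν * (s⁻¹ * t * s) * ν⁻¹) * s⁻¹ by group,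
            show s⁻¹ * t * s = t by rw [mul_assoc, hst.symm.eq, inv_mul_cancel_left], hν1, hsu]
        have h2 : s * ν * s⁻¹ * u * (s * ν * s⁻¹)⁻¹ = t := by
          rw [show s * ν * s⁻¹ * u * (s * ν * s⁻¹)⁻¹ = s * (ν * (s⁻¹ * u * s) * ν⁻¹) * s⁻¹ by group,
            show s⁻¹ * u * s = t * u by rw [hssi]; nth_rewrite 2 [← hssi]; exact hsu, hνtu, hst.eq,
            mul_inv_cancel_right]
        refine Subgroup.mem_inf.2 ⟨?_, ?_⟩ <;> rw [Subgroup.mem_centralizer_singleton_iff, ← mul_inv_eq_iff_eq_mul, hw]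
        · rw [show ν * (s * ν * s⁻¹) * t * (ν * (s * ν * s⁻¹))⁻¹ = ν * (s * ν * s⁻¹ * t * (s * ν * s⁻¹)⁻¹) * ν⁻¹ by group,
            h1, hνtu]
        · rw [show ν * (s * ν * s⁻¹) * u * (ν * (s * ν * s⁻¹))⁻¹ = ν * (s * ν * s⁻¹ * u * (s * ν * s⁻¹)⁻¹) * ν⁻¹ by group,
            h2, hν1]
      have hff : f (f y) = y := by
        have e : w * y * w⁻¹ = f (f y) := by
          have h1 : s * ν * s⁻¹ * y * (s * ν * s⁻¹)⁻¹ = f y := by
            rw [show s * ν * s⁻¹ * y * (s * ν * s⁻¹)⁻¹ = s * (ν * (s⁻¹ * y * s) * ν⁻¹) * s⁻¹ by group,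
              show s⁻¹ * y * s = y⁻¹ by rw [hssi]; nth_rewrite 2 [← hssi]; exact hinv y hy hyo,
              show ν * y⁻¹ * ν⁻¹ = (f y)⁻¹ by simp only [hf]; group,
              show s * (f y)⁻¹ * s⁻¹ = (s * f y * s⁻¹)⁻¹ by group, hinv _ (hνT y hy) hfo, inv_inv]
          rw [hw, show ν * (s * ν * s⁻¹) * y * (ν * (s * ν * s⁻¹))⁻¹ = ν * (s * ν * s⁻¹ * y * (s * ν * s⁻¹)⁻¹) * ν⁻¹ by group,
            h1]
        rw [← e, (hTcomm w hwT y hy).eq, mul_inv_cancel_right]
      have h3 : ν * ν * ν ∈ T := by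
        refine Subgroup.mem_inf.2 ⟨?_, ?_⟩ <;> rw [Subgroup.mem_centralizer_singleton_iff, ← mul_inv_eq_iff_eq_mul]
        · rw [show ν * ν * ν * t * (ν * ν * ν)⁻¹ = ν * (ν * (ν * t * ν⁻¹) * ν⁻¹) * ν⁻¹ by group, hν1, hν2, hνtu]
        · rw [show ν * ν * ν * u * (ν * ν * ν)⁻¹ = ν * (ν * (ν * u * ν⁻¹) * ν⁻¹) * ν⁻¹ by group, hν2, hνtu, hν1]
      have hfff : f (f (f y)) = y := by
        have e : ν * ν * ν * y * (ν * ν * ν)⁻¹ = f (f (f y)) := by simp only [hf]; group
        rw [← e, (hTcomm _ h3 y hy).eq, mul_inv_cancel_right]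
      rw [hff] at hfff
      show ν * y = y * ν
      exact mul_inv_eq_iff_eq_mul.1 hfff
    -- the order of the rotation group
    have hm6 : m = 6 := by
      obtain ⟨x, hx⟩ := hφs (DihedralGroup.r (1 : ZMod m))
      have hxT : (x : Pro G) ∈ T := ⟨x.2, (hTiff x).2 (hx ▸ r_mem_rotSub 1)⟩
      have h4j : orderOf (x : Pro G) ∣ 4 * j := by
        have h := orderOf_dvd_natCard (⟨(x : Pro G), hxT⟩ : T)
        rw [hTm, hj, ← mul_assoc, ← Subgroup.orderOf_coe] at h
        exact h
      have hodd' : Odd (orderOf ((x : Pro G) ^ 4)) := hjodd.of_dvd_nat (orderOf_dvd_of_pow_eq_one (by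
        rw [← pow_mul]; exact orderOf_dvd_iff_pow_eq_one.1 h4j))
      have h12 := hcube _ (T.pow_mem hxT 4) hodd'
      rw [← pow_mul] at h12
      have : (DihedralGroup.r (1 : ZMod m)) ^ (4 * 3) = 1 := by
        rw [← hx, ← map_pow, show x ^ (4 * 3) = 1 from Subtype.ext (by simpa using h12), map_one]
      have hd12 : m ∣ 12 := by
        have := orderOf_dvd_of_pow_eq_one this
        rwa [DihedralGroup.orderOf_r_one] at this
      have : m ≤ 12 := Nat.le_of_dvd (by norm_num) hd12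
      interval_cases m <;> omega
    subst hm6
    have hC24 : Nat.card (cen t) = 24 := by rw [hC, hn2]
    have hT12 : Nat.card T = 12 := by rw [hTm]
    -- the involutions outside the torus
    set Sw : Set (Pro G) := (cen t : Set (Pro G)) \ (T : Set (Pro G)) with hSw
    have hSwr : ∀ y (hy : y ∈ Sw), φ ⟨y, hy.1⟩ ∉ rotSub 6 := fun y hy h => hy.2 ⟨hy.1, (hTiff ⟨y, hy.1⟩).2 h⟩
    set A := {y ∈ Sw | y * y = 1} with hA
    set B := {y ∈ Sw | y * y = t} with hB
    have hunion : A ∪ B = Sw := by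
      ext y
      constructor
      · rintro (⟨h, -⟩ | ⟨h, -⟩) <;> exact h
      · intro hy
        rcases hk2 (hKsq ⟨y, hy.1⟩ (hSwr y hy)) with h | h
        exacts [Or.inl ⟨hy, h⟩, Or.inr ⟨hy, h⟩]
    have hdisj : Disjoint A B := Set.disjoint_left.2 fun y hyA hyB => by
      rw [← hyB.2, hyA.2, orderOf_one] at ht; omega
    have hmul : ∀ y ∈ Sw, y * u ∈ Sw := fun y hy =>
      ⟨(cen t).mul_mem hy.1 huC, fun h => hy.2 ((Subgroup.mul_mem_cancel_right T huT).1 h)⟩
    have hAB : A.ncard = B.ncard := by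
      refine Set.ncard_congr (fun y _ => y * u) (fun y hy => ⟨hmul y hy.1, ?_⟩) (fun a b _ _ h => mul_right_cancel h)
        (fun z hz => ⟨z * u, ⟨hmul z hz.1, ?_⟩, by rw [mul_assoc, mul_self_of_orderOf hu.1, mul_one]⟩)
      · have := hyu2 ⟨y, hy.1.1⟩ (hSwr y hy.1)
        simpa [hy.2] using this
      · have := hyu2 ⟨z, hz.1.1⟩ (hSwr z hz.1)
        simpa [hz.2, mul_self_of_orderOf ht] using this
    have hSwc : Sw.ncard = 12 := by
      rw [hSw, Set.ncard_sdiff (show (T : Set (Pro G)) ⊆ cen t from inf_le_left), ← Nat.card_coe_set_eq,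
        ← Nat.card_coe_set_eq]
      show Nat.card (cen t) - Nat.card T = 12
      rw [hC24, hT12]
    have hA6 : A.ncard = 6 := by
      have := Set.ncard_union_eq hdisj
      rw [hunion, hSwc, ← hAB] at this
      omega
    have hne : u ≠ t * u := fun e => by
      have := congrArg (fun z => z * u) e
      simp [mul_assoc, mul_self_of_orderOf hu.1] at this
      rw [← this, orderOf_one] at ht
      omega
    have hinvset : invOther t = {u, t * u} ∪ A := by
      ext v
      constructor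
      · intro hv
        by_cases h : φ ⟨v, invOther_mem_cen hv⟩ ∈ rotSub 6
        · exact Or.inl (huniq v hv h)
        · exact Or.inr ⟨⟨invOther_mem_cen hv, fun hT => h ((hTiff ⟨v, invOther_mem_cen hv⟩).1 hT.2)⟩,
            mul_self_of_orderOf hv.1⟩
      · rintro ((rfl | rfl) | ⟨hy, hyy⟩)
        · exact hu
        · exact mul_mem_invOther ht hu
        · refine ⟨orderOf_two hyy fun e => hy.2 (e ▸ T.one_mem), Subgroup.mem_centralizer_singleton_iff.1 hy.1,
            fun e => hy.2 (e ▸ htT)⟩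
    have hmeetA : ∀ v ∈ A, Nat.card ↥(cen t ⊓ cen v) - 1 = 3 := fun v hv => by
      have hvi : v ∈ invOther t := hinvset ▸ Or.inr hv
      rw [(meet_swap φ hφs hφ hG ht hvi (hSwr v hv.1)).2]
    have hsum : centSum t = 40 := by
      rw [centSum, hinvset, finsum_mem_union ?_ (Set.toFinite _) (Set.toFinite _), finsum_mem_pair hne,
        show cen t ⊓ cen (t * u) = T from meet_mul_eq t u, show cen t ⊓ cen u = T from rfl, hT12,
        finsum_mem_congr rfl hmeetA, finsum_mem_eq_finite_toFinset_sum _ (Set.toFinite A),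
        Finset.sum_const, ← Set.ncard_eq_toFinset_card A, hA6, smul_eq_mul]
      refine Set.disjoint_left.2 ?_
      rintro y (rfl | rfl) hy
      · exact hy.1.2 huT
      · exact hy.1.2 (T.mul_mem htT huT)
    have h4T : ∀ y ∈ T, orderOf y ∣ 6 := fun y hy => by
      have h := two_mul_orderOf_dvd hTab ht hu.1 hu.2.2 htT huT hy
      rw [hT12] at h
      exact Nat.dvd_of_mul_dvd_mul_left two_pos h
    refine ⟨hC24, hsum, fun x hx => ?_, ⟨u, hu, ν, hT12, hν1, hν2⟩, ?_⟩
    · by_cases hxr : φ ⟨x, hx⟩ ∈ rotSub 6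
      · exact Or.inr (h4T x ⟨hx, (hTiff ⟨x, hx⟩).2 hxr⟩)
      · refine Or.inl (orderOf_dvd_of_pow_eq_one ?_)
        rw [show (4 : ℕ) = 2 * 2 by norm_num, pow_mul, pow_two x, pow_two]
        rcases hk2 (hKsq ⟨x, hx⟩ hxr) with h | h <;> simp only at h <;> rw [h]
        · exact one_mul 1
        · exact mul_self_of_orderOf ht
    · intro a ha b hb hao' hbo hab hcon
      have hns : ∀ {z : Pro G}, z ∈ cen t → orderOf z = 4 → z ∉ T ∧ z * z = t := by
        intro z hz hzo
        have hzT : z ∉ T := fun h => by have := h4T z h; rw [hzo] at this; omega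
        refine ⟨hzT, (hk2 (hKsq ⟨z, hz⟩ (hSwr z ⟨hz, hzT⟩))).resolve_left fun e => ?_⟩
        have := orderOf_dvd_of_pow_eq_one (x := z) (n := 2) (by rw [pow_two]; exact e)
        rw [hzo] at this; omega
      obtain ⟨haT, haa⟩ := hns ha hao'
      obtain ⟨hbT, hbb⟩ := hns hb hbo
      have hxT : b * a⁻¹ ∈ T := by
        have hm : b * a⁻¹ ∈ cen t := (cen t).mul_mem hb ((cen t).inv_mem ha)
        refine ⟨hm, (hTiff ⟨_, hm⟩).2 ?_⟩
        rw [show (⟨b * a⁻¹, hm⟩ : cen t) = ⟨b, hb⟩ * ⟨a, ha⟩⁻¹ from rfl, map_mul, map_inv]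
        exact swap_mul (hSwr b ⟨hb, hbT⟩) fun h => hSwr a ⟨ha, haT⟩ (inv_mem_iff.1 h)
      set x := b * a⁻¹ with hx
      have hb' : b = x * a := by rw [hx]; group
      rw [hb'] at hcon
      have e1 : a * x = a⁻¹ * x⁻¹ := by
        calc a * x = a * (x * a) * a⁻¹ := by group
          _ = (x * a)⁻¹ := hcon
          _ = _ := _root_.mul_inv_rev x a
      have e2 : t * x = x⁻¹ := by
        rw [← haa, mul_assoc, e1, mul_inv_cancel_left]
      have e3 : x * x = t := by
        have : t * x * x = 1 := by rw [e2, inv_mul_cancel]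
        rw [mul_assoc] at this
        rw [← inv_eq_of_mul_eq_one_right this]
        exact inv_eq_of_mul_eq_one_right (mul_self_of_orderOf ht)
      have h6 := orderOf_dvd_iff_pow_eq_one.1 (h4T x hxT)
      rw [show (6 : ℕ) = 2 * 3 by norm_num, pow_mul, pow_two, e3, pow_succ, pow_two, mul_self_of_orderOf ht, one_mul] at h6
      rw [h6, orderOf_one] at ht
      omega

end CfsgLib.Geo.D3
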