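/-
The centralisers of involutions: the list of cases.
-/
import Cfsg.Agent.Geo.DimThree.NoTv.CentRot

set_option autoImplicit false
set_option linter.unusedSectionVars false
set_option linter.style.haveILetI false

namespace CfsgLib.Geo.D3

open Matrix Cfsg Cfsg.Geo CfsgLib.Geo
open scoped commutatorElement

section smallGroups

local notation "S₄" => Equiv.Perm (Fin 4)

lemma altFour_facts : ∀ d : alternatingGroup (Fin 4), d * d = 1 → d ≠ 1 →
    (∃ a b : alternatingGroup (Fin 4), a * b * a⁻¹ * b⁻¹ = d) ∧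
      ∀ x : alternatingGroup (Fin 4), x * d = d * x → x * x = 1 := by decide +kernel

lemma altFive_facts : ∀ d : alternatingGroup (Fin 5), d * d = 1 → d ≠ 1 →
    (∃ a b : alternatingGroup (Fin 5), a * b * a⁻¹ * b⁻¹ = d) ∧
      ∀ x : alternatingGroup (Fin 5), x * d = d * x → x * x = 1 := by decide +kernel

lemma permFour_odd : ∀ d : S₄, d * d = 1 → Equiv.Perm.sign d = -1 → ∀ x : S₄, x * d = d * x → x * x = 1 := by
  decide +kernel

lemma permFour_even : ∀ d : S₄, d * d = 1 → d ≠ 1 → Equiv.Perm.sign d = 1 →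
    (∃ a b : S₄, a * b * a⁻¹ * b⁻¹ = d) ∧ (∀ x : S₄, x * d = d * x → x ^ 4 = 1) ∧
      (∃ a b : S₄, a * d = d * a ∧ b * d = d * b ∧ a ≠ 1 ∧ a ≠ d ∧ b ≠ 1 ∧ b ≠ d ∧ a * b ≠ 1 ∧ a * b ≠ d) := by
  decide +kernel

lemma permFour_roots : ∀ d : S₄, ∀ a : S₄, a * a = d → d ≠ 1 → ∀ b : S₄, b * b = d → b = a ∨ b * a = 1 := by
  decide +kernel

lemma permFour_conj : ∀ d d' : S₄, d * d = 1 → d ≠ 1 → d' * d' = 1 → d' ≠ 1 →
    Equiv.Perm.sign d = Equiv.Perm.sign d' → ∃ c : S₄, c * d * c⁻¹ = d' := by decide +kernel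

lemma permFour_count : (Finset.univ.filter fun d : S₄ => d * d = 1 ∧ d ≠ 1 ∧ Equiv.Perm.sign d = -1).card = 6 ∧
    (Finset.univ.filter fun d : S₄ => d * d = 1 ∧ d ≠ 1 ∧ Equiv.Perm.sign d = 1).card = 3 := by decide +kernel

lemma permFour_pow : ∀ c : S₄, (c ^ 3 = 1 ∨ c ^ 4 = 1) ∧ (c ^ 3 = 1 → ∃ y : S₄, y * c * y⁻¹ = c⁻¹) := by
  decide +kernel

end smallGroups

variable {F : Type*} [Field F] [Finite F] {G : Subgroup (GL (Fin 3) F)} {t u : Pro G}

section image

variable {D : Type*} [Group D] [Finite D] (φ : cen t →* D) (hφs : Function.Surjective φ)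
  (hφ : ∀ x, φ x = 1 ↔ (x : Pro G) ∈ homK G t)

include hφ in
/-- An image whose centraliser has exponent two gives a homology group of order two. -/
lemma small_exponent (hG : NoTv G) (ht : orderOf t = 2) (hu : u ∈ invOther t)
    (h : ∀ x : D, x * φ ⟨u, invOther_mem_cen hu⟩ = φ ⟨u, invOther_mem_cen hu⟩ * x → x * x = 1) :
    Nat.card (homK G t) = 2 ∧ Nat.card ↥(cen t ⊓ cen u) = 4 := by
  obtain ⟨g, hmap, hgd, -, -⟩ := meet_image φ hφ hG ht hu
  have hd2 := reflSet_ne_one φ hφ hG ht (d := φ ⟨u, invOther_mem_cen hu⟩) ⟨u, hu, rfl⟩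
  obtain ⟨i, hi⟩ := Subgroup.mem_zpowers_iff.1 hgd
  have hgg : g * g = 1 := h g (by rw [← hi]; exact (Commute.self_zpow g i).eq)
  have ho : orderOf g = 2 := orderOf_two hgg fun e => by
    rw [← hi, e, _root_.one_zpow, orderOf_one] at hd2
    omega
  have hc := card_meet_eq φ hφ hG ht hu
  rw [hmap, Nat.card_zpowers, ho] at hc
  have hd := hG.sq_dvd_meet ht hu
  rw [hc] at hd
  have hn2 : Nat.card (homK G t) = 2 :=
    Nat.dvd_antisymm (Nat.dvd_of_mul_dvd_mul_left Nat.card_pos hd) (hG.two_dvd_card_homK ht)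
  exact ⟨hn2, by rw [hc, hn2]⟩

include hφs hφ in
/-- The images `A₄` and `A₅` do not occur. -/
lemma no_alternating (hG : NoTv G) (ht : orderOf t = 2)
    (h : ∀ d : D, d * d = 1 → d ≠ 1 →
      (∃ a b : D, a * b * a⁻¹ * b⁻¹ = d) ∧ ∀ x : D, x * d = d * x → x * x = 1) : False := by
  obtain ⟨u, hu⟩ := hG.exists_invOther ht
  have hd2 := reflSet_ne_one φ hφ hG ht (d := φ ⟨u, invOther_mem_cen hu⟩) ⟨u, hu, rfl⟩
  obtain ⟨⟨a, b, hab⟩, hx⟩ := h _ (mul_self_of_orderOf hd2) (fun e => by rw [e, orderOf_one] at hd2; omega)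
  have h4 := four_dvd_of_commutator φ hφs hφ hG ht (d := φ ⟨u, invOther_mem_cen hu⟩) ⟨u, hu, rfl⟩
    ((commutatorElement_def a b).trans hab)
  rw [(small_exponent φ hφ hG ht hu hx).1] at h4
  omega

include hφs hφ in
/-- Cyclic image. -/
theorem cyclic_case [IsCyclic D] (hG : NoTv G) (ht : orderOf t = 2) : CentConcl G t := by
  obtain ⟨u, hu⟩ := hG.exists_invOther ht
  have huC := invOther_mem_cen hu
  have hab : IsMulCommutative ↥(cen t) := φ.isMulCommutative_of_isCyclic_of_ker_le_center fun z hz => by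
    rw [Subgroup.mem_center_iff]
    exact fun w => Subtype.ext (hG.homK_central ht ((hφ z).1 hz) w.2).eq.symm
  have hcomm : ∀ x ∈ cen t, ∀ y ∈ cen t, Commute x y := fun x hx y hy =>
    congrArg Subtype.val (hab.is_comm.comm ⟨x, hx⟩ ⟨y, hy⟩)
  have hinv : invOther t = {u, t * u} := by
    ext v
    constructor
    · intro hv
      exact eq_or_of_image φ hφ hG ht hu hv (inv_unique_of_cyclic (reflSet_ne_one φ hφ hG ht ⟨v, hv, rfl⟩)
        (reflSet_ne_one φ hφ hG ht ⟨u, hu, rfl⟩))
    · rintro (rfl | rfl)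
      exacts [hu, mul_mem_invOther ht hu]
  have hT : ∀ v ∈ invOther t, cen t ⊓ cen v = cen t := fun v hv =>
    inf_eq_left.2 fun x hx => Subgroup.mem_centralizer_singleton_iff.2 (hcomm x hx v (invOther_mem_cen hv)).eq
  refine ⟨?_, fun x hx _ => Or.inr (Or.inl ⟨u, hu, hcomm u huC x hx⟩)⟩
  have hne : u ≠ t * u := fun e => by
    have := congrArg (fun z => z * u) e
    simp [mul_assoc, mul_self_of_orderOf hu.1] at this
    rw [← this, orderOf_one] at ht
    omega
  have h4 : 4 ∣ Nat.card (cen t) := by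
    have h := (mul_dvd_mul (hG.two_dvd_card_homK ht) (hG.two_dvd_card_homK ht)).trans (hG.sq_dvd_meet ht hu)
    rwa [hT u hu] at h
  by_cases hc4 : Nat.card (cen t) = 4
  · left
    have htC : t ∈ cen t := hG.homK_le ht (hG.self_mem_homK ht)
    have hsn : u ∉ Subgroup.zpowers t := fun h => hu.2.2 (eq_of_zpowers h (Subgroup.mem_zpowers t) hu.1 ht)
    have hle : Subgroup.zpowers t ≤ cen t := Subgroup.zpowers_le.2 htC
    have hidx : ((Subgroup.zpowers t).subgroupOf (cen t)).index = 2 := by
      have h := ((Subgroup.zpowers t).subgroupOf (cen t)).card_mul_index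
      rw [Nat.card_congr (Subgroup.subgroupOfEquivOfLe hle).toEquiv, Nat.card_zpowers, ht, hc4] at h
      omega
    refine centDih_mk hG ht inferInstance hle (Subgroup.mem_zpowers t) hu hsn (fun x hx => ?_) (fun x hx => ?_)
      (fun x hx hxx => ?_)
    · have h := Subgroup.mul_mem_iff_of_index_two hidx (a := (⟨x, hx⟩ : cen t)) (b := ⟨u, huC⟩)
      simp only [Subgroup.mem_subgroupOf, Subgroup.coe_mul, hsn, iff_false] at h
      exact (em _).imp id fun hx' => h.2 hx'
    · have hxx : x * x = 1 := by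
        obtain ⟨i, rfl⟩ := Subgroup.mem_zpowers_iff.1 hx
        rw [← zpow_two, ← _root_.zpow_mul, mul_comm, _root_.zpow_mul, zpow_two, mul_self_of_orderOf ht,
          _root_.one_zpow]
      rw [(hcomm u huC x (hle hx)).eq, mul_inv_cancel_right]
      exact (inv_eq_of_mul_eq_one_right hxx).symm
    · by_contra hc
      push Not at hc
      exact hc.2 (eq_of_zpowers hx (Subgroup.mem_zpowers t) (orderOf_two hxx hc.1) ht)
  · refine Or.inr (Or.inl ⟨hab, ?_, ?_⟩)
    · have := Nat.card_pos (α := ↥(cen t))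
      obtain ⟨i, hi⟩ := h4
      omega
    · rw [centSum_const (c := Nat.card (cen t)) (fun v hv => by rw [hT v hv]), hinv, Set.ncard_pair hne]

end image

section perm

variable (φ : cen t →* Equiv.Perm (Fin 4)) (hφs : Function.Surjective φ)
  (hφ : ∀ x, φ x = 1 ↔ (x : Pro G) ∈ homK G t)

include hφs hφ in
/-- An even involution image: homology group of order four. -/
lemma even_refl (hG : NoTv G) (ht : orderOf t = 2) (hu : u ∈ invOther t)
    (he : Equiv.Perm.sign (φ ⟨u, invOther_mem_cen hu⟩) = 1) :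
    Nat.card (homK G t) = 4 ∧ Nat.card ↥(cen t ⊓ cen u) = 16 ∧
      ∀ x : cen t, φ x * φ x = φ ⟨u, invOther_mem_cen hu⟩ → (x : Pro G) ∈ cen u := by
  set d := φ ⟨u, invOther_mem_cen hu⟩ with hd
  have hd2 : orderOf d = 2 := reflSet_ne_one φ hφ hG ht ⟨u, hu, rfl⟩
  have hd1 : d ≠ 1 := fun e => by rw [e, orderOf_one] at hd2; omega
  obtain ⟨⟨a, b, hab⟩, hexp, a', b', ha', hb', a1, ad, b1, bd, ab1, abd⟩ :=
    permFour_even d (mul_self_of_orderOf hd2) hd1 he
  have h4n := four_dvd_of_commutator φ hφs hφ hG ht (d := d) ⟨u, hu, rfl⟩ ((commutatorElement_def a b).trans hab)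
  obtain ⟨g, hmap, hgd, hiff, hprod⟩ := meet_image φ hφ hG ht hu
  obtain ⟨i, hi⟩ := Subgroup.mem_zpowers_iff.1 hgd
  have hg4 : g ^ 4 = 1 := hexp g (by rw [show d = g ^ i from hi.symm]; exact (Commute.self_zpow g i).eq)
  have hgo : orderOf g = 4 := by
    have hne : g * g ≠ 1 := by
      intro hgg
      have hg1 : g ≠ 1 := fun e => hd1 (by rw [show d = g ^ i from hi.symm, e, _root_.one_zpow])
      have hdg : d = g := eq_of_zpowers (x := g) hgd (Subgroup.mem_zpowers g) hd2 (orderOf_two hgg hg1)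
      have hz : ∀ {z : Equiv.Perm (Fin 4)}, z ∈ Subgroup.zpowers g → z = 1 ∨ z = d := by
        intro z hz
        rcases eq_or_ne z 1 with h | h
        · exact Or.inl h
        · refine Or.inr (eq_of_zpowers hz hgd (orderOf_two ?_ h) hd2)
          obtain ⟨j, rfl⟩ := Subgroup.mem_zpowers_iff.1 hz
          rw [← zpow_two, ← _root_.zpow_mul, mul_comm, _root_.zpow_mul, zpow_two, hgg, _root_.one_zpow]
      obtain ⟨x, hx⟩ := hφs a'
      obtain ⟨y, hy⟩ := hφs b'
      have := hprod a' b' ha' hb' (fun h => (hz h).elim a1 ad) (fun h => (hz h).elim b1 bd) x y hx hy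
      rw [map_mul, hx, hy] at this
      exact (hz this).elim ab1 abd
    have := Fact.mk Nat.prime_two
    rw [orderOf_eq_prime_pow (p := 2) (n := 1) (by rw [pow_one, pow_two]; exact hne)
      (by rw [show 2 ^ (1 + 1) = 4 by norm_num]; exact hg4)]
    norm_num
  have hc := card_meet_eq φ hφ hG ht hu
  rw [hmap, Nat.card_zpowers, hgo] at hc
  have hdv := hG.sq_dvd_meet ht hu
  rw [hc] at hdv
  have hn4 : Nat.card (homK G t) = 4 := Nat.dvd_antisymm (Nat.dvd_of_mul_dvd_mul_left Nat.card_pos hdv) h4n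
  refine ⟨hn4, by rw [hc, hn4], fun x hx => (hiff x).2 ?_⟩
  have hgg : g * g = d := by
    refine eq_of_zpowers ((Subgroup.zpowers g).mul_mem (Subgroup.mem_zpowers g) (Subgroup.mem_zpowers g)) hgd
      (orderOf_two ?_ ?_) hd2
    · rw [show g * g * (g * g) = g ^ 4 by simp [pow_succ, mul_assoc]]; exact hg4
    · intro e
      have := orderOf_dvd_of_pow_eq_one (x := g) (n := 2) (by rw [pow_two]; exact e)
      rw [hgo] at this; omega
  rcases permFour_roots d g hgg hd1 (φ x) hx with h | h
  · rw [h]; exact Subgroup.mem_zpowers g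
  · rw [eq_inv_of_mul_eq_one_left h]; exact inv_mem (Subgroup.mem_zpowers g)

include hφs hφ in
/-- The image `S₄`. -/
theorem permFour_case (hG : NoTv G) (ht : orderOf t = 2) : CentConcl G t := by
  classical
  obtain ⟨u, hu⟩ := hG.exists_invOther ht
  set n := Nat.card (homK G t) with hn
  set d := φ ⟨u, invOther_mem_cen hu⟩ with hd
  have inv_of : ∀ {v : Pro G} (hv : v ∈ invOther t), φ ⟨v, invOther_mem_cen hv⟩ * φ ⟨v, invOther_mem_cen hv⟩ = 1 ∧
      φ ⟨v, invOther_mem_cen hv⟩ ≠ 1 := fun {v} hv => by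
    have h := reflSet_ne_one φ hφ hG ht (d := φ ⟨v, invOther_mem_cen hv⟩) ⟨v, hv, rfl⟩
    exact ⟨mul_self_of_orderOf h, fun e => by rw [e, orderOf_one] at h; omega⟩
  have hcases : ∀ {v : Pro G} (hv : v ∈ invOther t),
      (Equiv.Perm.sign (φ ⟨v, invOther_mem_cen hv⟩) = -1 ∧ n = 2 ∧ Nat.card ↥(cen t ⊓ cen v) = 4) ∨
      (Equiv.Perm.sign (φ ⟨v, invOther_mem_cen hv⟩) = 1 ∧ n = 4 ∧ Nat.card ↥(cen t ⊓ cen v) = 16) := fun {v} hv => by
    rcases Int.units_eq_one_or (Equiv.Perm.sign (φ ⟨v, invOther_mem_cen hv⟩)) with h | h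
    · exact Or.inr ⟨h, (even_refl φ hφs hφ hG ht hv h).1, (even_refl φ hφs hφ hG ht hv h).2.1⟩
    · exact Or.inl ⟨h, small_exponent φ hφ hG ht hv (permFour_odd _ (inv_of hv).1 h)⟩
  have hsame : ∀ {v : Pro G} (hv : v ∈ invOther t), Equiv.Perm.sign (φ ⟨v, invOther_mem_cen hv⟩) = Equiv.Perm.sign d :=
    fun {v} hv => by
    rcases hcases hv with ⟨h, h', -⟩ | ⟨h, h', -⟩ <;> rcases hcases hu with ⟨k, k', -⟩ | ⟨k, k', -⟩ <;>
      first
      | exact h.trans k.symm
      | omega
  have hrefl : reflSet φ = ↑(Finset.univ.filter fun c : Equiv.Perm (Fin 4) =>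
      c * c = 1 ∧ c ≠ 1 ∧ Equiv.Perm.sign c = Equiv.Perm.sign d) := by
    ext c
    simp only [Finset.coe_filter, Finset.mem_univ, true_and, Set.mem_ofPred_eq]
    constructor
    · rintro ⟨v, hv, rfl⟩
      exact ⟨(inv_of hv).1, (inv_of hv).2, hsame hv⟩
    · rintro ⟨h1, h2, h3⟩
      obtain ⟨e, he⟩ := permFour_conj d c (inv_of hu).1 (inv_of hu).2 h1 h2 h3.symm
      rw [← he]
      exact reflSet_conj φ hφs ⟨u, hu, rfl⟩ e
  have hC : Nat.card (cen t) = n * 24 := by
    rw [card_cen_eq φ hφs hφ hG ht, Nat.card_perm, Nat.card_fin]; rfl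
  have hK : ∀ {k : Pro G}, k ∈ homK G t → k ^ n = 1 := fun {k} hk => by
    have := congrArg Subtype.val (pow_card_eq_one' (x := (⟨k, hk⟩ : homK G t)))
    rwa [SubmonoidClass.coe_pow, Subgroup.coe_one] at this
  have hord : ∀ {x : Pro G} (hx : x ∈ cen t) {k : ℕ}, φ ⟨x, hx⟩ ^ k = 1 → x ^ (k * n) = 1 := fun {x} hx {k} h => by
    rw [pow_mul]
    exact hK ((hφ (⟨x, hx⟩ ^ k)).1 (by rw [map_pow, h]))
  have hn24 : n = 2 ∨ n = 4 := by rcases hcases hu with ⟨-, h, -⟩ | ⟨-, h, -⟩ <;> omega
  have hodd : OddProp G t := by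
    intro x hx hxo
    refine Or.inr (Or.inr ?_)
    set c := φ ⟨x, hx⟩
    have hc3 : c ^ 3 = 1 := by
      refine (permFour_pow c).1.elim id fun h4 => ?_
      have h1 : x ^ (4 * n) = 1 := hord hx h4
      have h2 : orderOf x = 1 := by
        refine Nat.Coprime.eq_one_of_dvd ?_ (orderOf_dvd_of_pow_eq_one h1)
        rcases hn24 with e | e <;> rw [e]
        · exact Nat.Coprime.pow_right 3 (Nat.coprime_two_right.2 hxo)
        · exact Nat.Coprime.pow_right 4 (Nat.coprime_two_right.2 hxo)
      have hx1 : (⟨x, hx⟩ : cen t) = 1 := Subtype.ext (orderOf_eq_one_iff.1 h2)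
      simp only [c, hx1, map_one, one_pow]
    obtain ⟨y₀, hy₀⟩ := (permFour_pow c).2 hc3
    obtain ⟨y, rfl⟩ := hφs y₀
    have hk : (y : Pro G) * x * (y : Pro G)⁻¹ * x ∈ homK G t :=
      (hφ (y * ⟨x, hx⟩ * y⁻¹ * ⟨x, hx⟩)).1 (by rw [map_mul, map_mul, map_mul, map_inv, hy₀, inv_mul_cancel])
    have hcc : Commute ((y : Pro G) * x * (y : Pro G)⁻¹) x := by
      set a := (y : Pro G) * x * (y : Pro G)⁻¹
      have := (hG.homK_central ht hk hx).eq
      show a * x = x * a
      exact mul_right_cancel (b := x) (this.trans (mul_assoc x a x).symm)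
    have h1 : (y : Pro G) * x * (y : Pro G)⁻¹ * x = 1 := by
      rw [← orderOf_eq_one_iff]
      refine Nat.Coprime.eq_one_of_dvd (k := orderOf ((y : Pro G) * x * (y : Pro G)⁻¹ * x)) (m := 4) ?_ ?_
      · have hdd := hcc.orderOf_mul_dvd_mul_orderOf
        have he : Odd (orderOf ((y : Pro G) * x * (y : Pro G)⁻¹) * orderOf x) := by
          rw [show orderOf ((y : Pro G) * x * (y : Pro G)⁻¹) = orderOf x by
            rw [← MulAut.conj_apply, MulEquiv.orderOf_eq]]
          exact hxo.mul hxo
        exact Nat.Coprime.pow_right 2 (Nat.coprime_two_right.2 (he.of_dvd_nat hdd))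
      · refine (orderOf_dvd_of_pow_eq_one (hK hk)).trans ?_
        rcases hn24 with e | e <;> rw [e]; norm_num
    exact isConj_iff.2 ⟨(y : Pro G), eq_inv_of_mul_eq_one_left h1⟩
  refine ⟨?_, hodd⟩
  right; right; right
  rcases hcases hu with ⟨hs, hn2, -⟩ | ⟨hs, hn4, -⟩
  · left
    have hmeet : ∀ v ∈ invOther t, Nat.card ↥(cen t ⊓ cen v) = 4 := fun v hv => by
      rcases hcases hv with ⟨-, -, h⟩ | ⟨-, h, -⟩
      · exact h
      · omega
    refine ⟨by rw [hC, hn2], ?_, fun x hx => ?_, hmeet⟩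
    · rw [centSum_const hmeet, ncard_invOther φ hφ hG ht, hrefl, Set.ncard_coe_finset,
        show Equiv.Perm.sign d = -1 from hs, permFour_count.1]
    · rcases (permFour_pow (φ ⟨x, hx⟩)).1 with h | h
      · left
        have := hord hx h
        rw [hn2] at this
        exact orderOf_dvd_of_pow_eq_one this
      · right
        have := hord hx h
        rw [hn2] at this
        exact orderOf_dvd_of_pow_eq_one this
  · right; left
    have hmeet : ∀ v ∈ invOther t, Nat.card ↥(cen t ⊓ cen v) = 16 := fun v hv => by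
      rcases hcases hv with ⟨-, h, -⟩ | ⟨-, -, h⟩
      · omega
      · exact h
    refine ⟨by rw [hC, hn4], ?_, fun x hx => ?_, hmeet⟩
    · rw [centSum_const hmeet, ncard_invOther φ hφ hG ht, hrefl, Set.ncard_coe_finset,
        show Equiv.Perm.sign d = 1 from hs, permFour_count.2]
    · rcases (permFour_pow (φ ⟨x, hx⟩)).1 with h | h
      · right
        have := hord hx h
        rw [hn4] at this
        exact orderOf_dvd_of_pow_eq_one this
      · left
        set c := φ ⟨x, hx⟩
        by_cases h2 : c ^ 2 = 1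
        · have := hord hx h2
          rw [hn4] at this
          exact orderOf_dvd_of_pow_eq_one this
        · have hsign : Equiv.Perm.sign (c * c) = 1 := by rw [map_mul]; exact Int.units_mul_self _
          have hcc : c * c * (c * c) = 1 := by rw [show c * c * (c * c) = c ^ 4 by simp [pow_succ, mul_assoc]]; exact h
          have hmem : c * c ∈ reflSet φ := by
            rw [hrefl, Finset.coe_filter]
            exact ⟨Finset.mem_univ _, hcc, by rwa [← pow_two], hsign.trans hs.symm⟩
          obtain ⟨v, hv, hve⟩ := hmem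
          obtain ⟨-, h16, hiff⟩ := even_refl φ hφs hφ hG ht hv (by rw [hve]; exact hsign)
          have hxv : x ∈ cen t ⊓ cen v := ⟨hx, hiff ⟨x, hx⟩ hve.symm⟩
          have hd := two_mul_orderOf_dvd (hG.isMulCommutative_meet ht hv) ht hv.1 hv.2.2
            (hG.homK_le_meet ht hv (hG.self_mem_homK ht))
            ⟨invOther_mem_cen hv, Subgroup.mem_centralizer_singleton_iff.2 rfl⟩ hxv
          rw [h16] at hd
          exact Nat.dvd_of_mul_dvd_mul_left two_pos (show 2 * orderOf x ∣ 2 * 8 from hd)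

end perm

/-- All cases, with the property of the elements of odd order. -/
theorem cent_concl (hG : NoTv G) (ht : orderOf t = 2) : CentConcl G t := by
  classical
  obtain ⟨π, hπ⟩ := hG.exists_proj ht
  let φ₀ : cen t →* (⊤ : Subgroup (cen t)).map π :=
    (π.subgroupMap ⊤).comp (Subgroup.topEquiv (G := cen t)).symm.toMonoidHom
  have hs : Function.Surjective φ₀ :=
    (π.subgroupMap_surjective ⊤).comp (Subgroup.topEquiv (G := cen t)).symm.surjective
  have hk : ∀ x, φ₀ x = 1 ↔ (x : Pro G) ∈ homK G t := fun x =>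
    ⟨fun h => (hπ x).1 (congrArg Subtype.val h), fun h => Subtype.ext ((hπ x).2 h)⟩
  haveI : Finite ((⊤ : Subgroup (cen t)).map π) := Finite.of_surjective φ₀ hs
  rcases hG.image_cases ht (⊤ : Subgroup (cen t)) (π := π) with hc | ⟨m, hm, ⟨e⟩⟩ | ⟨-, ⟨e⟩⟩ | ⟨-, ⟨e⟩⟩ | ⟨-, ⟨e⟩⟩
  · exact cyclic_case φ₀ hs hk hG ht
  · haveI : NeZero m := ⟨by omega⟩
    let φ : cen t →* DihedralGroup m := e.toMonoidHom.comp φ₀
    have hφs : Function.Surjective φ := e.surjective.comp hs
    have hφ : ∀ x, φ x = 1 ↔ (x : Pro G) ∈ homK G t := fun x => (MulEquiv.map_eq_one_iff e).trans (hk x)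
    by_cases h : ∃ (v : Pro G) (hv : v ∈ invOther t), φ ⟨v, invOther_mem_cen hv⟩ ∈ rotSub m
    · obtain ⟨v, hv, hr⟩ := h
      exact dihedral_rot φ hφs hφ hG ht hv hr
    · push Not at h
      exact dihedral_no_rot φ hφs hφ hG ht h
  · exact (no_alternating (e.toMonoidHom.comp φ₀) (e.surjective.comp hs)
      (fun x => (MulEquiv.map_eq_one_iff e).trans (hk x)) hG ht altFour_facts).elim
  · exact permFour_case (e.toMonoidHom.comp φ₀) (e.surjective.comp hs)
      (fun x => (MulEquiv.map_eq_one_iff e).trans (hk x)) hG ht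
  · exact (no_alternating (e.toMonoidHom.comp φ₀) (e.surjective.comp hs)
      (fun x => (MulEquiv.map_eq_one_iff e).trans (hk x)) hG ht altFive_facts).elim

/-- **Centralisers of involutions.** -/
theorem cent_cases (hG : NoTv G) {t : Pro G} (ht : orderOf t = 2) :
    CentDih t ∨ CentAb t ∨ CentBig t ∨ Cent48 t ∨ Cent96 t ∨ Cent24 t :=
  (cent_concl hG ht).1

set_option maxHeartbeats 1600000 in
/-- **A homology centralised by an involution has a centraliser inside that of an involution.** -/
theorem hom_centre (hG : NoTv G) {x : G} (hx : toPro G x ≠ 1) {a : Pro G} (ha : orderOf a = 2)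
    (hxa : Commute a (toPro G x)) (hh : IsHom (x : GL (Fin 3) F)) :
    ∃ c : Pro G, orderOf c = 2 ∧ Commute c a ∧ cen (toPro G x) ≤ cen c := by
  set X := toPro G x with hX
  have hXa : X ∈ cen a := Subgroup.mem_centralizer_singleton_iff.2 hxa.symm.eq
  rcases Nat.even_or_odd (orderOf X) with ⟨k, hk⟩ | hodd
  · refine ⟨X ^ k, orderOf_two ?_ ?_, (hxa.symm.pow_left k), fun y hy => ?_⟩
    · rw [← pow_add, ← hk, pow_orderOf_eq_one]
    · have := orderOf_pos X
      exact fun e => pow_ne_one_of_lt_orderOf (by omega) (by omega) e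
    · rw [Subgroup.mem_centralizer_singleton_iff]
      have hyX : Commute y X := Subgroup.mem_centralizer_singleton_iff.1 hy
      exact (hyX.pow_right k).eq
  have hne2 : X * X ≠ 1 := fun e => hx (eq_one_of_odd_sq hodd e)
  obtain ⟨ga, gae, hga, -⟩ := hG.exists_lift_involution ha
  have cxa : Commute ga x := hG.commute_lift hga (by rw [gae]; exact hxa)
  rcases (cent_concl hG ha).2 X hXa hodd with hK | ⟨v, hv, hvX⟩ | hreal
  · -- a homology at `a`
    refine ⟨a, ha, Commute.refl a, ?_⟩
    intro y hy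
    obtain ⟨B, hB⟩ : ∃ B : GL (Fin 3) F, mloc B (ga : GL (Fin 3) F) = diagonal pat0 := by
      obtain ⟨g', B, e', hg', hB'⟩ := hG.exists_frame_one ha
      exact ⟨B, by rw [hG.lift_unique hga hg' (gae.trans e'.symm)]; exact hB'⟩
    rw [← gae, hX, toPro_mem_homK hG hga] at hK
    obtain ⟨p, q, hpq⟩ := homSub_diag hG.two_ne hB hK
    have key : ∀ z : G, Commute z x → Commute z ga := fun z hz => Subtype.ext ((mloc_commute (B := B)).2 (by
      have h1 := (mloc_commute (B := B)).1 (hz.map G.subtype)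
      rw [Subgroup.coe_subtype, hpq] at h1
      rw [hB]
      refine comm_diagonal_of_comm h1 fun i j hij => ?_
      have hpq' : p ≠ q := fun e => hx (toPro_eq_one.2 (mem_scalars_mloc ⟨p, by
        rw [hpq, e, smul_one_eq_diagonal]; congr 1; ext i; fin_cases i <;> rfl⟩))
      fin_cases i <;> fin_cases j <;> simp [pat0, hpq', hpq'.symm] at hij ⊢))
    obtain ⟨z, rfl⟩ := toPro_surjective y
    rw [Subgroup.mem_centralizer_singleton_iff, ← gae]
    refine ((key z ?_).map (toPro G)).eq
    obtain ⟨c, hc⟩ := (mem_scalars_iff _).1 (toPro_eq_one.1 (show toPro G (z * x * z⁻¹ * x⁻¹) = 1 by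
      rw [map_mul, map_mul, map_mul, map_inv, map_inv, Subgroup.mem_centralizer_singleton_iff.1 hy,
        mul_inv_cancel_right, mul_inv_cancel]))
    rcases hom_conj_self hh (y := (z : GL (Fin 3) F)) (c := (c : F)) (by
      rw [show (z : GL (Fin 3) F) * x * (z : GL (Fin 3) F)⁻¹ = ((z * x * z⁻¹ * x⁻¹ : G) : GL (Fin 3) F) * x by simp,
        Units.val_mul, hc, smul_mul_assoc, one_mul]) with h | h
    · exact Subtype.ext h.eq
    · exact absurd (by rw [hX, ← map_mul]; exact toPro_eq_one.2 h) hne2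
  · -- an involution commuting with `a` and `X`
    obtain ⟨g, k, B, hge, hke, hg, hk, hgk, hB, hB'⟩ := hG.exists_frame ha hv
    have hgga : g = ga := hG.lift_unique hg hga (hge.trans gae.symm)
    subst hgga
    have cxk : Commute k x := hG.commute_lift hk (by rw [hke]; exact hvX)
    have hd := eq_diagonal_of_comm hG.two_ne (frame_comm hB cxa.symm) (by
      have := (mloc_commute (B := B)).1 (cxk.symm.map G.subtype)
      rw [← hB']; exact this)
    set d : Fin 3 → F := fun i => mloc B (x : GL (Fin 3) F) i i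
    have main : ∀ (w : G) (e : Fin 3 → F), w * w = 1 → toPro G w ≠ 1 → Commute g w → mloc B (w : GL (Fin 3) F) = diagonal e →
        (∀ i j, d i = d j → e i = e j) → ∃ c : Pro G, orderOf c = 2 ∧ Commute c a ∧ cen X ≤ cen c := by
      intro w e hw hw1 hgw hwe hde
      have key : ∀ z : G, Commute z x → Commute z w := fun z hz => Subtype.ext ((mloc_commute (B := B)).2 (by
        have h1 := (mloc_commute (B := B)).1 (hz.map G.subtype)
        rw [Subgroup.coe_subtype, hd] at h1
        rw [hwe]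
        exact comm_diagonal_of_comm h1 hde))
      refine ⟨toPro G w, orderOf_two (by rw [← map_mul, hw, map_one]) hw1, ?_, fun y hy => ?_⟩
      · rw [← hge]; exact hgw.symm.map (toPro G)
      · obtain ⟨z, rfl⟩ := toPro_surjective y
        rw [Subgroup.mem_centralizer_singleton_iff]
        refine ((key z ?_).map (toPro G)).eq
        obtain ⟨c, hc⟩ := (mem_scalars_iff _).1 (toPro_eq_one.1 (show toPro G (z * x * z⁻¹ * x⁻¹) = 1 by
          rw [map_mul, map_mul, map_mul, map_inv, map_inv, Subgroup.mem_centralizer_singleton_iff.1 hy,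
            mul_inv_cancel_right, mul_inv_cancel]))
        rcases hom_conj_self hh (y := (z : GL (Fin 3) F)) (c := (c : F)) (by
          rw [show (z : GL (Fin 3) F) * x * (z : GL (Fin 3) F)⁻¹ = ((z * x * z⁻¹ * x⁻¹ : G) : GL (Fin 3) F) * x by simp,
            Units.val_mul, hc, smul_mul_assoc, one_mul]) with h | h
        · exact Subtype.ext h.eq
        · exact absurd (by rw [hX, ← map_mul]; exact toPro_eq_one.2 h) hne2
    have hd3 : d 0 = d 1 ∨ d 0 = d 2 ∨ d 1 = d 2 := by
      obtain ⟨p, q, hpq, C, hC⟩ := hh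
      by_contra hcon
      push Not at hcon
      -- three distinct eigenvalues against two
      have hq : ((x : GL (Fin 3) F) : Matrix (Fin 3) (Fin 3) F).charpoly =
          (diagonal ![p, q, q]).charpoly := by
        rw [← hC, Units.val_mul, Units.val_mul, Matrix.coe_units_inv, Matrix.charpoly_units_conj]
      have hdd : ((x : GL (Fin 3) F) : Matrix (Fin 3) (Fin 3) F).charpoly = (diagonal d).charpoly := by
        rw [← hd, mloc, Units.val_mul, Units.val_mul, Matrix.coe_units_inv, Matrix.charpoly_units_conj]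
      have hroot : ∀ i, d i = p ∨ d i = q := by
        intro i
        have h0 : (diagonal ![p, q, q]).charpoly.eval (d i) = 0 := by
          rw [← hq, hdd, charpoly_diagonal, Polynomial.eval_prod]
          exact Finset.prod_eq_zero (Finset.mem_univ i) (by simp)
        rw [charpoly_diagonal, Polynomial.eval_prod, Fin.prod_univ_three] at h0
        simp [sub_eq_zero] at h0
        tauto
      obtain ⟨h01, h02, h12⟩ := hcon
      rcases hroot 0 with e0 | e0 <;> rcases hroot 1 with e1 | e1 <;> rcases hroot 2 with e2 | e2 <;>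
        first
        | exact h01 (e0.trans e1.symm)
        | exact h02 (e0.trans e2.symm)
        | exact h12 (e1.trans e2.symm)
    have hd_ne : ¬ (d 0 = d 1 ∧ d 1 = d 2) := fun ⟨e1, e2⟩ => hx (toPro_eq_one.2 (mem_scalars_mloc ⟨d 0, by
      rw [hd, smul_one_eq_diagonal]; congr 1; ext i; fin_cases i
      exacts [rfl, e1.symm, (e1.trans e2).symm]⟩))
    have hfull : ∀ {i j k : Fin 3}, d i = d j → d j = d k → i ≠ j → j ≠ k → i ≠ k → False := by
      intro i j k e1 e2 h1 h2 h3
      refine hd_ne ⟨?_, ?_⟩ <;>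
        (fin_cases i <;> fin_cases j <;> fin_cases k <;>
          first
          | exact absurd rfl h1 | exact absurd rfl h2 | exact absurd rfl h3
          | exact e1 | exact e1.symm | exact e2 | exact e2.symm | exact e1.trans e2 | exact (e1.trans e2).symm)
    rcases hd3 with e | e | e
    · refine main (g * k) (fun i => pat0 i * pat1 i) ?_ ?_ ((Commute.refl g).mul_right hgk) ?_ ?_
      · rw [show g * k * (g * k) = g * (k * g) * k by group, ← hgk.eq,
          show g * (g * k) * k = (g * g) * (k * k) by group, hg, hk, mul_one]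
      · rw [map_mul, hge, hke]
        intro h
        have hm := mul_mem_invOther ha hv
        rw [h] at hm
        exact absurd hm.1 (by simp)
      · rw [Subgroup.coe_mul, mloc_mul, hB, hB', diagonal_mul_diagonal]
      · intro i j hij
        fin_cases i <;> fin_cases j <;> simp [pat0, pat1] at hij ⊢ <;>
          first
          | exact (hfull e hij (by decide) (by decide) (by decide)).elim
          | exact (hfull e hij.symm (by decide) (by decide) (by decide)).elim
          | exact (hfull e.symm hij (by decide) (by decide) (by decide)).elim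
          | exact (hfull e.symm hij.symm (by decide) (by decide) (by decide)).elim
    · refine main k pat1 hk (by rw [hke]; exact fun h => by rw [h] at hv; exact absurd hv.1 (by simp)) hgk hB' ?_
      intro i j hij
      fin_cases i <;> fin_cases j <;> simp [pat1] at hij ⊢ <;>
        first
        | exact (hfull e hij (by decide) (by decide) (by decide)).elim
        | exact (hfull e hij.symm (by decide) (by decide) (by decide)).elim
        | exact (hfull e.symm hij (by decide) (by decide) (by decide)).elim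
        | exact (hfull e.symm hij.symm (by decide) (by decide) (by decide)).elim
    · refine main g pat0 hg (by rw [hge]; exact fun h => by rw [h, orderOf_one] at ha; omega) (Commute.refl g) hB ?_
      intro i j hij
      fin_cases i <;> fin_cases j <;> simp [pat0] at hij ⊢ <;>
        first
        | exact (hfull e hij (by decide) (by decide) (by decide)).elim
        | exact (hfull e hij.symm (by decide) (by decide) (by decide)).elim
        | exact (hfull e.symm hij (by decide) (by decide) (by decide)).elim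
        | exact (hfull e.symm hij.symm (by decide) (by decide) (by decide)).elim
  · -- real elements are not homologies
    exfalso
    obtain ⟨c, hc⟩ := isConj_iff.1 hreal
    obtain ⟨y, rfl⟩ := toPro_surjective c
    obtain ⟨lam, hl⟩ := (mem_scalars_iff _).1 (toPro_eq_one.1 (show toPro G (y * x * y⁻¹ * x) = 1 by
      rw [map_mul, map_mul, map_mul, map_inv, ← hX, hc, inv_mul_cancel]))
    refine hne2 ?_
    rw [hX, ← map_mul]
    refine toPro_eq_one.2 (hom_conj_inv hh (y := (y : GL (Fin 3) F)) (c := (lam : F)) ?_)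
    rw [show (y : GL (Fin 3) F) * x * (y : GL (Fin 3) F)⁻¹ = ((y * x * y⁻¹ * x : G) : GL (Fin 3) F) * (x : GL (Fin 3) F)⁻¹ by simp,
      Units.val_mul, hl, smul_mul_assoc, one_mul]

/-- **Two involutions centralising a common element.** -/
theorem commuting_involutions (hG : NoTv G) {x : G} (hx : toPro G x ≠ 1) {a b : Pro G}
    (ha : orderOf a = 2) (hb : orderOf b = 2) (hab : a ≠ b) (hxa : Commute a (toPro G x))
    (hxb : Commute b (toPro G x)) :
    Commute a b ∨ ∃ c : Pro G, orderOf c = 2 ∧ Commute c a ∧ Commute c b ∧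
      cen (toPro G x) ≤ cen c := by
  set X := toPro G x with hX
  have hXa : X ∈ cen a := Subgroup.mem_centralizer_singleton_iff.2 hxa.symm.eq
  have hXb : b ∈ cen X := Subgroup.mem_centralizer_singleton_iff.2 hxb.eq
  rcases hG.hom_or_reg ha hXa hx with hh | hr
  · obtain ⟨c, hc, hca, hle⟩ := hom_centre hG hx ha hxa hh
    exact Or.inr ⟨c, hc, hca, (show Commute b c from Subgroup.mem_centralizer_singleton_iff.1 (hle hXb)).symm, hle⟩
  · left
    obtain ⟨ga, gae, hga, -⟩ := hG.exists_lift_involution ha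
    obtain ⟨gb, gbe, hgb, -⟩ := hG.exists_lift_involution hb
    have cxa : Commute ga x := hG.commute_lift hga (by rw [gae]; exact hxa)
    have cxb : Commute gb x := hG.commute_lift hgb (by rw [gbe]; exact hxb)
    rw [← gae, ← gbe]
    exact (show Commute ga gb from Subtype.ext
      (reg_commute hr (cxa.map G.subtype) (cxb.map G.subtype)).eq).map (toPro G)

end CfsgLib.Geo.D3
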