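/-
Diagonal subgroups in dimension three: coordinates, centralisers, permutations of the axes, and simultaneous
diagonal forms of commuting elements.
-/
import Cfsg.Agent.Geo.DimThree.NoTv.Types

set_option autoImplicit false

namespace CfsgLib.Geo.D3

open Matrix Cfsg Cfsg.Geo CfsgLib.Geo

variable {F : Type*} [Field F]

local notation "Mat" => Matrix (Fin 3) (Fin 3) F

/-- The diagonal elements in the coordinates given by `B`. -/
def torus (B : GL (Fin 3) F) : Subgroup (GL (Fin 3) F) where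
  carrier := {x | ((B * x * B⁻¹ : GL (Fin 3) F) : Mat).IsDiag}
  mul_mem' := fun {x y} hx hy => by
    simp only [Set.mem_ofPred_eq] at *
    rw [show B * (x * y) * B⁻¹ = B * x * B⁻¹ * (B * y * B⁻¹) by group, Units.val_mul,
      ← hx.diagonal_diag, ← hy.diagonal_diag, Matrix.diagonal_mul_diagonal]
    exact Matrix.isDiag_diagonal _
  one_mem' := by simp [Matrix.isDiag_one]
  inv_mem' := fun {x} hx => by
    simp only [Set.mem_ofPred_eq] at *
    rw [show B * x⁻¹ * B⁻¹ = (B * x * B⁻¹)⁻¹ by group, Matrix.coe_units_inv, ← hx.diagonal_diag,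
      Matrix.inv_diagonal]
    exact Matrix.isDiag_diagonal _

/-- The diagonal coordinates. -/
def dvec (B x : GL (Fin 3) F) : Fin 3 → F := ((B * x * B⁻¹ : GL (Fin 3) F) : Mat).diag

lemma mem_torus_iff {B x : GL (Fin 3) F} :
    x ∈ torus B ↔ ((B * x * B⁻¹ : GL (Fin 3) F) : Mat) = Matrix.diagonal (dvec B x) :=
  ⟨fun h => (Matrix.IsDiag.diagonal_diag h).symm, fun h => show Matrix.IsDiag _ from h ▸ Matrix.isDiag_diagonal _⟩

lemma mem_torus_of_eq {B x : GL (Fin 3) F} {d : Fin 3 → F}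
    (h : ((B * x * B⁻¹ : GL (Fin 3) F) : Mat) = Matrix.diagonal d) : x ∈ torus B ∧ dvec B x = d :=
  ⟨show Matrix.IsDiag _ from h ▸ Matrix.isDiag_diagonal _, by rw [dvec, h, Matrix.diag_diagonal]⟩

lemma Diag3.exists_torus {g : GL (Fin 3) F} {d : Fin 3 → F} (h : Diag3 g d) :
    ∃ B, g ∈ torus B ∧ dvec B g = d :=
  let ⟨B, hB⟩ := h
  ⟨B, mem_torus_of_eq hB⟩

lemma diag3_of_mem {B g : GL (Fin 3) F} (h : g ∈ torus B) : Diag3 g (dvec B g) := ⟨B, mem_torus_iff.1 h⟩

lemma dvec_mul {B x y : GL (Fin 3) F} (hx : x ∈ torus B) (hy : y ∈ torus B) :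
    dvec B (x * y) = dvec B x * dvec B y := by
  refine (mem_torus_of_eq (d := dvec B x * dvec B y) ?_).2
  rw [show B * (x * y) * B⁻¹ = B * x * B⁻¹ * (B * y * B⁻¹) by group, Units.val_mul, mem_torus_iff.1 hx,
    mem_torus_iff.1 hy, Matrix.diagonal_mul_diagonal]
  rfl

lemma dvec_one (B : GL (Fin 3) F) : dvec B 1 = 1 := by
  rw [dvec, mul_one, mul_inv_cancel, Units.val_one, Matrix.diag_one]

lemma dvec_inv {B x : GL (Fin 3) F} (hx : x ∈ torus B) : dvec B x⁻¹ = (dvec B x)⁻¹ := by
  funext i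
  have h := congrFun (dvec_mul hx (inv_mem hx)) i
  rw [mul_inv_cancel, dvec_one] at h
  exact eq_inv_of_mul_eq_one_right h.symm

lemma dvec_ne_zero {B x : GL (Fin 3) F} (hx : x ∈ torus B) (i : Fin 3) : dvec B x i ≠ 0 := fun e => by
  have h := congrFun (dvec_mul hx (inv_mem hx)) i
  rw [mul_inv_cancel, dvec_one, Pi.mul_apply, e, zero_mul] at h
  exact one_ne_zero h

lemma dvec_pow {B x : GL (Fin 3) F} (hx : x ∈ torus B) (n : ℕ) : dvec B (x ^ n) = dvec B x ^ n := by
  induction n with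
  | zero => rw [pow_zero, pow_zero, dvec_one]
  | succ n ih => rw [pow_succ, pow_succ, dvec_mul (pow_mem hx n) hx, ih]

lemma torus_ext {B x y : GL (Fin 3) F} (hx : x ∈ torus B) (hy : y ∈ torus B)
    (h : dvec B x = dvec B y) : x = y := by
  have e : B * x * B⁻¹ = B * y * B⁻¹ := Units.ext (by rw [mem_torus_iff.1 hx, mem_torus_iff.1 hy, h])
  simpa using e

lemma torus_commute {B x y : GL (Fin 3) F} (hx : x ∈ torus B) (hy : y ∈ torus B) : Commute x y :=
  torus_ext (mul_mem hx hy) (mul_mem hy hx) (by rw [dvec_mul hx hy, dvec_mul hy hx, mul_comm])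

lemma scalar_torus (B : GL (Fin 3) F) {z : GL (Fin 3) F} (hz : z ∈ scalars (Fin 3) F) :
    ∃ c : F, z ∈ torus B ∧ dvec B z = fun _ => c := by
  obtain ⟨c, hc⟩ := (mem_scalars_iff z).1 hz
  refine ⟨c, mem_torus_of_eq ?_⟩
  have hz' : B * z * B⁻¹ = z := by
    rw [show B * z = z * B from Units.ext (by simp [hc]), mul_inv_cancel_right]
  rw [hz', hc, Matrix.smul_one_eq_diagonal]

lemma scalar_of_const {B x : GL (Fin 3) F} (hx : x ∈ torus B) (h : ∀ i, dvec B x i = dvec B x 0) :
    x ∈ scalars (Fin 3) F := by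
  rw [mem_scalars_iff]
  refine ⟨Units.mk0 _ (dvec_ne_zero hx 0), ?_⟩
  have e : ((B * x * B⁻¹ : GL (Fin 3) F) : Mat) = dvec B x 0 • (1 : Mat) := by
    rw [mem_torus_iff.1 hx, Matrix.smul_one_eq_diagonal]
    exact congrArg _ (funext h)
  have : x = B⁻¹ * (B * x * B⁻¹) * B := by group
  rw [Units.val_mk0]
  conv_lhs => rw [this]
  rw [Units.val_mul, Units.val_mul, e, mul_smul_comm, mul_one, smul_mul_assoc, ← Units.val_mul,
    inv_mul_cancel, Units.val_one]

/-- An element commuting with a diagonal one has zero entries between different eigenvalues. -/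
lemma entry_zero {B x y : GL (Fin 3) F} (hx : x ∈ torus B) (hc : Commute y x) {i j : Fin 3}
    (hij : dvec B x i ≠ dvec B x j) : ((B * y * B⁻¹ : GL (Fin 3) F) : Mat) i j = 0 := by
  have h : ((B * y * B⁻¹ : GL (Fin 3) F) : Mat) * Matrix.diagonal (dvec B x) =
      Matrix.diagonal (dvec B x) * ((B * y * B⁻¹ : GL (Fin 3) F) : Mat) := by
    rw [← mem_torus_iff.1 hx, ← Units.val_mul, ← Units.val_mul]
    exact congrArg Units.val ((hc.map (MulAut.conj B).toMonoidHom).eq)
  have e := congrFun (congrFun h i) j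
  rw [Matrix.mul_diagonal, Matrix.diagonal_mul, mul_comm] at e
  by_contra h0
  exact hij (mul_right_cancel₀ h0 e).symm

lemma mem_torus_of_commute {B y : GL (Fin 3) F}
    (h : ∀ i j, i ≠ j → ∃ x ∈ torus B, Commute y x ∧ dvec B x i ≠ dvec B x j) : y ∈ torus B :=
  fun i j hij => by
    obtain ⟨x, hx, hc, hne⟩ := h i j hij
    exact entry_zero hx hc hne

lemma mem_torus_of_regular {B x y : GL (Fin 3) F} (hx : x ∈ torus B)
    (hd : Function.Injective (dvec B x)) (hc : Commute y x) : y ∈ torus B :=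
  mem_torus_of_commute fun _ _ hij => ⟨x, hx, hc, hd.ne hij⟩

/-- Whatever commutes with `x` commutes with a diagonal element with coarser eigenspaces. -/
lemma commute_of_part {B x s y : GL (Fin 3) F} (hx : x ∈ torus B) (hs : s ∈ torus B)
    (hp : ∀ i j, dvec B x i = dvec B x j → dvec B s i = dvec B s j) (hc : Commute y x) : Commute y s := by
  have e : ((B * y * B⁻¹ : GL (Fin 3) F) : Mat) * Matrix.diagonal (dvec B s) =
      Matrix.diagonal (dvec B s) * ((B * y * B⁻¹ : GL (Fin 3) F) : Mat) := by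
    ext i j
    rw [Matrix.mul_diagonal, Matrix.diagonal_mul]
    by_cases hij : dvec B x i = dvec B x j
    · rw [hp i j hij, mul_comm]
    · rw [entry_zero hx hc hij, zero_mul, mul_zero]
  rw [← mem_torus_iff.1 hs, ← Units.val_mul, ← Units.val_mul] at e
  have := Units.ext e
  rw [show B * y * B⁻¹ * (B * s * B⁻¹) = B * (y * s) * B⁻¹ by group,
    show B * s * B⁻¹ * (B * y * B⁻¹) = B * (s * y) * B⁻¹ by group, mul_left_inj, mul_right_inj] at this
  exact this

/-- A nonzero diagonal of an invertible matrix. -/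
lemma exists_nonzero_diag (P : GL (Fin 3) F) :
    ∃ σ : Equiv.Perm (Fin 3), ∀ i, (P : Mat) (σ i) i ≠ 0 := by
  have hdet : (P : Mat).det ≠ 0 := fun e => by
    have := congrArg Matrix.det P.mul_inv
    rw [Matrix.det_mul, e, zero_mul, Matrix.det_one] at this
    exact zero_ne_one this
  rw [Matrix.det_apply] at hdet
  obtain ⟨σ, -, hσ⟩ := Finset.exists_ne_zero_of_sum_ne_zero hdet
  exact ⟨σ, fun i hi => hσ ((smul_eq_zero_iff_eq _).2 (Finset.prod_eq_zero (Finset.mem_univ i) hi))⟩

/-- A change of diagonal coordinates permutes the eigenvalues, uniformly. -/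
theorem exists_perm_change (B C : GL (Fin 3) F) : ∃ π : Equiv.Perm (Fin 3),
    ∀ x, x ∈ torus B → x ∈ torus C → ∀ i, dvec C x (π i) = dvec B x i := by
  obtain ⟨σ, hσ⟩ := exists_nonzero_diag (C * B⁻¹)
  refine ⟨σ, fun x hB hC i => ?_⟩
  have e : ((C * B⁻¹ : GL (Fin 3) F) : Mat) * Matrix.diagonal (dvec B x) =
      Matrix.diagonal (dvec C x) * ((C * B⁻¹ : GL (Fin 3) F) : Mat) := by
    rw [← mem_torus_iff.1 hB, ← mem_torus_iff.1 hC, ← Units.val_mul, ← Units.val_mul]
    congr 1
    group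
  have h := congrFun (congrFun e (σ i)) i
  rw [Matrix.mul_diagonal, Matrix.diagonal_mul, mul_comm] at h
  exact (mul_right_cancel₀ (hσ i) h).symm

/-- Conjugation permutes diagonal coordinates, uniformly. -/
theorem exists_perm_conj (B k : GL (Fin 3) F) : ∃ π : Equiv.Perm (Fin 3),
    ∀ x, x ∈ torus B → k * x * k⁻¹ ∈ torus B → ∀ i, dvec B (k * x * k⁻¹) (π i) = dvec B x i := by
  obtain ⟨π, hπ⟩ := exists_perm_change B (B * k)
  have e : ∀ x : GL (Fin 3) F, B * k * x * (B * k)⁻¹ = B * (k * x * k⁻¹) * B⁻¹ := fun x => by group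
  refine ⟨π, fun x hx hkx i => ?_⟩
  have hx' : x ∈ torus (B * k) := show Matrix.IsDiag _ by rw [e]; exact hkx
  rw [← hπ x hx hx' i]
  unfold dvec
  rw [e]

lemma dvec_det {B x : GL (Fin 3) F} (hx : x ∈ torus B) :
    (x : Mat).det = dvec B x 0 * dvec B x 1 * dvec B x 2 := (diag3_of_mem hx).det

/-- Being regular can be read in any diagonal coordinates. -/
lemma injective_of_isReg {B x : GL (Fin 3) F} (hx : x ∈ torus B) (h : IsReg x) :
    Function.Injective (dvec B x) := by
  obtain ⟨d, hd, hdiag⟩ := h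
  obtain ⟨C, hC, hCd⟩ := hdiag.exists_torus
  obtain ⟨π, hπ⟩ := exists_perm_change C B
  have : dvec B x = d ∘ π.symm := funext fun i => by
    have := hπ x hC hx (π.symm i)
    rwa [Equiv.apply_symm_apply, hCd] at this
  rw [this]
  exact hd.comp π.symm.injective

lemma isReg_of_injective {B x : GL (Fin 3) F} (hx : x ∈ torus B)
    (h : Function.Injective (dvec B x)) : IsReg x := ⟨_, h, diag3_of_mem hx⟩

/-- A diagonal element that is neither regular nor scalar has exactly one special axis. -/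
lemma exists_axis {B x : GL (Fin 3) F} (hx : x ∈ torus B) (hr : ¬ Function.Injective (dvec B x))
    (hs : x ∉ scalars (Fin 3) F) :
    ∃ i, ∀ j k, j ≠ i → k ≠ i → dvec B x j = dvec B x k ∧ dvec B x j ≠ dvec B x i := by
  obtain ⟨p, q, hpq, hne⟩ : ∃ p q, dvec B x p = dvec B x q ∧ p ≠ q := by
    simp only [Function.Injective, not_forall] at hr
    obtain ⟨p, q, h1, h2⟩ := hr
    exact ⟨p, q, h1, h2⟩
  obtain ⟨i, hip, hiq⟩ : ∃ i, i ≠ p ∧ i ≠ q :=
    (by decide : ∀ p q : Fin 3, ∃ i, i ≠ p ∧ i ≠ q) p q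
  have hcase : ∀ j, j ≠ i → j = p ∨ j = q := fun j hj =>
    (by decide : ∀ p q i j : Fin 3, p ≠ q → i ≠ p → i ≠ q → j ≠ i → j = p ∨ j = q) p q i j hne hip hiq hj
  have hval : ∀ j, j ≠ i → dvec B x j = dvec B x p := fun j hj => by
    rcases hcase j hj with rfl | rfl
    · rfl
    · exact hpq.symm
  refine ⟨i, fun j k hj hk => ⟨(hval j hj).trans (hval k hk).symm, fun e => hs (scalar_of_const hx fun l => ?_)⟩⟩
  have key : ∀ l, dvec B x l = dvec B x p := fun l => by
    by_cases hl : l = i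
    · rw [hl, ← e, hval j hj]
    · exact hval l hl
  rw [key l, key 0]

lemma inv_mulVec_injective (B : GL (Fin 3) F) :
    Function.Injective fun v => ((B⁻¹ : GL (Fin 3) F) : Mat) *ᵥ v := fun a b h => by
  have := congrArg (fun v => (B : Mat) *ᵥ v) h
  simpa [mulVec_inv_mulVec] using this

/-- Commuting diagonalisable elements have common diagonal coordinates. -/
theorem exists_torus_pair {g h : GL (Fin 3) F} {d e : Fin 3 → F} (hg : Diag3 g d) (hh : Diag3 h e)
    (hc : Commute g h) : ∃ B, g ∈ torus B ∧ h ∈ torus B := by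
  classical
  obtain ⟨B, hgB, hgd⟩ := hg.exists_torus
  obtain ⟨C, hhC, hhd⟩ := hh.exists_torus
  set gB : Mat := ((B * g * B⁻¹ : GL (Fin 3) F) : Mat) with hgB'
  set hB : Mat := ((B * h * B⁻¹ : GL (Fin 3) F) : Mat) with hhB'
  let v : Fin 3 → Fin 3 → F := fun i => (B : Mat) *ᵥ (((C⁻¹ : GL (Fin 3) F) : Mat) *ᵥ Pi.single i 1)
  have hv : ∀ i, hB *ᵥ v i = e i • v i := fun i => by
    have he : h = C⁻¹ * (C * h * C⁻¹) * C := by group
    show hB *ᵥ ((B : Mat) *ᵥ _) = _
    rw [hhB', mul_mulVec, mul_mulVec, inv_mulVec_mulVec]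
    conv_lhs => rw [he]
    rw [mul_mulVec, mul_mulVec, mulVec_inv_mulVec, mem_torus_iff.1 hhC, hhd,
      show Matrix.diagonal e *ᵥ Pi.single i 1 = e i • (Pi.single i 1 : Fin 3 → F) by
        ext l; rcases eq_or_ne l i with rfl | hne <;> simp [Matrix.mulVec_single, *],
      Matrix.mulVec_smul, Matrix.mulVec_smul]
  let M : Fin 3 → Mat := fun j => Matrix.diagonal fun l => if d l = d j then 1 else 0
  have hMh : ∀ j, hB * M j = M j * hB := fun j => by
    ext a b
    rw [Matrix.mul_diagonal, Matrix.diagonal_mul]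
    by_cases hab : d a = d b
    · rw [hab, mul_comm]
    · rw [hhB', entry_zero hgB hc.symm (by rwa [hgd]), zero_mul, mul_zero]
  have hMg : ∀ j x, gB *ᵥ (M j *ᵥ x) = d j • (M j *ᵥ x) := fun j x => by
    rw [hgB', mem_torus_iff.1 hgB, hgd]
    ext l
    simp only [M, Matrix.mulVec_diagonal, Pi.smul_apply, smul_eq_mul]
    split_ifs with hl
    · rw [hl]
    · simp
  let s : Set (Fin 3 → F) := {u | ∃ a b : F, gB *ᵥ u = a • u ∧ hB *ᵥ u = b • u}
  have hspanv : Submodule.span F (Set.range v) = ⊤ := by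
    have hli : LinearIndependent F v := by
      have h0 : LinearIndependent F fun i : Fin 3 => (Pi.single i (1 : F) : Fin 3 → F) := by
        have hb : (⇑(Pi.basisFun F (Fin 3))) = fun i => Pi.single i 1 := funext fun i => Pi.basisFun_apply F _ i
        exact hb ▸ (Pi.basisFun F (Fin 3)).linearIndependent
      have h1 := h0.map' (glEquiv C⁻¹).toLinearMap (LinearEquiv.ker _)
      have h2 := h1.map' (glEquiv B).toLinearMap (LinearEquiv.ker _)
      simpa [Function.comp_def, v] using h2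
    exact hli.span_eq_top_of_card_eq_finrank (by simp)
  have hspan : Submodule.span F s = ⊤ := by
    rw [eq_top_iff, ← (Pi.basisFun F (Fin 3)).span_eq, Submodule.span_le]
    rintro _ ⟨j, rfl⟩
    have hej : (Pi.basisFun F (Fin 3)) j = (M j).toLin' ((Pi.basisFun F (Fin 3)) j) := by
      ext l
      simp only [M, Pi.basisFun_apply, Matrix.toLin'_apply, Matrix.mulVec_diagonal]
      rcases eq_or_ne l j with rfl | hne <;> simp [*]
    rw [SetLike.mem_coe, hej]
    have hmem : (Pi.basisFun F (Fin 3)) j ∈ Submodule.span F (Set.range v) := hspanv ▸ Submodule.mem_top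
    have hle : (Submodule.span F (Set.range v)).map (M j).toLin' ≤ Submodule.span F s := by
      rw [Submodule.map_span, Submodule.span_le]
      rintro _ ⟨_, ⟨i, rfl⟩, rfl⟩
      refine Submodule.subset_span ⟨d j, e i, ?_, ?_⟩
      · rw [Matrix.toLin'_apply]; exact hMg j _
      · rw [Matrix.toLin'_apply, Matrix.mulVec_mulVec, hMh, ← Matrix.mulVec_mulVec, hv, Matrix.mulVec_smul]
    exact hle ⟨_, hmem, rfl⟩
  obtain ⟨b, hbs, hbspan, hbli⟩ := exists_linearIndependent F s
  rw [hspan] at hbspan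
  let bb := Module.Basis.mk hbli (by rw [Subtype.range_coe_subtype, Set.ofPred_mem_eq, hbspan])
  have hfin : Finite b := Module.Finite.finite_basis bb
  haveI := Fintype.ofFinite b
  have hcard : Fintype.card b = 3 := by
    rw [← Module.finrank_eq_card_basis bb, Module.finrank_fin_fun]
  let w : Fin 3 → Fin 3 → F := fun i => ((Fintype.equivFinOfCardEq hcard).symm i : Fin 3 → F)
  have hwli : LinearIndependent F w := hbli.comp _ (Fintype.equivFinOfCardEq hcard).symm.injective
  choose α β hα hβ using fun i : Fin 3 => hbs ((Fintype.equivFinOfCardEq hcard).symm i).2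
  have back : ∀ {x : GL (Fin 3) F} {u : Fin 3 → F} {a : F},
      ((B * x * B⁻¹ : GL (Fin 3) F) : Mat) *ᵥ u = a • u →
      (x : Mat) *ᵥ (((B⁻¹ : GL (Fin 3) F) : Mat) *ᵥ u) = a • (((B⁻¹ : GL (Fin 3) F) : Mat) *ᵥ u) :=
    fun {x u a} hu => by
      have := congrArg (fun y => ((B⁻¹ : GL (Fin 3) F) : Mat) *ᵥ y) hu
      simp only [mul_mulVec, inv_mulVec_mulVec, Matrix.mulVec_smul] at this
      exact this
  have hwli' : LinearIndependent F fun i => ((B⁻¹ : GL (Fin 3) F) : Mat) *ᵥ w i := by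
    have := hwli.map' (glEquiv B⁻¹).toLinearMap (LinearEquiv.ker _)
    simpa [Function.comp_def] using this
  set u : Fin 3 → Fin 3 → F := fun i => ((B⁻¹ : GL (Fin 3) F) : Mat) *ᵥ w i
  have hu : IsUnit (Matrix.of u) := linearIndependent_rows_iff_isUnit.1 hwli'
  set P : GL (Fin 3) F := ((isUnit_transpose (Matrix.of u)).2 hu).unit with hP
  have hPc : ∀ i, (P : Mat) *ᵥ Pi.single i 1 = u i := fun i => by
    rw [hP, IsUnit.unit_spec]
    ext j
    simp [Matrix.mulVec_single]
  have main : ∀ (x : GL (Fin 3) F) (a : Fin 3 → F), (∀ i, (x : Mat) *ᵥ u i = a i • u i) → x ∈ torus P⁻¹ := by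
    intro x a hx i j hij
    have h1 : ((P⁻¹ * x * P⁻¹⁻¹ : GL (Fin 3) F) : Mat) *ᵥ Pi.single j 1 = a j • Pi.single j 1 := by
      rw [inv_inv, mul_mulVec, mul_mulVec, hPc, hx, Matrix.mulVec_smul, ← hPc, inv_mulVec_mulVec]
    have h2 := congrFun h1 i
    simpa [Matrix.mulVec_single, hij] using h2
  exact ⟨P⁻¹, main g α fun i => back (hα i), main h β fun i => back (hβ i)⟩

end CfsgLib.Geo.D3
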