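/-
Elements commuting with semisimple ones, and a counting lemma for groups with self-normalising abelian
centralisers.
-/
import Cfsg.Agent.Geo.DimThree.NoTv.Basic
import Cfsg.Agent.Geo.DimThree.NoTv.Torus

set_option autoImplicit false

namespace CfsgLib.Geo.D3

open Matrix Cfsg Cfsg.Geo CfsgLib.Geo

/-- A finite group in which every centraliser of a non-central element is abelian and contains every element that
carries it to one commuting with it is abelian. -/
theorem isMulCommutative_of_selfNorm {K : Type*} [Group K] [Finite K]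
    (h1 : ∀ x : K, x ∉ Subgroup.center K → IsMulCommutative ↥(Subgroup.centralizer ({x} : Set K)))
    (h2 : ∀ x k : K, x ∉ Subgroup.center K → Commute (k * x * k⁻¹) x → Commute k x) : IsMulCommutative K := by
  classical
  by_contra hne
  obtain ⟨x, hx⟩ : ∃ x, x ∉ Subgroup.center K := by
    by_contra h
    simp only [not_exists, not_not] at h
    exact hne ⟨⟨fun a b => (Subgroup.mem_center_iff.1 (h b) a)⟩⟩
  let N := {y : K // y ∉ Subgroup.center K}
  let D : N → Type _ := fun u => (K ⧸ Subgroup.centralizer ({(u : K)} : Set K)) ×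
    {a : K // a ∈ Subgroup.centralizer ({(u : K)} : Set K) ∧ a ∉ Subgroup.center K}
  have hnc : ∀ {a : K} (k : K), a ∉ Subgroup.center K → k * a * k⁻¹ ∉ Subgroup.center K := fun {a} k ha h => by
    refine ha ?_
    have := (inferInstance : (Subgroup.center K).Normal).conj_mem _ h k⁻¹
    simpa [mul_assoc] using this
  let φ : (u : N) → D u → N := fun u p => ⟨p.1.out * (p.2 : K) * p.1.out⁻¹, hnc _ p.2.2.2⟩
  have hsame : ∀ {u a : K}, u ∉ Subgroup.center K → a ∉ Subgroup.center K → Commute a u →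
      Subgroup.centralizer ({a} : Set K) = Subgroup.centralizer ({u} : Set K) := by
    have key : ∀ {u a : K}, u ∉ Subgroup.center K → Commute a u →
        Subgroup.centralizer ({u} : Set K) ≤ Subgroup.centralizer ({a} : Set K) := by
      intro u a hu hau y hy
      haveI := h1 u hu
      have := (h1 u hu).is_comm.comm ⟨y, hy⟩ ⟨a, Subgroup.mem_centralizer_singleton_iff.2 hau.eq⟩
      exact Subgroup.mem_centralizer_singleton_iff.2 (congrArg Subtype.val this)
    intro u a hu ha h
    exact le_antisymm (key ha h.symm) (key hu h)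
  have hinj : ∀ u, Function.Injective (φ u) := by
    intro u p p' h
    have e : p.1.out * (p.2 : K) * p.1.out⁻¹ = p'.1.out * (p'.2 : K) * p'.1.out⁻¹ := congrArg Subtype.val h
    have hc : Commute (p.2 : K) (u : K) := Subgroup.mem_centralizer_singleton_iff.1 p.2.2.1
    have hA := hsame u.2 p.2.2.2 hc
    have ha' : (p'.1.out⁻¹ * p.1.out) * (p.2 : K) * (p'.1.out⁻¹ * p.1.out)⁻¹ = p'.2 := by
      rw [show (p'.1.out⁻¹ * p.1.out) * (p.2 : K) * (p'.1.out⁻¹ * p.1.out)⁻¹ =
        p'.1.out⁻¹ * (p.1.out * (p.2 : K) * p.1.out⁻¹) * p'.1.out by group, e]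
      group
    have hk : Commute (p'.1.out⁻¹ * p.1.out) (p.2 : K) := by
      refine h2 _ _ p.2.2.2 ?_
      rw [ha']
      exact Subgroup.mem_centralizer_singleton_iff.1 (hA.ge p'.2.2.1)
    have hq : p.1 = p'.1 := by
      rw [← p.1.out_eq, ← p'.1.out_eq]
      refine (QuotientGroup.eq.2 ?_).symm
      exact hA.le (Subgroup.mem_centralizer_singleton_iff.2 hk.eq)
    refine Prod.ext hq (Subtype.ext ?_)
    rw [← ha', hk.eq, mul_inv_cancel_right]
  have hcount : ∀ u : N, Nat.card (D u) + (Subgroup.centralizer ({(u : K)} : Set K)).index *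
      Nat.card (Subgroup.center K) = Nat.card K := by
    intro u
    set A := Subgroup.centralizer ({(u : K)} : Set K) with hA
    have hZ : Subgroup.center K ≤ A := Subgroup.center_le_centralizer _
    have h' : Nat.card {a : K // a ∈ A ∧ a ∉ Subgroup.center K} + Nat.card (Subgroup.center K) = Nat.card A := by
      rw [← Nat.card_sum]
      refine Nat.card_congr ⟨Sum.elim (fun a => ⟨a, a.2.1⟩) fun z => ⟨z, hZ z.2⟩,
        fun a => if hz : (a : K) ∈ Subgroup.center K then Sum.inr ⟨a, hz⟩ else Sum.inl ⟨a, a.2, hz⟩,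
        fun a => ?_, fun a => ?_⟩
      · rcases a with a | z
        · simp [a.2.2]
        · simp [z.2]
      · by_cases hz : (a : K) ∈ Subgroup.center K <;> simp [hz]
    show Nat.card ((K ⧸ A) × _) + _ = _
    rw [Nat.card_prod, ← Subgroup.index, ← mul_add, h', mul_comm]
    exact A.card_mul_index
  have hhalf : ∀ u : N, 2 * ((Subgroup.centralizer ({(u : K)} : Set K)).index *
      Nat.card (Subgroup.center K)) ≤ Nat.card K := by
    intro u
    set A := Subgroup.centralizer ({(u : K)} : Set K) with hA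
    have hlt : Subgroup.center K < A := lt_of_le_of_ne (Subgroup.center_le_centralizer _) fun e =>
      u.2 (e.ge (Subgroup.mem_centralizer_singleton_iff.2 rfl))
    obtain ⟨m, hm⟩ := Subgroup.card_dvd_of_le hlt.le
    have hm2 : 2 ≤ m := by
      rcases m with _ | _ | m
      · rw [mul_zero] at hm; exact absurd hm (Nat.card_pos (α := A)).ne'
      · simp only [zero_add, mul_one] at hm
        exact absurd (Subgroup.eq_of_le_of_card_ge hlt.le hm.le) hlt.ne
      · omega
    calc 2 * (A.index * Nat.card (Subgroup.center K)) ≤ m * (A.index * Nat.card (Subgroup.center K)) :=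
          Nat.mul_le_mul_right _ hm2
      _ = Nat.card A * A.index := by rw [hm]; ring
      _ = Nat.card K := A.card_mul_index
  have hNcard : Nat.card N + Nat.card (Subgroup.center K) = Nat.card K := by
    rw [← Nat.card_sum, Nat.card_congr ((Equiv.sumComm _ _).trans (Equiv.sumCompl fun y : K => y ∈ Subgroup.center K))]
  obtain ⟨y, hy⟩ : ∃ y : N, ∀ p, φ ⟨x, hx⟩ p ≠ y := by
    by_contra h
    simp only [not_exists, not_forall, not_not] at h
    have e := Nat.card_eq_of_bijective _ ⟨hinj ⟨x, hx⟩, h⟩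
    have hc : Nat.card (D ⟨x, hx⟩) + (Subgroup.centralizer ({x} : Set K)).index *
        Nat.card (Subgroup.center K) = Nat.card K := hcount ⟨x, hx⟩
    have hz := Nat.card_pos (α := Subgroup.center K)
    have hi : (Subgroup.centralizer ({x} : Set K)).index = 1 :=
      Nat.eq_of_mul_eq_mul_right hz (by rw [one_mul]; omega)
    exact hx (Subgroup.mem_center_iff.2 fun g =>
      Subgroup.mem_centralizer_singleton_iff.1 (Subgroup.index_eq_one.1 hi ▸ Subgroup.mem_top g))
  have hsum : Function.Injective (Sum.elim (φ ⟨x, hx⟩) (φ y)) := by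
    refine (hinj _).sumElim (hinj y) fun p q h => ?_
    have e : p.1.out * (p.2 : K) * p.1.out⁻¹ = q.1.out * (q.2 : K) * q.1.out⁻¹ := congrArg Subtype.val h
    have hCp := hsame hx p.2.2.2 (Subgroup.mem_centralizer_singleton_iff.1 p.2.2.1)
    have hCq := hsame y.2 q.2.2.2 (Subgroup.mem_centralizer_singleton_iff.1 q.2.2.1)
    set k := q.1.out⁻¹ * p.1.out with hk
    have hka : k * (p.2 : K) * k⁻¹ = q.2 := by
      rw [hk, show (q.1.out⁻¹ * p.1.out) * (p.2 : K) * (q.1.out⁻¹ * p.1.out)⁻¹ =
        q.1.out⁻¹ * (p.1.out * (p.2 : K) * p.1.out⁻¹) * q.1.out by group, e]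
      group
    have hyk : k⁻¹ * (y : K) * k ∈ Subgroup.centralizer ({x} : Set K) := by
      rw [← hCp]
      refine Subgroup.mem_centralizer_singleton_iff.2 ?_
      have hy' : Commute (y : K) q.2 := Subgroup.mem_centralizer_singleton_iff.1 (hCq.ge
        (Subgroup.mem_centralizer_singleton_iff.2 rfl : (y : K) ∈ Subgroup.centralizer ({(y : K)} : Set K)))
      rw [← hka] at hy'
      calc k⁻¹ * y * k * (p.2 : K) = k⁻¹ * (y * (k * p.2 * k⁻¹)) * k := by group
        _ = k⁻¹ * (k * p.2 * k⁻¹ * y) * k := by rw [hy'.eq]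
        _ = _ := by group
    let r : K ⧸ Subgroup.centralizer ({x} : Set K) := QuotientGroup.mk k
    obtain ⟨c, hc⟩ := QuotientGroup.mk_out_eq_mul (Subgroup.centralizer ({x} : Set K)) k
    refine hy (r, ⟨k⁻¹ * y * k, hyk, ?_⟩) (Subtype.ext ?_)
    · have := hnc k⁻¹ y.2
      rwa [inv_inv] at this
    · show r.out * (k⁻¹ * y * k) * r.out⁻¹ = y
      rw [hc]
      have hcc : (c : K) * (k⁻¹ * y * k) = k⁻¹ * y * k * c := by
        haveI := h1 x hx
        exact congrArg Subtype.val ((h1 x hx).is_comm.comm c ⟨_, hyk⟩)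
      rw [mul_assoc k, hcc]
      group
  have := Nat.card_le_card_of_injective _ hsum
  rw [Nat.card_sum] at this
  have h5 : Nat.card (D ⟨x, hx⟩) + Nat.card (D y) ≤ Nat.card N := this
  have := hcount ⟨x, hx⟩
  have := hcount y
  have := hhalf ⟨x, hx⟩
  have := hhalf y
  have := Nat.card_pos (α := Subgroup.center K)
  omega

variable {F : Type*} [Field F] {G : Subgroup (GL (Fin 3) F)}

local notation "Mat" => Matrix (Fin 3) (Fin 3) F

lemma diag3_isHom {B g : GL (Fin 3) F} (hg : g ∈ torus B) (hr : ¬ Function.Injective (dvec B g))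
    (hs : g ∉ scalars (Fin 3) F) : IsHom g := by
  obtain ⟨i, hi⟩ := exists_axis hg hr hs
  obtain ⟨π, h0⟩ : ∃ π : Equiv.Perm (Fin 3), π 0 = i := ⟨Equiv.swap 0 i, Equiv.swap_apply_left _ _⟩
  have hj : ∀ j, j ≠ 0 → π j ≠ i := fun j hj e => hj (π.injective (e.trans h0.symm))
  refine ⟨dvec B g i, dvec B g (π 1), (hi _ _ (hj 1 (by decide)) (hj 1 (by decide))).2.symm, ?_⟩
  have hd := (diag3_of_mem hg).perm π
  have e : dvec B g ∘ π = ![dvec B g i, dvec B g (π 1), dvec B g (π 1)] := by
    funext j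
    fin_cases j
    · simp [h0]
    · simp
    · simpa using (hi _ _ (hj 2 (by decide)) (hj 1 (by decide))).1
  rwa [e] at hd

lemma IsHom.diag {g : GL (Fin 3) F} (h : IsHom g) : ∃ d, Diag3 g d :=
  let ⟨_, _, _, hd⟩ := h; ⟨_, hd⟩

lemma IsReg.diag {g : GL (Fin 3) F} (h : IsReg g) : ∃ d, Diag3 g d :=
  let ⟨_, _, hd⟩ := h; ⟨_, hd⟩

lemma IsHom.not_scalar {g : GL (Fin 3) F} (h : IsHom g) : g ∉ scalars (Fin 3) F := fun hs => by
  obtain ⟨a, b, hab, hd⟩ := h
  obtain ⟨B, hgB, hgd⟩ := hd.exists_torus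
  obtain ⟨c, -, hc⟩ := scalar_torus B hs
  rw [hgd] at hc
  have e0 := congrFun hc 0
  have e1 := congrFun hc 1
  simp at e0 e1
  exact hab (e0.trans e1.symm)

lemma IsReg.not_scalar {g : GL (Fin 3) F} (h : IsReg g) : g ∉ scalars (Fin 3) F := fun hs => by
  obtain ⟨d, hd, hdd⟩ := h
  obtain ⟨B, hgB, hgd⟩ := hdd.exists_torus
  obtain ⟨c, -, hc⟩ := scalar_torus B hs
  rw [hgd] at hc
  exact absurd (hd ((congrFun hc 0).trans (congrFun hc 1).symm)) (by decide)

/-- A block nilpotent matrix of dimension three has square zero. -/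
lemma sq_zero_of_block {N : Mat} (hN : N * N * N = 0) {i : Fin 3}
    (hr : ∀ j, j ≠ i → N i j = 0) (hc : ∀ j, j ≠ i → N j i = 0) : N * N = 0 := by
  let f := i.succAbove
  have hf : ∀ a, f a ≠ i := fun a => Fin.succAbove_ne i a
  have hmul : ∀ (X : Mat) a b, (N * X) (f a) (f b) = ∑ c, N (f a) (f c) * X (f c) (f b) := fun X a b => by
    rw [Matrix.mul_apply, Fin.sum_univ_succAbove _ i, hc _ (hf a), zero_mul, zero_add]
  set M : Matrix (Fin 2) (Fin 2) F := N.submatrix f f with hM
  have hii : N i i = 0 := by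
    have h := congrFun (congrFun hN i) i
    rw [Matrix.zero_apply, Matrix.mul_apply, Fin.sum_univ_succAbove _ i,
      Finset.sum_eq_zero fun a _ => by rw [hc _ (hf a), mul_zero], add_zero,
      Matrix.mul_apply, Fin.sum_univ_succAbove _ i,
      Finset.sum_eq_zero fun a _ => by rw [hr _ (hf a), zero_mul], add_zero] at h
    exact pow_eq_zero_iff (n := 3) (by decide) |>.1 (by rw [← h]; ring)
  have hM3 : M * (M * M) = 0 := by
    ext a b
    rw [Matrix.mul_apply, Matrix.zero_apply]
    have h := congrFun (congrFun hN (f a)) (f b)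
    rw [mul_assoc, hmul, Matrix.zero_apply] at h
    rw [← h]
    refine Finset.sum_congr rfl fun c _ => ?_
    rw [hmul]
    rfl
  have hdet : M.det = 0 := by
    have := congrArg Matrix.det hM3
    rw [Matrix.det_mul, Matrix.det_mul, Matrix.det_zero, mul_eq_zero, mul_eq_zero] at this
    rcases this with h | h | h <;> exact h
  rw [Matrix.det_fin_two] at hdet
  have hM2 : M * M = (M 0 0 + M 1 1) • M := by
    ext a b
    rw [Matrix.mul_apply, Fin.sum_univ_two, Matrix.smul_apply, smul_eq_mul]
    fin_cases a <;> fin_cases b <;> simp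
    · linear_combination -hdet
    · ring
    · ring
    · linear_combination -hdet
  have hMM : M * M = 0 := by
    rw [hM2, mul_smul_comm, hM2, smul_smul] at hM3
    rcases smul_eq_zero.1 hM3 with h | h
    · rw [hM2, mul_self_eq_zero.1 h, zero_smul]
    · rw [h, zero_mul]
  ext a b
  rw [Matrix.zero_apply]
  rcases eq_or_ne a i with rfl | ha
  · rw [Matrix.mul_apply]
    refine Finset.sum_eq_zero fun c _ => ?_
    rcases eq_or_ne c a with rfl | hca
    · rw [hii, zero_mul]
    · rw [hr c hca, zero_mul]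
  rcases eq_or_ne b i with rfl | hb
  · rw [Matrix.mul_apply]
    refine Finset.sum_eq_zero fun c _ => ?_
    rcases eq_or_ne c b with rfl | hcb
    · rw [hii, mul_zero]
    · rw [hc c hcb, mul_zero]
  obtain ⟨a', rfl⟩ := Fin.exists_succAbove_eq ha
  obtain ⟨b', rfl⟩ := Fin.exists_succAbove_eq hb
  rw [hmul]
  simpa [Matrix.mul_apply, hM] using congrFun (congrFun hMM a') b'

section finite

variable [Finite F]

/-- An element with one eigenvalue commutes with no semisimple element outside the scalars. -/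
theorem NoTv.not_isUni_of_commute (hG : NoTv G) {B g h : GL (Fin 3) F} (hh : h ∈ G) (hgB : g ∈ torus B)
    (hgs : g ∉ scalars (Fin 3) F) (hc : Commute h g) : ¬ IsUni h := by
  rintro ⟨hns, c, h3⟩
  set N : Mat := ((B * h * B⁻¹ : GL (Fin 3) F) : Mat) - c • 1 with hN
  have hconj : N = (B : Mat) * ((h : Mat) - c • 1) * ((B⁻¹ : GL (Fin 3) F) : Mat) := by
    rw [hN, mul_sub, sub_mul, mul_smul_comm, mul_one, smul_mul_assoc, ← Units.val_mul, ← Units.val_mul,
      ← Units.val_mul, mul_inv_cancel, Units.val_one]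
  have hcube : N * N * N = 0 := by
    have e : ((B⁻¹ : GL (Fin 3) F) : Mat) * (B : Mat) = 1 := by rw [← Units.val_mul, inv_mul_cancel, Units.val_one]
    have : N * N * N = (B : Mat) * ((h : Mat) - c • 1) ^ 3 * ((B⁻¹ : GL (Fin 3) F) : Mat) := by
      rw [hconj, pow_succ, pow_two]
      simp only [mul_assoc]
      rw [← mul_assoc _ (B : Mat), e, one_mul, ← mul_assoc _ (B : Mat), e, one_mul]
    rw [this, h3, mul_zero, zero_mul]
  have hoff : ∀ a b, a ≠ b → dvec B g a ≠ dvec B g b → N a b = 0 := fun a b hab hne => by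
    rw [hN, Matrix.sub_apply, entry_zero hgB hc hne, Matrix.smul_apply, Matrix.one_apply_ne hab, smul_zero, sub_zero]
  have hN2 : N * N = 0 := by
    by_cases hinj : Function.Injective (dvec B g)
    · have hd : ∀ a, N a a = 0 := fun a => by
        have e := congrFun (congrFun hcube a) a
        rw [Matrix.zero_apply, Matrix.mul_apply, Finset.sum_eq_single a, Matrix.mul_apply, Finset.sum_eq_single a] at e
        · exact pow_eq_zero_iff (n := 3) (by decide) |>.1 (by rw [← e]; ring)
        all_goals first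
          | exact fun h => absurd (Finset.mem_univ _) h
          | exact fun b _ hb => by simp [hoff b a hb (hinj.ne hb)]
      have : N = 0 := by
        ext a b
        rcases eq_or_ne a b with rfl | hab
        · exact hd a
        · exact hoff a b hab (hinj.ne hab)
      rw [this, mul_zero]
    · obtain ⟨i, hi⟩ := exists_axis hgB hinj hgs
      exact sq_zero_of_block hcube (fun j hj => hoff i j hj.symm (hi j j hj hj).2.symm)
        fun j hj => hoff j i hj (hi j j hj hj).2
  set N0 : Mat := (h : Mat) - c • 1 with hN0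
  have h2 : N0 * N0 = 0 := by
    have e : ((B⁻¹ : GL (Fin 3) F) : Mat) * (B : Mat) = 1 := by rw [← Units.val_mul, inv_mul_cancel, Units.val_one]
    have : N0 = ((B⁻¹ : GL (Fin 3) F) : Mat) * N * (B : Mat) := by
      rw [hconj, ← mul_assoc, ← mul_assoc, e, one_mul, mul_assoc, e, mul_one]
    have e' : (B : Mat) * ((B⁻¹ : GL (Fin 3) F) : Mat) = 1 := by rw [← Units.val_mul, mul_inv_cancel, Units.val_one]
    rw [this, show ((B⁻¹ : GL (Fin 3) F) : Mat) * N * (B : Mat) * (((B⁻¹ : GL (Fin 3) F) : Mat) * N * (B : Mat)) =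
      ((B⁻¹ : GL (Fin 3) F) : Mat) * (N * ((B : Mat) * ((B⁻¹ : GL (Fin 3) F) : Mat)) * N) * (B : Mat) by
        simp only [mul_assoc], e', mul_one, hN2, mul_zero, zero_mul]
  have hc0 : c ≠ 0 := by
    rintro rfl
    have hh0 : (h : Mat) * h = 0 := by simp [hN0] at h2
    have := congrArg (fun X => ((h⁻¹ : GL (Fin 3) F) : Mat) * X) hh0
    simp only [← mul_assoc, ← Units.val_mul, inv_mul_cancel, one_mul, mul_zero] at this
    exact h.ne_zero this
  have hne : N0 ≠ 0 := fun e => hns ((mem_scalars_iff h).2 ⟨Units.mk0 c hc0, by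
    rw [Units.val_mk0, ← sub_eq_zero]; exact e⟩)
  have hpow : ∀ n : ℕ, (h : Mat) ^ (n + 1) = c ^ (n + 1) • (1 : Mat) + (((n + 1 : ℕ) : F) * c ^ n) • N0 := by
    intro n
    induction n with
    | zero => simp [hN0]
    | succ n ih =>
      have hh' : (h : Mat) = c • 1 + N0 := by rw [hN0]; abel
      rw [pow_succ, ih]
      conv_lhs => rw [hh']
      simp only [add_mul, mul_add, smul_mul_assoc, mul_smul_comm, one_mul, mul_one, h2, smul_zero, add_zero]
      match_scalars <;> push_cast <;> ring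
  haveI := Fintype.ofFinite F
  obtain ⟨n, hn⟩ : ∃ n, Fintype.card F = n + 2 := ⟨Fintype.card F - 2, by
    have := Fintype.one_lt_card (α := F); omega⟩
  have hq : ((n + 1 : ℕ) : F) = -1 := by
    have := Nat.cast_card_eq_zero F
    rw [hn] at this
    push_cast at this ⊢
    linear_combination this
  have hP : ((h ^ (n + 1) : GL (Fin 3) F) : Mat) = 1 + (-(c ^ n)) • N0 := by
    rw [Units.val_pow_eq_pow_val, hpow, hq, show n + 1 = Fintype.card F - 1 by omega,
      FiniteField.pow_card_sub_one_eq_one c hc0, one_smul, neg_one_mul]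
  obtain ⟨v, φ, hv, hφ, hd, hNe⟩ := exists_vecMulVec_of_sq_zero
    (smul_ne_zero (neg_ne_zero.2 (pow_ne_zero n hc0)) hne) (by rw [smul_mul_smul_comm, h2, smul_zero])
  refine hG.noTv v φ hv hφ ⟨hd, ?_⟩
  rw [show tvec v φ hd = h ^ (n + 1) from Units.ext (by rw [hP, tvec_val, ← hNe])]
  exact G.pow_mem hh _

/-- Elements commuting with a semisimple element outside the scalars are diagonalisable. -/
theorem NoTv.diag_of_commute (hG : NoTv G) {B g h : GL (Fin 3) F} (hh : h ∈ G) (hgB : g ∈ torus B)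
    (hgs : g ∉ scalars (Fin 3) F) (hc : Commute h g) : ∃ d, Diag3 h d := by
  by_cases hs : h ∈ scalars (Fin 3) F
  · obtain ⟨c, hB, hd⟩ := scalar_torus B hs
    exact ⟨_, diag3_of_mem hB⟩
  · rcases hG.cases' hh hs with h1 | h1 | h1
    · exact absurd h1 (hG.not_isUni_of_commute hh hgB hgs hc)
    · exact h1.diag
    · exact h1.diag

/-- Two commuting semisimple elements of the group lie in one torus. -/
theorem NoTv.exists_torus_comm (hG : NoTv G) {B g h : GL (Fin 3) F} (hh : h ∈ G) (hgB : g ∈ torus B)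
    (hgs : g ∉ scalars (Fin 3) F) (hc : Commute h g) : ∃ C, g ∈ torus C ∧ h ∈ torus C :=
  let ⟨_, hd⟩ := hG.diag_of_commute hh hgB hgs hc
  exists_torus_pair (diag3_of_mem hgB) hd hc.symm

end finite

section cent

lemma toPro_coe_eq {a b : G} (h : toPro G a = toPro G b) :
    ∃ z : G, (z : GL (Fin 3) F) ∈ scalars (Fin 3) F ∧ a = b * z := by
  refine ⟨b⁻¹ * a, ?_, (mul_inv_cancel_left b a).symm⟩
  rw [← toPro_eq_one, map_mul, map_inv, h, inv_mul_cancel]

lemma commute_coe {a b : G} : Commute (a : GL (Fin 3) F) (b : GL (Fin 3) F) ↔ Commute a b :=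
  ⟨fun h => Subtype.ext h.eq, fun h => congrArg Subtype.val h.eq⟩

lemma scalar_comm' {z : G} (hz : (z : GL (Fin 3) F) ∈ scalars (Fin 3) F) (g : G) : Commute z g :=
  commute_coe.1 (scalar_comm hz _)

lemma toPro_mem_cent0 {g h : G} : toPro G h ∈ cent0 G g ↔ Commute h g := by
  constructor
  · rintro ⟨k, hk, e⟩
    obtain ⟨z, hz, rfl⟩ := toPro_coe_eq e.symm
    exact Commute.mul_left (Subgroup.mem_centralizer_singleton_iff.1 hk) (scalar_comm' hz g)
  · exact fun h' => ⟨h, Subgroup.mem_centralizer_singleton_iff.2 h'.eq, rfl⟩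

lemma cent0_le_cen (g : G) : cent0 G g ≤ cen (toPro G g) := by
  rintro _ ⟨k, hk, rfl⟩
  exact Subgroup.mem_centralizer_singleton_iff.2 (by
    rw [← map_mul, ← map_mul, Subgroup.mem_centralizer_singleton_iff.1 hk])

lemma cent0_mul_scalar {g z : G} (hz : (z : GL (Fin 3) F) ∈ scalars (Fin 3) F) : cent0 G (g * z) = cent0 G g := by
  ext x
  obtain ⟨k, rfl⟩ := toPro_surjective x
  rw [toPro_mem_cent0, toPro_mem_cent0]
  refine ⟨fun h => ?_, fun h => h.mul_right (scalar_comm' hz k).symm⟩
  have := h.mul_right ((scalar_comm' hz k).symm.inv_right)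
  rwa [mul_inv_cancel_right] at this

end cent

end CfsgLib.Geo.D3
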