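/-
Commuting elements modulo scalars whose lifts do not commute: the scalar commutator, the torus of a twisted
element, the elementary abelian group of order nine of a twisted pair.
-/
import Cfsg.Agent.Geo.DimThree.NoTv.Elements

set_option autoImplicit false

namespace CfsgLib.Geo.D3

open Matrix Cfsg Cfsg.Geo CfsgLib.Geo
open scoped commutatorElement

variable {F : Type*} [Field F] {G : Subgroup (GL (Fin 3) F)}

local notation "Mat" => Matrix (Fin 3) (Fin 3) F

/-- A lift. -/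
noncomputable def sect (a : Pro G) : G := Function.surjInv (toPro_surjective (G := G)) a

lemma toPro_sect (a : Pro G) : toPro G (sect a) = a := Function.surjInv_eq toPro_surjective a

/-- The commutator of lifts. -/
noncomputable def cm (a b : Pro G) : G := ⁅sect a, sect b⁆

lemma cm_eq {a b : Pro G} {g y : G} (hg : toPro G g = a) (hy : toPro G y = b) : cm a b = ⁅g, y⁆ := by
  obtain ⟨z, hz, e⟩ := toPro_coe_eq ((toPro_sect a).trans hg.symm)
  obtain ⟨w, hw, e'⟩ := toPro_coe_eq ((toPro_sect b).trans hy.symm)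
  rw [cm, e, e', commutatorElement_def, commutatorElement_def]
  have hz' : ∀ k : G, z * k = k * z := fun k => (scalar_comm' hz k).eq
  have hw' : ∀ k : G, w * k = k * w := fun k => (scalar_comm' hw k).eq
  calc g * z * (y * w) * (g * z)⁻¹ * (y * w)⁻¹
      = g * (z * (y * w)) * z⁻¹ * g⁻¹ * w⁻¹ * y⁻¹ := by group
    _ = g * ((y * w) * z) * z⁻¹ * g⁻¹ * w⁻¹ * y⁻¹ := by rw [hz']
    _ = g * y * (w * g⁻¹) * w⁻¹ * y⁻¹ := by group
    _ = g * y * (g⁻¹ * w) * w⁻¹ * y⁻¹ := by rw [hw']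
    _ = g * y * g⁻¹ * y⁻¹ := by group

lemma cm_scalar {a b : Pro G} (h : Commute a b) : ((cm a b : G) : GL (Fin 3) F) ∈ scalars (Fin 3) F := by
  rw [← toPro_eq_one, cm, map_commutatorElement, toPro_sect, toPro_sect,
    commutatorElement_eq_one_iff_mul_comm.2 h.eq]

lemma cm_self (a : Pro G) : cm a a = 1 := commutatorElement_self _

lemma cm_one_left (a : Pro G) : cm 1 a = 1 := by
  rw [cm_eq (map_one (toPro G)) (toPro_sect a), commutatorElement_one_left]

lemma cm_swap (a b : Pro G) : cm b a = (cm a b)⁻¹ := (commutatorElement_inv _ _).symm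

lemma cm_eq_one_iff {g y : G} : cm (toPro G g) (toPro G y) = 1 ↔ Commute g y := by
  rw [cm_eq rfl rfl, commutatorElement_eq_one_iff_mul_comm]
  rfl

lemma cm_mul_left {a a' b : Pro G} (h' : Commute a' b) : cm (a * a') b = cm a b * cm a' b := by
  obtain ⟨g, rfl⟩ := toPro_surjective a
  obtain ⟨g', rfl⟩ := toPro_surjective a'
  obtain ⟨y, rfl⟩ := toPro_surjective b
  have hz : ∀ k : G, ⁅g', y⁆ * k = k * ⁅g', y⁆ := fun k => by
    rw [← cm_eq rfl rfl]; exact (scalar_comm' (cm_scalar h') k).eq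
  rw [← map_mul, cm_eq rfl rfl, cm_eq rfl rfl, cm_eq rfl rfl]
  calc ⁅g * g', y⁆ = g * (⁅g', y⁆ * (y * g⁻¹ * y⁻¹)) := by simp only [commutatorElement_def]; group
    _ = g * (y * g⁻¹ * y⁻¹ * ⁅g', y⁆) := by rw [hz]
    _ = ⁅g, y⁆ * ⁅g', y⁆ := by simp only [commutatorElement_def]; group

lemma cm_pow_left {a b : Pro G} (h : Commute a b) (n : ℕ) : cm (a ^ n) b = cm a b ^ n := by
  induction n with
  | zero => rw [pow_zero, pow_zero, cm_one_left]
  | succ n ih => rw [pow_succ, pow_succ, cm_mul_left h, ih]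

lemma cm_inv_left {a b : Pro G} (h : Commute a b) : cm a⁻¹ b = (cm a b)⁻¹ := by
  have := cm_mul_left (a := a⁻¹) h
  rw [inv_mul_cancel, cm_one_left] at this
  exact eq_inv_of_mul_eq_one_left this.symm

lemma cm_mul_right {a b b' : Pro G} (h : Commute a b) (h' : Commute a b') :
    cm a (b * b') = cm a b * cm a b' := by
  rw [cm_swap (b * b') a, cm_mul_left h'.symm, cm_swap b a, cm_swap b' a, _root_.mul_inv_rev]
  exact (scalar_comm' (inv_mem (cm_scalar h'.symm)) _).eq

lemma cm_conj {a b : Pro G} (h : Commute a b) (n : Pro G) :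
    cm (n * a * n⁻¹) (n * b * n⁻¹) = cm a b := by
  have e : ∀ c : Pro G, toPro G (sect n * sect c * (sect n)⁻¹) = n * c * n⁻¹ := fun c => by
    rw [map_mul, map_mul, map_inv, toPro_sect, toPro_sect]
  rw [cm_eq (e a) (e b)]
  calc ⁅sect n * sect a * (sect n)⁻¹, sect n * sect b * (sect n)⁻¹⁆
      = sect n * cm a b * (sect n)⁻¹ := by simp only [cm, commutatorElement_def]; group
    _ = cm a b := by rw [← (scalar_comm' (cm_scalar h) _).eq, mul_inv_cancel_right]

/-- Commuting elements modulo scalars whose lifts do not commute. -/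
def Tw (a b : Pro G) : Prop := Commute a b ∧ cm a b ≠ 1

lemma Tw.symm {a b : Pro G} (h : Tw a b) : Tw b a :=
  ⟨h.1.symm, by rw [cm_swap a b, Ne, inv_eq_one]; exact h.2⟩

lemma Tw.conj {a b : Pro G} (h : Tw a b) (n : Pro G) : Tw (n * a * n⁻¹) (n * b * n⁻¹) :=
  ⟨(Commute.conj_iff n).2 h.1, by rw [cm_conj h.1]; exact h.2⟩

/-- The elements with lifts commuting with a lift of `a`. -/
noncomputable def tor (a : Pro G) : Subgroup (Pro G) where
  carrier := {z | Commute z a ∧ cm z a = 1}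
  one_mem' := ⟨Commute.one_left a, cm_one_left a⟩
  mul_mem' := fun {x y} hx hy => ⟨hx.1.mul_left hy.1, by rw [cm_mul_left hy.1, hx.2, hy.2, one_mul]⟩
  inv_mem' := fun {x} hx => ⟨hx.1.inv_left, by rw [cm_inv_left hx.1, hx.2, inv_one]⟩

lemma toPro_mem_tor {g h : G} : toPro G h ∈ tor (toPro G g) ↔ Commute h g :=
  ⟨fun hh => cm_eq_one_iff.1 hh.2, fun hh => ⟨hh.map _, cm_eq_one_iff.2 hh⟩⟩

lemma tor_eq_cent0 (g : G) : tor (toPro G g) = cent0 G g := by
  ext x
  obtain ⟨h, rfl⟩ := toPro_surjective x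
  rw [toPro_mem_tor, toPro_mem_cent0]

lemma self_mem_tor (a : Pro G) : a ∈ tor a := ⟨Commute.refl a, cm_self a⟩

lemma Tw.not_mem_tor {a b : Pro G} (h : Tw a b) : b ∉ tor a := fun hb => h.symm.2 hb.2

lemma tw_of_not_mem_tor {a b : Pro G} (hc : Commute b a) (h : b ∉ tor a) : Tw b a :=
  ⟨hc, fun e => h ⟨hc, e⟩⟩

lemma tor_conj {a x : Pro G} (n : Pro G) (hx : x ∈ tor a) : n * x * n⁻¹ ∈ tor (n * a * n⁻¹) :=
  ⟨(Commute.conj_iff n).2 hx.1, by rw [cm_conj hx.1]; exact hx.2⟩

section roots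

variable (hG : NoTv G)
include hG

lemma cm_cube {a b : Pro G} (h : Commute a b) : cm a b ^ 3 = 1 :=
  Subtype.ext (by simpa using hG.scalar_cube (cm a b).2 (cm_scalar h))

/-- The scalars of the group are powers of any nontrivial one. -/
lemma NoTv.scalar_eq_pow {z w : G} (hz : (z : GL (Fin 3) F) ∈ scalars (Fin 3) F)
    (hw : (w : GL (Fin 3) F) ∈ scalars (Fin 3) F) (hw1 : w ≠ 1) : ∃ i < 3, z = w ^ i := by
  obtain ⟨c, hc⟩ := (mem_scalars_iff _).1 hz
  obtain ⟨e, he⟩ := (mem_scalars_iff _).1 hw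
  have cube : ∀ {u : G} {d : Fˣ}, (u : GL (Fin 3) F) ∈ scalars (Fin 3) F →
      ((u : GL (Fin 3) F) : Mat) = (d : F) • (1 : Mat) → (d : F) ^ 3 = 1 := fun {u d} hu hd => by
    have h := congrArg Units.val (hG.scalar_cube u.2 hu)
    rw [Units.val_pow_eq_pow_val, hd, smul_pow, one_pow, Units.val_one] at h
    simpa using congrFun (congrFun h 0) 0
  have hc3 := cube hz hc
  have he3 := cube hw he
  have he1 : (e : F) ≠ 1 := fun h1 => hw1 (Subtype.ext (Units.ext (by rw [he, h1, one_smul]; simp)))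
  have hsum : (e : F) ^ 2 + e + 1 = 0 := by
    have : ((e : F) - 1) * ((e : F) ^ 2 + e + 1) = 0 := by linear_combination he3
    exact (mul_eq_zero.1 this).resolve_left (sub_ne_zero.2 he1)
  have h0 : ((c : F) - 1) * ((c : F) - e) * ((c : F) - e ^ 2) = 0 := by
    linear_combination hc3 - he3 + ((c : F) * e - (c : F) ^ 2) * hsum
  have fin : ∀ i, (c : F) = (e : F) ^ i → z = w ^ i := fun i hi => Subtype.ext (Units.ext (by
    rw [Subgroup.coe_pow, Units.val_pow_eq_pow_val, he, smul_pow, one_pow, hc, hi]))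
  rcases mul_eq_zero.1 h0 with h1 | h1
  · rcases mul_eq_zero.1 h1 with h2 | h2
    · exact ⟨0, by omega, fin 0 (by simpa using sub_eq_zero.1 h2)⟩
    · exact ⟨1, by omega, fin 1 (by simpa using sub_eq_zero.1 h2)⟩
  · exact ⟨2, by omega, fin 2 (sub_eq_zero.1 h1)⟩

/-- Coordinates of a twisted pair: the first element is `(1, c, c^2)` up to a scalar, of cube one, and the
second moves all three axes. -/
theorem Tw.coords {a b : Pro G} (h : Tw a b) {g y : G} (hg : toPro G g = a) (hy : toPro G y = b) :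
    ∃ (B : GL (Fin 3) F) (c ν : F), c ≠ 1 ∧ c ^ 3 = 1 ∧ ν ^ 3 = 1 ∧ (g : GL (Fin 3) F) ∈ torus B ∧
      dvec B g = ν • ![1, c, c ^ 2] ∧ Function.Injective (dvec B (g : GL (Fin 3) F)) ∧
      g ^ 3 = 1 ∧
      ((y : GL (Fin 3) F) * g * (y : GL (Fin 3) F)⁻¹ ∈ torus B ∧
        dvec B ((y : GL (Fin 3) F) * g * (y : GL (Fin 3) F)⁻¹) = c • dvec B g) := by
  have hz : ((⁅y, g⁆ : G) : GL (Fin 3) F) ∈ scalars (Fin 3) F := cm_eq hy hg ▸ cm_scalar h.1.symm
  have hne : ⁅y, g⁆ ≠ 1 := cm_eq hy hg ▸ h.symm.2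
  have hrel : y * g * y⁻¹ = ⁅y, g⁆ * g := by rw [commutatorElement_def]; group
  set z : G := ⁅y, g⁆
  obtain ⟨c, hc⟩ := (mem_scalars_iff _).1 hz
  have hc3 : (c : F) ^ 3 = 1 := by
    have h' := congrArg Units.val (hG.scalar_cube z.2 hz)
    rw [Units.val_pow_eq_pow_val, hc, smul_pow, one_pow, Units.val_one] at h'
    simpa using congrFun (congrFun h' 0) 0
  have hc1 : (c : F) ≠ 1 := fun h1 => hne (Subtype.ext (Units.ext (by rw [hc, h1, one_smul]; simp)))
  have hmv : ∀ v, ((g : GL (Fin 3) F) : Mat) *ᵥ (((y : GL (Fin 3) F) : Mat) *ᵥ v) =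
      (c : F)⁻¹ • (((y : GL (Fin 3) F) : Mat) *ᵥ (((g : GL (Fin 3) F) : Mat) *ᵥ v)) := fun v => by
    have e : y * g = z * (g * y) := by rw [← mul_assoc, ← hrel, inv_mul_cancel_right]
    have e' := congrArg (fun u : G => ((u : GL (Fin 3) F) : Mat) *ᵥ v) e
    simp only [Subgroup.coe_mul, mul_mulVec] at e'
    rw [hc, Matrix.smul_mulVec, Matrix.one_mulVec] at e'
    rw [e', smul_smul, inv_mul_cancel₀ c.ne_zero, one_smul]
  obtain ⟨r, r₁, r₂, hr, _⟩ := exists_three_roots (hG.splits _ g.2)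
  obtain ⟨v, hv, hgv⟩ := exists_eigvec (g := (g : GL (Fin 3) F)) (a := r) (by simp [hr])
  have hr0 : r ≠ 0 := ne_zero_of_eigvec hv hgv
  set d : F := (c : F)⁻¹ with hd
  have hd1 : d ≠ 1 := fun e => hc1 (inv_eq_one.1 e)
  have hd3 : d ^ 3 = 1 := by rw [hd, inv_pow, hc3, inv_one]
  set yv : Fin 3 → F := ((y : GL (Fin 3) F) : Mat) *ᵥ v
  set w : Fin 3 → Fin 3 → F := ![v, yv, ((y : GL (Fin 3) F) : Mat) *ᵥ yv]
  set e : Fin 3 → F := r • ![1, d, d ^ 2] with he
  have einj : Function.Injective e := by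
    haveI : Fact (Nat.Prime 3) := ⟨by norm_num⟩
    have ho : orderOf d = 3 := orderOf_eq_prime hd3 hd1
    have he' : ∀ i : Fin 3, e i = r * d ^ (i : ℕ) := fun i => by fin_cases i <;> simp [he]
    intro i j hij
    rw [he', he'] at hij
    exact Fin.ext (pow_injOn_Iio_orderOf (by simp [ho]) (by simp [ho]) (mul_left_cancel₀ hr0 hij))
  have hw : ∀ i, ((g : GL (Fin 3) F) : Mat) *ᵥ w i = e i • w i := by
    have h1 : ((g : GL (Fin 3) F) : Mat) *ᵥ yv = (r * d) • yv := by
      rw [hmv, hgv, Matrix.mulVec_smul, smul_smul, mul_comm]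
    intro i
    fin_cases i
    · simpa [w, he] using hgv
    · simpa [w, he] using h1
    · simp only [w, he]
      show ((g : GL (Fin 3) F) : Mat) *ᵥ (((y : GL (Fin 3) F) : Mat) *ᵥ yv) = _
      rw [hmv, h1, Matrix.mulVec_smul, smul_smul]
      simp
      ring_nf
  have hwne : ∀ i, w i ≠ 0 := by
    intro i h0
    fin_cases i
    · exact hv (by simpa [w] using h0)
    · have := congrArg (fun u => (((y : GL (Fin 3) F)⁻¹ : GL (Fin 3) F) : Mat) *ᵥ u) (show yv = 0 by simpa [w] using h0)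
      simp only [yv, inv_mulVec_mulVec, Matrix.mulVec_zero] at this
      exact hv this
    · have := congrArg (fun u => (((y : GL (Fin 3) F)⁻¹ : GL (Fin 3) F) : Mat) *ᵥ ((((y : GL (Fin 3) F)⁻¹ :
        GL (Fin 3) F) : Mat) *ᵥ u)) (show ((y : GL (Fin 3) F) : Mat) *ᵥ yv = 0 by simpa [w] using h0)
      simp only [yv, inv_mulVec_mulVec, Matrix.mulVec_zero] at this
      exact hv this
  have hli : LinearIndependent F w :=
    Module.End.eigenvectors_linearIndependent' ((g : GL (Fin 3) F) : Mat).toLin' e einj w fun i => by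
      rw [Module.End.hasEigenvector_iff, Module.End.mem_eigenspace_iff]
      exact ⟨by rw [Matrix.toLin'_apply]; exact hw i, hwne i⟩
  have hD := diag3_of_eigen (g := (g : GL (Fin 3) F)) hli e hw
  have hr3 : r ^ 3 = 1 := by
    have := hD.det
    rw [mem_specialLinear.1 (hG.le_specialLinear g.2)] at this
    simp [he] at this
    linear_combination -this - r ^ 3 * hd3
  -- reorder so that conjugation multiplies by `c`
  have hP : Diag3 (g : GL (Fin 3) F) (r • ![1, (c : F), (c : F) ^ 2]) := by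
    have h' := hD.perm (Equiv.swap 1 2)
    have e1 : d = (c : F) ^ 2 := by
      rw [hd]; exact inv_eq_of_mul_eq_one_right (by linear_combination hc3)
    have e2 : d ^ 2 = (c : F) := by rw [e1]; linear_combination (c : F) * hc3
    have : e ∘ Equiv.swap (1 : Fin 3) 2 = r • ![1, (c : F), (c : F) ^ 2] := by
      funext i
      fin_cases i <;> simp [he, e1, Equiv.swap_apply_of_ne_of_ne]
      · left; linear_combination (c : F) * hc3
    rwa [this] at h'
  obtain ⟨B, hgB, hgd⟩ := hP.exists_torus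
  have hinj : Function.Injective (dvec B (g : GL (Fin 3) F)) := injective_of_isReg hgB ⟨e, einj, hD⟩
  have hg3 : g ^ 3 = 1 := Subtype.ext (torus_ext (pow_mem hgB 3) (one_mem _) (by
    rw [Subgroup.coe_pow, Subgroup.coe_one, dvec_pow hgB, dvec_one, hgd]
    funext i
    fin_cases i <;> simp [mul_pow, hr3, hc3]
    rw [← pow_mul, pow_mul', hc3, one_pow]))
  obtain ⟨c', hzB, hzd⟩ := scalar_torus B hz
  have hc' : c' = (c : F) := by
    have h0 := congrFun hzd 0
    have hBz : B * (z : GL (Fin 3) F) * B⁻¹ = z := by rw [(scalar_comm hz B).symm.eq, mul_inv_cancel_right]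
    simp [dvec, hBz, hc] at h0
    exact h0.symm
  refine ⟨B, c, r, hc1, hc3, hr3, hgB, hgd, hinj, hg3, ?_⟩
  rw [← Subgroup.coe_mul, ← InvMemClass.coe_inv, ← Subgroup.coe_mul, hrel, Subgroup.coe_mul]
  refine ⟨mul_mem hzB hgB, ?_⟩
  rw [dvec_mul hzB hgB, hzd, hc']
  rfl

/-- Both elements of a twisted pair have order three. -/
lemma Tw.orderOf_eq {a b : Pro G} (h : Tw a b) : orderOf a = 3 := by
  obtain ⟨B, c, ν, -, -, -, -, -, -, h3, -⟩ := h.coords hG (toPro_sect a) (toPro_sect b)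
  haveI : Fact (Nat.Prime 3) := ⟨by norm_num⟩
  refine orderOf_eq_prime ?_ fun e => h.2 ?_
  · rw [← toPro_sect a, ← map_pow, h3, map_one]
  · rw [e, cm_one_left]

lemma Tw.pow_three {a b : Pro G} (h : Tw a b) : a ^ 3 = 1 := by
  have := pow_orderOf_eq_one a
  rwa [h.orderOf_eq hG] at this

/-- A twisted element is special. -/
lemma Tw.isSpecial {a b : Pro G} (h : Tw a b) {g : G} (hg : toPro G g = a) : IsSpecial G g := by
  obtain ⟨B, c, ν, -, -, -, hgB, -, hinj, -, -⟩ := h.coords hG hg (toPro_sect b)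
  refine ⟨isReg_of_injective hgB hinj, lt_of_le_of_ne (cent0_le_cen g) fun e => h.not_mem_tor ?_⟩
  rw [← hg, tor_eq_cent0, e, hg]
  exact Subgroup.mem_centralizer_singleton_iff.2 h.1.symm.eq

omit hG in
lemma IsSpecial.exists_tw {g : G} (h : IsSpecial G g) : ∃ b, Tw (toPro G g) b := by
  obtain ⟨x, hx, hnx⟩ := SetLike.exists_of_lt h.2
  refine ⟨x, (tw_of_not_mem_tor (Subgroup.mem_centralizer_singleton_iff.1 hx) ?_).symm⟩
  rwa [tor_eq_cent0]

/-- The torus of a twisted element is abelian, even on lifts. -/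
lemma Tw.tor_commute {a b : Pro G} (h : Tw a b) {x z : Pro G} (hx : x ∈ tor a) (hz : z ∈ tor a) :
    Commute x z ∧ cm x z = 1 := by
  obtain ⟨g, rfl⟩ := toPro_surjective a
  obtain ⟨u, rfl⟩ := toPro_surjective x
  obtain ⟨v, rfl⟩ := toPro_surjective z
  obtain ⟨B, c, ν, -, -, -, hgB, -, hinj, -, -⟩ := h.coords hG rfl (toPro_sect b)
  have hu := mem_torus_of_regular hgB hinj (commute_coe.2 (toPro_mem_tor.1 hx))
  have hv := mem_torus_of_regular hgB hinj (commute_coe.2 (toPro_mem_tor.1 hz))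
  have huv : Commute u v := commute_coe.1 (torus_commute hu hv)
  exact ⟨huv.map _, cm_eq_one_iff.2 huv⟩

/-- A twisted pair is its own centraliser. -/
theorem Tw.eq_pow {a b z : Pro G} (h : Tw a b) (ha : Commute z a) (hb : Commute z b) :
    ∃ i < 3, ∃ j < 3, z = a ^ i * b ^ j := by
  obtain ⟨j, hj, ej⟩ := hG.scalar_eq_pow (cm_scalar ha) (cm_scalar h.1.symm) h.symm.2
  obtain ⟨i, hi, ei⟩ := hG.scalar_eq_pow (cm_scalar hb) (cm_scalar h.1) h.2
  refine ⟨i, hi, j, hj, ?_⟩
  set w := z * (a ^ i * b ^ j)⁻¹ with hw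
  have hab : ∀ {x : Pro G}, Commute a x → Commute b x → Commute (a ^ i * b ^ j) x := fun hax hbx =>
    (hax.pow_left i).mul_left (hbx.pow_left j)
  have hwa : w ∈ tor a := by
    refine ⟨ha.mul_left (hab (Commute.refl a) h.1.symm).inv_left, ?_⟩
    rw [hw, cm_mul_left (hab (Commute.refl a) h.1.symm).inv_left, cm_inv_left (hab (Commute.refl a) h.1.symm),
      cm_mul_left (h.1.symm.pow_left j), cm_pow_left (Commute.refl a), cm_pow_left h.1.symm, cm_self, one_pow,
      one_mul, ← ej, mul_inv_cancel]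
  have hwb : w ∈ tor b := by
    refine ⟨hb.mul_left (hab h.1 (Commute.refl b)).inv_left, ?_⟩
    rw [hw, cm_mul_left (hab h.1 (Commute.refl b)).inv_left, cm_inv_left (hab h.1 (Commute.refl b)),
      cm_mul_left ((Commute.refl b).pow_left j), cm_pow_left h.1, cm_pow_left (Commute.refl b), cm_self, one_pow,
      mul_one, ← ei, mul_inv_cancel]
  suffices w = 1 from mul_inv_eq_one.1 this
  obtain ⟨g, rfl⟩ := toPro_surjective a
  obtain ⟨y, rfl⟩ := toPro_surjective b
  obtain ⟨u, hu'⟩ := toPro_surjective w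
  rw [← hu'] at hwa hwb ⊢
  obtain ⟨B, c, ν, hc1, hc3, hν, hgB, hgd, hinj, -, hyB, hyd⟩ := h.coords hG rfl rfl
  have hug := commute_coe.2 (toPro_mem_tor.1 hwa)
  have huB := mem_torus_of_regular hgB hinj hug
  rw [toPro_eq_one]
  refine scalar_of_const huB ?_
  obtain ⟨π, hπ⟩ := exists_perm_conj B (y : GL (Fin 3) F)
  have e1 := hπ _ hgB hyB
  have huy : (y : GL (Fin 3) F) * u * (y : GL (Fin 3) F)⁻¹ = u := by
    rw [← (commute_coe.2 (toPro_mem_tor.1 hwb)).eq, mul_inv_cancel_right]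
  have e2 := hπ _ huB (by rw [huy]; exact huB)
  rw [huy] at e2
  simp only [hyd, Pi.smul_apply, smul_eq_mul] at e1
  have hfix : ∀ i, π i ≠ i := fun k hk => hc1 (mul_right_cancel₀ (dvec_ne_zero hgB k)
    (by rw [one_mul]; simpa [hk] using e1 k))
  intro k
  have hk : π k = 0 ∨ π (π k) = 0 ∨ k = 0 :=
    (by decide : ∀ (π : Equiv.Perm (Fin 3)), (∀ i, π i ≠ i) → ∀ k, π k = 0 ∨ π (π k) = 0 ∨ k = 0) π hfix k
  rcases hk with hk | hk | hk
  · rw [← e2 k, hk]
  · rw [← e2 k, ← e2 (π k), hk]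
  · rw [hk]

/-- The subgroup of a twisted pair. -/
lemma Tw.pow_inj {a b : Pro G} (h : Tw a b) {i j i' j' : ℕ} (hi : i < 3) (hj : j < 3) (hi' : i' < 3) (hj' : j' < 3)
    (e : a ^ i * b ^ j = a ^ i' * b ^ j') : i = i' ∧ j = j' := by
  have hb : cm (a ^ i * b ^ j) b = cm (a ^ i' * b ^ j') b := by rw [e]
  have ha : cm (a ^ i * b ^ j) a = cm (a ^ i' * b ^ j') a := by rw [e]
  simp only [cm_mul_left ((Commute.refl b).pow_left _), cm_pow_left h.1, cm_pow_left (Commute.refl b), cm_self,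
    one_pow, mul_one] at hb
  simp only [cm_mul_left (h.1.symm.pow_left _), cm_pow_left h.1.symm, cm_pow_left (Commute.refl a), cm_self,
    one_pow, one_mul] at ha
  haveI : Fact (Nat.Prime 3) := ⟨by norm_num⟩
  have o1 : orderOf (cm a b) = 3 := orderOf_eq_prime (cm_cube hG h.1) h.2
  have o2 : orderOf (cm b a) = 3 := orderOf_eq_prime (cm_cube hG h.1.symm) h.symm.2
  exact ⟨pow_injOn_Iio_orderOf (by simpa [o1] using hi) (by simpa [o1] using hi') hb,
    pow_injOn_Iio_orderOf (by simpa [o2] using hj) (by simpa [o2] using hj') ha⟩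

end roots

/-- The group generated by a pair. -/
def span2 (a b : Pro G) : Subgroup (Pro G) := Subgroup.closure {a, b}

lemma left_mem_span2 (a b : Pro G) : a ∈ span2 a b := Subgroup.subset_closure (Or.inl rfl)

lemma right_mem_span2 (a b : Pro G) : b ∈ span2 a b := Subgroup.subset_closure (Or.inr rfl)

lemma span2_conj {a b x : Pro G} (n : Pro G) (hx : x ∈ span2 a b) :
    n * x * n⁻¹ ∈ span2 (n * a * n⁻¹) (n * b * n⁻¹) := by
  have : (span2 a b).map (MulAut.conj n).toMonoidHom = span2 (n * a * n⁻¹) (n * b * n⁻¹) := by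
    rw [span2, span2, MonoidHom.map_closure, Set.image_pair]
    rfl
  rw [← this]
  exact ⟨x, hx, rfl⟩

lemma mem_span2_iff (hG : NoTv G) {a b z : Pro G} (h : Tw a b) :
    z ∈ span2 a b ↔ ∃ i < 3, ∃ j < 3, z = a ^ i * b ^ j := by
  refine ⟨fun hz => ?_, ?_⟩
  · have hle : span2 a b ≤ Subgroup.centralizer ({a, b} : Set (Pro G)) := by
      refine (Subgroup.closure_le _).2 ?_
      rintro x (rfl | rfl) <;> refine Subgroup.mem_centralizer_iff.2 ?_ <;> rintro w (rfl | rfl)
      · rfl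
      · exact h.1.symm.eq
      · exact h.1.eq
      · rfl
    have := Subgroup.mem_centralizer_iff.1 (hle hz)
    exact h.eq_pow hG (this a (Or.inl rfl)).symm (this b (Or.inr rfl)).symm
  · rintro ⟨i, -, j, -, rfl⟩
    exact mul_mem (pow_mem (left_mem_span2 a b) i) (pow_mem (right_mem_span2 a b) j)

lemma centralizer_span2 (hG : NoTv G) {a b : Pro G} (h : Tw a b) :
    Subgroup.centralizer ((span2 a b : Subgroup (Pro G)) : Set (Pro G)) = span2 a b := by
  refine le_antisymm (fun z hz => ?_) fun z hz => Subgroup.mem_centralizer_iff.2 fun w hw => ?_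
  · have := Subgroup.mem_centralizer_iff.1 hz
    exact (mem_span2_iff hG h).2 (h.eq_pow hG (this a (left_mem_span2 a b)).symm
      (this b (right_mem_span2 a b)).symm)
  · obtain ⟨i, -, j, -, rfl⟩ := (mem_span2_iff hG h).1 hz
    obtain ⟨i', -, j', -, rfl⟩ := (mem_span2_iff hG h).1 hw
    have c1 : Commute (a ^ i') (a ^ i * b ^ j) := ((Commute.refl a).pow_pow i' i).mul_right (h.1.pow_pow i' j)
    have c2 : Commute (b ^ j') (a ^ i * b ^ j) :=
      (h.1.pow_pow i j').symm.mul_right ((Commute.refl b).pow_pow j' j)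
    exact (c1.mul_left c2).eq

lemma card_span2 (hG : NoTv G) {a b : Pro G} (h : Tw a b) : Nat.card (span2 a b) = 9 := by
  let f : Fin 3 × Fin 3 → span2 a b := fun p => ⟨a ^ (p.1 : ℕ) * b ^ (p.2 : ℕ),
    (mem_span2_iff hG h).2 ⟨p.1, p.1.2, p.2, p.2.2, rfl⟩⟩
  have hf : Function.Bijective f := by
    refine ⟨fun p q e => ?_, fun z => ?_⟩
    · have := h.pow_inj hG p.1.2 p.2.2 q.1.2 q.2.2 (congrArg Subtype.val e)
      exact Prod.ext (Fin.ext this.1) (Fin.ext this.2)
    · obtain ⟨i, hi, j, hj, e⟩ := (mem_span2_iff hG h).1 z.2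
      exact ⟨(⟨i, hi⟩, ⟨j, hj⟩), Subtype.ext e.symm⟩
  rw [← Nat.card_eq_of_bijective f hf]
  simp

end CfsgLib.Geo.D3
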