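/-
A twisted element whose torus has a second element of order three: shears of the groups of order nine, and a
transfer argument showing that the element is conjugate to its inverse.
-/
import Cfsg.Agent.Geo.DimThree.NoTv.Twist

set_option autoImplicit false

namespace CfsgLib.Geo.D3

open Matrix Cfsg Cfsg.Geo CfsgLib.Geo
open scoped IsMulCommutative

variable {F : Type*} [Field F] {G : Subgroup (GL (Fin 3) F)}

local notation "Mat" => Matrix (Fin 3) (Fin 3) F

/-- In a finite p-group a proper subgroup is normalised by an element outside it. -/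
theorem exists_normalizing {H : Type*} [Group H] [Finite H] {p : ℕ} [Fact p.Prime] {Q E : Subgroup H}
    (hQ : IsPGroup p Q) (hle : E ≤ Q) (hne : Q ≠ E) :
    ∃ u ∈ Q, (∀ x ∈ E, u * x * u⁻¹ ∈ E) ∧ u ∉ E := by
  haveI := hQ.isNilpotent
  have htop : E.subgroupOf Q ≠ ⊤ := fun e => hne (le_antisymm (Subgroup.subgroupOf_eq_top.1 e) hle)
  obtain ⟨u, hu, hnu⟩ := SetLike.exists_of_lt
    (Group.normalizerCondition_of_isNilpotent (E.subgroupOf Q) (lt_top_iff_ne_top.2 htop))
  refine ⟨u, u.2, fun x hx => ?_, fun h => hnu (Subgroup.mem_subgroupOf.2 h)⟩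
  have h1 := (Subgroup.mem_normalizer_iff.1 hu ⟨x, hle hx⟩).1 (Subgroup.mem_subgroupOf.2 hx)
  simpa [Subgroup.mem_subgroupOf] using h1

/-- An element of cube one in the torus of `a`, outside the powers of `a`. -/
def Deep (a t : Pro G) : Prop := t ∈ tor a ∧ t ∉ Subgroup.zpowers a ∧ t ^ 3 = 1

/-- Conjugate to its inverse. -/
def Real' (a : Pro G) : Prop := ∃ m : Pro G, m * a * m⁻¹ = a⁻¹

lemma inv_eq_sq {a : Pro G} (h : a ^ 3 = 1) : a⁻¹ = a ^ 2 := inv_eq_of_mul_eq_one_right (by rw [← pow_succ', h])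

lemma tor_inv (a : Pro G) : tor a⁻¹ = tor a := by
  have key : ∀ (a : Pro G), tor a ≤ tor a⁻¹ := fun a z hz =>
    ⟨hz.1.inv_right, by rw [cm_swap a⁻¹ z, cm_inv_left hz.1.symm, cm_swap z a, hz.2, inv_one, inv_one, inv_one]⟩
  refine le_antisymm ?_ (key a)
  simpa using key a⁻¹

lemma tor_conj_mem {a x n : Pro G} (hn : Commute n a) (hx : x ∈ tor a) : n * x * n⁻¹ ∈ tor a := by
  have := tor_conj n hx
  rwa [hn.eq, mul_inv_cancel_right] at this

lemma commute_of_mem_zpowers_tor {a z : Pro G} (hz : z ∈ Subgroup.zpowers a) : z ∈ tor a :=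
  (Subgroup.zpowers_le.2 (self_mem_tor a)) hz

section

variable (hG : NoTv G)
include hG

/-- In the torus of `a`, a regular element with a scalar cube is a power of `a`. -/
theorem Tw.mem_zpowers_of_regular {a b : Pro G} (h : Tw a b) {u : G} (hz : toPro G u ∈ tor a)
    (hreg : IsReg (u : GL (Fin 3) F)) (h3 : ((u ^ 3 : G) : GL (Fin 3) F) ∈ scalars (Fin 3) F) :
    toPro G u ∈ Subgroup.zpowers a := by
  obtain ⟨g, rfl⟩ := toPro_surjective a
  obtain ⟨B, c, ν, hc1, hc3, hν, hgB, hgd, hinj, hg3, -⟩ := h.coords hG rfl (toPro_sect b)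
  have huB := mem_torus_of_regular hgB hinj (commute_coe.2 (toPro_mem_tor.1 hz))
  have hr := injective_of_isReg huB hreg
  obtain ⟨c', -, hzd⟩ := scalar_torus B h3
  have hcube : ∀ i, dvec B (u : GL (Fin 3) F) i ^ 3 = c' := fun i => by
    have := congrFun (dvec_pow huB 3) i
    rw [← Subgroup.coe_pow, hzd] at this
    exact this.symm
  set d := dvec B (u : GL (Fin 3) F) with hd
  have hsum : c ^ 2 + c + 1 = 0 :=
    (mul_eq_zero.1 (show (c - 1) * (c ^ 2 + c + 1) = 0 by linear_combination hc3)).resolve_left (sub_ne_zero.2 hc1)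
  have hroot : ∀ i, i ≠ 0 → d i = c * d 0 ∨ d i = c ^ 2 * d 0 := fun i hi => by
    have h0 : (d i - d 0) * ((d i - c * d 0) * (d i - c ^ 2 * d 0)) = 0 := by
      linear_combination hcube i - hcube 0 + (c * d i * d 0 ^ 2 - d i ^ 2 * d 0) * hsum - (d 0) ^ 3 * hc3
    rcases mul_eq_zero.1 h0 with e | e
    · exact absurd (hr (sub_eq_zero.1 e)) hi
    · exact (mul_eq_zero.1 e).imp sub_eq_zero.1 sub_eq_zero.1
  have hne : d 1 ≠ d 2 := hr.ne (by decide)
  have hg' := congrFun hgd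
  rcases hroot 1 (by decide) with e1 | e1
  · have e2 : d 2 = c ^ 2 * d 0 := (hroot 2 (by decide)).resolve_left fun e => hne (e1.trans e.symm)
    refine Subgroup.mem_zpowers_iff.2 ⟨1, ?_⟩
    rw [zpow_one]
    refine (mul_inv_eq_one.1 ?_).symm
    rw [← map_inv, ← map_mul, toPro_eq_one, Subgroup.coe_mul, InvMemClass.coe_inv]
    refine scalar_of_const (mul_mem huB (inv_mem hgB)) fun i => ?_
    rw [dvec_mul huB (inv_mem hgB), dvec_inv hgB, Pi.mul_apply, Pi.mul_apply, Pi.inv_apply, Pi.inv_apply, hg', hg',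
      ← hd]
    have hc0 : c ≠ 0 := fun e => by simp [e] at hc3
    have hν0 : ν ≠ 0 := fun e => by simp [e] at hν
    fin_cases i <;> simp [e1, e2] <;> field_simp
  · have e2 : d 2 = c * d 0 := (hroot 2 (by decide)).resolve_right fun e => hne (e1.trans e.symm)
    refine Subgroup.mem_zpowers_iff.2 ⟨-1, ?_⟩
    rw [_root_.zpow_neg, zpow_one]
    refine (eq_inv_of_mul_eq_one_left ?_).symm
    rw [← map_mul, toPro_eq_one, Subgroup.coe_mul]
    refine scalar_of_const (mul_mem huB hgB) fun i => ?_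
    rw [dvec_mul huB hgB, Pi.mul_apply, Pi.mul_apply, hg', hg', ← hd]
    fin_cases i
    · rfl
    · simp [e1]; linear_combination d 0 * ν * hc3
    · simp [e2]; linear_combination d 0 * ν * hc3

/-- In the torus of `a`, an element with a lift of cube one is a power of `a`. -/
theorem Tw.mem_zpowers {a b z : Pro G} (h : Tw a b) (hz : z ∈ tor a) {u : G} (hu : toPro G u = z) (h3 : u ^ 3 = 1) :
    z ∈ Subgroup.zpowers a := by
  obtain ⟨g, rfl⟩ := toPro_surjective a
  subst hu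
  obtain ⟨B, c, ν, hc1, hc3, hν, hgB, hgd, hinj, hg3, -⟩ := h.coords hG rfl (toPro_sect b)
  have huB := mem_torus_of_regular hgB hinj (commute_coe.2 (toPro_mem_tor.1 hz))
  by_cases hs : (u : GL (Fin 3) F) ∈ scalars (Fin 3) F
  · rw [toPro_eq_one.2 hs]; exact one_mem _
  have hcube : ∀ i, dvec B (u : GL (Fin 3) F) i ^ 3 = 1 := fun i => by
    have := congrFun (dvec_pow huB 3) i
    rw [← Subgroup.coe_pow, h3, Subgroup.coe_one, dvec_one] at this
    exact this.symm
  have hdet := dvec_det huB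
  rw [mem_specialLinear.1 (hG.le_specialLinear u.2)] at hdet
  by_cases hr : Function.Injective (dvec B (u : GL (Fin 3) F))
  swap
  · exfalso
    obtain ⟨i, hi⟩ := exists_axis huB hr hs
    obtain ⟨j, k, hj, hk, hp⟩ : ∃ j k, j ≠ i ∧ k ≠ i ∧ dvec B (u : GL (Fin 3) F) 0 * dvec B (u : GL (Fin 3) F) 1 *
        dvec B (u : GL (Fin 3) F) 2 = dvec B (u : GL (Fin 3) F) i * dvec B (u : GL (Fin 3) F) j *
          dvec B (u : GL (Fin 3) F) k := by
      rcases (by decide : ∀ i : Fin 3, i = 0 ∨ i = 1 ∨ i = 2) i with rfl | rfl | rfl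
      · exact ⟨1, 2, by decide, by decide, rfl⟩
      · exact ⟨0, 2, by decide, by decide, by ring⟩
      · exact ⟨0, 1, by decide, by decide, by ring⟩
    obtain ⟨e1, e2⟩ := hi j k hj hk
    rw [hp, ← e1] at hdet
    exact e2 (by linear_combination dvec B (u : GL (Fin 3) F) j * hdet + dvec B (u : GL (Fin 3) F) i * hcube j)
  exact h.mem_zpowers_of_regular hG hz (isReg_of_injective huB hr) (by rw [h3]; exact one_mem _)

lemma Tw.exponent_eq {a b : Pro G} (h : Tw a b) {i j : ℕ} (hm : a ^ i * b ^ j ∈ tor a) : j % 3 = 0 := by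
  have e := hm.2
  rw [cm_mul_left (h.1.symm.pow_left j), cm_pow_left (Commute.refl a), cm_pow_left h.1.symm, cm_self, one_pow,
    one_mul] at e
  haveI : Fact (Nat.Prime 3) := ⟨by norm_num⟩
  have := orderOf_dvd_of_pow_eq_one e
  rw [orderOf_eq_prime (cm_cube hG h.1.symm) h.symm.2] at this
  omega

/-- A deep element shears every group of order nine through `a`. -/
theorem Deep.shear {a b t : Pro G} (ht : Deep a t) (h : Tw a b) :
    ∃ i, (i = 1 ∨ i = 2) ∧ t * b * t⁻¹ = a ^ i * b := by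
  obtain ⟨g, rfl⟩ := toPro_surjective a
  obtain ⟨y, rfl⟩ := toPro_surjective b
  obtain ⟨s, rfl⟩ := toPro_surjective t
  obtain ⟨htor, hnz, h3⟩ := ht
  have hy' : toPro G (y * s⁻¹ * y⁻¹) ∈ tor (toPro G g) := by
    rw [map_mul, map_mul, map_inv, map_inv]
    exact tor_conj_mem h.1.symm (inv_mem htor)
  have hcom : Commute s (y * s⁻¹ * y⁻¹) := cm_eq_one_iff.1 (h.tor_commute hG htor hy').2
  have hz : ((s ^ 3 : G) : GL (Fin 3) F) ∈ scalars (Fin 3) F := by rw [← toPro_eq_one, map_pow, h3]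
  have hC : (s * (y * s⁻¹ * y⁻¹)) ^ 3 = 1 := by
    rw [hcom.mul_pow, conj_pow, inv_pow, ← (scalar_comm' (inv_mem hz) y).eq, mul_inv_cancel_right, mul_inv_cancel]
  have hmem : toPro G s * toPro G y * (toPro G s)⁻¹ * (toPro G y)⁻¹ ∈ Subgroup.zpowers (toPro G g) :=
    h.mem_zpowers hG (z := _) (by
      rw [show toPro G s * toPro G y * (toPro G s)⁻¹ * (toPro G y)⁻¹ =
        toPro G s * toPro G (y * s⁻¹ * y⁻¹) by simp only [map_mul, map_inv]; group]
      exact mul_mem htor hy') (u := s * (y * s⁻¹ * y⁻¹)) (by simp only [map_mul, map_inv]; group) hC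
  obtain ⟨n, hn⟩ := Subgroup.mem_zpowers_iff.1 hmem
  have ho := h.orderOf_eq hG
  obtain ⟨i, hi, hin⟩ : ∃ i : ℕ, i < 3 ∧ toPro G g ^ n = toPro G g ^ i := by
    refine ⟨(n % 3).toNat, by omega, ?_⟩
    rw [← zpow_natCast, Int.toNat_of_nonneg (Int.emod_nonneg n (by norm_num))]
    have := (zpow_mod_orderOf (toPro G g) n).symm
    rwa [ho] at this
  have he : toPro G s * toPro G y * (toPro G s)⁻¹ = toPro G g ^ i * toPro G y := by
    rw [← hin, hn, inv_mul_cancel_right]
  refine ⟨i, ?_, he⟩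
  by_contra hcon
  have h0 : i = 0 := by omega
  rw [h0, pow_zero, one_mul] at he
  obtain ⟨p, -, q, hq, e⟩ := h.eq_pow hG htor.1 (show Commute (toPro G s) (toPro G y) from mul_inv_eq_iff_eq_mul.1 he)
  have := h.exponent_eq hG (i := p) (j := q) (e ▸ htor)
  have hq0 : q = 0 := by omega
  rw [hq0, pow_zero, mul_one] at e
  exact hnz (e ▸ Subgroup.npow_mem_zpowers _ _)

/-- Shears along two different lines give an inversion. -/
theorem Tw.real_of_shears {a b : Pro G} (h : Tw a b) {u v : Pro G} {i k : ℕ} (hi : i = 1 ∨ i = 2)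
    (hk : k = 1 ∨ k = 2) (hua : Commute u a) (hub : u * b * u⁻¹ = a ^ i * b) (hvb : Commute v b)
    (hva : v * a * v⁻¹ = b ^ k * a) : Real' a := by
  have ha3 := h.pow_three hG
  have hb3 := h.symm.pow_three hG
  have iter : ∀ {u a b : Pro G} {i : ℕ}, Commute u a → u * b * u⁻¹ = a ^ i * b → ∀ n,
      u ^ n * b * (u ^ n)⁻¹ = a ^ (n * i) * b := by
    intro u a b i hua hub n
    induction n with
    | zero => simp
    | succ n ih =>
      calc u ^ (n + 1) * b * (u ^ (n + 1))⁻¹ = u * (u ^ n * b * (u ^ n)⁻¹) * u⁻¹ := by rw [pow_succ']; group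
        _ = u * a ^ (n * i) * u⁻¹ * (u * b * u⁻¹) := by rw [ih]; group
        _ = a ^ (n * i) * (a ^ i * b) := by rw [hub, (hua.pow_right _).eq, mul_inv_cancel_right]
        _ = a ^ ((n + 1) * i) * b := by rw [← mul_assoc, ← pow_add, add_one_mul]
  have red : ∀ {a : Pro G}, a ^ 3 = 1 → ∀ m r, m % 3 = r → a ^ m = a ^ r := fun {a} ha m r hr => by
    rw [pow_eq_pow_mod m ha, hr]
  set U := u ^ i with hU
  set V := v ^ (2 * k) with hV
  have Ub : U * b * U⁻¹ = a * b := by
    rw [hU, iter hua hub, red ha3 (i * i) 1 (by rcases hi with rfl | rfl <;> rfl), pow_one]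
  have Ua : U * a * U⁻¹ = a := by rw [hU, (hua.pow_left i).eq, mul_inv_cancel_right]
  have Va : V * a * V⁻¹ = b ^ 2 * a := by
    rw [hV, iter hvb hva, red hb3 (2 * k * k) 2 (by rcases hk with rfl | rfl <;> rfl)]
  have Vb : V * b * V⁻¹ = b := by rw [hV, (hvb.pow_left _).eq, mul_inv_cancel_right]
  set w := U * V * U with hw
  have wb : w * b * w⁻¹ = a := by
    calc w * b * w⁻¹ = U * (V * (U * b * U⁻¹) * V⁻¹) * U⁻¹ := by rw [hw]; group
      _ = U * (V * a * V⁻¹ * (V * b * V⁻¹)) * U⁻¹ := by rw [Ub]; group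
      _ = U * (b ^ 2 * (a * b)) * U⁻¹ := by rw [Va, Vb]; group
      _ = U * a * U⁻¹ := by rw [h.1.eq, ← mul_assoc (b ^ 2), ← pow_succ, hb3, one_mul]
      _ = a := Ua
  have wa : w * a * w⁻¹ = b ^ 2 := by
    calc w * a * w⁻¹ = U * (V * (U * a * U⁻¹) * V⁻¹) * U⁻¹ := by rw [hw]; group
      _ = (U * b * U⁻¹) ^ 2 * (U * a * U⁻¹) := by nth_rewrite 1 [Ua]; rw [Va, conj_pow]; group
      _ = a ^ 2 * b ^ 2 * a := by rw [Ub, Ua, h.1.mul_pow]
      _ = b ^ 2 := by rw [mul_assoc, ← (h.1.pow_right 2).eq, ← mul_assoc, ← pow_succ, ha3, one_mul]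
  refine ⟨w * w, ?_⟩
  rw [inv_eq_sq ha3]
  calc w * w * a * (w * w)⁻¹ = w * (w * a * w⁻¹) * w⁻¹ := by group
    _ = a ^ 2 := by rw [wa, ← conj_pow, wb]

/-- A conjugate of `a` off its torus but commuting with it forces an inversion. -/
theorem real_of_fused {a b t n : Pro G} (h : Tw a b) (ht : Deep a t) (hb : n * a * n⁻¹ = b) : Real' a := by
  obtain ⟨i, hi, hi'⟩ := ht.shear hG h
  have ht' : Deep b (n * t * n⁻¹) := by
    refine ⟨hb ▸ tor_conj n ht.1, fun hm => ht.2.1 ?_, by rw [conj_pow, ht.2.2, mul_one, mul_inv_cancel]⟩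
    obtain ⟨m, hm⟩ := Subgroup.mem_zpowers_iff.1 hm
    refine Subgroup.mem_zpowers_iff.2 ⟨m, ?_⟩
    rw [← hb, conj_zpow] at hm
    simpa using hm
  obtain ⟨k, hk, hk'⟩ := ht'.shear hG h.symm
  exact h.real_of_shears hG hi hk ht.1.1 hi' ht'.1.1 hk'

/-- An element outside a group of order nine that normalises it and fixes one of its elements shears it. -/
theorem Tw.shear_of_normalizer {r a u : Pro G} (h : Tw a r) (hur : Commute u r)
    (hu : u * a * u⁻¹ ∈ span2 a r) (hnm : u ∉ span2 a r) :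
    ∃ k, (k = 1 ∨ k = 2) ∧ u * a * u⁻¹ = r ^ k * a := by
  obtain ⟨p, hp, q, hq, e⟩ := (mem_span2_iff hG h).1 hu
  have hcm : cm (u * a * u⁻¹) r = cm a r := by
    conv_rhs => rw [← cm_conj h.1 u]
    rw [hur.eq, mul_inv_cancel_right]
  rw [e, cm_mul_left ((Commute.refl r).pow_left q), cm_pow_left h.1, cm_pow_left (Commute.refl r), cm_self,
    one_pow, mul_one] at hcm
  haveI : Fact (Nat.Prime 3) := ⟨by norm_num⟩
  have ho : orderOf (cm a r) = 3 := orderOf_eq_prime (cm_cube hG h.1) h.2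
  have hp1 : p = 1 :=
    pow_injOn_Iio_orderOf (x := cm a r) (by simpa [ho] using hp) (by simp [ho]) (hcm.trans (pow_one _).symm)
  rw [hp1, pow_one] at e
  refine ⟨q, ?_, by rw [e, (h.1.pow_right q).eq]⟩
  by_contra hcon
  have hq0 : q = 0 := by omega
  rw [hq0, pow_zero, mul_one] at e
  exact hnm ((mem_span2_iff hG h).2 (h.eq_pow hG (mul_inv_eq_iff_eq_mul.1 e) hur))

variable [Finite F]

/-- The group of order nine through an element off the torus is Sylow in its centraliser, or `a` is real. -/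
theorem span2_max_or_real {a r t : Pro G} (h : Tw a r) (ht : Deep a t) :
    Real' a ∨ ∀ Q : Subgroup (Pro G), IsPGroup 3 Q → Q ≤ cen r → span2 a r ≤ Q → Q = span2 a r := by
  refine or_iff_not_imp_left.2 fun hreal Q hQ hQr hle => ?_
  haveI : Fact (Nat.Prime 3) := ⟨by norm_num⟩
  by_contra hne
  obtain ⟨u, huQ, hu, hnm⟩ := exists_normalizing hQ hle hne
  obtain ⟨i, hi, hi'⟩ := ht.shear hG h
  have hur : Commute u r := Subgroup.mem_centralizer_singleton_iff.1 (hQr huQ)
  obtain ⟨k, hk, hk'⟩ := h.shear_of_normalizer hG hur (hu a (left_mem_span2 a r)) hnm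
  exact hreal (h.real_of_shears hG hi hk ht.1.1 hi' hur hk')

end

end CfsgLib.Geo.D3
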