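/-
A deep twisted element is conjugate to its inverse: otherwise the transfer to the scalars is not trivial.
-/
import Cfsg.Agent.Geo.DimThree.NoTv.Shear
import Mathlib.GroupTheory.Transfer

set_option autoImplicit false
set_option linter.unusedSectionVars false

namespace CfsgLib.Geo.D3

open Matrix Cfsg Cfsg.Geo CfsgLib.Geo
open scoped IsMulCommutative Pointwise

section transfer

/-- A homomorphism from a subgroup of index prime to three that is invariant under fusion extends by transfer. -/
theorem exists_extend_of_invariant {H A : Type*} [Group H] [Finite H] [CommGroup A] (P : Subgroup H)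
    (φ : P →* A) (hinv : ∀ r s : P, IsConj (r : H) (s : H) → φ r = φ s) (g : P) :
    ∃ V : H →* A, V g = φ g ^ P.index := by
  classical
  haveI : P.FiniteIndex := ⟨Subgroup.index_ne_zero_of_finite⟩
  refine ⟨φ.transfer, ?_⟩
  letI := Fintype.ofFinite (Quotient (MulAction.orbitRel (Subgroup.zpowers (g : H)) (H ⧸ P)))
  rw [MonoidHom.transfer_eq_prod_quotient_orbitRel_zpowers_quot]
  calc _ = ∏ q : Quotient (MulAction.orbitRel (Subgroup.zpowers (g : H)) (H ⧸ P)),
        φ g ^ Function.minimalPeriod ((g : H) • ·) q.out := by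
        refine Finset.prod_congr rfl fun q _ => ?_
        rw [← map_pow]
        refine hinv _ _ (isConj_iff.2 ⟨(q.out.out : H), ?_⟩)
        simp only [SubmonoidClass.coe_pow]
        group
    _ = φ g ^ P.index := by
        rw [Finset.prod_pow_eq_pow_sum]
        congr 1
        letI := Fintype.ofFinite (H ⧸ P)
        rw [Subgroup.index, Nat.card_eq_fintype_card,
          Fintype.card_congr (MulAction.selfEquivSigmaOrbits (Subgroup.zpowers (g : H)) (H ⧸ P)), Fintype.card_sigma]
        refine Finset.sum_congr rfl fun q _ => ?_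
        letI := Fintype.ofFinite (MulAction.orbit (Subgroup.zpowers (g : H)) q.out)
        have e := MulAction.minimalPeriod_eq_card (a := (g : H)) (b := q.out)
        exact e

end transfer

variable {F : Type*} [Field F] [Finite F] {G : Subgroup (GL (Fin 3) F)}

/-- The scalars of the group. -/
abbrev scG (G : Subgroup (GL (Fin 3) F)) : Subgroup G := (scalars (Fin 3) F).subgroupOf G

instance scG_comm (G : Subgroup (GL (Fin 3) F)) : IsMulCommutative ↥(scG G) :=
  ⟨⟨fun x y => Subtype.ext (scalar_comm' x.2 _).eq⟩⟩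

/-- The commutator with `a` on a subgroup of its centraliser. -/
noncomputable def cmHom {a : Pro G} (P : Subgroup (Pro G)) (hP : P ≤ cen a) : P →* ↥(scG G) where
  toFun z := ⟨cm z a, cm_scalar (Subgroup.mem_centralizer_singleton_iff.1 (hP z.2))⟩
  map_one' := Subtype.ext (cm_one_left a)
  map_mul' x y := Subtype.ext (cm_mul_left (Subgroup.mem_centralizer_singleton_iff.1 (hP y.2)))

variable (hG : NoTv G)
include hG

/-- A simple non-abelian group has no nontrivial homomorphism to an abelian group. -/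
lemma NoTv.hom_trivial {A : Type*} [CommGroup A] (V : Pro G →* A) (x : Pro G) : V x = 1 := by
  haveI := hG.simple
  rcases IsSimpleGroup.eq_bot_or_eq_top_of_normal V.ker (MonoidHom.normal_ker V) with h | h
  · refine absurd ⟨⟨fun p q => (MonoidHom.ker_eq_bot_iff V).1 h ?_⟩⟩ hG.nonabelian
    rw [map_mul, map_mul, mul_comm]
  · exact MonoidHom.mem_ker.1 (h ▸ Subgroup.mem_top x)

/-- A conjugate of `a` in a twisted position to it, or `a` real. -/
theorem real_of_conj_tor {a b t r : Pro G} (h : Tw a b) (ht : Deep a t) (hr : Tw r a) {n : Pro G}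
    (hn : n * r * n⁻¹ ∈ tor a) : Real' a := by
  obtain ⟨u, hu⟩ := toPro_surjective (G := G) (n * r * n⁻¹)
  obtain ⟨B, c, ν, -, -, -, -, -, -, h3, -⟩ := (hr.conj n).coords hG hu (toPro_sect _)
  obtain ⟨m, hm⟩ := Subgroup.mem_zpowers_iff.1 (h.mem_zpowers hG hn hu h3)
  have ho := h.orderOf_eq hG
  have ha3 := h.pow_three hG
  rw [← zpow_mod_orderOf, ho] at hm
  have hne : n * r * n⁻¹ ≠ 1 := fun e => by
    have := hr.orderOf_eq hG
    rw [conj_eq_one_iff] at e
    rw [e, orderOf_one] at this
    omega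
  have hcases : m % ((3 : ℕ) : ℤ) = 0 ∨ m % ((3 : ℕ) : ℤ) = 1 ∨ m % ((3 : ℕ) : ℤ) = 2 := by omega
  rcases hcases with e | e | e
  · rw [e, zpow_zero] at hm
    exact absurd hm.symm hne
  · rw [e, zpow_one] at hm
    refine real_of_fused hG hr.symm ht (n := n⁻¹) ?_
    rw [hm]; group
  · rw [e] at hm
    have hr2 : n⁻¹ * a * n = r ^ 2 := by
      have e2 : a ^ 2 = n * r * n⁻¹ := by rw [← hm]; norm_cast
      calc n⁻¹ * a * n = n⁻¹ * (a ^ 2) ^ 2 * n := by
            rw [← pow_mul, pow_eq_pow_mod (2 * 2) ha3, pow_one]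
        _ = r ^ 2 := by rw [e2, conj_pow]; group
    have hr' : Tw a (r ^ 2) := by
      refine ⟨hr.1.symm.pow_right 2, fun e => hr.2 ?_⟩
      have e' := cm_mul_right (hr.1.symm) (hr.1.symm)
      rw [← sq r, e, ← sq] at e'
      have h1 : cm a r = 1 := by
        have := cm_cube hG hr.1.symm
        rw [pow_succ, ← e', one_mul] at this
        exact this
      rw [cm_swap a r, h1, inv_one]
    refine real_of_fused hG hr' ht (n := n⁻¹) ?_
    rw [inv_inv]; exact hr2

/-- A deep twisted element is real. -/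
theorem real_of_deep {a b t : Pro G} (h : Tw a b) (ht : Deep a t) {S : Subgroup (Pro G)} (hS : IsPGroup 3 S)
    (hSc : S ≤ cen a) (haS : a ∈ S) (hbS : b ∈ S) (htS : t ∈ S) : Real' a := by
  haveI : Fact (Nat.Prime 3) := ⟨by norm_num⟩
  by_contra hreal
  obtain ⟨Q, hQ⟩ := (hS.of_equiv (Subgroup.subgroupOfEquivOfLe hSc).symm).exists_le_sylow
  set P := (Q : Subgroup (cen a)).map (cen a).subtype with hPdef
  have hPc : P ≤ cen a := Subgroup.map_subtype_le _
  have hSP : S ≤ P := fun x hx => ⟨⟨x, hSc hx⟩, hQ (Subgroup.mem_subgroupOf.2 hx), rfl⟩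
  have hPp : IsPGroup 3 P := Q.isPGroup'.map _
  obtain ⟨P', hP'⟩ := hPp.exists_le_sylow
  have hPP : (P' : Subgroup (Pro G)) = P := by
    by_contra hne
    obtain ⟨n, hn, hnorm, hnP⟩ := exists_normalizing P'.isPGroup' hP' hne
    have hcen : ∀ x ∈ P, Commute (n * a * n⁻¹) x := fun x hx => by
      have h1 : Commute a (n⁻¹ * x * n) := by
        have hm : n⁻¹ * x * n ∈ P := by
          have hpow : ∀ k : ℕ, ∀ y ∈ P, n ^ k * y * (n ^ k)⁻¹ ∈ P := fun k => by
            induction k with
            | zero => intro y hy; simpa using hy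
            | succ k ih =>
              intro y hy
              have := hnorm _ (ih y hy)
              rw [pow_succ']
              convert this using 1
              group
          have hk := hpow (orderOf n - 1) x hx
          have : n ^ (orderOf n - 1) = n⁻¹ := by
            refine eq_inv_of_mul_eq_one_left ?_
            rw [← pow_succ, Nat.sub_add_cancel (orderOf_pos n), pow_orderOf_eq_one]
          rwa [this, inv_inv] at hk
        exact (Subgroup.mem_centralizer_singleton_iff.1 (hPc hm) : n⁻¹ * x * n * a = _).symm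
      have := (Commute.conj_iff n).2 h1
      rwa [show n * (n⁻¹ * x * n) * n⁻¹ = x by group] at this
    obtain ⟨p, hp, q, hq, e⟩ := h.eq_pow hG (hcen a (hSP haS)) (hcen b (hSP hbS))
    obtain ⟨i, hi, hi'⟩ := ht.shear hG h
    have ha3 := h.pow_three hG
    have hq0 : q = 0 := by
      have h2 : t * (n * a * n⁻¹) * t⁻¹ = n * a * n⁻¹ := by
        rw [← (hcen t (hSP htS)).eq, mul_inv_cancel_right]
      rw [e] at h2
      have h3 : t * (a ^ p * b ^ q) * t⁻¹ = a ^ p * (a ^ i * b) ^ q := by
        rw [← hi', conj_pow]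
        calc t * (a ^ p * b ^ q) * t⁻¹ = t * a ^ p * t⁻¹ * (t * b ^ q * t⁻¹) := by group
          _ = _ := by rw [(ht.1.1.pow_right p).eq, mul_inv_cancel_right]
      rw [h3, mul_left_cancel_iff, (h.1.pow_left i).mul_pow] at h2
      have h4 : (a ^ i) ^ q = a ^ 0 := by rw [pow_zero]; exact mul_eq_right.1 h2
      rw [← pow_mul, pow_eq_pow_iff_modEq, h.orderOf_eq hG, Nat.ModEq] at h4
      rcases hi with rfl | rfl <;> omega
    rw [hq0, pow_zero, mul_one] at e
    interval_cases p
    · rw [pow_zero, conj_eq_one_iff] at e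
      have := h.orderOf_eq hG
      rw [e, orderOf_one] at this
      omega
    · rw [pow_one] at e
      have hnc : n ∈ cen a := Subgroup.mem_centralizer_singleton_iff.2 (mul_inv_eq_iff_eq_mul.1 e)
      have hle : P ≤ (P' : Subgroup (Pro G)) ⊓ cen a := le_inf hP' hPc
      have hp2 : IsPGroup 3 (((P' : Subgroup (Pro G)) ⊓ cen a).subgroupOf (cen a)) :=
        (P'.isPGroup'.to_le inf_le_left).of_equiv (Subgroup.subgroupOfEquivOfLe inf_le_right).symm
      have := Q.is_maximal' hp2 fun x hx => Subgroup.mem_subgroupOf.2 (hle ⟨x, hx, rfl⟩)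
      exact hnP ⟨⟨n, hnc⟩, this.le (Subgroup.mem_subgroupOf.2 ⟨hn, hnc⟩), rfl⟩
    · exact hreal ⟨n, by rw [inv_eq_sq ha3, e]⟩
  -- the Sylow subgroup lies in the centraliser
  let φ := cmHom P hPc
  have key : ∀ r s : P, (φ r).1 ≠ 1 → ∀ g : Pro G, g * (r : Pro G) * g⁻¹ = s → φ r = φ s := by
    intro r s hrne g hg
    have hrc : Commute (r : Pro G) a := Subgroup.mem_centralizer_singleton_iff.1 (hPc r.2)
    have hsc : Commute (s : Pro G) a := Subgroup.mem_centralizer_singleton_iff.1 (hPc s.2)
    have hr : Tw (r : Pro G) a := ⟨hrc, hrne⟩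
    by_cases hs1 : cm (s : Pro G) a = 1
    · exact absurd (real_of_conj_tor hG h ht hr (hg ▸ (⟨hsc, hs1⟩ : (s : Pro G) ∈ tor a))) hreal
    have hs : Tw (s : Pro G) a := ⟨hsc, hs1⟩
    have hmax := (span2_max_or_real hG hs.symm ht).resolve_left hreal
    have hle : ∀ x ∈ span2 a (r : Pro G), g * x * g⁻¹ ∈ cen (s : Pro G) := by
      intro x hx
      obtain ⟨i, -, j, -, rfl⟩ := (mem_span2_iff hG hr.symm).1 hx
      rw [← hg]
      refine Subgroup.mem_centralizer_singleton_iff.2 ((Commute.conj_iff g).2 ?_)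
      exact (hrc.symm.pow_left i).mul_left ((Commute.refl (r : Pro G)).pow_left j)
    have h9 : ∀ {x y : Pro G}, Tw x y → IsPGroup 3 (span2 x y) := fun {x y} hxy =>
      IsPGroup.of_card (n := 2) (by rw [card_span2 hG hxy]; norm_num)
    have hsr : span2 a (s : Pro G) ≤ cen (s : Pro G) := fun x hx => by
      obtain ⟨i, -, j, -, rfl⟩ := (mem_span2_iff hG hs.symm).1 hx
      exact Subgroup.mem_centralizer_singleton_iff.2
        ((hsc.symm.pow_left i).mul_left ((Commute.refl (s : Pro G)).pow_left j))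
    obtain ⟨Q1, hQ1⟩ := ((h9 hs.symm).of_equiv (Subgroup.subgroupOfEquivOfLe hsr).symm).exists_le_sylow
    have hQ1e : (Q1 : Subgroup (cen (s : Pro G))).map (cen (s : Pro G)).subtype = span2 a (s : Pro G) :=
      hmax _ (Q1.isPGroup'.map _) (Subgroup.map_subtype_le _) fun x hx =>
        ⟨⟨x, hsr hx⟩, hQ1 (Subgroup.mem_subgroupOf.2 hx), rfl⟩
    have hgle : span2 (g * a * g⁻¹) (g * r * g⁻¹) ≤ cen (s : Pro G) := fun x hx => by
      have := hle (g⁻¹ * x * g) (by
        have := span2_conj g⁻¹ hx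
        simpa [mul_assoc] using this)
      simpa [mul_assoc] using this
    obtain ⟨Q2, hQ2⟩ := ((h9 (hr.symm.conj g)).of_equiv (Subgroup.subgroupOfEquivOfLe hgle).symm).exists_le_sylow
    obtain ⟨c, hc⟩ := MulAction.exists_smul_eq (cen (s : Pro G)) Q2 Q1
    have hmem : (c : Pro G) * (g * a * g⁻¹) * (c : Pro G)⁻¹ ∈ span2 a (s : Pro G) := by
      rw [← hQ1e]
      refine ⟨c * ⟨g * a * g⁻¹, hgle (left_mem_span2 _ _)⟩ * c⁻¹, ?_, rfl⟩
      rw [← hc, Sylow.coe_subgroup_smul]
      exact Subgroup.smul_mem_pointwise_smul _ (MulAut.conj c) _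
        (hQ2 (Subgroup.mem_subgroupOf.2 (left_mem_span2 _ _)))
    set k := (c : Pro G) * g with hk
    have hcs : Commute (c : Pro G) s := Subgroup.mem_centralizer_singleton_iff.1 c.2
    have hkr : k * (r : Pro G) * k⁻¹ = s := by
      rw [hk, show (c : Pro G) * g * r * ((c : Pro G) * g)⁻¹ = c * (g * r * g⁻¹) * (c : Pro G)⁻¹ by group, hg,
        hcs.eq, mul_inv_cancel_right]
    obtain ⟨i, hi, j, hj, e⟩ := (mem_span2_iff hG hs.symm).1 hmem
    have hka : k * a * k⁻¹ = a ^ i * (s : Pro G) ^ j := by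
      rw [← e, hk]; group
    have hca : Commute (k * a * k⁻¹) a := by
      rw [hka]; exact ((Commute.refl a).pow_left i).mul_left (hsc.pow_left j)
    by_cases hin : k * a * k⁻¹ ∈ tor a
    · have hj0 := hs.symm.exponent_eq hG (hka ▸ hin)
      have : j = 0 := by omega
      rw [this, pow_zero, mul_one] at hka
      interval_cases i
      · rw [pow_zero, conj_eq_one_iff] at hka
        have := h.orderOf_eq hG
        rw [hka, orderOf_one] at this
        omega
      · rw [pow_one] at hka
        refine Subtype.ext ?_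
        show cm (r : Pro G) a = cm (s : Pro G) a
        conv_rhs => rw [← hkr, ← hka]
        exact (cm_conj hrc k).symm
      · exact absurd ⟨k, by rw [inv_eq_sq (h.pow_three hG), hka]⟩ hreal
    · exact absurd (real_of_fused hG (tw_of_not_mem_tor hca hin).symm ht rfl) hreal
  have hinv : ∀ r s : P, IsConj (r : Pro G) (s : Pro G) → φ r = φ s := by
    intro r s hc
    obtain ⟨g, hg⟩ := isConj_iff.1 hc
    by_cases h1 : (φ r).1 = 1
    · by_cases h2 : (φ s).1 = 1
      · exact Subtype.ext (h1.trans h2.symm)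
      · exact (key s r h2 g⁻¹ (by rw [← hg]; group)).symm
    · exact key r s h1 g hg
  obtain ⟨V, hV⟩ := exists_extend_of_invariant P φ hinv ⟨b, hSP hbS⟩
  rw [hG.hom_trivial V] at hV
  have hne : φ ⟨b, hSP hbS⟩ ≠ 1 := fun e => h.symm.2 (congrArg Subtype.val e)
  have h3 : φ ⟨b, hSP hbS⟩ ^ 3 = 1 := Subtype.ext (cm_cube hG h.1.symm)
  have hidx : ¬ 3 ∣ P.index := hPP ▸ P'.not_dvd_index
  have := orderOf_dvd_of_pow_eq_one hV.symm
  rw [orderOf_eq_prime h3 hne] at this
  exact hidx this

end CfsgLib.Geo.D3
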