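/-
No deep twisted element: a second element of order three in the torus would lie, with an inverting involution,
in the centraliser of an involution, against the possible shapes of that centraliser.
-/
import Cfsg.Agent.Geo.DimThree.NoTv.DeepReal

set_option autoImplicit false
set_option linter.unusedSectionVars false

namespace CfsgLib.Geo.D3

open Matrix Cfsg Cfsg.Geo CfsgLib.Geo

variable {F : Type*} [Field F] [Finite F] {G : Subgroup (GL (Fin 3) F)}

local notation "Mat" => Matrix (Fin 3) (Fin 3) F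

/-- The facts about involutions that block E uses. -/
structure InvFacts (G : Subgroup (GL (Fin 3) F)) : Prop where
  one : ∀ {s t : Pro G}, orderOf s = 2 → orderOf t = 2 → IsConj s t
  cases : ∀ {t : Pro G}, orderOf t = 2 →
    CentDih t ∨ CentAb t ∨ CentBig t ∨ Cent48 t ∨ Cent96 t ∨ Cent24 t
  comm : ∀ {x : G}, toPro G x ≠ 1 → ∀ {a b : Pro G}, orderOf a = 2 → orderOf b = 2 → a ≠ b →
    Commute a (toPro G x) → Commute b (toPro G x) → Commute a b ∨
      ∃ c : Pro G, orderOf c = 2 ∧ Commute c a ∧ Commute c b ∧ cen (toPro G x) ≤ cen c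

section groups

variable {H : Type*} [Group H] [Finite H]

/-- Elements of odd order lie in a subgroup of index two. -/
lemma mem_of_two_mul_card {K C : Subgroup H} (hle : K ≤ C) (h : Nat.card C = 2 * Nat.card K) {x : H}
    (hx : x ∈ C) (hodd : Odd (orderOf x)) : x ∈ K := by
  have hi : (K.subgroupOf C).index = 2 := by
    have e := (K.subgroupOf C).card_mul_index
    rw [Nat.card_congr (Subgroup.subgroupOfEquivOfLe hle).toEquiv, h, mul_comm 2] at e
    exact Nat.eq_of_mul_eq_mul_left (Nat.card_pos) e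
  have h2 : x ^ 2 ∈ K := Subgroup.mem_subgroupOf.1 (Subgroup.sq_mem_of_index_two hi (⟨x, hx⟩ : C))
  obtain ⟨k, hk⟩ := hodd
  have : x = (x ^ 2) ^ (k + 1) := by
    rw [← pow_mul, show 2 * (k + 1) = orderOf x + 1 by omega, pow_succ, pow_orderOf_eq_one, one_mul]
  rw [this]
  exact pow_mem h2 _

/-- An abelian subgroup of index two with a central element outside makes the group abelian. -/
lemma comm_of_central_outside {K C : Subgroup H} (hK : IsMulCommutative K) (hle : K ≤ C)
    (h : Nat.card C = 2 * Nat.card K) {j : H} (hj : j ∈ C) (hjK : j ∉ K) (hjc : ∀ x ∈ K, Commute j x)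
    {x y : H} (hx : x ∈ C) (hy : y ∈ C) : Commute x y := by
  have hi : (K.subgroupOf C).index = 2 := by
    have e := (K.subgroupOf C).card_mul_index
    rw [Nat.card_congr (Subgroup.subgroupOfEquivOfLe hle).toEquiv, h, mul_comm 2] at e
    exact Nat.eq_of_mul_eq_mul_left (Nat.card_pos) e
  have hdec : ∀ z ∈ C, z ∈ K ∨ j⁻¹ * z ∈ K := fun z hz => by
    by_cases hzK : z ∈ K
    · exact Or.inl hzK
    · refine Or.inr (Subgroup.mem_subgroupOf.1 ((Subgroup.mul_mem_iff_of_index_two hi (a := (⟨j, hj⟩ : C)⁻¹)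
        (b := (⟨z, hz⟩ : C))).2 ⟨fun h' => ?_, fun h' => absurd (Subgroup.mem_subgroupOf.1 h') hzK⟩))
      exact absurd (Subgroup.mem_subgroupOf.1 (by simpa using inv_mem h')) hjK
  have hKc : ∀ a ∈ K, ∀ b ∈ K, Commute a b := fun a ha b hb =>
    congrArg Subtype.val (hK.is_comm.comm ⟨a, ha⟩ ⟨b, hb⟩)
  have hjall : ∀ z ∈ C, Commute j z := fun z hz => by
    rcases hdec z hz with hk | hk
    · exact hjc z hk
    · have := (Commute.refl j).mul_right (hjc _ hk)
      rwa [mul_inv_cancel_left] at this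
  rcases hdec x hx with hx' | hx' <;> rcases hdec y hy with hy' | hy'
  · exact hKc x hx' y hy'
  · rw [← mul_inv_cancel_left j y]
    exact (hjall x hx).symm.mul_right (hKc x hx' _ hy')
  · rw [← mul_inv_cancel_left j x]
    exact (hjall y hy).mul_left (hKc _ hx' y hy')
  · rw [← mul_inv_cancel_left j x]
    refine (hjall y hy).mul_left ?_
    rw [← mul_inv_cancel_left j y]
    exact (hjc _ hx').symm.mul_right (hKc _ hx' _ hy')

/-- Two commuting elements of order three generating more than a group of order three. -/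
lemma nine_dvd {C : Subgroup H} {a t : H} (ha : a ∈ C) (ht : t ∈ C) (hc : Commute a t) (ha3 : orderOf a = 3)
    (ht3 : t ^ 3 = 1) (hnt : t ∉ Subgroup.zpowers a) : 9 ∣ Nat.card C := by
  set E := Subgroup.zpowers a ⊔ Subgroup.zpowers t
  have hE : E ≤ C := sup_le (Subgroup.zpowers_le.2 ha) (Subgroup.zpowers_le.2 ht)
  haveI : Fact (Nat.Prime 3) := ⟨by norm_num⟩
  have hp : ∀ x : H, x ^ 3 = 1 → IsPGroup 3 (Subgroup.zpowers x) := fun x hx =>
    fun ⟨g, hg⟩ => ⟨1, Subtype.ext (by
      obtain ⟨n, rfl⟩ := Subgroup.mem_zpowers_iff.1 hg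
      show (x ^ n) ^ (3 ^ 1) = 1
      rw [pow_one, ← zpow_natCast, ← _root_.zpow_mul, mul_comm, _root_.zpow_mul, zpow_natCast, hx, _root_.one_zpow])⟩
  have hEp : IsPGroup 3 E := (hp a (by rw [← ha3, pow_orderOf_eq_one])).to_sup_of_normal_right' (hp t ht3) (by
    intro x hx
    obtain ⟨n, rfl⟩ := Subgroup.mem_zpowers_iff.1 hx
    refine Subgroup.centralizer_le_normalizer _ (Subgroup.mem_centralizer_iff.2 fun y hy => ?_)
    obtain ⟨m, rfl⟩ := Subgroup.mem_zpowers_iff.1 hy
    exact ((hc.symm.zpow_left m).zpow_right n).eq)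
  obtain ⟨k, hk⟩ := IsPGroup.iff_card.1 hEp
  have hlt : Subgroup.zpowers a < E := lt_of_le_of_ne le_sup_left fun e =>
    hnt (e.ge (Subgroup.mem_sup_right (Subgroup.mem_zpowers t)))
  have h3 : Nat.card (Subgroup.zpowers a) < Nat.card E :=
    lt_of_le_of_ne (Subgroup.card_le_of_le hlt.le) fun e => hlt.ne (Subgroup.eq_of_le_of_card_ge hlt.le e.ge)
  rw [Nat.card_zpowers, ha3, hk] at h3
  have hk2 : 2 ≤ k := by
    rcases k with _ | _ | k <;> norm_num at h3; omega
  exact (Dvd.intro _ (by rw [← pow_add, Nat.add_sub_cancel' hk2]) : (3 ^ 2) ∣ 3 ^ k).trans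
    (hk ▸ Subgroup.card_dvd_of_le hE)

end groups

/-- Correcting a monomial involution modulo the torus. -/
lemma swap_product {R : Type*} [CommRing R] {ρ π : Equiv.Perm (Fin 3)} {i : Fin 3} {d e : Fin 3 → R}
    (hρi : ρ i = i) (hswap : ∀ k, k ≠ i → ρ k ≠ k) (hfix : ∀ k, π k ≠ k) (hsym : ∀ k, d (ρ k) = d k)
    (he : ∀ k, e (π k) = d k) (l : Fin 3) : e l * d l * e (ρ l) = d 0 * d 1 * d 2 := by
  obtain ⟨j, k, rfl, hji, hki, hjk, hρj, hρk⟩ : ∃ j k, π i = j ∧ j ≠ i ∧ k ≠ i ∧ j ≠ k ∧ ρ j = k ∧ ρ k = j := by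
    refine ⟨π i, ρ (π i), rfl, hfix i, fun e' => hfix i (ρ.injective (e'.trans hρi.symm)),
      (hswap _ (hfix i)).symm, rfl, ?_⟩
    exact (by decide : ∀ (ρ : Equiv.Perm (Fin 3)) i j, ρ i = i → j ≠ i → ρ j ≠ j → ρ (ρ j) = j)
      ρ i _ hρi (hfix i) (hswap _ (hfix i))
  have hd : d k = d (π i) := by rw [← hρj, hsym]
  have huniv : (Finset.univ : Finset (Fin 3)) = {i, π i, k} :=
    (by decide : ∀ i j k : Fin 3, j ≠ i → k ≠ i → j ≠ k → (Finset.univ : Finset (Fin 3)) = {i, j, k})
      i (π i) k hji hki hjk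
  have hprod : d 0 * d 1 * d 2 = d i * d (π i) * d k := by
    rw [← Fin.prod_univ_three d, huniv, Finset.prod_insert (by simp [hji.symm, hki.symm]), Finset.prod_pair hjk,
      mul_assoc]
  have hmem : ∀ w, w = i ∨ w = π i ∨ w = k := fun w => by
    have h := huniv ▸ Finset.mem_univ w
    simpa using h
  have hoff : ∀ w, w ≠ π i → e w = d (π i) := fun w hw => by
    obtain ⟨p, rfl⟩ := π.surjective w
    rw [he]
    rcases hmem p with rfl | rfl | rfl
    · exact absurd rfl hw
    · rfl
    · exact hd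
  rw [hprod, hd]
  rcases hmem l with rfl | rfl | rfl
  · rw [hρi, hoff l hji.symm]; ring
  · rw [hρj, he, hoff k hjk.symm]
  · rw [hρk, he, hoff l hjk.symm, hd]; ring

variable (hG : NoTv G)
include hG

/-- An involution inverting `a` and commuting with a deep element. -/
theorem exists_inverting {a b t : Pro G} (h : Tw a b) (ht : Deep a t) (hreal : Real' a) :
    ∃ j, orderOf j = 2 ∧ Commute j t ∧ j * a * j⁻¹ = a⁻¹ := by
  obtain ⟨g, rfl⟩ := toPro_surjective a
  obtain ⟨y, rfl⟩ := toPro_surjective b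
  obtain ⟨s, rfl⟩ := toPro_surjective t
  obtain ⟨m₀, hm₀⟩ := hreal
  obtain ⟨m, rfl⟩ := toPro_surjective m₀
  obtain ⟨htor, hnz, h3⟩ := ht
  obtain ⟨B, c, ν, hc1, hc3, hν, hgB, hgd, hinj, hg3, hyB, hyd⟩ := h.coords hG rfl rfl
  have hmem : ∀ x : G, toPro G x ∈ tor (toPro G g) → (x : GL (Fin 3) F) ∈ torus B := fun x hx =>
    mem_torus_of_regular hgB hinj (commute_coe.2 (toPro_mem_tor.1 hx))
  have hsB := hmem s htor
  have hsreg : ¬ Function.Injective (dvec B (s : GL (Fin 3) F)) := fun hr =>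
    hnz (h.mem_zpowers_of_regular hG htor (isReg_of_injective hsB hr) (by rw [← toPro_eq_one, map_pow, h3]))
  have hsns : (s : GL (Fin 3) F) ∉ scalars (Fin 3) F := fun e =>
    hnz (by rw [toPro_eq_one.2 e]; exact one_mem _)
  obtain ⟨i, hi⟩ := exists_axis hsB hsreg hsns
  -- move the inverting element so that it fixes the axis
  have hbB : ∀ x : G, (x : GL (Fin 3) F) ∈ torus B → (y : GL (Fin 3) F) * x * (y : GL (Fin 3) F)⁻¹ ∈ torus B := by
    intro x hx
    have hx' : toPro G x ∈ tor (toPro G g) :=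
      toPro_mem_tor.2 (commute_coe.1 (torus_commute hx hgB))
    have := hmem (y * x * y⁻¹) (by
      rw [map_mul, map_mul, map_inv]; exact tor_conj_mem h.1.symm hx')
    simpa using this
  obtain ⟨π, hπ⟩ := exists_perm_conj B (y : GL (Fin 3) F)
  have hfix : ∀ k, π k ≠ k := fun k hk => hc1 (mul_right_cancel₀ (dvec_ne_zero hgB k)
    (by
      have := hπ _ hgB hyB k
      rw [hyd, hk] at this
      simpa using this))
  have hmB : ∀ (n : G), toPro G n * toPro G g * (toPro G n)⁻¹ = (toPro G g)⁻¹ →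
      ∀ x : G, (x : GL (Fin 3) F) ∈ torus B → (n : GL (Fin 3) F) * x * (n : GL (Fin 3) F)⁻¹ ∈ torus B := by
    intro n hn x hx
    have hx' : toPro G x ∈ tor (toPro G g) := toPro_mem_tor.2 (commute_coe.1 (torus_commute hx hgB))
    have := hmem (n * x * n⁻¹) (by
      rw [map_mul, map_mul, map_inv, ← tor_inv (toPro G g), ← hn]; exact tor_conj _ hx')
    simpa using this
  obtain ⟨σ, hσ⟩ := exists_perm_conj B (m : GL (Fin 3) F)
  have hs' := hσ _ hsB (hmB m hm₀ s hsB)
  have hchoice : σ i = i ∨ π (σ i) = i ∨ π (π (σ i)) = i :=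
    (by decide : ∀ (π : Equiv.Perm (Fin 3)), (∀ k, π k ≠ k) → ∀ i j, j = i ∨ π j = i ∨ π (π j) = i) π hfix i (σ i)
  obtain ⟨n, hn, ρ, hρ, hρi⟩ : ∃ n : G, toPro G n * toPro G g * (toPro G n)⁻¹ = (toPro G g)⁻¹ ∧
      ∃ ρ : Equiv.Perm (Fin 3), (∀ x : G, (x : GL (Fin 3) F) ∈ torus B → ∀ k,
        dvec B ((n : GL (Fin 3) F) * x * (n : GL (Fin 3) F)⁻¹) (ρ k) = dvec B (x : GL (Fin 3) F) k) ∧ ρ i = i := by
    have step : ∀ (n : G) (ρ : Equiv.Perm (Fin 3)), toPro G n * toPro G g * (toPro G n)⁻¹ = (toPro G g)⁻¹ →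
        (∀ x : G, (x : GL (Fin 3) F) ∈ torus B → ∀ k,
          dvec B ((n : GL (Fin 3) F) * x * (n : GL (Fin 3) F)⁻¹) (ρ k) = dvec B (x : GL (Fin 3) F) k) →
        toPro G (y * n) * toPro G g * (toPro G (y * n))⁻¹ = (toPro G g)⁻¹ ∧
        ∀ x : G, (x : GL (Fin 3) F) ∈ torus B → ∀ k,
          dvec B (((y * n : G) : GL (Fin 3) F) * x * ((y * n : G) : GL (Fin 3) F)⁻¹) ((ρ.trans π) k) =
            dvec B (x : GL (Fin 3) F) k := by
      intro n ρ hn hρ
      refine ⟨?_, fun x hx k => ?_⟩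
      · rw [map_mul, show toPro G y * toPro G n * toPro G g * (toPro G y * toPro G n)⁻¹ =
          toPro G y * (toPro G n * toPro G g * (toPro G n)⁻¹) * (toPro G y)⁻¹ by group, hn,
          h.1.symm.inv_right.eq, mul_inv_cancel_right]
      · have hx1 := hmB n hn x hx
        rw [Subgroup.coe_mul, show (y : GL (Fin 3) F) * n * x * ((y : GL (Fin 3) F) * n)⁻¹ =
          (y : GL (Fin 3) F) * ((n : GL (Fin 3) F) * x * (n : GL (Fin 3) F)⁻¹) * (y : GL (Fin 3) F)⁻¹ by group,
          Equiv.trans_apply, hπ _ hx1 (by simpa using hbB (n * x * n⁻¹) (by simpa using hx1)), hρ x hx k]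
    have h0 : ∀ x : G, (x : GL (Fin 3) F) ∈ torus B → ∀ k,
        dvec B ((m : GL (Fin 3) F) * x * (m : GL (Fin 3) F)⁻¹) (σ k) = dvec B (x : GL (Fin 3) F) k :=
      fun x hx => hσ _ hx (hmB m hm₀ x hx)
    obtain ⟨h1, h1'⟩ := step m σ hm₀ h0
    obtain ⟨h2, h2'⟩ := step _ _ h1 h1'
    rcases hchoice with e | e | e
    · exact ⟨m, hm₀, σ, h0, e⟩
    · exact ⟨_, h1, _, h1', e⟩
    · exact ⟨_, h2, _, h2', e⟩
  -- it commutes with the deep element, and swaps the two other axes
  have hns : Commute n s := by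
    have e : (n : GL (Fin 3) F) * s * (n : GL (Fin 3) F)⁻¹ = s := by
      refine torus_ext (hmB n hn s hsB) hsB (funext fun k => ?_)
      obtain ⟨l, rfl⟩ := ρ.surjective k
      rw [hρ s hsB l]
      by_cases hl : l = i
      · rw [hl, hρi]
      · exact (hi l (ρ l) hl fun e => hl (ρ.injective (e.trans hρi.symm))).1
    exact commute_coe.1 (mul_inv_eq_iff_eq_mul.1 e)
  obtain ⟨z, hz, hngz⟩ := toPro_coe_eq (G := G) (a := n * g * n⁻¹) (b := g⁻¹) (by
    rw [map_mul, map_mul, map_inv, map_inv, hn])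
  have hn2g : Commute (n * n) g := by
    refine mul_inv_eq_iff_eq_mul.1 ?_
    calc n * n * g * (n * n)⁻¹ = n * (n * g * n⁻¹) * n⁻¹ := by group
      _ = n * (g⁻¹ * z) * n⁻¹ := by rw [hngz]
      _ = (n * g * n⁻¹)⁻¹ * (n * z * n⁻¹) := by group
      _ = (g⁻¹ * z)⁻¹ * z := by rw [hngz, ← (scalar_comm' hz n).eq, mul_inv_cancel_right]
      _ = z⁻¹ * (g * z) := by group
      _ = g := by rw [← (scalar_comm' hz g).eq, inv_mul_cancel_left]
  have hswap : ∀ k, k ≠ i → ρ k ≠ k := by
    intro k hk e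
    have hid : ρ = Equiv.refl _ :=
      (by decide : ∀ (ρ : Equiv.Perm (Fin 3)) i k, ρ i = i → k ≠ i → ρ k = k → ρ = Equiv.refl _) ρ i k hρi hk e
    have hng : (n : GL (Fin 3) F) * g * (n : GL (Fin 3) F)⁻¹ = g := by
      refine torus_ext (hmB n hn g hgB) hgB (funext fun l => ?_)
      have := hρ g hgB l
      rwa [hid] at this
    have e1 : toPro G g = (toPro G g)⁻¹ := by
      rw [← hn, ← map_inv, ← map_mul, ← map_mul]
      exact congrArg _ (Subtype.ext (by simpa using hng.symm))
    have h2 : toPro G g ^ 2 = 1 := by rw [sq]; exact mul_eq_one_iff_eq_inv.2 e1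
    have := orderOf_dvd_of_pow_eq_one h2
    rw [h.orderOf_eq hG] at this
    omega
  -- the correcting diagonal element
  have hm2B := hmem (n * n) (toPro_mem_tor.2 hn2g)
  set t0 : G := y * (n * n) * y⁻¹ with ht0
  have ht0B : (t0 : GL (Fin 3) F) ∈ torus B := by simpa [ht0] using hbB _ hm2B
  set d2 := dvec B ((n * n : G) : GL (Fin 3) F) with hd2
  have hsym : ∀ k, d2 (ρ k) = d2 k := fun k => by
    have := hρ _ hm2B k
    have e : (n : GL (Fin 3) F) * ((n * n : G) : GL (Fin 3) F) * (n : GL (Fin 3) F)⁻¹ = ((n * n : G) : GL (Fin 3) F) := by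
      rw [Subgroup.coe_mul]; group
    rwa [e] at this
  have hdy : ∀ k, dvec B (t0 : GL (Fin 3) F) (π k) = d2 k := fun k => by
    have := hπ _ hm2B (hbB _ hm2B) k
    rw [← hd2] at this
    simpa [ht0] using this
  have hprod : dvec B (((n * t0) * (n * t0) : G) : GL (Fin 3) F) = 1 := by
    have hc' : ((n * t0) * (n * t0) : G) = n * t0 * n⁻¹ * (n * n) * t0 := by group
    have h1 := hmB n hn t0 ht0B
    rw [hc', Subgroup.coe_mul, Subgroup.coe_mul, dvec_mul (mul_mem (by simpa using h1) hm2B) ht0B,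
      dvec_mul (by simpa using h1) hm2B]
    funext k
    obtain ⟨l, rfl⟩ := ρ.surjective k
    simp only [Pi.mul_apply, Pi.one_apply, Subgroup.coe_mul, InvMemClass.coe_inv]
    rw [hρ t0 ht0B l, ← Subgroup.coe_mul, ← hd2, hsym]
    have hdet := dvec_det hm2B
    rw [mem_specialLinear.1 (hG.le_specialLinear (n * n).2), ← hd2] at hdet
    rw [swap_product hρi hswap hfix hsym hdy l, ← hdet]
  have hj2 : (n * t0) * (n * t0) = 1 := by
    refine Subtype.ext (torus_ext (B := B) ?_ (one_mem _) (by rw [hprod, Subgroup.coe_one, dvec_one]))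
    have hc' : ((n * t0) * (n * t0) : G) = n * t0 * n⁻¹ * (n * n) * t0 := by group
    rw [hc', Subgroup.coe_mul, Subgroup.coe_mul]
    exact mul_mem (mul_mem (by simpa using hmB n hn t0 ht0B) hm2B) ht0B
  refine ⟨toPro G (n * t0), ?_, ?_, ?_⟩
  · haveI : Fact (Nat.Prime 2) := ⟨Nat.prime_two⟩
    refine orderOf_eq_prime (by rw [sq, ← map_mul, hj2, map_one]) fun e => ?_
    rw [map_mul, mul_eq_one_iff_eq_inv] at e
    have hmem' : toPro G n ∈ tor (toPro G g) := by
      rw [e]; exact inv_mem (toPro_mem_tor.2 (commute_coe.1 (torus_commute ht0B hgB)))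
    rw [hmem'.1.eq, mul_inv_cancel_right] at hn
    have h2 : toPro G g ^ 2 = 1 := by rw [sq]; exact mul_eq_one_iff_eq_inv.2 hn
    have := orderOf_dvd_of_pow_eq_one h2
    rw [h.orderOf_eq hG] at this
    omega
  · exact Commute.map (hns.mul_left (commute_coe.1 (torus_commute ht0B hsB))) _
  · have : Commute (toPro G t0) (toPro G g) := (commute_coe.1 (torus_commute ht0B hgB)).map _
    rw [map_mul, show toPro G n * toPro G t0 * toPro G g * (toPro G n * toPro G t0)⁻¹ =
      toPro G n * (toPro G t0 * toPro G g * (toPro G t0)⁻¹) * (toPro G n)⁻¹ by group, this.eq,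
      mul_inv_cancel_right, hn]

/-- There is no deep twisted element. -/
theorem no_deep (hB : InvFacts G) {a b t : Pro G} (h : Tw a b) (ht : Deep a t) (hreal : Real' a) : False := by
  obtain ⟨j, hj, hjt, hja⟩ := exists_inverting hG h ht hreal
  have ha3 := h.pow_three hG
  have hao := h.orderOf_eq hG
  have hne : ¬ Commute j a := fun hc => by
    rw [hc.eq, mul_inv_cancel_right] at hja
    have h2 : a ^ 2 = 1 := by rw [sq]; exact mul_eq_one_iff_eq_inv.2 hja
    have := orderOf_dvd_of_pow_eq_one h2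
    rw [hao] at this
    omega
  obtain ⟨s, rfl⟩ := toPro_surjective t
  have ht1 : toPro G s ≠ 1 := fun e => ht.2.1 (e ▸ one_mem _)
  have hat : Commute a (toPro G s) := ht.1.1.symm
  have hj' : orderOf (a * j * a⁻¹) = 2 := by
    rw [← MulEquiv.orderOf_eq (MulAut.conj a) j] at hj
    simpa using hj
  have hab : j ≠ a * j * a⁻¹ := fun e => hne (eq_mul_inv_iff_mul_eq.1 e)
  have hprod : j * (a * j * a⁻¹) = a := by
    rw [← mul_assoc, ← mul_assoc, show j * a = a⁻¹ * j by rw [← hja, inv_mul_cancel_right]]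
    have hjj : j * j = 1 := by rw [← sq, ← hj, pow_orderOf_eq_one]
    rw [mul_assoc a⁻¹, hjj, mul_one, ← _root_.mul_inv_rev, inv_eq_of_mul_eq_one_right (by rw [← pow_three']; exact ha3)]
  obtain ⟨c, hc, hcj, -, hle⟩ : ∃ c : Pro G, orderOf c = 2 ∧ Commute c j ∧ Commute c (a * j * a⁻¹) ∧
      cen (toPro G s) ≤ cen c := by
    rcases hB.comm (x := s) ht1 hj hj' hab hjt
      (by
        have := (Commute.conj_iff a).2 hjt
        rwa [hat.eq, mul_inv_cancel_right] at this) with hcom | hc
    · exfalso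
      have h2 : a ^ 2 = 1 := by
        have e1 : j ^ 2 = 1 := hj ▸ pow_orderOf_eq_one j
        have e2 : (a * j * a⁻¹) ^ 2 = 1 := hj' ▸ pow_orderOf_eq_one _
        rw [← hprod, hcom.mul_pow, e1, e2, mul_one]
      have := orderOf_dvd_of_pow_eq_one h2
      rw [hao] at this
      omega
    · exact hc
  have hac : a ∈ cen c := hle (Subgroup.mem_centralizer_singleton_iff.2 hat.eq)
  have htc : toPro G s ∈ cen c := hle (Subgroup.mem_centralizer_singleton_iff.2 rfl)
  have hjc : j ∈ cen c := Subgroup.mem_centralizer_singleton_iff.2 hcj.symm.eq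
  have h9 : 9 ∣ Nat.card (cen c) := nine_dvd hac htc hat hao ht.2.2 ht.2.1
  have hso : orderOf (toPro G s) = 3 := by
    haveI : Fact (Nat.Prime 3) := ⟨by norm_num⟩
    exact orderOf_eq_prime ht.2.2 ht1
  rcases hB.cases hc with hD | hA | hBig | h48 | h96 | h24
  · obtain ⟨K, s0, hK, hKc, hcK, hs0, hs0c, hs0K, hsup, -, hinv, -⟩ := hD
    have hnorm : ∀ x ∈ cen c, x ∈ K ∨ x * s0 ∈ K := by
      intro x hx
      rw [← hsup] at hx
      have hn : Subgroup.zpowers s0 ≤ Subgroup.normalizer (K : Set (Pro G)) := by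
        rw [Subgroup.zpowers_le, Subgroup.mem_normalizer_iff]
        have hs' : s0⁻¹ = s0 := inv_eq_of_mul_eq_one_right (by rw [← sq, ← hs0, pow_orderOf_eq_one])
        refine fun y => ⟨fun hy => (hinv y hy).symm ▸ inv_mem hy, fun hy => ?_⟩
        have := hinv _ hy
        rw [show s0 * (s0 * y * s0⁻¹) * s0⁻¹ = (s0 * s0) * y * (s0⁻¹ * s0⁻¹) by group, hs',
          show s0 * s0 = 1 by rw [← sq, ← hs0, pow_orderOf_eq_one], one_mul, mul_one] at this
        rw [this]; rw [hs'] at hy; exact inv_mem hy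
      have hx' : x ∈ (↑(K ⊔ Subgroup.zpowers s0) : Set (Pro G)) := hx
      rw [Subgroup.coe_mul_of_right_le_normalizer_left K _ hn] at hx'
      obtain ⟨k, hk, w, hw, rfl⟩ := hx'
      obtain ⟨n, rfl⟩ := Subgroup.mem_zpowers_iff.1 hw
      have hn2 : s0 ^ n = s0 ^ (n % 2) := by
        have := (zpow_mod_orderOf s0 n).symm
        rwa [hs0] at this
      rcases Int.emod_two_eq_zero_or_one n with e | e
      · exact Or.inl (by simpa [hn2, e] using hk)
      · refine Or.inr ?_
        show k * s0 ^ n * s0 ∈ K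
        rw [hn2, e, zpow_one, mul_assoc, ← sq, ← hs0, pow_orderOf_eq_one, mul_one]
        exact hk
    have hodd : ∀ x ∈ cen c, x ^ 3 = 1 → x ∈ K := by
      intro x hx h3
      rcases hnorm x hx with hk | hk
      · exact hk
      · have h2 : s0 * (x * s0) * s0⁻¹ = (x * s0)⁻¹ := hinv _ hk
        have hs' : s0 * s0 = 1 := by rw [← sq, ← hs0, pow_orderOf_eq_one]
        have : x * x = 1 := by
          have e : s0 * x = (x * s0)⁻¹ := by rw [← h2]; group
          calc x * x = x * (s0 * s0) * x := by rw [hs', mul_one]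
            _ = (x * s0) * (s0 * x) := by group
            _ = 1 := by rw [e, mul_inv_cancel]
        rw [pow_succ, sq, this, one_mul] at h3
        rw [h3]; exact one_mem _
    rcases hnorm j hjc with hk | hk
    · exact hne (congrArg Subtype.val (hK.is_comm.comm ⟨j, hk⟩ ⟨a, hodd a hac ha3⟩))
    · have hsK := hodd _ htc ht.2.2
      have hcomm : Commute (j * s0) (toPro G s) := congrArg Subtype.val (hK.is_comm.comm ⟨_, hk⟩ ⟨_, hsK⟩)
      have hs0s : Commute s0 (toPro G s) := by
        have := hjt.inv_left.mul_left hcomm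
        rwa [inv_mul_cancel_left] at this
      have := hinv _ hsK
      rw [hs0s.eq, mul_inv_cancel_right] at this
      have h2 : toPro G s ^ 2 = 1 := by rw [sq]; exact mul_eq_one_iff_eq_inv.2 this
      have := orderOf_dvd_of_pow_eq_one h2
      rw [orderOf_eq_prime (hp := ⟨by norm_num⟩) ht.2.2 ht1] at this
      omega
  · exact hne (congrArg Subtype.val (hA.1.is_comm.comm ⟨j, hjc⟩ ⟨a, hac⟩))
  · obtain ⟨T, -, hT, -, -, K, hKc, hK, hKT⟩ := hBig
    have hCK : Nat.card (cen c) = 2 * Nat.card K := by rw [hT, hKT]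
    have haK : a ∈ K := mem_of_two_mul_card hKc hCK hac (by rw [hao]; decide)
    have htK : toPro G s ∈ K := mem_of_two_mul_card hKc hCK htc (by rw [hso]; decide)
    -- the centraliser of `j` is a conjugate of that of `c`
    obtain ⟨g, hg⟩ := isConj_iff.1 (hB.one hc hj)
    set Kj := K.map (MulAut.conj g).toMonoidHom with hKj
    have hcen : cen j = (cen c).map (MulAut.conj g).toMonoidHom := by
      ext x
      rw [Subgroup.mem_map_equiv, Subgroup.mem_centralizer_singleton_iff, Subgroup.mem_centralizer_singleton_iff,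
        MulAut.conj_symm_apply, ← hg]
      constructor <;> intro e
      · calc g⁻¹ * x * g * c = g⁻¹ * (x * (g * c * g⁻¹)) * g := by group
          _ = g⁻¹ * (g * c * g⁻¹ * x) * g := by rw [e]
          _ = _ := by group
      · calc x * (g * c * g⁻¹) = g * (g⁻¹ * x * g * c) * g⁻¹ := by group
          _ = g * (c * (g⁻¹ * x * g)) * g⁻¹ := by rw [e]
          _ = _ := by group
    have hKjc : Kj ≤ cen j := hcen ▸ Subgroup.map_mono hKc
    have hKjT : Nat.card Kj = T := by
      rw [hKj, Subgroup.card_map_of_injective (MulEquiv.injective _), hKT]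
    have hCj : Nat.card (cen j) = 2 * Nat.card Kj := by
      rw [hKjT, hcen, Subgroup.card_map_of_injective (MulEquiv.injective _), hT]
    have htj : toPro G s ∈ Kj :=
      mem_of_two_mul_card hKjc hCj (Subgroup.mem_centralizer_singleton_iff.2 hjt.symm.eq) (by rw [hso]; decide)
    have hKjcomm : IsMulCommutative Kj := by
      haveI := hK
      exact Subgroup.map_isMulCommutative _ _
    -- so it lies in the centraliser of `c`
    have hKj2 : ∀ x ∈ Kj, x ∈ cen c ∧ Commute x j := fun x hx =>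
      ⟨hle (Subgroup.mem_centralizer_singleton_iff.2 (congrArg Subtype.val (hKjcomm.is_comm.comm ⟨x, hx⟩ ⟨_, htj⟩))),
        Subgroup.mem_centralizer_singleton_iff.1 (hKjc hx)⟩
    set W := K ⊓ cen j with hW
    have h3W : 3 * Nat.card W ≤ Nat.card K := by
      let f : Fin 3 × W → K := fun p => ⟨a ^ (p.1 : ℕ) * p.2, mul_mem (pow_mem haK _) p.2.2.1⟩
      have hf : Function.Injective f := by
        rintro ⟨p, w⟩ ⟨q, w'⟩ e
        have e' : a ^ (p : ℕ) * (w : Pro G) = a ^ (q : ℕ) * (w' : Pro G) := congrArg Subtype.val e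
        have key : ∀ p q : Fin 3, ∀ w w' : W, a ^ (p : ℕ) * (w : Pro G) = a ^ (q : ℕ) * (w' : Pro G) →
            (p : ℕ) ≤ q → p = q := by
          intro p q w w' e hpq
          have he : a ^ ((q : ℕ) - p) = (w : Pro G) * (w' : Pro G)⁻¹ := by
            rw [eq_mul_inv_iff_mul_eq]
            refine mul_left_cancel (a := a ^ (p : ℕ)) ?_
            rw [← mul_assoc, ← pow_add, Nat.add_sub_cancel' hpq, e]
          have hcom : Commute (a ^ ((q : ℕ) - p)) j := by
            rw [he]
            exact Subgroup.mem_centralizer_singleton_iff.1 (mul_mem w.2.2 (inv_mem w'.2.2))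
          by_contra hpq'
          have hd : (q : ℕ) - p = 1 ∨ (q : ℕ) - p = 2 := by
            have := q.2; have : (p : ℕ) ≠ q := fun e => hpq' (Fin.ext e); omega
          rcases hd with hd | hd <;> rw [hd] at hcom
          · exact hne (by rw [pow_one] at hcom; exact hcom.symm)
          · exact hne (by rw [← inv_eq_sq ha3, Commute.inv_left_iff] at hcom; exact hcom.symm)
        have hpq : p = q := (le_total (p : ℕ) q).elim (key p q w w' e') fun hle' => (key q p w' w e'.symm hle').symm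
        subst hpq
        exact Prod.ext rfl (Subtype.ext (mul_left_cancel e'))
      have := Nat.card_le_card_of_injective f hf
      rwa [Nat.card_prod, Nat.card_fin] at this
    have hint : Nat.card Kj ≤ 2 * Nat.card W := by
      by_cases hall : ∀ x ∈ Kj, x ∈ K
      · have : Kj ≤ W := fun x hx => ⟨hall x hx, Subgroup.mem_centralizer_singleton_iff.2 (hKj2 x hx).2.eq⟩
        have := Subgroup.card_le_of_le this
        omega
      · simp only [not_forall] at hall
        obtain ⟨x0, hx0, hx0K⟩ := hall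
        classical
        let f : Kj → W ⊕ W := fun x =>
          if hxK : (x : Pro G) ∈ K then Sum.inl ⟨x, hxK, Subgroup.mem_centralizer_singleton_iff.2 (hKj2 x x.2).2.eq⟩
          else Sum.inr ⟨x0⁻¹ * x, by
            have hi : (K.subgroupOf (cen c)).index = 2 := by
              have e := (K.subgroupOf (cen c)).card_mul_index
              rw [Nat.card_congr (Subgroup.subgroupOfEquivOfLe hKc).toEquiv, hCK, mul_comm 2] at e
              exact Nat.eq_of_mul_eq_mul_left (Nat.card_pos) e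
            refine ⟨Subgroup.mem_subgroupOf.1 ((Subgroup.mul_mem_iff_of_index_two hi
              (a := (⟨x0, (hKj2 x0 hx0).1⟩ : cen c)⁻¹) (b := (⟨x, (hKj2 x x.2).1⟩ : cen c))).2
              ⟨fun h' => absurd (Subgroup.mem_subgroupOf.1 (by simpa using inv_mem h')) hx0K,
                fun h' => absurd (Subgroup.mem_subgroupOf.1 h') hxK⟩), ?_⟩
            exact hKjc (mul_mem (inv_mem hx0) x.2)⟩
        have hf : Function.Injective f := by
          have hg : ∀ x, Sum.elim (fun w : W => (w : Pro G)) (fun w : W => x0 * w) (f x) = (x : Pro G) := by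
            intro x
            by_cases hx : (x : Pro G) ∈ K <;> simp [f, hx]
          intro x x' e
          exact Subtype.ext ((hg x).symm.trans ((congrArg _ e).trans (hg x')))
        have := Nat.card_le_card_of_injective f hf
        rw [Nat.card_sum] at this
        omega
    have := Nat.card_pos (α := W)
    omega
  · have := h48.1; omega
  · have := h96.1; omega
  · have := h24.1; omega

end CfsgLib.Geo.D3
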