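/-
The group of order nine of a twisted pair: it is a Sylow subgroup, and its automiser is a nontrivial
two-subgroup of SL of dimension two over the field with three elements.
-/
import Cfsg.Agent.Geo.DimThree.NoTv.NoDeep
import Mathlib.LinearAlgebra.Matrix.SpecialLinearGroup

set_option autoImplicit false
set_option linter.unusedSectionVars false

namespace CfsgLib.Geo.D3

open Matrix Cfsg Cfsg.Geo CfsgLib.Geo

variable {F : Type*} [Field F] [Finite F] {G : Subgroup (GL (Fin 3) F)} (hG : NoTv G)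
include hG

/-- Every element of the group of a pair is again one half of a pair generating it. -/
lemma Tw.partner {a b x : Pro G} (h : Tw a b) (hx : x ∈ span2 a b) (hne : x ≠ 1) :
    ∃ y ∈ span2 a b, Tw x y ∧ span2 x y = span2 a b := by
  obtain ⟨i, hi, j, hj, rfl⟩ := (mem_span2_iff hG h).1 hx
  haveI : Fact (Nat.Prime 3) := ⟨by norm_num⟩
  have hcomm : ∀ y ∈ span2 a b, Commute (a ^ i * b ^ j) y := fun y hy => by
    obtain ⟨p, -, q, -, rfl⟩ := (mem_span2_iff hG h).1 hy
    have c1 : Commute a (a ^ p * b ^ q) := ((Commute.refl a).pow_right p).mul_right (h.1.pow_right q)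
    have c2 : Commute b (a ^ p * b ^ q) := (h.1.symm.pow_right p).mul_right ((Commute.refl b).pow_right q)
    exact (c1.pow_left i).mul_left (c2.pow_left j)
  have hex : ∃ y ∈ span2 a b, cm (a ^ i * b ^ j) y ≠ 1 := by
    by_contra hall
    simp only [not_exists, not_and, not_not] at hall
    have e1 := hall a (left_mem_span2 a b)
    have e2 := hall b (right_mem_span2 a b)
    rw [cm_mul_left (h.1.symm.pow_left j), cm_pow_left (Commute.refl a), cm_pow_left h.1.symm, cm_self, one_pow,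
      one_mul] at e1
    rw [cm_mul_left ((Commute.refl b).pow_left j), cm_pow_left h.1, cm_pow_left (Commute.refl b), cm_self, one_pow,
      mul_one] at e2
    have d1 := orderOf_dvd_of_pow_eq_one e1
    have d2 := orderOf_dvd_of_pow_eq_one e2
    rw [orderOf_eq_prime (cm_cube hG h.1.symm) h.symm.2] at d1
    rw [orderOf_eq_prime (cm_cube hG h.1) h.2] at d2
    exact hne (by rw [show i = 0 by omega, show j = 0 by omega, pow_zero, pow_zero, mul_one])
  obtain ⟨y, hy, hc⟩ := hex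
  have hxy : Tw (a ^ i * b ^ j) y := ⟨hcomm y hy, hc⟩
  refine ⟨y, hy, hxy, Subgroup.eq_of_le_of_card_ge ((Subgroup.closure_le _).2 ?_) ?_⟩
  · rintro z (rfl | rfl)
    · exact hx
    · exact hy
  · rw [card_span2 hG h, card_span2 hG hxy]

/-- A group of order nine that is not Sylow gives a deep element. -/
theorem exists_deep {a b : Pro G} (h : Tw a b) {R : Sylow 3 (Pro G)} (hle : span2 a b ≤ (R : Subgroup (Pro G)))
    (hne : (R : Subgroup (Pro G)) ≠ span2 a b) :
    ∃ a' b' t, Tw a' b' ∧ Deep a' t ∧ ∃ S : Subgroup (Pro G), IsPGroup 3 S ∧ S ≤ cen a' ∧ a' ∈ S ∧ b' ∈ S ∧ t ∈ S := by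
  classical
  haveI : Fact (Nat.Prime 3) := ⟨by norm_num⟩
  obtain ⟨u, huR, hu, hunot⟩ := exists_normalizing R.isPGroup' hle hne
  -- a fixed element
  obtain ⟨n, hn⟩ := R.isPGroup' ⟨u, huR⟩
  have hn' : u ^ 3 ^ n = 1 := by simpa using congrArg Subtype.val hn
  let σ : Equiv.Perm (span2 a b) := Equiv.ofBijective (fun x => ⟨u * x * u⁻¹, hu x x.2⟩)
    (Finite.injective_iff_bijective.1 fun x y e => Subtype.ext (by simpa using congrArg Subtype.val e))
  have hσp : ∀ k x, (((σ ^ k) x : span2 a b) : Pro G) = u ^ k * x * (u ^ k)⁻¹ := fun k x => by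
    induction k with
    | zero => simp
    | succ k ih =>
      rw [pow_succ', Equiv.Perm.mul_apply]
      show u * ((σ ^ k) x : Pro G) * u⁻¹ = _
      rw [ih, pow_succ']
      group
  have hσ : σ ^ 3 ^ n = 1 := Equiv.ext fun x => Subtype.ext (by rw [hσp, hn']; simp)
  letI := Fintype.ofFinite (span2 a b)
  have hmod := Equiv.Perm.card_compl_support_modEq (p := 3) (n := n) hσ
  obtain ⟨x, hxfix, hx1⟩ : ∃ x : span2 a b, σ x = x ∧ x ≠ 1 := by
    by_contra hall
    simp only [not_exists, not_and, not_not] at hall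
    have h1 : σ.supportᶜ.card = 1 := by
      rw [Finset.card_eq_one]
      refine ⟨1, Finset.eq_singleton_iff_unique_mem.2 ⟨?_, fun z hz => hall z (by simpa using hz)⟩⟩
      rw [Finset.mem_compl, Equiv.Perm.notMem_support]
      exact Subtype.ext (show u * 1 * u⁻¹ = 1 by rw [mul_one, mul_inv_cancel])
    have h9 : Fintype.card (span2 a b) = 9 := by rw [← Nat.card_eq_fintype_card, card_span2 hG h]
    rw [h1, h9] at hmod
    exact absurd hmod (by decide)
  set a' : Pro G := (x : Pro G) with ha'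
  obtain ⟨b', hb', htw, hspan⟩ := h.partner hG x.2 (fun e => hx1 (Subtype.ext e))
  have hua : Commute u a' := mul_inv_eq_iff_eq_mul.1 (congrArg Subtype.val hxfix)
  -- move it into the torus
  obtain ⟨k, hk, ek⟩ := hG.scalar_eq_pow (cm_scalar hua) (cm_scalar htw.1.symm) htw.symm.2
  set t := u * (b' ^ k)⁻¹ with ht
  have hbR : b' ∈ (R : Subgroup (Pro G)) := hle hb'
  have haR : a' ∈ (R : Subgroup (Pro G)) := hle x.2
  have htR : t ∈ (R : Subgroup (Pro G)) := mul_mem huR (inv_mem (pow_mem hbR k))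
  have hta : Commute t a' := hua.mul_left (htw.1.symm.pow_left k).inv_left
  have httor : t ∈ tor a' := ⟨hta, by
    rw [ht, cm_mul_left (htw.1.symm.pow_left k).inv_left, cm_inv_left (htw.1.symm.pow_left k), cm_pow_left htw.1.symm,
      ← ek, mul_inv_cancel]⟩
  have htnot : t ∉ span2 a b := fun e => hunot (by
    have := mul_mem e (pow_mem hb' k)
    rwa [ht, inv_mul_cancel_right] at this)
  have htnorm : t * b' * t⁻¹ ∈ span2 a b := by
    rw [show t * b' * t⁻¹ = u * b' * u⁻¹ by rw [ht]; group]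
    exact hu b' hb'
  have hcm : cm (t * b' * t⁻¹) a' = cm b' a' := by
    conv_rhs => rw [← cm_conj htw.1.symm t]
    rw [hta.eq, mul_inv_cancel_right]
  rw [← hspan] at htnorm
  obtain ⟨p, hp, q, hq, e⟩ := (mem_span2_iff hG htw).1 htnorm
  rw [e, cm_mul_left (htw.1.symm.pow_left q), cm_pow_left (Commute.refl a'), cm_pow_left htw.1.symm, cm_self,
    one_pow, one_mul] at hcm
  have ho : orderOf (cm b' a') = 3 := orderOf_eq_prime (cm_cube hG htw.1.symm) htw.symm.2
  have hq1 : q = 1 :=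
    pow_injOn_Iio_orderOf (x := cm b' a') (by simpa [ho] using hq) (by simp [ho]) (hcm.trans (pow_one _).symm)
  rw [hq1, pow_one] at e
  have ha3 := htw.pow_three hG
  -- its cube commutes with both
  have ht3b : Commute (t ^ 3) b' := by
    have step : ∀ z, Commute t z → t * (z * b') * t⁻¹ = z * a' ^ p * b' := fun z hz => by
      rw [show t * (z * b') * t⁻¹ = t * z * t⁻¹ * (t * b' * t⁻¹) by group, hz.eq, mul_inv_cancel_right, e, mul_assoc]
    refine mul_inv_eq_iff_eq_mul.1 ?_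
    calc t ^ 3 * b' * (t ^ 3)⁻¹ = t * (t * (t * b' * t⁻¹) * t⁻¹) * t⁻¹ := by
          rw [pow_succ, sq]; group
      _ = a' ^ p * a' ^ p * a' ^ p * b' := by
          rw [e, step _ (hta.pow_right p), step _ ((hta.pow_right p).mul_right (hta.pow_right p))]
      _ = b' := by
          rw [← pow_add, ← pow_add, show p + p + p = 3 * p by ring, pow_mul, ha3, one_pow, one_mul]
  obtain ⟨g, hg⟩ := toPro_surjective a'
  obtain ⟨y, hy⟩ := toPro_surjective b'
  obtain ⟨s, hs⟩ := toPro_surjective t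
  have ht3tor : t ^ 3 ∈ tor a' := pow_mem httor 3
  obtain ⟨i, hi, j, hj, e3⟩ := htw.eq_pow hG ht3tor.1 ht3b
  have hj0 := htw.exponent_eq hG (e3 ▸ ht3tor)
  have hcm3 : cm (t ^ 3) b' = 1 := by
    have htor' : toPro G (y * s⁻¹ * y⁻¹) ∈ tor a' := by
      rw [map_mul, map_mul, map_inv, map_inv, hs, hy]
      exact tor_conj_mem htw.1.symm (inv_mem httor)
    have hcom : Commute s (y * s⁻¹ * y⁻¹) := cm_eq_one_iff.1 (htw.tor_commute hG (hs ▸ httor) htor').2
    obtain ⟨z, hz, hC⟩ := toPro_coe_eq (G := G) (a := s * (y * s⁻¹ * y⁻¹)) (b := g ^ p) (by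
      simp only [map_mul, map_inv, map_pow, hs, hy, hg]
      rw [show t * (b' * t⁻¹ * b'⁻¹) = t * b' * t⁻¹ * b'⁻¹ by group, e, mul_inv_cancel_right])
    obtain ⟨_, _, _, -, -, -, -, -, -, hg3, -⟩ := htw.coords hG hg hy
    have hz3 : z ^ 3 = 1 := Subtype.ext (by simpa using hG.scalar_cube z.2 hz)
    rw [cm_eq (g := s ^ 3) (y := y) (by rw [map_pow, hs]) hy, commutatorElement_def,
      show s ^ 3 * y * (s ^ 3)⁻¹ * y⁻¹ = s ^ 3 * (y * s⁻¹ * y⁻¹) ^ 3 by rw [conj_pow, inv_pow]; group,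
      ← hcom.mul_pow, hC, (scalar_comm' hz (g ^ p)).symm.mul_pow, hz3, ← pow_mul, mul_comm, pow_mul, hg3,
      one_pow, mul_one]
  have ht3 : t ^ 3 = 1 := by
    rw [show j = 0 by omega, pow_zero, mul_one] at e3
    rw [e3, cm_pow_left htw.1] at hcm3
    have hd := orderOf_dvd_of_pow_eq_one hcm3
    rw [orderOf_eq_prime (cm_cube hG htw.1) htw.2] at hd
    rw [e3, show i = 0 by omega, pow_zero]
  refine ⟨a', b', t, htw, ⟨httor, fun hz => htnot ?_, ht3⟩, (R : Subgroup (Pro G)) ⊓ cen a',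
    R.isPGroup'.to_le inf_le_left, inf_le_right, ⟨haR, Subgroup.mem_centralizer_singleton_iff.2 rfl⟩,
    ⟨hbR, Subgroup.mem_centralizer_singleton_iff.2 htw.1.symm.eq⟩,
    ⟨htR, Subgroup.mem_centralizer_singleton_iff.2 hta.eq⟩⟩
  exact (Subgroup.zpowers_le.2 (show a' ∈ span2 a b from x.2)) hz

/-- The group of a pair is Sylow. -/
theorem span2_sylow (hB : InvFacts G) {a b : Pro G} (h : Tw a b) {R : Sylow 3 (Pro G)}
    (hle : span2 a b ≤ (R : Subgroup (Pro G))) : (R : Subgroup (Pro G)) = span2 a b := by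
  by_contra hne
  obtain ⟨a', b', t, h', ht, S, hS, hSc, haS, hbS, htS⟩ := exists_deep hG h hle hne
  exact no_deep hG hB h' ht (real_of_deep hG h' ht hS hSc haS hbS htS)

/-- If some element is special, every Sylow three-subgroup is the group of a pair. -/
theorem exists_pair (hB : InvFacts G) {a b : Pro G} (h : Tw a b) (R : Sylow 3 (Pro G)) :
    ∃ a' b', Tw a' b' ∧ (R : Subgroup (Pro G)) = span2 a' b' := by
  haveI : Fact (Nat.Prime 3) := ⟨by norm_num⟩
  obtain ⟨R0, hR0⟩ := (IsPGroup.of_card (n := 2) (p := 3) (G := span2 a b)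
    (by rw [card_span2 hG h]; norm_num)).exists_le_sylow
  obtain ⟨n, hn⟩ := MulAction.exists_smul_eq (Pro G) R0 R
  refine ⟨n * a * n⁻¹, n * b * n⁻¹, h.conj n, ?_⟩
  rw [← hn, Sylow.coe_subgroup_smul, span2_sylow hG hB h hR0]
  show (span2 a b).map (MulAut.conj n).toMonoidHom = _
  rw [span2, span2, MonoidHom.map_closure, Set.image_pair]
  rfl

section action

variable {a b : Pro G} (h : Tw a b)
include h

omit hG h in
/-- The element with given exponents. -/
def ev2 (a b : Pro G) (v : Fin 2 → ZMod 3) : Pro G := a ^ (v 0).val * b ^ (v 1).val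

lemma ev2_mem (v : Fin 2 → ZMod 3) : ev2 a b v ∈ span2 a b :=
  (mem_span2_iff hG h).2 ⟨_, ZMod.val_lt _, _, ZMod.val_lt _, rfl⟩

lemma ev2_add (v w : Fin 2 → ZMod 3) : ev2 a b (v + w) = ev2 a b v * ev2 a b w := by
  simp only [ev2, Pi.add_apply, ZMod.val_add]
  rw [← pow_eq_pow_mod _ (h.pow_three hG), ← pow_eq_pow_mod _ (h.symm.pow_three hG), pow_add, pow_add,
    (h.1.symm.pow_pow (v 1).val (w 0).val).mul_mul_mul_comm]

lemma ev2_inj : Function.Injective (ev2 a b) := fun v w e => by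
  obtain ⟨e0, e1⟩ := h.pow_inj hG (ZMod.val_lt _) (ZMod.val_lt _) (ZMod.val_lt _) (ZMod.val_lt _) e
  funext i
  fin_cases i
  · exact ZMod.val_injective _ e0
  · exact ZMod.val_injective _ e1

lemma exists_ev2 {x : Pro G} (hx : x ∈ span2 a b) : ∃ v, ev2 a b v = x := by
  obtain ⟨i, hi, j, hj, rfl⟩ := (mem_span2_iff hG h).1 hx
  exact ⟨![(i : ZMod 3), (j : ZMod 3)], by simp [ev2, Nat.mod_eq_of_lt hi, Nat.mod_eq_of_lt hj]⟩

lemma cm_ev2 (v w : Fin 2 → ZMod 3) :
    cm (ev2 a b v) (ev2 a b w) = cm a b ^ ((v 0).val * (w 1).val + 2 * ((v 1).val * (w 0).val)) := by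
  have hcom : ∀ p q : ℕ, Commute (a ^ p) (b ^ q) := fun p q => h.1.pow_pow p q
  have c1 : ∀ r s : ℕ, Commute a (a ^ r * b ^ s) := fun r s =>
    ((Commute.refl a).pow_right r).mul_right (h.1.pow_right s)
  have c2 : ∀ r s : ℕ, Commute b (a ^ r * b ^ s) := fun r s =>
    (h.1.symm.pow_right r).mul_right ((Commute.refl b).pow_right s)
  have hsw : cm b a = cm a b ^ 2 := by
    rw [cm_swap a b]
    exact inv_eq_of_mul_eq_one_right (by rw [← pow_succ']; exact cm_cube hG h.1)
  have hr : ∀ {x y : Pro G} (n : ℕ), Commute x y → cm x (y ^ n) = cm x y ^ n := fun {x y} n hxy => by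
    rw [cm_swap (y ^ n) x, cm_pow_left hxy.symm, ← inv_pow, ← cm_swap y x]
  simp only [ev2]
  rw [cm_mul_left ((c2 _ _).pow_left _), cm_pow_left (c1 _ _), cm_pow_left (c2 _ _),
    cm_mul_right ((Commute.refl a).pow_right _) (h.1.pow_right _),
    cm_mul_right (h.1.symm.pow_right _) ((Commute.refl b).pow_right _),
    hr _ (Commute.refl a), hr _ h.1, hr _ h.1.symm, hr _ (Commute.refl b), cm_self, cm_self, one_pow, one_mul,
    one_pow, mul_one, hsw, ← pow_mul, ← pow_mul, ← pow_mul, ← pow_add]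
  congr 1
  ring

/-- The matrix of an element normalising the group of the pair. -/
theorem exists_matrix {n : Pro G} (hn : n ∈ Subgroup.normalizer ((span2 a b : Subgroup (Pro G)) : Set (Pro G))) :
    ∃ M : Matrix.SpecialLinearGroup (Fin 2) (ZMod 3),
      ∀ v, n * ev2 a b v * n⁻¹ = ev2 a b ((M : Matrix (Fin 2) (Fin 2) (ZMod 3)) *ᵥ v) := by
  obtain ⟨c0, hc0⟩ := exists_ev2 hG h ((Subgroup.mem_normalizer_iff.1 hn a).1 (left_mem_span2 a b))
  obtain ⟨c1, hc1⟩ := exists_ev2 hG h ((Subgroup.mem_normalizer_iff.1 hn b).1 (right_mem_span2 a b))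
  set M : Matrix (Fin 2) (Fin 2) (ZMod 3) := !![c0 0, c1 0; c0 1, c1 1] with hM
  have hsmul : ∀ (v : Fin 2 → ZMod 3) (k : ℕ), ev2 a b v ^ k = ev2 a b ((k : ZMod 3) • v) := fun v k => by
    induction k with
    | zero => simp [ev2]
    | succ k ih => rw [pow_succ, ih, ← ev2_add hG h, Nat.cast_succ, add_smul, one_smul]
  have hdet : M.det = 1 := by
    have e := cm_conj h.1 n
    rw [← hc0, ← hc1, cm_ev2 hG h] at e
    haveI : Fact (Nat.Prime 3) := ⟨by norm_num⟩
    nth_rewrite 2 [← pow_one (cm a b)] at e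
    rw [pow_eq_pow_iff_modEq, orderOf_eq_prime (cm_cube hG h.1) h.2, ← ZMod.natCast_eq_natCast_iff] at e
    push_cast at e
    simp only [ZMod.natCast_val, ZMod.cast_id', id] at e
    rw [Matrix.det_fin_two, hM]
    simp
    have e2 : (2 : ZMod 3) = -1 := rfl
    rw [e2] at e
    linear_combination e
  refine ⟨⟨M, hdet⟩, fun v => ?_⟩
  have hMv : M *ᵥ v = ((v 0).val : ZMod 3) • c0 + ((v 1).val : ZMod 3) • c1 := by
    funext i
    fin_cases i <;> simp [hM, Matrix.mulVec, dotProduct, Fin.sum_univ_two] <;> ring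
  show n * (a ^ (v 0).val * b ^ (v 1).val) * n⁻¹ = ev2 a b (M *ᵥ v)
  rw [hMv, ev2_add hG h, ← hsmul, ← hsmul, hc0, hc1, conj_pow, conj_pow]
  group

/-- The action on the group of the pair, as a homomorphism into SL of dimension two over three elements. -/
noncomputable def autHom :
    Subgroup.normalizer ((span2 a b : Subgroup (Pro G)) : Set (Pro G)) →* Matrix.SpecialLinearGroup (Fin 2) (ZMod 3) :=
  MonoidHom.mk' (fun n => (exists_matrix hG h n.2).choose) fun n m => by
    refine Subtype.ext (Matrix.ext_iff_mulVec.2 fun v => ev2_inj hG h ?_)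
    rw [← (exists_matrix hG h (n * m).2).choose_spec v, Matrix.SpecialLinearGroup.coe_mul, ← Matrix.mulVec_mulVec,
      ← (exists_matrix hG h n.2).choose_spec, ← (exists_matrix hG h m.2).choose_spec, Subgroup.coe_mul]
    group

lemma autHom_spec (n : Subgroup.normalizer ((span2 a b : Subgroup (Pro G)) : Set (Pro G))) (v : Fin 2 → ZMod 3) :
    (n : Pro G) * ev2 a b v * (n : Pro G)⁻¹ =
      ev2 a b ((autHom hG h n : Matrix (Fin 2) (Fin 2) (ZMod 3)) *ᵥ v) :=
  (exists_matrix hG h n.2).choose_spec v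

lemma mem_ker_autHom (n : Subgroup.normalizer ((span2 a b : Subgroup (Pro G)) : Set (Pro G))) :
    autHom hG h n = 1 ↔ (n : Pro G) ∈ span2 a b := by
  constructor
  · intro e
    refine (centralizer_span2 hG h).le (Subgroup.mem_centralizer_iff.2 fun x hx => ?_)
    obtain ⟨v, rfl⟩ := exists_ev2 hG h hx
    have := autHom_spec hG h n v
    rw [e, Matrix.SpecialLinearGroup.coe_one, Matrix.one_mulVec] at this
    exact (mul_inv_eq_iff_eq_mul.1 this).symm
  · intro hn
    refine Subtype.ext (Matrix.ext_iff_mulVec.2 fun v => ev2_inj hG h ?_)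
    rw [← autHom_spec hG h, Matrix.SpecialLinearGroup.coe_one, Matrix.one_mulVec]
    have := Subgroup.mem_centralizer_iff.1 ((centralizer_span2 hG h).ge hn) _ (ev2_mem hG h v)
    rw [← this, mul_inv_cancel_right]

end action

omit hG in
/-- Facts on SL of dimension two over three elements. -/
lemma sl23_card : Nat.card (Matrix.SpecialLinearGroup (Fin 2) (ZMod 3)) = 24 := by
  rw [Nat.card_eq_fintype_card]
  decide +kernel

omit hG in
lemma sl23_invol : ∀ M : Matrix.SpecialLinearGroup (Fin 2) (ZMod 3),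
    M ^ 2 = 1 → M = 1 ∨ (M : Matrix (Fin 2) (Fin 2) (ZMod 3)) = -1 := by
  decide +kernel

omit hG in
lemma sl23_line : ∀ (M : Matrix.SpecialLinearGroup (Fin 2) (ZMod 3)), M ^ 8 = 1 → ∀ v : Fin 2 → ZMod 3, v ≠ 0 →
    ((M : Matrix (Fin 2) (Fin 2) (ZMod 3)) *ᵥ v = v ∨ (M : Matrix (Fin 2) (Fin 2) (ZMod 3)) *ᵥ v = -v) →
      M = 1 ∨ (M : Matrix (Fin 2) (Fin 2) (ZMod 3)) = -1 := by
  decide +kernel

omit hG in
lemma sl23_four : ∀ M : Matrix.SpecialLinearGroup (Fin 2) (ZMod 3), M ^ 8 = 1 →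
    M = 1 ∨ (M : Matrix (Fin 2) (Fin 2) (ZMod 3)) = -1 ∨ (M ^ 4 = 1 ∧ ¬ M ^ 2 = 1) := by
  decide +kernel

omit hG in
lemma sl23_eight : (Finset.univ.filter fun M : Matrix.SpecialLinearGroup (Fin 2) (ZMod 3) => M ^ 8 = 1).card = 8 := by
  decide +kernel

omit hG in
lemma sl23_quaternion : ∃ A B : Matrix.SpecialLinearGroup (Fin 2) (ZMod 3),
    A ^ 4 = 1 ∧ ¬ A ^ 2 = 1 ∧ B ^ 4 = 1 ∧ ¬ B ^ 2 = 1 ∧ A ^ 2 = B ^ 2 ∧ A * B * A⁻¹ = B⁻¹ := by
  decide +kernel

variable {a b : Pro G}

/-- The automiser is a nontrivial two-subgroup. -/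
theorem autHom_range (h : Tw a b) {R : Sylow 3 (Pro G)} (hR : (R : Subgroup (Pro G)) = span2 a b) :
    (span2 a b).relIndex (Subgroup.normalizer ((span2 a b : Subgroup (Pro G)) : Set (Pro G))) =
        Nat.card (autHom hG h).range ∧
      Nat.card (autHom hG h).range ∈ ({2, 4, 8} : Set ℕ) ∧ ∀ M ∈ (autHom hG h).range, M ^ 8 = 1 := by
  haveI : Fact (Nat.Prime 3) := ⟨by norm_num⟩
  set N := Subgroup.normalizer ((span2 a b : Subgroup (Pro G)) : Set (Pro G)) with hN
  have hker : (autHom hG h).ker = (span2 a b).subgroupOf N := by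
    ext n
    rw [MonoidHom.mem_ker, mem_ker_autHom hG h, Subgroup.mem_subgroupOf]
  have hcard : (span2 a b).relIndex N = Nat.card (autHom hG h).range := by
    rw [Subgroup.relIndex, ← hker, Subgroup.index_ker]
  have h24 : Nat.card (autHom hG h).range ∣ 24 := by
    have := Subgroup.card_subgroup_dvd_card (autHom hG h).range
    rwa [sl23_card] at this
  have h3 : ¬ 3 ∣ Nat.card (autHom hG h).range := fun hd => by
    rw [← hcard] at hd
    have hd' : 3 ∣ (span2 a b).index := hd.trans (Subgroup.relIndex_dvd_index_of_le Subgroup.le_normalizer)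
    rw [← hR] at hd'
    exact R.not_dvd_index hd'
  have h1 : Nat.card (autHom hG h).range ≠ 1 := fun e => by
    rw [← hcard, Subgroup.relIndex_eq_one] at e
    have hle : Subgroup.normalizer ((R : Subgroup (Pro G)) : Set (Pro G)) ≤
        Subgroup.centralizer ((R : Subgroup (Pro G)) : Set (Pro G)) := by
      rw [hR, centralizer_span2 hG h]; exact e
    have hc := MonoidHom.ker_transferSylow_isComplement' R hle
    haveI := hG.simple
    rcases IsSimpleGroup.eq_bot_or_eq_top_of_normal _ (MonoidHom.normal_ker (MonoidHom.transferSylow R hle)) with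
      hb | ht
    · rw [hb, Subgroup.isComplement'_bot_left] at hc
      refine hG.nonabelian ⟨⟨fun p q => ?_⟩⟩
      have hp : p ∈ span2 a b := hR.le (hc.ge (Subgroup.mem_top p))
      have hq : q ∈ span2 a b := hR.le (hc.ge (Subgroup.mem_top q))
      exact Subgroup.mem_centralizer_iff.1 ((centralizer_span2 hG h).ge hq) p hp
    · rw [ht, Subgroup.isComplement'_top_left, hR] at hc
      have := card_span2 hG h
      rw [hc, Subgroup.card_bot] at this
      omega
  have hmem : Nat.card (autHom hG h).range ∈ ({2, 4, 8} : Set ℕ) := by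
    have : ∀ d ∈ Nat.divisors 24, ¬ 3 ∣ d → d ≠ 1 → d = 2 ∨ d = 4 ∨ d = 8 := by decide
    simpa using this _ (Nat.mem_divisors.2 ⟨h24, by norm_num⟩) h3 h1
  refine ⟨hcard, hmem, fun M hM => ?_⟩
  have hd : Nat.card (autHom hG h).range ∣ 8 := by
    rcases hmem with e | e | e <;> rw [e] <;> norm_num
  have := pow_card_eq_one' (G := (autHom hG h).range) (x := ⟨M, hM⟩)
  obtain ⟨k, hk⟩ := hd
  rw [hk, pow_mul, show M ^ Nat.card (autHom hG h).range = 1 by simpa using congrArg Subtype.val this, one_pow]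

/-- Some element inverts the group of the pair. -/
theorem exists_inverting_span (h : Tw a b) {R : Sylow 3 (Pro G)} (hR : (R : Subgroup (Pro G)) = span2 a b) :
    ∃ n ∈ Subgroup.normalizer ((span2 a b : Subgroup (Pro G)) : Set (Pro G)),
      ∀ x ∈ span2 a b, n * x * n⁻¹ = x⁻¹ := by
  haveI : Fact (Nat.Prime 2) := ⟨Nat.prime_two⟩
  obtain ⟨-, hmem, -⟩ := autHom_range hG h hR
  obtain ⟨⟨M, ⟨n, rfl⟩⟩, ho⟩ := exists_prime_orderOf_dvd_card' (G := (autHom hG h).range) 2 (by
    rcases hmem with e | e | e <;> rw [e] <;> norm_num)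
  replace ho : orderOf (autHom hG h n) = 2 := by
    exact (Subgroup.orderOf_coe (⟨autHom hG h n, n, rfl⟩ : (autHom hG h).range)).trans ho
  have hM : (autHom hG h n : Matrix (Fin 2) (Fin 2) (ZMod 3)) = -1 := by
    refine (sl23_invol _ (by have := pow_orderOf_eq_one (autHom hG h n); rwa [ho] at this)).resolve_left fun e => ?_
    rw [e, orderOf_one] at ho
    omega
  refine ⟨n, n.2, fun x hx => ?_⟩
  obtain ⟨v, rfl⟩ := exists_ev2 hG h hx
  rw [autHom_spec hG h, hM, Matrix.neg_mulVec, Matrix.one_mulVec]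
  refine (inv_eq_of_mul_eq_one_right ?_).symm
  rw [← ev2_add hG h, add_neg_cancel]
  simp [ev2]

/-- A complement of the group of the pair in its normaliser maps bijectively onto the automiser. -/
theorem exists_complement (h : Tw a b) {R : Sylow 3 (Pro G)} (hR : (R : Subgroup (Pro G)) = span2 a b) :
    ∀ M ∈ (autHom hG h).range, ∃ s, autHom hG h s = M ∧
      ∀ M' ∈ (autHom hG h).range, ∃ s', autHom hG h s' = M' ∧ orderOf s' = orderOf M' ∧ orderOf s = orderOf M ∧
        (M ^ 2 = M' ^ 2 → s ^ 2 = s' ^ 2) ∧ (M * M' * M⁻¹ = M'⁻¹ → s * s' * s⁻¹ = s'⁻¹) := by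
  classical
  haveI : Fact (Nat.Prime 2) := ⟨Nat.prime_two⟩
  obtain ⟨hcard, hmem, -⟩ := autHom_range hG h hR
  set N := Subgroup.normalizer ((span2 a b : Subgroup (Pro G)) : Set (Pro G))
  obtain ⟨k, hk⟩ : ∃ k, Nat.card (autHom hG h).range = 2 ^ k := by
    rcases hmem with e | e | e
    exacts [⟨1, e⟩, ⟨2, e⟩, ⟨3, e⟩]
  have hkerc : Nat.card (autHom hG h).ker = 9 := by
    have : (autHom hG h).ker = (span2 a b).subgroupOf N := by
      ext n
      rw [MonoidHom.mem_ker, mem_ker_autHom hG h, Subgroup.mem_subgroupOf]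
    rw [this, Nat.card_congr (Subgroup.subgroupOfEquivOfLe Subgroup.le_normalizer).toEquiv, card_span2 hG h]
  have hN : Nat.card N = 2 ^ k * 9 := by
    rw [← (autHom hG h).ker.card_mul_index, Subgroup.index_ker, hkerc, hk, mul_comm]
  obtain ⟨S, hS⟩ := Sylow.exists_subgroup_card_pow_prime (G := N) 2 (n := k) (hN ▸ Dvd.intro _ rfl)
  set f := (autHom hG h).comp S.subtype with hf
  have hinj : Function.Injective f := by
    rw [← MonoidHom.ker_eq_bot_iff, eq_bot_iff]
    intro s hs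
    rw [Subgroup.mem_bot]
    have h1 : orderOf (⟨(s : N), MonoidHom.mem_ker.2 hs⟩ : (autHom hG h).ker) ∣ 9 := hkerc ▸ orderOf_dvd_natCard _
    have h2 : orderOf s ∣ 2 ^ k := hS ▸ orderOf_dvd_natCard _
    rw [Subgroup.orderOf_mk, Subgroup.orderOf_coe] at h1
    have := Nat.eq_one_of_dvd_coprimes (Nat.Coprime.pow_left k (by norm_num : Nat.Coprime 2 9)) h2 h1
    exact orderOf_eq_one_iff.1 this
  have hrange : f.range = (autHom hG h).range := by
    refine Subgroup.eq_of_le_of_card_ge ?_ ?_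
    · rintro _ ⟨s, rfl⟩; exact ⟨_, rfl⟩
    · rw [← Nat.card_congr (MonoidHom.ofInjective hinj).toEquiv, hS, hk]
  intro M hM
  obtain ⟨s, rfl⟩ := hrange.ge hM
  refine ⟨s, rfl, fun M' hM' => ?_⟩
  obtain ⟨s', rfl⟩ := hrange.ge hM'
  refine ⟨s', rfl, ?_, ?_, fun e => ?_, fun e => ?_⟩
  · rw [Subgroup.orderOf_coe, ← orderOf_injective f hinj s']
  · rw [Subgroup.orderOf_coe, ← orderOf_injective f hinj s]
  · have : f (s ^ 2) = f (s' ^ 2) := by rwa [map_pow, map_pow]
    exact congrArg Subtype.val (hinj this)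
  · have : f (s * s' * s⁻¹) = f s'⁻¹ := by rwa [map_mul, map_mul, map_inv, map_inv]
    exact congrArg Subtype.val (hinj this)

end CfsgLib.Geo.D3
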