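/-
Special elements: the Sylow three-subgroup is elementary abelian of order nine and self-centralising, all
elements of order three are special and real, and the automiser is a two-subgroup of SL of dimension two.
-/
import Cfsg.Agent.Geo.DimThree.NoTv.Nine

set_option autoImplicit false
set_option linter.unusedSectionVars false

namespace CfsgLib.Geo.D3

open Matrix Cfsg Cfsg.Geo CfsgLib.Geo

variable {F : Type*} [Field F] [Finite F] {G : Subgroup (GL (Fin 3) F)}

/-- The facts on special elements. -/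
theorem special_sylow_of (hG : NoTv G) (hB : InvFacts G) {g : G} (hg : IsSpecial G g) (R : Sylow 3 (Pro G)) :
    ringChar F ≠ 3 ∧ Nat.card R = 9 ∧ Subgroup.centralizer ((R : Subgroup (Pro G)) : Set (Pro G)) = R ∧
    (∀ h : G, orderOf (toPro G h) = 3 → IsSpecial G h) ∧
    (∀ r ∈ (R : Subgroup (Pro G)), ∃ n ∈ Subgroup.normalizer ((R : Subgroup (Pro G)) : Set (Pro G)),
      n * r * n⁻¹ = r⁻¹) ∧
    ((R : Subgroup (Pro G)).relIndex (Subgroup.normalizer ((R : Subgroup (Pro G)) : Set (Pro G))) = 8 →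
      ∃ a b : Pro G, orderOf a = 4 ∧ orderOf b = 4 ∧ a ^ 2 = b ^ 2 ∧ a * b * a⁻¹ = b⁻¹) ∧
    ((R : Subgroup (Pro G)).relIndex (Subgroup.normalizer ((R : Subgroup (Pro G)) : Set (Pro G))) = 4 →
      ∃ a : Pro G, orderOf a = 4) ∧
    (R : Subgroup (Pro G)).relIndex (Subgroup.normalizer ((R : Subgroup (Pro G)) : Set (Pro G))) ∈ ({2, 4, 8} : Set ℕ) ∧
    (∀ n ∈ Subgroup.normalizer ((R : Subgroup (Pro G)) : Set (Pro G)), ∀ r ∈ (R : Subgroup (Pro G)), r ≠ 1 →
      n * r * n⁻¹ ∈ Subgroup.zpowers r →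
      (∀ s ∈ (R : Subgroup (Pro G)), n * s * n⁻¹ = s) ∨ ∀ s ∈ (R : Subgroup (Pro G)), n * s * n⁻¹ = s⁻¹) ∧
    (∀ r ∈ (R : Subgroup (Pro G)), r ^ 3 = 1) := by
  classical
  haveI : Fact (Nat.Prime 3) := ⟨by norm_num⟩
  obtain ⟨b0, h0⟩ := hg.exists_tw
  obtain ⟨a, b, h, hR⟩ := exists_pair hG hB h0 R
  obtain ⟨hidx, hmem, h8⟩ := autHom_range hG h hR
  have hexp : ∀ r ∈ span2 a b, r ^ 3 = 1 := fun r hr => by
    obtain ⟨i, -, j, -, rfl⟩ := (mem_span2_iff hG h).1 hr
    rw [(h.1.pow_pow i j).mul_pow, ← pow_mul, ← pow_mul, mul_comm i, mul_comm j, pow_mul, pow_mul,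
      h.pow_three hG, h.symm.pow_three hG, one_pow, one_pow, one_mul]
  refine ⟨?_, ?_, ?_, ?_, ?_, ?_, ?_, ?_, ?_, fun r hr => hexp r (hR.le hr)⟩
  · intro hc
    obtain ⟨B, c, ν, hc1, hc3, -⟩ := h.coords hG (toPro_sect a) (toPro_sect b)
    haveI : CharP F 3 := hc ▸ ringChar.charP F
    refine hc1 (sub_eq_zero.1 (pow_eq_zero_iff (n := 3) (by norm_num) |>.1 ?_))
    rw [sub_pow_char (p := 3), hc3, one_pow, sub_self]
  · rw [← card_span2 hG h, ← hR]
  · rw [hR, centralizer_span2 hG h]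
  · intro k hk
    have hp : IsPGroup 3 (Subgroup.zpowers (toPro G k)) :=
      IsPGroup.of_card (n := 1) (by rw [Nat.card_zpowers, hk, pow_one])
    obtain ⟨R', hR'⟩ := hp.exists_le_sylow
    obtain ⟨a', b', h', e⟩ := exists_pair hG hB h0 R'
    obtain ⟨y, -, htw, -⟩ := h'.partner hG (e.le (hR' (Subgroup.mem_zpowers _))) (fun e1 => by
      rw [e1, orderOf_one] at hk; omega)
    exact htw.isSpecial hG rfl
  · intro r hr
    obtain ⟨n, hn, hinv⟩ := exists_inverting_span hG h hR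
    exact ⟨n, by rwa [hR], hinv r (hR.le hr)⟩
  · intro h8'
    rw [hR, hidx] at h8'
    obtain ⟨A, B, hA4, hA2, hB4, hB2, hAB, hconj⟩ := sl23_quaternion
    have hall : ∀ M : Matrix.SpecialLinearGroup (Fin 2) (ZMod 3), M ^ 8 = 1 → M ∈ (autHom hG h).range := by
      intro M hM
      have hsub : ((autHom hG h).range : Set (Matrix.SpecialLinearGroup (Fin 2) (ZMod 3))) =
          ↑(Finset.univ.filter fun M : Matrix.SpecialLinearGroup (Fin 2) (ZMod 3) => M ^ 8 = 1) := by
        refine Set.eq_of_subset_of_ncard_le (fun M hM => by simpa using h8 M hM) ?_ (Set.toFinite _)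
        rw [Set.ncard_coe_finset, sl23_eight, ← Nat.card_coe_set_eq]
        exact h8'.ge
      show M ∈ ((autHom hG h).range : Set (Matrix.SpecialLinearGroup (Fin 2) (ZMod 3)))
      rw [hsub]
      simpa using hM
    have hord : ∀ M : Matrix.SpecialLinearGroup (Fin 2) (ZMod 3), M ^ 4 = 1 → ¬ M ^ 2 = 1 → orderOf M = 4 :=
      fun M h4 h2 => orderOf_eq_prime_pow (p := 2) (n := 1) (by simpa using h2) (by simpa using h4)
    obtain ⟨s, -, hs⟩ := exists_complement hG h hR A (hall A (by rw [pow_mul A 4 2, hA4, one_pow]))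
    obtain ⟨s', -, ho', ho, hsq, hc⟩ := hs B (hall B (by rw [pow_mul B 4 2, hB4, one_pow]))
    refine ⟨s, s', ?_, ?_, congrArg Subtype.val (hsq hAB), congrArg Subtype.val (hc hconj)⟩
    · rw [Subgroup.orderOf_coe, ho, hord A hA4 hA2]
    · rw [Subgroup.orderOf_coe, ho', hord B hB4 hB2]
  · intro h4
    rw [hR, hidx] at h4
    obtain ⟨M, hM, hM'⟩ : ∃ M ∈ (autHom hG h).range, M ^ 4 = 1 ∧ ¬ M ^ 2 = 1 := by
      by_contra hno
      have hsub : ((autHom hG h).range : Set (Matrix.SpecialLinearGroup (Fin 2) (ZMod 3))).ncard ≤ 2 := by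
        by_cases hneg : ∃ M ∈ (autHom hG h).range, M ≠ 1
        · obtain ⟨M0, hM0, hne⟩ := hneg
          have key : ∀ M ∈ (autHom hG h).range, M = 1 ∨ (M : Matrix (Fin 2) (Fin 2) (ZMod 3)) = -1 := fun M hM => by
            rcases sl23_four M (h8 M hM) with e | e | e
            · exact Or.inl e
            · exact Or.inr e
            · exact absurd ⟨M, hM, e⟩ hno
          refine (Set.ncard_le_ncard (t := {1, M0}) (fun M hM => ?_) (Set.toFinite _)).trans
            ((Set.ncard_insert_le _ _).trans (by simp))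
          rcases key M hM with e | e
          · exact Or.inl e
          · rcases key M0 hM0 with e' | e'
            · exact absurd e' hne
            · exact Or.inr (Subtype.ext (e.trans e'.symm))
        · simp only [not_exists, not_and, not_not] at hneg
          refine (Set.ncard_le_ncard (t := {1}) (fun M hM => hneg M hM) (Set.toFinite _)).trans (by simp)
      rw [← Nat.card_coe_set_eq] at hsub
      have : Nat.card (autHom hG h).range ≤ 2 := hsub
      omega
    obtain ⟨s, -, hs⟩ := exists_complement hG h hR M hM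
    obtain ⟨-, -, -, ho, -⟩ := hs M hM
    refine ⟨s, ?_⟩
    rw [Subgroup.orderOf_coe, ho]
    exact orderOf_eq_prime_pow (p := 2) (n := 1) (by simpa using hM'.2) (by simpa using hM'.1)
  · rw [hR, hidx]; exact hmem
  · intro n hn r hr hr1 hpow
    rw [hR] at hn hr ⊢
    obtain ⟨v, rfl⟩ := exists_ev2 hG h hr
    have hsp := autHom_spec hG h ⟨n, hn⟩
    obtain ⟨m, hm⟩ := Subgroup.mem_zpowers_iff.1 hpow
    have hv : v ≠ 0 := fun e => hr1 (by simp [e, ev2])
    have ho : orderOf (ev2 a b v) = 3 := orderOf_eq_prime (hexp _ hr) hr1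
    have hne : n * ev2 a b v * n⁻¹ ≠ 1 := fun e => hr1 (conj_eq_one_iff.1 e)
    have hneg : ∀ w, ev2 a b (-w) = (ev2 a b w)⁻¹ := fun w => by
      refine (inv_eq_of_mul_eq_one_right ?_).symm
      rw [← ev2_add hG h, add_neg_cancel]
      simp [ev2]
    have hpm : (autHom hG h ⟨n, hn⟩ : Matrix (Fin 2) (Fin 2) (ZMod 3)) *ᵥ v = v ∨
        (autHom hG h ⟨n, hn⟩ : Matrix (Fin 2) (Fin 2) (ZMod 3)) *ᵥ v = -v := by
      rw [← zpow_mod_orderOf, ho] at hm
      have hcases : m % ((3 : ℕ) : ℤ) = 0 ∨ m % ((3 : ℕ) : ℤ) = 1 ∨ m % ((3 : ℕ) : ℤ) = 2 := by omega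
      rcases hcases with e | e | e <;> rw [e] at hm
      · rw [zpow_zero] at hm; exact absurd hm.symm hne
      · refine Or.inl (ev2_inj hG h ?_)
        rw [← hsp, ← hm, zpow_one]
      · refine Or.inr (ev2_inj hG h ?_)
        rw [← hsp, hneg, inv_eq_sq (hexp _ hr), ← hm]
        norm_cast
    rcases sl23_line _ (h8 _ ⟨_, rfl⟩) v hv hpm with e | e
    · refine Or.inl fun s hs => ?_
      obtain ⟨w, rfl⟩ := exists_ev2 hG h hs
      rw [show n = ((⟨n, hn⟩ : Subgroup.normalizer ((span2 a b : Subgroup (Pro G)) : Set (Pro G))) : Pro G) from rfl,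
        hsp, e, Matrix.SpecialLinearGroup.coe_one, Matrix.one_mulVec]
    · refine Or.inr fun s hs => ?_
      obtain ⟨w, rfl⟩ := exists_ev2 hG h hs
      rw [show n = ((⟨n, hn⟩ : Subgroup.normalizer ((span2 a b : Subgroup (Pro G)) : Set (Pro G))) : Pro G) from rfl,
        hsp, e, Matrix.neg_mulVec, Matrix.one_mulVec, hneg]

end CfsgLib.Geo.D3
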