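/-
Centralisers of elements without commuting involutions: abelian, equal to the centraliser of each of their
elements outside the scalars, and the automiser permutes the axes.
-/
import Cfsg.Agent.Geo.DimThree.NoTv.Special
import Cfsg.Agent.Geo.DimThree.NoTv.CentCases

set_option autoImplicit false
set_option linter.unusedSectionVars false

namespace CfsgLib.Geo.D3

open Matrix Cfsg Cfsg.Geo CfsgLib.Geo

variable {F : Type*} [Field F] [Finite F] {G : Subgroup (GL (Fin 3) F)}

/-- Block B supplies the involution facts. -/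
theorem NoTv.invFacts (hG : NoTv G) : InvFacts G where
  one hs ht := one_class hG hs ht
  cases ht := cent_cases hG ht
  comm hx _ _ ha hb hab hxa hxb := commuting_involutions hG hx ha hb hab hxa hxb

variable (hG : NoTv G)
include hG

/-- A lifted involution that is not one does not commute with an element with odd centraliser. -/
lemma NoTv.invol_eq_one {g t : G} (hodd : Odd (Nat.card ↥(cen (toPro G g)))) (ht : t * t = 1)
    (hc : Commute t g) : t = 1 := by
  have h1 : toPro G t = 1 := by
    have hm : toPro G t ∈ cen (toPro G g) := Subgroup.mem_centralizer_singleton_iff.2 (hc.map _).eq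
    have hd := orderOf_dvd_natCard (⟨_, hm⟩ : cen (toPro G g))
    rw [Subgroup.orderOf_mk] at hd
    have h2 : orderOf (toPro G t) ∣ 2 := orderOf_dvd_of_pow_eq_one (by rw [sq, ← map_mul, ht, map_one])
    have := Nat.eq_one_of_dvd_coprimes (Nat.coprime_two_right.2 hodd) hd h2
    exact orderOf_eq_one_iff.1 this
  exact hG.lift_unique ht (one_mul 1) (by rw [h1, map_one])

/-- An element commuting with one with odd centraliser has a centraliser without involutions. -/
theorem NoTv.no_invol {B : GL (Fin 3) F} {g h : G} (hodd : Odd (Nat.card ↥(cen (toPro G g))))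
    (hgB : (g : GL (Fin 3) F) ∈ torus B) (hgs : toPro G g ≠ 1) (hhs : toPro G h ≠ 1) (hgh : Commute h g)
    {t : G} (htt : t * t = 1) (hth : Commute t h) : t = 1 := by
  have hgs' : (g : GL (Fin 3) F) ∉ scalars (Fin 3) F := fun e => hgs (toPro_eq_one.2 e)
  have hhs' : (h : GL (Fin 3) F) ∉ scalars (Fin 3) F := fun e => hhs (toPro_eq_one.2 e)
  by_contra hne
  have hng : ¬ Commute t g := fun hc => hne (hG.invol_eq_one hodd htt hc)
  rcases hG.cases' h.2 hhs' with hu | hH | hR
  · exact hG.not_isUni_of_commute h.2 hgB hgs' (commute_coe.2 hgh) hu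
  swap
  · obtain ⟨d, hd, hdd⟩ := hR
    obtain ⟨C, hhC, hhd⟩ := hdd.exists_torus
    exact hng (commute_coe.1 (torus_commute
      (mem_torus_of_regular hhC (hhd ▸ hd) (commute_coe.2 hth))
      (mem_torus_of_regular hhC (hhd ▸ hd) (commute_coe.2 hgh.symm))))
  -- a homology: use the conjugate involution
  set t' := g * t * g⁻¹ with ht'
  have ht't' : t' * t' = 1 := by
    rw [ht', show g * t * g⁻¹ * (g * t * g⁻¹) = g * (t * t) * g⁻¹ by group, htt, mul_one, mul_inv_cancel]
  have ht'h : Commute t' h := ((hgh.symm).mul_left hth).mul_left hgh.symm.inv_left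
  have hord : ∀ {u : G}, u * u = 1 → u ≠ 1 → orderOf (toPro G u) = 2 := fun {u} hu hu1 =>
    orderOf_eq_prime (hp := ⟨Nat.prime_two⟩) (by rw [sq, ← map_mul, hu, map_one])
      fun e => hu1 (hG.lift_unique hu (one_mul 1) (by rw [e, map_one]))
  have ht'1 : t' ≠ 1 := fun e => hne (conj_eq_one_iff.1 e)
  have hdist : toPro G t ≠ toPro G t' := fun e => by
    have := hG.lift_unique htt ht't' e
    exact hng (eq_mul_inv_iff_mul_eq.1 this)
  rcases hG.invFacts.comm hhs (hord htt hne) (hord ht't' ht'1) hdist (hth.map _) (ht'h.map _) with hcom | ⟨c, hc, -, -, hle⟩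
  · -- one of the three commuting involutions is central in the centraliser of the homology
    have hcom' : Commute t t' := hG.commute_lift htt hcom
    have hdiag : ∀ {u : G}, u * u = 1 → u ≠ 1 → Diag3 (u : GL (Fin 3) F) ![1, -1, -1] := fun {u} hu hu1 =>
      diag3_of_sq_one hG u.2 (by simpa using congrArg Subtype.val hu)
        fun e => hu1 (hG.lift_unique hu (one_mul 1) (by rw [toPro_eq_one.2 e, map_one]))
    obtain ⟨C, htC, ht'C⟩ := exists_torus_pair (hdiag htt hne) (hdiag ht't' ht'1) (commute_coe.2 hcom')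
    have hww : t * t' * (t * t') = 1 := by
      rw [show t * t' * (t * t') = t * (t' * t) * t' by group, ← hcom'.eq,
        show t * (t * t') * t' = (t * t) * (t' * t') by group, htt, ht't', mul_one]
    have hw1 : t * t' ≠ 1 := fun e => hdist (by
      rw [show t' = t from (mul_left_cancel (a := t) (e.trans htt.symm))])
    -- coordinates of a lifted involution
    have hval : ∀ {u : G}, u * u = 1 → u ≠ 1 → (u : GL (Fin 3) F) ∈ torus C →
        ∃ p, ∀ l, dvec C (u : GL (Fin 3) F) l = if l = p then 1 else -1 := by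
      intro u hu hu1 huC
      obtain ⟨D, huD, hud⟩ := (hdiag hu hu1).exists_torus
      obtain ⟨π, hπ⟩ := exists_perm_change D C
      refine ⟨π 0, fun l => ?_⟩
      obtain ⟨k, rfl⟩ := π.surjective l
      rw [hπ _ huD huC k, hud]
      fin_cases k <;> simp [π.injective.eq_iff]
    obtain ⟨p, hp⟩ := hval htt hne htC
    obtain ⟨q, hq⟩ := hval ht't' ht'1 ht'C
    have hne1 : (1 : F) ≠ -1 := fun e => hG.two_ne (by linear_combination e)
    have hpq : p ≠ q := fun e => hdist (congrArg _ (Subtype.ext (torus_ext htC ht'C (funext fun l => by rw [hp, hq, e]))))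
    have hsep : ∀ i j, i ≠ j → i = p ∨ j = p ∨ i = q ∨ j = q :=
      fun i j hij => (by decide : ∀ p q i j : Fin 3, p ≠ q → i ≠ j → i = p ∨ j = p ∨ i = q ∨ j = q) p q i j hpq hij
    have hhC : (h : GL (Fin 3) F) ∈ torus C := mem_torus_of_commute fun i j hij => by
      rcases hsep i j hij with e | e | e | e
      · exact ⟨_, htC, commute_coe.2 hth.symm, by rw [hp, hp, if_pos e, if_neg fun e' => hij (e.trans e'.symm)]; exact hne1⟩
      · exact ⟨_, htC, commute_coe.2 hth.symm, by rw [hp, hp, if_pos e, if_neg fun e' => hij (e'.trans e.symm)]; exact hne1.symm⟩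
      · exact ⟨_, ht'C, commute_coe.2 ht'h.symm, by rw [hq, hq, if_pos e, if_neg fun e' => hij (e.trans e'.symm)]; exact hne1⟩
      · exact ⟨_, ht'C, commute_coe.2 ht'h.symm, by rw [hq, hq, if_pos e, if_neg fun e' => hij (e'.trans e.symm)]; exact hne1.symm⟩
    have hnreg : ¬ Function.Injective (dvec C (h : GL (Fin 3) F)) := fun hi => by
      obtain ⟨a, b, hab, hd⟩ := hH
      obtain ⟨D, hhD, hhd⟩ := hd.exists_torus
      have := injective_of_isReg hhD (isReg_of_injective hhC hi)
      rw [hhd] at this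
      exact absurd (@this 1 2 (by simp)) (by decide)
    obtain ⟨i, hi⟩ := exists_axis hhC hnreg hhs'
    -- the involution fixing the axis
    obtain ⟨u, huu, hu1, huC, hui⟩ : ∃ u : G, u * u = 1 ∧ u ≠ 1 ∧ (u : GL (Fin 3) F) ∈ torus C ∧
        ∀ l, l ≠ i → dvec C (u : GL (Fin 3) F) l = -1 := by
      by_cases hip : i = p
      · exact ⟨t, htt, hne, htC, fun l hl => by rw [hp, if_neg (hip ▸ hl)]⟩
      by_cases hiq : i = q
      · exact ⟨t', ht't', ht'1, ht'C, fun l hl => by rw [hq, if_neg (hiq ▸ hl)]⟩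
      refine ⟨t * t', hww, hw1, mul_mem htC ht'C, fun l hl => ?_⟩
      rw [Subgroup.coe_mul, dvec_mul htC ht'C, Pi.mul_apply, hp, hq]
      rcases (by decide : ∀ p q i l : Fin 3, p ≠ q → i ≠ p → i ≠ q → l ≠ i → l = p ∨ l = q) p q i l hpq hip hiq hl
        with rfl | rfl
      · rw [if_pos rfl, if_neg hpq, one_mul]
      · rw [if_pos rfl, if_neg hpq.symm, mul_one]
    have hug : Commute g u := commute_coe.1 (commute_of_part hhC huC (fun a b hab => by
      by_cases ha : a = i
      · by_cases hb : b = i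
        · rw [ha, hb]
        · exact absurd hab.symm (ha ▸ (hi b b hb hb).2)
      · by_cases hb : b = i
        · exact absurd hab (hb ▸ (hi a a ha ha).2)
        · rw [hui a ha, hui b hb]) (commute_coe.2 hgh.symm))
    exact hu1 (hG.invol_eq_one hodd huu hug.symm)
  · have hcg : Commute c (toPro G g) :=
      (Subgroup.mem_centralizer_singleton_iff.1 (hle (Subgroup.mem_centralizer_singleton_iff.2 (hgh.symm.map _).eq))).symm
    have hd := orderOf_dvd_natCard (⟨c, Subgroup.mem_centralizer_singleton_iff.2 hcg.eq⟩ : cen (toPro G g))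
    rw [Subgroup.orderOf_mk, hc] at hd
    exact Nat.not_even_iff_odd.2 hodd (even_iff_two_dvd.2 hd)

/-- The centraliser of an element commuting with one with odd centraliser is abelian. -/
theorem NoTv.cent_comm {B : GL (Fin 3) F} {g h : G} (hodd : Odd (Nat.card ↥(cen (toPro G g))))
    (hgB : (g : GL (Fin 3) F) ∈ torus B) (hgs : toPro G g ≠ 1) (hhs : toPro G h ≠ 1) (hgh : Commute h g)
    {x y : G} (hx : Commute x h) (hy : Commute y h) : Commute x y := by
  classical
  have hgs' : (g : GL (Fin 3) F) ∉ scalars (Fin 3) F := fun e => hgs (toPro_eq_one.2 e)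
  have hhs' : (h : GL (Fin 3) F) ∉ scalars (Fin 3) F := fun e => hhs (toPro_eq_one.2 e)
  obtain ⟨dh, hdh⟩ := hG.diag_of_commute h.2 hgB hgs' (commute_coe.2 hgh)
  set K := Subgroup.centralizer ({h} : Set G) with hK
  have hKmem : ∀ {a : G}, a ∈ K ↔ Commute a h := Subgroup.mem_centralizer_singleton_iff
  have hKodd : Odd (Nat.card K) := by
    rw [← Nat.not_even_iff_odd, even_iff_two_dvd]
    intro h2
    haveI : Fact (Nat.Prime 2) := ⟨Nat.prime_two⟩
    obtain ⟨t, ht⟩ := exists_prime_orderOf_dvd_card' (G := K) 2 h2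
    have htt : (t : G) * t = 1 := by
      rw [← sq, ← ht, ← Subgroup.orderOf_coe, pow_orderOf_eq_one]
    rw [← Subgroup.orderOf_coe, hG.no_invol hodd hgB hgs hhs hgh htt (hKmem.1 t.2), orderOf_one] at ht
    omega
  suffices hcomm : IsMulCommutative K from
    congrArg Subtype.val (hcomm.is_comm.comm ⟨x, hKmem.2 hx⟩ ⟨y, hKmem.2 hy⟩)
  have key : ∀ a : K, a ∉ Subgroup.center K → ∃ C, (h : GL (Fin 3) F) ∈ torus C ∧
      ((a : G) : GL (Fin 3) F) ∈ torus C ∧
      (∀ i j, i ≠ j → dvec C (h : GL (Fin 3) F) i = dvec C (h : GL (Fin 3) F) j →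
        dvec C ((a : G) : GL (Fin 3) F) i ≠ dvec C ((a : G) : GL (Fin 3) F) j) := by
    intro a ha
    have hca : Commute ((a : G) : GL (Fin 3) F) (h : GL (Fin 3) F) := commute_coe.2 (hKmem.1 a.2)
    obtain ⟨C0, hhC0, -⟩ := hdh.exists_torus
    obtain ⟨C, hhC, haC⟩ := hG.exists_torus_comm (a : G).2 hhC0 hhs' hca
    refine ⟨C, hhC, haC, fun i j hij he hd => ha (Subgroup.mem_center_iff.2 fun b => ?_)⟩
    have hn : ¬ Function.Injective (dvec C (h : GL (Fin 3) F)) := fun hi => hij (hi he)
    obtain ⟨k, hk⟩ := exists_axis hhC hn hhs'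
    refine Subtype.ext (commute_coe.1 (commute_of_part hhC haC (fun p q hpq => ?_)
      (commute_coe.2 (hKmem.1 b.2)))).eq
    have hik : i ≠ k := fun e => (hk j j (fun e' => hij (e.trans e'.symm)) (fun e' => hij (e.trans e'.symm))).2
      (e ▸ he.symm)
    have hjk : j ≠ k := fun e => (hk i i hik hik).2 (e ▸ he)
    by_cases hp : p = k
    · by_cases hq : q = k
      · rw [hp, hq]
      · exact absurd hpq.symm (hp ▸ (hk q q hq hq).2)
    · by_cases hq : q = k
      · exact absurd hpq (hq ▸ (hk p p hp hp).2)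
      · rcases (by decide : ∀ i j k p q : Fin 3, i ≠ j → i ≠ k → j ≠ k → p ≠ k → q ≠ k →
          p = q ∨ (p = i ∧ q = j) ∨ (p = j ∧ q = i)) i j k p q hij hik hjk hp hq with e | ⟨e1, e2⟩ | ⟨e1, e2⟩
        · rw [e]
        · rw [e1, e2, hd]
        · rw [e1, e2, hd]
  have intor : ∀ {C : GL (Fin 3) F} {a b : K}, (h : GL (Fin 3) F) ∈ torus C → ((a : G) : GL (Fin 3) F) ∈ torus C →
      (∀ i j, i ≠ j → dvec C (h : GL (Fin 3) F) i = dvec C (h : GL (Fin 3) F) j →
        dvec C ((a : G) : GL (Fin 3) F) i ≠ dvec C ((a : G) : GL (Fin 3) F) j) →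
      Commute b a → ((b : G) : GL (Fin 3) F) ∈ torus C := by
    intro C a b hhC haC hsep hc
    refine mem_torus_of_commute fun i j hij => ?_
    by_cases he : dvec C (h : GL (Fin 3) F) i = dvec C (h : GL (Fin 3) F) j
    · exact ⟨_, haC, commute_coe.2 (congrArg Subtype.val hc.eq), hsep i j hij he⟩
    · exact ⟨_, hhC, commute_coe.2 (hKmem.1 b.2), he⟩
  refine isMulCommutative_of_selfNorm (fun a ha => ?_) fun a k ha hk => ?_
  · obtain ⟨C, hhC, haC, hsep⟩ := key a ha
    refine ⟨⟨fun p q => Subtype.ext (Subtype.ext (commute_coe.1 (torus_commute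
      (intor hhC haC hsep (Subgroup.mem_centralizer_singleton_iff.1 p.2))
      (intor hhC haC hsep (Subgroup.mem_centralizer_singleton_iff.1 q.2)))).eq)⟩⟩
  · obtain ⟨C, hhC, haC, hsep⟩ := key a ha
    obtain ⟨π, hπ⟩ := exists_perm_conj C ((k : G) : GL (Fin 3) F)
    have hkh : ((k : G) : GL (Fin 3) F) * h * ((k : G) : GL (Fin 3) F)⁻¹ = h := by
      rw [(commute_coe.2 (hKmem.1 k.2)).eq, mul_inv_cancel_right]
    have hπh : ∀ l, dvec C (h : GL (Fin 3) F) (π l) = dvec C (h : GL (Fin 3) F) l := fun l => by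
      have := hπ _ hhC (by rw [hkh]; exact hhC) l
      rwa [hkh] at this
    have hπ2 : ∀ l, π (π l) = l := by
      intro l
      by_cases hi : Function.Injective (dvec C (h : GL (Fin 3) F))
      · rw [hi (hπh l), hi (hπh l)]
      · obtain ⟨i, hi'⟩ := exists_axis hhC hi hhs'
        have hfix : π i = i := by
          by_contra e
          exact (hi' (π i) (π i) e e).2 (hπh i)
        exact (by decide : ∀ (π : Equiv.Perm (Fin 3)) i l, π i = i → π (π l) = l) π i l hfix
    have hb : (((k * a * k⁻¹ : K) : G) : GL (Fin 3) F) ∈ torus C := intor hhC haC hsep hk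
    have hsep' : ∀ i j, i ≠ j → dvec C (h : GL (Fin 3) F) i = dvec C (h : GL (Fin 3) F) j →
        dvec C (((k * a * k⁻¹ : K) : G) : GL (Fin 3) F) i ≠ dvec C (((k * a * k⁻¹ : K) : G) : GL (Fin 3) F) j := by
      intro i j hij he
      have e1 := hπ _ haC (by simpa using hb) (π i)
      have e2 := hπ _ haC (by simpa using hb) (π j)
      rw [hπ2] at e1 e2
      simp only [Subgroup.coe_mul, InvMemClass.coe_inv]
      rw [e1, e2]
      exact hsep (π i) (π j) (π.injective.ne hij) (by rw [hπh, hπh, he])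
    have hc2 : Commute (k * (k * a * k⁻¹) * k⁻¹) (k * a * k⁻¹) := (Commute.conj_iff k).2 hk
    have hb2 : ((k * (k * a * k⁻¹) * k⁻¹ : K) : G).1 ∈ torus C := intor hhC hb hsep' hc2
    have heq : k * k * a = a * (k * k) := by
      have e : k * (k * a * k⁻¹) * k⁻¹ = a := by
        refine Subtype.ext (Subtype.ext (torus_ext hb2 haC (funext fun l => ?_)))
        simp only [Subgroup.coe_mul, InvMemClass.coe_inv] at hb hb2 ⊢
        have e2 := hπ _ hb hb2 (π l)
        rw [hπ2] at e2
        rw [e2, hπ _ haC hb l]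
      calc k * k * a = k * (k * a * k⁻¹) * k⁻¹ * (k * k) := by group
        _ = a * (k * k) := by rw [e]
    have hkodd : Odd (orderOf k) := hKodd.of_dvd_nat (orderOf_dvd_natCard k)
    obtain ⟨m, hm⟩ := hkodd
    have hpow : (k * k) ^ (m + 1) = k := by
      rw [← sq, ← pow_mul, show 2 * (m + 1) = orderOf k + 1 by omega, pow_succ, pow_orderOf_eq_one, one_mul]
    rw [← hpow]
    exact Commute.pow_left heq (m + 1)

/-- All elements outside the scalars of the centraliser have the same centraliser. -/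
theorem NoTv.cent_eq {B : GL (Fin 3) F} {g h : G} (hodd : Odd (Nat.card ↥(cen (toPro G g))))
    (hgB : (g : GL (Fin 3) F) ∈ torus B) (hgs : toPro G g ≠ 1) (hhs : toPro G h ≠ 1) (hgh : Commute h g) (a : G) :
    Commute a h ↔ Commute a g :=
  ⟨fun ha => hG.cent_comm hodd hgB hgs hhs hgh ha hgh.symm,
    fun ha => hG.cent_comm hodd hgB hgs hgs (Commute.refl g) ha hgh⟩

end CfsgLib.Geo.D3
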