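/-
Block E: tori without involutions and special elements.
-/
import Cfsg.Agent.Geo.DimThree.NoTv.OddTorus
import Mathlib.GroupTheory.Transfer

set_option autoImplicit false
set_option linter.unusedSectionVars false

namespace CfsgLib.Geo.D3

open Matrix Cfsg Cfsg.Geo CfsgLib.Geo

variable {F : Type*} [Field F] [Finite F] {G : Subgroup (GL (Fin 3) F)}

local notation "Mat" => Matrix (Fin 3) (Fin 3) F

section groups

variable {H : Type*} [Group H] [Finite H]

/-- Burnside: an abelian subgroup that contains the normaliser of each of its nontrivial subgroups. -/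
lemma false_of_normalizer_le (hs : IsSimpleGroup H) (hna : ¬ IsMulCommutative H) {A : Subgroup H}
    (hA : IsMulCommutative A) (hne : A ≠ ⊥)
    (hN : ∀ n : H, ∀ x ∈ A, x ≠ 1 → n * x * n⁻¹ ∈ A → n ∈ A) : False := by
  haveI := hs
  obtain ⟨ℓ, hℓ, hdvd⟩ := Nat.exists_prime_and_dvd (fun e => hne (Subgroup.eq_bot_of_card_eq A e))
  haveI : Fact ℓ.Prime := ⟨hℓ⟩
  obtain ⟨x, hx⟩ := exists_prime_orderOf_dvd_card' (G := A) ℓ hdvd
  have hx1 : (x : H) ≠ 1 := fun e => by
    rw [← Subgroup.orderOf_coe, e, orderOf_one] at hx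
    exact hℓ.one_lt.ne hx
  obtain ⟨R0, hR0⟩ := (IsPGroup.of_card (n := 1) (p := ℓ) (G := Subgroup.zpowers (x : H))
    (by rw [Nat.card_zpowers, Subgroup.orderOf_coe, hx, pow_one])).exists_le_sylow
  have hcomm : ∀ a ∈ A, ∀ b ∈ A, a * b = b * a := fun a ha b hb =>
    congrArg Subtype.val (hA.is_comm.comm ⟨a, ha⟩ ⟨b, hb⟩)
  have hR0A : (R0 : Subgroup H) ≤ A := by
    by_contra hle
    have hlt : (R0 : Subgroup H) ⊓ A ≠ R0 := fun e => hle (inf_eq_left.1 e)
    obtain ⟨u, hu, hnorm, hnot⟩ := exists_normalizing R0.isPGroup' (inf_le_left : (R0 : Subgroup H) ⊓ A ≤ R0)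
      (Ne.symm hlt)
    exact hnot ⟨hu, hN u x x.2 hx1 (hnorm x ⟨hR0 (Subgroup.mem_zpowers _), x.2⟩).2⟩
  have hxR : (x : H) ∈ (R0 : Subgroup H) := hR0 (Subgroup.mem_zpowers _)
  have hle : Subgroup.normalizer ((R0 : Subgroup H) : Set H) ≤
      Subgroup.centralizer ((R0 : Subgroup H) : Set H) := by
    intro n hn
    refine Subgroup.mem_centralizer_iff.2 fun r hr => ?_
    exact hcomm r (hR0A hr) n (hN n x x.2 hx1 (hR0A ((Subgroup.mem_normalizer_iff.1 hn x).1 hxR)))
  have hc := MonoidHom.ker_transferSylow_isComplement' R0 hle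
  rcases IsSimpleGroup.eq_bot_or_eq_top_of_normal _ (MonoidHom.normal_ker (MonoidHom.transferSylow R0 hle)) with
    hb | ht
  · rw [hb, Subgroup.isComplement'_bot_left] at hc
    exact hna ⟨⟨fun p q => hcomm p (hR0A (hc.ge (Subgroup.mem_top p))) q (hR0A (hc.ge (Subgroup.mem_top q)))⟩⟩
  · rw [ht, Subgroup.isComplement'_top_left] at hc
    exact hx1 (Subgroup.mem_bot.1 (hc ▸ hxR))

end groups

/-- In a torus, elements that are not regular and whose product is not regular have the same axis, or are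
involutions modulo scalars. -/
lemma axis_eq {B : GL (Fin 3) F} {x y : GL (Fin 3) F} (hx : x ∈ torus B) (hy : y ∈ torus B) {i j : Fin 3}
    (hij : i ≠ j) (hi : ∀ l m, l ≠ i → m ≠ i → dvec B x l = dvec B x m ∧ dvec B x l ≠ dvec B x i)
    (hj : ∀ l m, l ≠ j → m ≠ j → dvec B y l = dvec B y m ∧ dvec B y l ≠ dvec B y j)
    (h1 : ¬ Function.Injective (dvec B (x * y))) (h2 : ¬ Function.Injective (dvec B (x * y⁻¹))) :
    ∀ l, dvec B (x * x) l = dvec B (x * x) 0 := by
  obtain ⟨k, hki, hkj, huniv⟩ : ∃ k, k ≠ i ∧ k ≠ j ∧ ∀ l, l = i ∨ l = j ∨ l = k :=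
    (by decide : ∀ i j : Fin 3, i ≠ j → ∃ k, k ≠ i ∧ k ≠ j ∧ ∀ l, l = i ∨ l = j ∨ l = k) i j hij
  set a := dvec B x i
  set b := dvec B x j
  set c := dvec B y j
  set d := dvec B y i
  have hxk : dvec B x k = b := (hi k j hki hij.symm).1
  have hyk : dvec B y k = d := (hj k i hkj hij).1
  have hab : b ≠ a := (hi j j hij.symm hij.symm).2
  have hcd : d ≠ c := (hj i i hij hij).2
  have hb0 : b ≠ 0 := dvec_ne_zero hx j
  have hd0 : d ≠ 0 := dvec_ne_zero hy i
  have hc0 : c ≠ 0 := dvec_ne_zero hy j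
  have key : ∀ {z : GL (Fin 3) F}, ¬ Function.Injective (dvec B z) → dvec B z i ≠ dvec B z k →
      dvec B z j ≠ dvec B z k → dvec B z i = dvec B z j := by
    intro z hz h1 h2
    by_contra h3
    refine hz fun p q e => ?_
    rcases huniv p with rfl | rfl | rfl <;> rcases huniv q with rfl | rfl | rfl <;> first
      | rfl
      | exact absurd e h1
      | exact absurd e.symm h1
      | exact absurd e h2
      | exact absurd e.symm h2
      | exact absurd e h3
      | exact absurd e.symm h3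
  have e1 : a * d = b * c := by
    have := key h1
      (by rw [dvec_mul hx hy, Pi.mul_apply, Pi.mul_apply, hxk, hyk]; exact fun e => hab (mul_right_cancel₀ hd0 e).symm)
      (by rw [dvec_mul hx hy, Pi.mul_apply, Pi.mul_apply, hxk, hyk]; exact fun e => hcd (mul_left_cancel₀ hb0 e).symm)
    rwa [dvec_mul hx hy] at this
  have e2 : a * d⁻¹ = b * c⁻¹ := by
    have := key h2
      (by
        rw [dvec_mul hx (inv_mem hy), dvec_inv hy, Pi.mul_apply, Pi.mul_apply, Pi.inv_apply, Pi.inv_apply, hxk, hyk]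
        exact fun e => hab (mul_right_cancel₀ (inv_ne_zero hd0) e).symm)
      (by
        rw [dvec_mul hx (inv_mem hy), dvec_inv hy, Pi.mul_apply, Pi.mul_apply, Pi.inv_apply, Pi.inv_apply, hxk, hyk]
        exact fun e => hcd (inv_injective (mul_left_cancel₀ hb0 e)).symm)
    rwa [dvec_mul hx (inv_mem hy), dvec_inv hy] at this
  field_simp at e2
  have hsq : a * a = b * b := by
    refine mul_right_cancel₀ hd0 ?_
    linear_combination a * e1 + b * e2
  have hall : ∀ l, dvec B (x * x) l = a * a := fun l => by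
    rw [dvec_mul hx hx, Pi.mul_apply]
    rcases huniv l with rfl | rfl | rfl
    · rfl
    · exact hsq.symm
    · rw [hxk, hsq]
  intro l
  rw [hall, hall]

variable (hG : NoTv G)
include hG

lemma NoTv.cent0_mem_conj {g : G} {n : Pro G}
    (hn : n ∈ Subgroup.normalizer ((cent0 G g : Subgroup (Pro G)) : Set (Pro G))) {x : G} (hx : Commute x g) :
    Commute (sect n * x * (sect n)⁻¹) g := by
  have := (Subgroup.mem_normalizer_iff.1 hn _).1 (toPro_mem_cent0.2 hx)
  rw [show n * toPro G x * n⁻¹ = toPro G (sect n * x * (sect n)⁻¹) by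
    rw [map_mul, map_mul, map_inv, toPro_sect]] at this
  exact toPro_mem_cent0.1 this

/-- The automiser of the centraliser of a non-special odd element, with coordinates. -/
theorem NoTv.odd_setup {g : G} (hns : toPro G g ≠ 1) (hu : ¬ IsUni (g : GL (Fin 3) F))
    (hodd : Odd (Nat.card ↥(cen (toPro G g)))) :
    ∃ B : GL (Fin 3) F, (∀ a : G, Commute a g → (a : GL (Fin 3) F) ∈ torus B) ∧
      (∀ h : G, toPro G h ≠ 1 → Commute h g → ∀ a : G, Commute a h ↔ Commute a g) ∧
      ∃ φ : Subgroup.normalizer ((cent0 G g : Subgroup (Pro G)) : Set (Pro G)) →* Equiv.Perm (Fin 3),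
        (∀ n, φ n = 1 ↔ (n : Pro G) ∈ cent0 G g) ∧
        (∀ n : Subgroup.normalizer ((cent0 G g : Subgroup (Pro G)) : Set (Pro G)), ∀ x : G, Commute x g → ∀ l,
          dvec B ((sect (n : Pro G) * x * (sect (n : Pro G))⁻¹ : G) : GL (Fin 3) F) (φ n l) = dvec B (x : GL (Fin 3) F) l) ∧
        (cent0 G g).relIndex (Subgroup.normalizer ((cent0 G g : Subgroup (Pro G)) : Set (Pro G))) = Nat.card φ.range ∧
        Nat.card φ.range ≠ 1 := by
  classical
  have hgs : (g : GL (Fin 3) F) ∉ scalars (Fin 3) F := fun e => hns (toPro_eq_one.2 e)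
  obtain ⟨d0, hd0⟩ : ∃ d, Diag3 (g : GL (Fin 3) F) d := by
    rcases hG.cases' g.2 hgs with h | h | h
    · exact absurd h hu
    · exact h.diag
    · exact h.diag
  obtain ⟨B0, hgB0, -⟩ := hd0.exists_torus
  have heq : ∀ h : G, toPro G h ≠ 1 → Commute h g → ∀ a : G, Commute a h ↔ Commute a g :=
    fun h hh hc a => hG.cent_eq hodd hgB0 hns hh hc a
  have hAcomm : ∀ a b : G, Commute a g → Commute b g → Commute a b := fun a b ha hb =>
    hG.cent_comm hodd hgB0 hns hns (Commute.refl g) ha hb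
  have hA : IsMulCommutative ↥(cent0 G g) := ⟨⟨fun p q => by
    obtain ⟨a, ha, ea⟩ := p.2
    obtain ⟨b, hb, eb⟩ := q.2
    refine Subtype.ext ?_
    show (p : Pro G) * q = q * p
    rw [← ea, ← eb, ← map_mul, ← map_mul, (hAcomm a b (Subgroup.mem_centralizer_singleton_iff.1 ha)
      (Subgroup.mem_centralizer_singleton_iff.1 hb)).eq]⟩⟩
  have hne : cent0 G g ≠ ⊥ := fun e => hns (Subgroup.mem_bot.1 (e ▸ toPro_mem_cent0.2 (Commute.refl g)))
  -- an element normalises the centraliser as soon as it moves one element into it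
  have hnorm : ∀ n : G, ∀ x : G, toPro G x ≠ 1 → Commute x g → Commute (n * x * n⁻¹) g →
      ∀ a : G, Commute a g → Commute (n * a * n⁻¹) g := by
    intro n x hx hxg hc a ha
    have hne' : toPro G (n * x * n⁻¹) ≠ 1 := fun e => hx (by
      rw [map_mul, map_mul, map_inv, conj_eq_one_iff] at e; exact e)
    exact (heq _ hne' hc _).1 ((Commute.conj_iff n).2 ((heq x hx hxg a).2 ha))
  by_cases hreg : ∃ r : G, Commute r g ∧ IsReg (r : GL (Fin 3) F)
  · obtain ⟨r, hrg, d, hd, hdd⟩ := hreg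
    obtain ⟨B, hrB, hrd⟩ := hdd.exists_torus
    have hrinj : Function.Injective (dvec B (r : GL (Fin 3) F)) := hrd ▸ hd
    have hB : ∀ a : G, Commute a g → (a : GL (Fin 3) F) ∈ torus B := fun a ha =>
      mem_torus_of_regular hrB hrinj (commute_coe.2 (hAcomm a r ha hrg))
    set N := Subgroup.normalizer ((cent0 G g : Subgroup (Pro G)) : Set (Pro G))
    have hex : ∀ n : N, ∃ π : Equiv.Perm (Fin 3), ∀ x : G, Commute x g → ∀ l,
        dvec B ((sect (n : Pro G) * x * (sect (n : Pro G))⁻¹ : G) : GL (Fin 3) F) (π l) = dvec B (x : GL (Fin 3) F) l := by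
      intro n
      obtain ⟨π, hπ⟩ := exists_perm_conj B ((sect (n : Pro G) : G) : GL (Fin 3) F)
      refine ⟨π, fun x hx l => ?_⟩
      have hc := hB _ (hG.cent0_mem_conj n.2 hx)
      simp only [Subgroup.coe_mul, InvMemClass.coe_inv] at hc ⊢
      exact hπ _ (hB x hx) hc l
    choose π hπ using hex
    have huniq : ∀ (n : N) (σ : Equiv.Perm (Fin 3)),
        (∀ l, dvec B ((sect (n : Pro G) * r * (sect (n : Pro G))⁻¹ : G) : GL (Fin 3) F) (σ l) =
          dvec B (r : GL (Fin 3) F) l) → σ = π n := fun n σ hσ => Equiv.ext fun l => by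
      obtain ⟨m, hm⟩ := (π n).surjective (σ l)
      have e := hσ l
      rw [← hm, hπ n r hrg] at e
      rw [← hm, hrinj e]
    have hlift : ∀ (a b : G), toPro G a = toPro G b → ∀ x : G, a * x * a⁻¹ = b * x * b⁻¹ := by
      intro a b e x
      obtain ⟨z, hz, rfl⟩ := toPro_coe_eq e
      rw [show b * z * x * (b * z)⁻¹ = b * (z * x * z⁻¹) * b⁻¹ by group, (scalar_comm' hz x).eq, mul_inv_cancel_right]
    let φ : N →* Equiv.Perm (Fin 3) := MonoidHom.mk' π fun n m => (huniq (n * m) (π n * π m) fun l => by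
      rw [hlift (sect ((n * m : N) : Pro G)) (sect (n : Pro G) * sect (m : Pro G))
        (by rw [map_mul, toPro_sect, toPro_sect, toPro_sect]; rfl),
        show sect (n : Pro G) * sect (m : Pro G) * r * (sect (n : Pro G) * sect (m : Pro G))⁻¹ =
          sect (n : Pro G) * (sect (m : Pro G) * r * (sect (m : Pro G))⁻¹) * (sect (n : Pro G))⁻¹ by group,
        Equiv.Perm.mul_apply, hπ n _ (hG.cent0_mem_conj m.2 hrg), hπ m r hrg]).symm
    have hker : ∀ n, φ n = 1 ↔ (n : Pro G) ∈ cent0 G g := by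
      intro n
      refine ⟨fun e => ?_, fun hn => (huniq n 1 fun l => ?_).symm⟩
      · rw [← toPro_sect (n : Pro G), toPro_mem_cent0]
        have hc : sect (n : Pro G) * r * (sect (n : Pro G))⁻¹ = r := by
          refine Subtype.ext (torus_ext (hB _ (hG.cent0_mem_conj n.2 hrg)) hrB (funext fun l => ?_))
          have := hπ n r hrg l
          rwa [show π n = 1 from e, Equiv.Perm.one_apply] at this
        refine (heq r (fun e' => IsReg.not_scalar (isReg_of_injective hrB hrinj) (toPro_eq_one.1 e')) hrg _).1 ?_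
        exact mul_inv_eq_iff_eq_mul.1 hc
      · rw [← toPro_sect (n : Pro G), toPro_mem_cent0] at hn
        rw [(hAcomm _ _ hn hrg).eq, mul_inv_cancel_right, Equiv.Perm.one_apply]
    refine ⟨B, hB, heq, φ, hker, fun n x hx l => hπ n x hx l, ?_, fun h1 => ?_⟩
    · rw [Subgroup.relIndex, ← Subgroup.index_ker]
      congr 1
      ext n
      rw [MonoidHom.mem_ker, hker, Subgroup.mem_subgroupOf]
    · refine false_of_normalizer_le hG.simple hG.nonabelian hA hne fun n x hx hx1 hnx => ?_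
      obtain ⟨m, rfl⟩ := toPro_surjective n
      obtain ⟨y, hy, rfl⟩ := hx
      rw [← map_inv, ← map_mul, ← map_mul] at hnx
      have hmg := toPro_mem_cent0.1 hnx
      have hle : cent0 G g ≤ (cent0 G g).map (MulAut.conj (toPro G m)).toMonoidHom := by
        have hmap : (cent0 G g).map (MulAut.conj (toPro G m)).toMonoidHom ≤ cent0 G g := by
          rintro _ ⟨z, ⟨a, ha, rfl⟩, rfl⟩
          show toPro G m * toPro G a * (toPro G m)⁻¹ ∈ cent0 G g
          rw [← map_inv, ← map_mul, ← map_mul, toPro_mem_cent0]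
          exact hnorm m y hx1 (Subgroup.mem_centralizer_singleton_iff.1 hy) hmg a
            (Subgroup.mem_centralizer_singleton_iff.1 ha)
        exact (Subgroup.eq_of_le_of_card_ge hmap
          (by rw [Subgroup.card_map_of_injective (MulEquiv.injective _)])).ge
      have hmN : toPro G m ∈ N := by
        rw [Subgroup.mem_normalizer_iff]
        refine fun z => ⟨fun hz => ?_, fun hz => ?_⟩
        · obtain ⟨a, ha, rfl⟩ := hz
          rw [← map_inv, ← map_mul, ← map_mul, toPro_mem_cent0]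
          exact hnorm m y hx1 (Subgroup.mem_centralizer_singleton_iff.1 hy) hmg a
            (Subgroup.mem_centralizer_singleton_iff.1 ha)
        · obtain ⟨w, hw, e⟩ := hle hz
          have : w = z := (MulAut.conj (toPro G m)).injective e
          exact this ▸ hw
      have hbot := Subgroup.eq_bot_of_card_eq _ h1
      have := (hker ⟨_, hmN⟩).1 (Subgroup.mem_bot.1 (hbot ▸ ⟨_, rfl⟩))
      exact this
  · exfalso
    simp only [not_exists, not_and] at hreg
    refine false_of_normalizer_le hG.simple hG.nonabelian hA hne fun n x hx hx1 hnx => ?_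
    obtain ⟨m, rfl⟩ := toPro_surjective n
    obtain ⟨y, hy, rfl⟩ := hx
    rw [← map_inv, ← map_mul, ← map_mul] at hnx
    rw [toPro_mem_cent0]
    have hyg : Commute y g := Subgroup.mem_centralizer_singleton_iff.1 hy
    have hag := hnorm m y hx1 hyg (toPro_mem_cent0.1 hnx) g (Commute.refl g)
    obtain ⟨C, hgC, haC⟩ := hG.exists_torus_comm (m * g * m⁻¹).2 hgB0 hgs (commute_coe.2 hag)
    have hnr : ∀ z : G, Commute z g → ∀ (hz : (z : GL (Fin 3) F) ∈ torus C),
        ¬ Function.Injective (dvec C (z : GL (Fin 3) F)) := fun z hz hzC hi => hreg z hz (isReg_of_injective hzC hi)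
    have hans : toPro G (m * g * m⁻¹) ≠ 1 := fun e => hns (by
      rw [map_mul, map_mul, map_inv, conj_eq_one_iff] at e; exact e)
    obtain ⟨i, hi⟩ := exists_axis hgC (hnr g (Commute.refl g) hgC) hgs
    obtain ⟨j, hj⟩ := exists_axis haC (hnr _ hag haC) (fun e => hans (toPro_eq_one.2 e))
    have hij : i = j := by
      by_contra hne'
      have h1 := hnr _ ((Commute.refl g).mul_left hag) (mul_mem hgC haC)
      have h2 := hnr _ ((Commute.refl g).mul_left hag.inv_left) (mul_mem hgC (inv_mem haC))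
      have h2g : toPro G (g * g) = 1 := toPro_eq_one.2
        (scalar_of_const (B := C) (mul_mem hgC hgC) (axis_eq hgC haC hne' hi hj (by simpa using h1) (by simpa using h2)))
      have hd : orderOf (toPro G g) ∣ 2 := orderOf_dvd_of_pow_eq_one (by rw [sq, ← map_mul, h2g])
      have hd2 := orderOf_dvd_natCard (⟨toPro G g, Subgroup.mem_centralizer_singleton_iff.2 rfl⟩ : cen (toPro G g))
      rw [Subgroup.orderOf_mk] at hd2
      exact hns (orderOf_eq_one_iff.1 (Nat.eq_one_of_dvd_coprimes (Nat.coprime_two_right.2 hodd) hd2 hd))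
    subst hij
    obtain ⟨π, hπ⟩ := exists_perm_conj C (m : GL (Fin 3) F)
    simp only [Subgroup.coe_mul, InvMemClass.coe_inv] at haC hj
    have hπ' := hπ _ hgC haC
    have hfix : π i = i := by
      by_contra e
      obtain ⟨l, hl, hli⟩ : ∃ l, π l ≠ i ∧ l ≠ i :=
        (by decide : ∀ (π : Equiv.Perm (Fin 3)) i, π i ≠ i → ∃ l, π l ≠ i ∧ l ≠ i) π i e
      refine (hi l l hli hli).2 ?_
      rw [← hπ' l, ← hπ' i]
      exact (hj _ _ hl e).1
    have hfix' : m * g * m⁻¹ = g := by
      refine Subtype.ext ?_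
      simp only [Subgroup.coe_mul, InvMemClass.coe_inv]
      refine torus_ext haC hgC (funext fun l => ?_)
      obtain ⟨k, rfl⟩ := π.surjective l
      rw [hπ']
      by_cases hk : k = i
      · rw [hk, hfix]
      · exact (hi k (π k) hk fun e => hk (π.injective (e.trans hfix.symm))).1
    exact mul_inv_eq_iff_eq_mul.1 hfix'

/-- A fixed element of an automorphism moving the coordinates twists with it. -/
lemma NoTv.tw_of_fixed {g : G} {n : Pro G}
    (heq : ∀ h : G, toPro G h ≠ 1 → Commute h g → ∀ a : G, Commute a h ↔ Commute a g)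
    (hn : n ∉ cent0 G g) {a : G} (ha : Commute a g) (ha1 : toPro G a ≠ 1)
    (hfix : n * toPro G a * n⁻¹ = toPro G a) : Tw (toPro G a) n := by
  refine ⟨(mul_inv_eq_iff_eq_mul.1 hfix).symm, fun e => hn ?_⟩
  rw [← toPro_sect n, toPro_mem_cent0]
  rw [← toPro_sect n] at e
  exact (heq a ha1 ha _).1 (cm_eq_one_iff.1 e).symm

/-- Facts on a twisted element whose torus has a fixed axis: none. -/
lemma NoTv.no_fixed_axis {B : GL (Fin 3) F} {a k : G} {σ : Equiv.Perm (Fin 3)} {i : Fin 3}
    (haB : (a : GL (Fin 3) F) ∈ torus B) (_hkB : ((k * a * k⁻¹ : G) : GL (Fin 3) F) ∈ torus B)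
    (hσ : ∀ l, dvec B ((k * a * k⁻¹ : G) : GL (Fin 3) F) (σ l) = dvec B (a : GL (Fin 3) F) l) (hi : σ i = i)
    (hc : Commute (toPro G k) (toPro G a)) : Commute k a := by
  obtain ⟨z, hz, e⟩ := toPro_coe_eq (G := G) (a := k * a * k⁻¹) (b := a) (by
    rw [map_mul, map_mul, map_inv, hc.eq, mul_inv_cancel_right])
  obtain ⟨c, hzB, hzd⟩ := scalar_torus B hz
  have h := hσ i
  rw [hi, e, Subgroup.coe_mul, dvec_mul haB hzB, Pi.mul_apply, hzd] at h
  have hc1 : c = 1 := mul_left_cancel₀ (dvec_ne_zero haB i) (h.trans (mul_one _).symm)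
  have hz1 : z = 1 := Subtype.ext (torus_ext hzB (one_mem _) (by
    rw [hzd, hc1, Subgroup.coe_one, dvec_one]; rfl))
  rw [hz1, mul_one] at e
  exact mul_inv_eq_iff_eq_mul.1 e

/-- Tori without involutions. -/
theorem odd_block {g : G} (hns : toPro G g ≠ 1) (hu : ¬ IsUni (g : GL (Fin 3) F))
    (hodd : Odd (Nat.card ↥(cen (toPro G g)))) :
    IsMulCommutative ↥(cent0 G g) ∧
    (∀ h : G, toPro G h ∈ cent0 G g → toPro G h ≠ 1 → cent0 G h = cent0 G g) ∧
    ((cent0 G g).relIndex (Subgroup.normalizer ((cent0 G g) : Set (Pro G))) = 2 ∨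
     ((cent0 G g).relIndex (Subgroup.normalizer ((cent0 G g) : Set (Pro G))) = 3 ∧
        Nat.card ↥(cent0 G g) % 3 = 1 ∧ 7 ≤ Nat.card ↥(cent0 G g)) ∨
     ((cent0 G g).relIndex (Subgroup.normalizer ((cent0 G g) : Set (Pro G))) = 6 ∧
        Nat.card ↥(cent0 G g) = 3)) := by
  classical
  set N := Subgroup.normalizer ((cent0 G g : Subgroup (Pro G)) : Set (Pro G)) with hNdef
  obtain ⟨B, hB, heq, φ, hker, hφ, hidx, hne1⟩ := hG.odd_setup hns hu hodd
  have hA : IsMulCommutative ↥(cent0 G g) := ⟨⟨fun p q => by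
    obtain ⟨a, ha, ea⟩ := p.2
    obtain ⟨b, hb, eb⟩ := q.2
    refine Subtype.ext ?_
    show (p : Pro G) * q = q * p
    have hab : Commute a b := commute_coe.1 (torus_commute (hB a (Subgroup.mem_centralizer_singleton_iff.1 ha))
      (hB b (Subgroup.mem_centralizer_singleton_iff.1 hb)))
    rw [← ea, ← eb, ← map_mul, ← map_mul, hab.eq]⟩⟩
  have hcent : ∀ h : G, toPro G h ∈ cent0 G g → toPro G h ≠ 1 → cent0 G h = cent0 G g := by
    intro h hh hh1
    ext x
    obtain ⟨a, rfl⟩ := toPro_surjective x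
    rw [toPro_mem_cent0, toPro_mem_cent0, heq h hh1 (toPro_mem_cent0.1 hh)]
  have hoddA : Odd (Nat.card ↥(cent0 G g)) := hodd.of_dvd_nat (Subgroup.card_dvd_of_le (cent0_le_cen g))
  refine ⟨hA, hcent, ?_⟩
  -- no element other than one is fixed, unless the automiser is everything
  have hinv : ∀ n : N, φ n ≠ 1 → (∃ i, φ n i = i) → ∀ a ∈ cent0 G g, (n : Pro G) * a * (n : Pro G)⁻¹ = a → a = 1 := by
    rintro n hn ⟨i, hi⟩ a ha hfix
    by_contra ha1
    obtain ⟨x, hx, rfl⟩ := ha
    have hxg : Commute x g := Subgroup.mem_centralizer_singleton_iff.1 hx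
    have htw := hG.tw_of_fixed heq (fun e => hn ((hker n).2 e)) hxg ha1 hfix
    rw [← toPro_sect (n : Pro G)] at htw
    exact htw.2 (cm_eq_one_iff.2 (hG.no_fixed_axis (hB x hxg) (hB _ (hG.cent0_mem_conj n.2 hxg))
      (hφ n x hxg) hi htw.1.symm).symm)
  have h6 : Nat.card φ.range ∣ 6 := by
    have := Subgroup.card_subgroup_dvd_card φ.range
    rwa [Nat.card_perm, Nat.card_fin] at this
  have hcases : Nat.card φ.range = 2 ∨ Nat.card φ.range = 3 ∨ Nat.card φ.range = 6 := by
    have key : ∀ d ∈ Nat.divisors 6, d ≠ 1 → d = 2 ∨ d = 3 ∨ d = 6 := by decide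
    exact key _ (Nat.mem_divisors.2 ⟨h6, by norm_num⟩) hne1
  rw [hidx]
  rcases hcases with h2 | h3 | h6'
  · exact Or.inl h2
  · refine Or.inr (Or.inl ⟨h3, ?_⟩)
    haveI : Fact (Nat.Prime 3) := ⟨by norm_num⟩
    obtain ⟨⟨σ, ⟨k, rfl⟩⟩, hk⟩ := exists_prime_orderOf_dvd_card' (G := φ.range) 3 (dvd_of_eq h3.symm)
    replace hk : orderOf (φ k) = 3 := (Subgroup.orderOf_coe (⟨φ k, k, rfl⟩ : φ.range)).trans hk
    have hk1 : φ k ≠ 1 := fun e => by rw [e, orderOf_one] at hk; omega
    -- fixed points would be special and real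
    have hfix : ∀ a ∈ cent0 G g, (k : Pro G) * a * (k : Pro G)⁻¹ = a → a = 1 := by
      intro a ha hfix
      by_contra ha1
      obtain ⟨x, hx, rfl⟩ := ha
      have hxg : Commute x g := Subgroup.mem_centralizer_singleton_iff.1 hx
      have htw := hG.tw_of_fixed heq (fun e => hk1 ((hker k).2 e)) hxg ha1 hfix
      obtain ⟨R, hR⟩ := (IsPGroup.of_card (n := 1) (p := 3) (G := Subgroup.zpowers (toPro G x))
        (by rw [Nat.card_zpowers, htw.orderOf_eq hG, pow_one])).exists_le_sylow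
      obtain ⟨-, -, -, -, hreal, -⟩ := special_sylow_of hG hG.invFacts (htw.isSpecial hG rfl) R
      obtain ⟨m, -, hm⟩ := hreal _ (hR (Subgroup.mem_zpowers _))
      have hxtor : cent0 G g = tor (toPro G x) := by
        rw [tor_eq_cent0, hcent x (toPro_mem_cent0.2 hxg) ha1]
      have hmN : m ∈ N := by
        rw [hNdef, hxtor, Subgroup.mem_normalizer_iff]
        refine fun z => ⟨fun hz => ?_, fun hz => ?_⟩
        · rw [← tor_inv (toPro G x), ← hm]; exact tor_conj m hz
        · have := tor_conj m⁻¹ hz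
          rw [← tor_inv (toPro G x)]
          have hm' : m⁻¹ * toPro G x * m⁻¹⁻¹ = (toPro G x)⁻¹ := by
            calc m⁻¹ * toPro G x * m⁻¹⁻¹ = m⁻¹ * ((toPro G x)⁻¹)⁻¹ * m := by rw [inv_inv, inv_inv]
              _ = m⁻¹ * (m * toPro G x * m⁻¹)⁻¹ * m := by rw [hm]
              _ = (toPro G x)⁻¹ := by group
          rw [hm', show m⁻¹ * (m * z * m⁻¹) * m⁻¹⁻¹ = z by group] at this
          exact this
      have hK : cen (toPro G x) ⊓ N = N := by
        have hkK : (k : Pro G) ∈ cen (toPro G x) ⊓ N :=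
          ⟨Subgroup.mem_centralizer_singleton_iff.2 (mul_inv_eq_iff_eq_mul.1 hfix), k.2⟩
        have hle : cent0 G g ≤ cen (toPro G x) ⊓ N := le_inf (fun z hz => by
          rw [hxtor] at hz; exact Subgroup.mem_centralizer_singleton_iff.2 hz.1.eq) Subgroup.le_normalizer
        have hmul := Subgroup.relIndex_mul_relIndex _ _ _ hle inf_le_right
        rw [hidx, h3] at hmul
        rcases (Nat.dvd_prime (by norm_num : Nat.Prime 3)).1 (Dvd.intro _ hmul) with e | e
        · exact absurd ((hker k).2 (Subgroup.relIndex_eq_one.1 e hkK)) hk1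
        · rw [e] at hmul
          exact le_antisymm inf_le_right (Subgroup.relIndex_eq_one.1 (by omega))
      have hmc : Commute m (toPro G x) := Subgroup.mem_centralizer_singleton_iff.1 (hK.ge hmN).1
      rw [hmc.eq, mul_inv_cancel_right] at hm
      have h2 : toPro G x ^ 2 = 1 := by rw [sq]; exact mul_eq_one_iff_eq_inv.2 hm
      have := orderOf_dvd_of_pow_eq_one h2
      rw [htw.orderOf_eq hG] at this
      omega
    -- count
    letI := Fintype.ofFinite (cent0 G g)
    let f : Equiv.Perm (cent0 G g) := Equiv.ofBijective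
      (fun a => ⟨(k : Pro G) * a * (k : Pro G)⁻¹, (Subgroup.mem_normalizer_iff.1 k.2 a).1 a.2⟩)
      (Finite.injective_iff_bijective.1 fun a b e => Subtype.ext (by simpa using congrArg Subtype.val e))
    have hfpow : ∀ j a, (((f ^ j) a : cent0 G g) : Pro G) = (k : Pro G) ^ j * a * ((k : Pro G) ^ j)⁻¹ := fun j a => by
      induction j with
      | zero => simp
      | succ j ih =>
        rw [pow_succ', Equiv.Perm.mul_apply]
        show (k : Pro G) * ((f ^ j) a : Pro G) * (k : Pro G)⁻¹ = _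
        rw [ih, pow_succ']
        group
    have hk3 : (k : Pro G) ^ 3 ∈ cent0 G g := by
      have : φ (k ^ 3) = 1 := by rw [map_pow]; exact orderOf_dvd_iff_pow_eq_one.1 (dvd_of_eq hk)
      simpa using (hker _).1 this
    have hf3 : f ^ 3 ^ 1 = 1 := Equiv.ext fun a => Subtype.ext (by
      rw [pow_one, hfpow, congrArg Subtype.val (hA.is_comm.comm ⟨_, hk3⟩ a) |> fun e => (show (k : Pro G) ^ 3 * (a : Pro G) = a * (k : Pro G) ^ 3 from e),
        mul_inv_cancel_right]
      rfl)
    have hmod := Equiv.Perm.card_compl_support_modEq (p := 3) (n := 1) hf3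
    have h1 : f.supportᶜ.card = 1 := by
      rw [Finset.card_eq_one]
      refine ⟨1, Finset.eq_singleton_iff_unique_mem.2 ⟨?_, fun z hz => Subtype.ext ?_⟩⟩
      · rw [Finset.mem_compl, Equiv.Perm.notMem_support]
        exact Subtype.ext (show (k : Pro G) * 1 * (k : Pro G)⁻¹ = 1 by rw [mul_one, mul_inv_cancel])
      · refine hfix z z.2 ?_
        rw [Finset.mem_compl, Equiv.Perm.notMem_support] at hz
        exact congrArg Subtype.val hz
    rw [h1, ← Nat.card_eq_fintype_card] at hmod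
    have hA1 : Nat.card ↥(cent0 G g) % 3 = 1 := hmod.symm
    refine ⟨hA1, ?_⟩
    have hgt : 1 < Nat.card ↥(cent0 G g) := Finite.one_lt_card_iff_nontrivial.2
      ⟨⟨_, toPro_mem_cent0.2 (Commute.refl g)⟩, 1, fun e => hns (congrArg Subtype.val e)⟩
    obtain ⟨c, hc⟩ := hoddA
    omega
  · refine Or.inr (Or.inr ⟨h6', ?_⟩)
    have htop : φ.range = ⊤ := Subgroup.eq_top_of_card_eq _ (by
      rw [h6', Nat.card_perm, Nat.card_fin]; rfl)
    obtain ⟨n1, hn1⟩ : Equiv.swap (0 : Fin 3) 1 ∈ φ.range := htop ▸ Subgroup.mem_top _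
    obtain ⟨n2, hn2⟩ : Equiv.swap (1 : Fin 3) 2 ∈ φ.range := htop ▸ Subgroup.mem_top _
    have hneg : ∀ n : N, φ n * φ n = 1 → φ n ≠ 1 → (∃ i, φ n i = i) → ∀ a ∈ cent0 G g,
        (n : Pro G) * a * (n : Pro G)⁻¹ = a⁻¹ := by
      intro n hn hn' hi a ha
      have hn2 : (n : Pro G) * n ∈ cent0 G g := by
        have := (hker (n * n)).1 (by rw [map_mul, hn])
        simpa using this
      have hb : (n : Pro G) * a * (n : Pro G)⁻¹ ∈ cent0 G g := (Subgroup.mem_normalizer_iff.1 n.2 a).1 ha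
      refine eq_inv_of_mul_eq_one_right (hinv n hn' hi _ (mul_mem ha hb) ?_)
      have e : (n : Pro G) * n * a = a * (n * n) := congrArg Subtype.val (hA.is_comm.comm ⟨_, hn2⟩ ⟨a, ha⟩)
      have e2 : a * ((n : Pro G) * a * (n : Pro G)⁻¹) = (n : Pro G) * a * (n : Pro G)⁻¹ * a :=
        congrArg Subtype.val (hA.is_comm.comm ⟨a, ha⟩ ⟨_, hb⟩)
      calc (n : Pro G) * (a * ((n : Pro G) * a * (n : Pro G)⁻¹)) * (n : Pro G)⁻¹
          = (n : Pro G) * a * (n : Pro G)⁻¹ * ((n : Pro G) * n * a * ((n : Pro G) * n)⁻¹) := by group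
        _ = (n : Pro G) * a * (n : Pro G)⁻¹ * a := by rw [e, mul_inv_cancel_right]
        _ = _ := e2.symm
    have hi1 := hneg n1 (by rw [hn1]; decide) (by rw [hn1]; decide) (by rw [hn1]; exact ⟨2, by decide⟩)
    have hi2 := hneg n2 (by rw [hn2]; decide) (by rw [hn2]; decide) (by rw [hn2]; exact ⟨0, by decide⟩)
    set k := n1 * n2 with hk
    have hk1 : (k : Pro G) ∉ cent0 G g := fun e => by
      have := (hker k).2 e
      rw [hk, map_mul, hn1, hn2] at this
      exact absurd this (by decide)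
    have hfix : ∀ a ∈ cent0 G g, (k : Pro G) * a * (k : Pro G)⁻¹ = a := fun a ha => by
      rw [hk, Subgroup.coe_mul,
        show (n1 : Pro G) * n2 * a * ((n1 : Pro G) * n2)⁻¹ = n1 * (n2 * a * (n2 : Pro G)⁻¹) * (n1 : Pro G)⁻¹ by group,
        hi2 a ha, hi1 _ (inv_mem ha), inv_inv]
    have hgg : toPro G g ∈ cent0 G g := toPro_mem_cent0.2 (Commute.refl g)
    have htw := hG.tw_of_fixed heq hk1 (Commute.refl g) hns (hfix _ hgg)
    have heqA : cent0 G g = Subgroup.zpowers (toPro G g) := by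
      refine le_antisymm (fun z hz => ?_) (Subgroup.zpowers_le.2 hgg)
      by_cases hz1 : z = 1
      · rw [hz1]; exact one_mem _
      obtain ⟨u, hu', rfl⟩ := hz
      have hug : Commute u g := Subgroup.mem_centralizer_singleton_iff.1 hu'
      have hz : toPro G u ∈ cent0 G g := toPro_mem_cent0.2 hug
      have htu := hG.tw_of_fixed heq hk1 hug hz1 (hfix _ hz)
      obtain ⟨_, _, _, -, -, -, -, -, -, h3, -⟩ := htu.coords hG rfl (toPro_sect (k : Pro G))
      exact htw.mem_zpowers hG (by rw [tor_eq_cent0]; exact hz) rfl h3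
    rw [heqA, Nat.card_zpowers, htw.orderOf_eq hG]

/-- The square of the order of the ratio divides. -/
theorem sq_dvd_of_three {g : G} {c k : F} (hd : Diag3 (g : GL (Fin 3) F) (c • ![1, k, k ^ 2]))
    (hodd : Odd (Nat.card ↥(cen (toPro G g))))
    (h3 : (cent0 G g).relIndex (Subgroup.normalizer ((cent0 G g) : Set (Pro G))) = 3) :
    orderOf k ^ 2 ∣ Nat.card ↥(cent0 G g) := by
  classical
  obtain ⟨B0, hgB0, hgd0⟩ := hd.exists_torus
  by_cases hk1 : k = 1
  · rw [hk1, orderOf_one, one_pow]; exact one_dvd _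
  have hck : c ≠ 0 ∧ k ≠ 0 := by
    have h0 := dvec_ne_zero hgB0 0
    have h1 := dvec_ne_zero hgB0 1
    rw [hgd0] at h0 h1
    simp at h0 h1
    exact ⟨h0, h1.2⟩
  have hns : toPro G g ≠ 1 := fun e => by
    obtain ⟨e', -, he⟩ := scalar_torus B0 (toPro_eq_one.1 e)
    have a0 := congrFun (hgd0.symm.trans he) 0
    have a1 := congrFun (hgd0.symm.trans he) 1
    simp at a0 a1
    exact hk1 (mul_left_cancel₀ hck.1 (by rw [a1, mul_one, a0]))
  have hkm : k ^ 2 ≠ 1 := fun e => by
    refine hns ?_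
    have h2 : toPro G g ^ 2 = 1 := by
      rw [← map_pow, toPro_eq_one, Subgroup.coe_pow]
      refine scalar_of_const (B := B0) (pow_mem hgB0 2) fun l => ?_
      rw [dvec_pow hgB0, hgd0]
      fin_cases l <;> simp [mul_pow, e]
    have hd2 := orderOf_dvd_natCard (⟨toPro G g, Subgroup.mem_centralizer_singleton_iff.2 rfl⟩ : cen (toPro G g))
    rw [Subgroup.orderOf_mk] at hd2
    exact orderOf_eq_one_iff.1 (Nat.eq_one_of_dvd_coprimes (Nat.coprime_two_right.2 hodd) hd2 (orderOf_dvd_of_pow_eq_one h2))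
  have hinj0 : Function.Injective (dvec B0 (g : GL (Fin 3) F)) := by
    rw [hgd0]
    have hk2 : k ^ 2 ≠ k := fun e => hk1 (mul_left_cancel₀ hck.2 (by rw [← sq, e, mul_one]))
    intro p q e
    simp only [Pi.smul_apply, smul_eq_mul] at e
    have e' := mul_left_cancel₀ hck.1 e
    fin_cases p <;> fin_cases q <;> first
      | rfl
      | (exfalso; simp at e')
        first
          | exact hk1 e'
          | exact hk1 e'.symm
          | exact hkm e'
          | exact hkm e'.symm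
          | exact hk2 e'
          | exact hk2 e'.symm
          | (rcases e' with e' | e'
             · exact hk1 e'
             · exact hkm (by rw [e']; simp))
  have hu : ¬ IsUni (g : GL (Fin 3) F) := hG.not_isUni_of_commute g.2 hgB0 (fun e => hns (toPro_eq_one.2 e)) (Commute.refl _)
  obtain ⟨-, -, hcase⟩ := odd_block hG hns hu hodd
  have hA1 : Nat.card ↥(cent0 G g) % 3 = 1 := by
    rcases hcase with h | h | h
    · omega
    · exact h.2.1
    · omega
  obtain ⟨B, hB, heq, φ, hker, hφ, hidx, -⟩ := hG.odd_setup hns hu hodd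
  have hgB : (g : GL (Fin 3) F) ∈ torus B := hB g (Commute.refl g)
  obtain ⟨π, hπ⟩ := exists_perm_change B0 B
  set q := π * finRotate 3 * π⁻¹ with hq
  obtain ⟨n, hn⟩ : q ∈ φ.range := by
    have hrange : ∀ M ∈ φ.range, M ^ 3 = 1 := fun M hM => by
      have := pow_card_eq_one' (G := φ.range) (x := ⟨M, hM⟩)
      rw [← hidx, h3] at this
      simpa using congrArg Subtype.val this
    have hsub : (φ.range : Set (Equiv.Perm (Fin 3))) =
        ↑(Finset.univ.filter fun M : Equiv.Perm (Fin 3) => M ^ 3 = 1) := by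
      refine Set.eq_of_subset_of_ncard_le (fun M hM => by simpa using hrange M hM) ?_ (Set.toFinite _)
      rw [Set.ncard_coe_finset, ← Nat.card_coe_set_eq]
      refine le_trans ?_ (show 3 ≤ Nat.card φ.range from (hidx ▸ h3).ge)
      decide
    show q ∈ (φ.range : Set (Equiv.Perm (Fin 3)))
    rw [hsub]
    simp only [Finset.coe_filter, Finset.mem_univ, true_and, Set.mem_ofPred_eq]
    rw [hq, conj_pow, show finRotate 3 ^ 3 = 1 by decide, mul_one, mul_inv_cancel]
  set g' := sect (n : Pro G) * g * (sect (n : Pro G))⁻¹ with hg'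
  have hg'c : Commute g' g := hG.cent0_mem_conj n.2 (Commute.refl g)
  have hg'B := hB g' hg'c
  have hval : ∀ l, dvec B (g : GL (Fin 3) F) (π l) = (c • ![1, k, k ^ 2]) l := fun l => by
    rw [hπ _ hgB0 hgB, hgd0]
  have hval' : ∀ l, dvec B (g' : GL (Fin 3) F) (π (finRotate 3 l)) = (c • ![1, k, k ^ 2]) l := fun l => by
    rw [← hval, ← hφ n g (Commute.refl g) (π l), hn, hq]
    simp
    rfl
  have hord : ∀ i : ℕ, toPro G g ^ i = 1 → k ^ i = 1 := fun i hi => by
    rw [← map_pow, toPro_eq_one, Subgroup.coe_pow] at hi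
    obtain ⟨e, -, he⟩ := scalar_torus B hi
    have a0 := congrFun he (π 0)
    have a1 := congrFun he (π 1)
    rw [dvec_pow hgB, Pi.pow_apply, hval] at a0 a1
    simp [mul_pow] at a0 a1
    exact mul_left_cancel₀ (pow_ne_zero i hck.1) (by rw [a1, mul_one, a0])
  have hordk : orderOf (toPro G g) = orderOf k := by
    refine Nat.dvd_antisymm (orderOf_dvd_of_pow_eq_one ?_)
      (orderOf_dvd_of_pow_eq_one (hord _ (pow_orderOf_eq_one _)))
    rw [← map_pow, toPro_eq_one, Subgroup.coe_pow]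
    refine scalar_of_const (B := B0) (pow_mem hgB0 _) fun l => ?_
    rw [dvec_pow hgB0, hgd0]
    fin_cases l <;> simp [mul_pow, pow_orderOf_eq_one]
    rw [← pow_mul k 2, mul_comm 2 (orderOf k), pow_mul, pow_orderOf_eq_one, one_pow, mul_one]
  have hgA : toPro G g ∈ cent0 G g := toPro_mem_cent0.2 (Commute.refl g)
  have hg'A : toPro G g' ∈ cent0 G g := toPro_mem_cent0.2 hg'c
  have he3 : Nat.Coprime (orderOf k) 3 := by
    refine ((Nat.Prime.coprime_iff_not_dvd (by norm_num : Nat.Prime 3)).2 fun h => ?_).symm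
    have := orderOf_dvd_natCard (⟨_, hgA⟩ : cent0 G g)
    rw [Subgroup.orderOf_mk, hordk] at this
    have := h.trans this
    omega
  have hcomm : Commute (toPro G g) (toPro G g') := hg'c.symm.map _
  have hc1 : ∀ (m : Subgroup.zpowers (toPro G g)) (m' : Subgroup.zpowers (toPro G g')),
      Commute ((Subgroup.zpowers (toPro G g)).subtype m) ((Subgroup.zpowers (toPro G g')).subtype m') := by
    rintro ⟨m, hm⟩ ⟨m', hm'⟩
    obtain ⟨i, rfl⟩ := Subgroup.mem_zpowers_iff.1 hm
    obtain ⟨j, rfl⟩ := Subgroup.mem_zpowers_iff.1 hm'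
    exact (hcomm.zpow_left i).zpow_right j
  let f := MonoidHom.noncommCoprod (Subgroup.zpowers (toPro G g)).subtype
    (Subgroup.zpowers (toPro G g')).subtype hc1
  have ho' : orderOf (toPro G g') = orderOf k := by
    rw [hg', map_mul, map_mul, map_inv, ← hordk, toPro_sect]
    exact MulEquiv.orderOf_eq (MulAut.conj (n : Pro G)) (toPro G g)
  have hf : Function.Injective f := by
    rw [← MonoidHom.ker_eq_bot_iff, eq_bot_iff]
    rintro ⟨⟨a, ha⟩, ⟨b, hb⟩⟩ hab
    obtain ⟨i, rfl⟩ := (mem_powers_iff_mem_zpowers (x := toPro G g)).2 ha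
    obtain ⟨j, rfl⟩ := (mem_powers_iff_mem_zpowers (x := toPro G g')).2 hb
    have hab' : toPro G g ^ i * toPro G g' ^ j = 1 := hab
    rw [← map_pow, ← map_pow, ← map_mul, toPro_eq_one, Subgroup.coe_mul, Subgroup.coe_pow, Subgroup.coe_pow] at hab'
    obtain ⟨e, -, he⟩ := scalar_torus B hab'
    have at' : ∀ l, (c • ![1, k, k ^ 2]) l ^ i * dvec B (g' : GL (Fin 3) F) (π l) ^ j = e := fun l => by
      have := congrFun he (π l)
      rwa [dvec_mul (pow_mem hgB i) (pow_mem hg'B j), dvec_pow hgB, dvec_pow hg'B, Pi.mul_apply, Pi.pow_apply,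
        Pi.pow_apply, hval] at this
    have a0 := at' 0
    have a1 := at' 1
    have a2 := at' 2
    rw [show (0 : Fin 3) = finRotate 3 2 by decide, hval', show finRotate 3 (2 : Fin 3) = 0 by decide] at a0
    rw [show (1 : Fin 3) = finRotate 3 0 by decide, hval', show finRotate 3 (0 : Fin 3) = 1 by decide] at a1
    rw [show (2 : Fin 3) = finRotate 3 1 by decide, hval', show finRotate 3 (1 : Fin 3) = 2 by decide] at a2
    simp only [Pi.smul_apply, smul_eq_mul, Matrix.cons_val_zero, Matrix.cons_val_one, Matrix.cons_val_two,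
      Matrix.head_cons, Matrix.tail_cons, mul_pow, mul_one] at a0 a1 a2
    have hC : c ^ i * c ^ j ≠ 0 := mul_ne_zero (pow_ne_zero _ hck.1) (pow_ne_zero _ hck.1)
    have hK : k ^ i ≠ 0 := pow_ne_zero _ hck.2
    have e1 : (k ^ j) ^ 2 = k ^ i := mul_left_cancel₀ hC (by
      rw [← pow_mul, mul_comm j, pow_mul]; linear_combination a0 - a1)
    have e2 : k ^ i * k ^ j = 1 := by
      refine mul_left_cancel₀ hC (mul_left_cancel₀ hK ?_)
      rw [← pow_mul, mul_comm 2, pow_mul] at a2
      linear_combination a2 - a1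
    have h3j : k ^ (3 * j) = 1 := by
      rw [mul_comm, pow_mul]
      linear_combination k ^ j * e1 + e2
    have hj : orderOf k ∣ j := he3.dvd_of_dvd_mul_left (orderOf_dvd_of_pow_eq_one h3j)
    have hi : orderOf k ∣ i := by
      refine orderOf_dvd_of_pow_eq_one ?_
      rwa [orderOf_dvd_iff_pow_eq_one.1 hj, mul_one] at e2
    refine Subgroup.mem_bot.2 (Prod.ext (Subtype.ext ?_) (Subtype.ext ?_))
    · exact orderOf_dvd_iff_pow_eq_one.1 (hordk ▸ hi)
    · exact orderOf_dvd_iff_pow_eq_one.1 (ho'.symm ▸ hj)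
  have hle : f.range ≤ cent0 G g := by
    rintro _ ⟨⟨⟨a, ha⟩, ⟨b, hb⟩⟩, rfl⟩
    exact mul_mem ((Subgroup.zpowers_le.2 hgA) ha) ((Subgroup.zpowers_le.2 hg'A) hb)
  have := Subgroup.card_dvd_of_le hle
  rw [← Nat.card_congr (MonoidHom.ofInjective hf).toEquiv, Nat.card_prod, Nat.card_zpowers, Nat.card_zpowers, ho',
    hordk, ← sq] at this
  exact this

/-- Special elements. -/
theorem special_sylow {g : G} (hg : IsSpecial G g) (R : Sylow 3 (Pro G)) :
    ringChar F ≠ 3 ∧ Nat.card R = 9 ∧ Subgroup.centralizer ((R : Subgroup (Pro G)) : Set (Pro G)) = R ∧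
    (∀ h : G, orderOf (toPro G h) = 3 → IsSpecial G h) ∧
    (∀ r ∈ (R : Subgroup (Pro G)), ∃ n ∈ Subgroup.normalizer ((R : Subgroup (Pro G)) : Set (Pro G)),
      n * r * n⁻¹ = r⁻¹) ∧
    ((R : Subgroup (Pro G)).relIndex (Subgroup.normalizer ((R : Subgroup (Pro G)) : Set (Pro G))) = 8 →
      ∃ a b : Pro G, orderOf a = 4 ∧ orderOf b = 4 ∧ a ^ 2 = b ^ 2 ∧ a * b * a⁻¹ = b⁻¹) ∧
    ((R : Subgroup (Pro G)).relIndex (Subgroup.normalizer ((R : Subgroup (Pro G)) : Set (Pro G))) = 4 →
      ∃ a : Pro G, orderOf a = 4) ∧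
    (R : Subgroup (Pro G)).relIndex (Subgroup.normalizer ((R : Subgroup (Pro G)) : Set (Pro G))) ∈ ({2, 4, 8} : Set ℕ) ∧
    (∀ n ∈ Subgroup.normalizer ((R : Subgroup (Pro G)) : Set (Pro G)), ∀ r ∈ (R : Subgroup (Pro G)), r ≠ 1 →
      n * r * n⁻¹ ∈ Subgroup.zpowers r →
      (∀ s ∈ (R : Subgroup (Pro G)), n * s * n⁻¹ = s) ∨ ∀ s ∈ (R : Subgroup (Pro G)), n * s * n⁻¹ = s⁻¹) ∧
    (∀ r ∈ (R : Subgroup (Pro G)), r ^ 3 = 1) :=
  special_sylow_of hG hG.invFacts hg R

end CfsgLib.Geo.D3
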