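/-
Unipotent elements of a perfect group of dimension three without transvections: their centralisers modulo
scalars are abelian of exponent the characteristic and pairwise equal or independent; the normaliser acts
through a cyclic group of diagonalisable elements.
-/
import Cfsg.Agent.Geo.DimThree.NoTv.Basic

set_option autoImplicit false
set_option linter.style.haveILetI false

namespace CfsgLib.Geo.D3

open Matrix Cfsg Cfsg.Geo CfsgLib.Geo

variable {F : Type*} [Field F]

local notation "Mat" => Matrix (Fin 3) (Fin 3) F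

/-- A regular nilpotent matrix. -/
structure RegNil (N : Matrix (Fin 3) (Fin 3) F) : Prop where
  cube : N * (N * N) = 0
  sq : N * N ≠ 0

namespace RegNil

variable {N : Matrix (Fin 3) (Fin 3) F} (h : RegNil N)
include h

lemma exists_cyclic : ∃ v, (N * N) *ᵥ v ≠ 0 := by
  by_contra hno
  push Not at hno
  exact h.sq (Matrix.ext_iff_mulVec.2 fun v => by rw [hno v, Matrix.zero_mulVec])

lemma indep {v : Fin 3 → F} (hv : (N * N) *ᵥ v ≠ 0) :
    LinearIndependent F ![v, N *ᵥ v, (N * N) *ᵥ v] := by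
  refine Fintype.linearIndependent_iff.2 fun g hg => ?_
  simp only [Fin.sum_univ_three, Matrix.cons_val_zero, Matrix.cons_val_one, Matrix.cons_val] at hg
  have e2 : N *ᵥ ((N * N) *ᵥ v) = 0 := by rw [Matrix.mulVec_mulVec, h.cube, Matrix.zero_mulVec]
  have e3 : (N * N) *ᵥ (N *ᵥ v) = 0 := by rw [Matrix.mulVec_mulVec, mul_assoc, h.cube, Matrix.zero_mulVec]
  have e4 : (N * N) *ᵥ ((N * N) *ᵥ v) = 0 := by
    rw [← Matrix.mulVec_mulVec _ N N, e2, Matrix.mulVec_zero]
  have g0 : g 0 = 0 := by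
    have := congrArg (fun x => (N * N) *ᵥ x) hg
    simp only [Matrix.mulVec_add, Matrix.mulVec_smul, e3, e4, smul_zero, add_zero, Matrix.mulVec_zero] at this
    exact (smul_eq_zero.1 this).resolve_right hv
  rw [g0, zero_smul, zero_add] at hg
  have g1 : g 1 = 0 := by
    have := congrArg (fun x => N *ᵥ x) hg
    simp only [Matrix.mulVec_add, Matrix.mulVec_smul, e2, smul_zero, add_zero, Matrix.mulVec_zero,
      Matrix.mulVec_mulVec] at this
    exact (smul_eq_zero.1 this).resolve_right hv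
  rw [g1, zero_smul, zero_add] at hg
  intro i
  fin_cases i
  · exact g0
  · exact g1
  · exact (smul_eq_zero.1 hg).resolve_right hv

/-- Two matrices agreeing on a cyclic basis are equal. -/
lemma ext_cyclic {v : Fin 3 → F} (hv : (N * N) *ᵥ v ≠ 0) {A B : Matrix (Fin 3) (Fin 3) F}
    (h0 : A *ᵥ v = B *ᵥ v) (h1 : A *ᵥ (N *ᵥ v) = B *ᵥ (N *ᵥ v))
    (h2 : A *ᵥ ((N * N) *ᵥ v) = B *ᵥ ((N * N) *ᵥ v)) : A = B := by
  refine Matrix.toLin'.injective ((basisOfLinearIndependentOfCardEqFinrank (h.indep hv) (by simp)).ext fun i => ?_)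
  rw [coe_basisOfLinearIndependentOfCardEqFinrank]
  fin_cases i <;> simp [Matrix.toLin'_apply, -Matrix.mulVec_mulVec, h0, h1, h2]

lemma exists_coeff {v : Fin 3 → F} (hv : (N * N) *ᵥ v ≠ 0) (w : Fin 3 → F) :
    ∃ a b d : F, w = a • v + b • (N *ᵥ v) + d • ((N * N) *ᵥ v) := by
  let bs := basisOfLinearIndependentOfCardEqFinrank (h.indep hv) (by simp)
  refine ⟨bs.repr w 0, bs.repr w 1, bs.repr w 2, ?_⟩
  conv_lhs => rw [← bs.sum_repr w]
  simp [bs, Fin.sum_univ_three, coe_basisOfLinearIndependentOfCardEqFinrank]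

/-- The centraliser of a regular nilpotent matrix. -/
lemma commutant {M : Matrix (Fin 3) (Fin 3) F} (hc : M * N = N * M) :
    ∃ a b d : F, M = a • 1 + b • N + d • (N * N) := by
  obtain ⟨v, hv⟩ := h.exists_cyclic
  obtain ⟨a, b, d, he⟩ := h.exists_coeff hv (M *ᵥ v)
  refine ⟨a, b, d, ?_⟩
  set P := a • 1 + b • N + d • (N * N) with hP
  have hPc : P * N = N * P := by
    simp [hP, add_mul, mul_add, mul_assoc]
  have h0 : M *ᵥ v = P *ᵥ v := by
    rw [he, hP, Matrix.add_mulVec, Matrix.add_mulVec, Matrix.smul_mulVec, Matrix.smul_mulVec, Matrix.smul_mulVec,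
      Matrix.one_mulVec]
  refine h.ext_cyclic hv h0 ?_ ?_
  · rw [Matrix.mulVec_mulVec, hc, ← Matrix.mulVec_mulVec, h0, Matrix.mulVec_mulVec, ← hPc, Matrix.mulVec_mulVec]
  · rw [Matrix.mulVec_mulVec, ← mul_assoc, hc, mul_assoc, hc, ← mul_assoc, ← Matrix.mulVec_mulVec, h0,
      Matrix.mulVec_mulVec, mul_assoc, ← hPc, ← mul_assoc, ← hPc, mul_assoc, Matrix.mulVec_mulVec]

lemma comb_eq_zero {a b d : F} (he : a • 1 + b • N + d • (N * N) = (0 : Matrix (Fin 3) (Fin 3) F)) :
    a = 0 ∧ b = 0 ∧ d = 0 := by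
  obtain ⟨v, hv⟩ := h.exists_cyclic
  have := congrArg (fun X : Matrix (Fin 3) (Fin 3) F => X *ᵥ v) he
  simp only [Matrix.add_mulVec, Matrix.smul_mulVec, Matrix.one_mulVec, Matrix.zero_mulVec] at this
  have hi := Fintype.linearIndependent_iff.1 (h.indep hv) ![a, b, d] (by simpa [Fin.sum_univ_three] using this)
  exact ⟨hi 0, hi 1, hi 2⟩

end RegNil

variable {G : Subgroup (GL (Fin 3) F)}

local notation "X[" g "]" => ((Subtype.val g : GL (Fin 3) F) : Matrix (Fin 3) (Fin 3) F)

/-- A unipotent element is a scalar cube root of one times one plus a regular nilpotent. -/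
lemma uni_form (hG : NoTv G) {g : GL (Fin 3) F} (hg : g ∈ G) (hu : IsUni g) :
    ∃ (c : F) (N : Mat), c ^ 3 = 1 ∧ RegNil N ∧ (g : Mat) = c • ((1 : Mat) + N) := by
  obtain ⟨hns, c, hc⟩ := hu
  have hdet := mem_specialLinear.1 (hG.le_specialLinear hg)
  set M : Mat := (g : Mat) - c • 1 with hM
  have hc0 : c ≠ 0 := by
    intro h0
    rw [h0, zero_smul, sub_zero] at hM
    rw [hM] at hc
    have := congrArg Matrix.det hc
    rw [Matrix.det_pow, hdet, one_pow, Matrix.det_zero] at this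
    exact one_ne_zero this
  set N : Mat := c⁻¹ • M with hN
  have hgN : (g : Mat) = c • ((1 : Mat) + N) := by
    rw [hN, smul_add, smul_smul, mul_inv_cancel₀ hc0, one_smul, hM, add_sub_cancel]
  have hN3 : N * (N * N) = 0 := by
    have h : M * (M * M) = 0 := by rw [← mul_assoc, ← pow_two, ← pow_succ, hc]
    rw [hN, smul_mul_smul_comm, smul_mul_smul_comm, h, smul_zero]
  have hd1 : ((1 : Mat) + N).det = 1 := by
    have hnil : IsNilpotent N := ⟨3, by rw [pow_succ, pow_two, mul_assoc]; exact hN3⟩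
    have h1 := Matrix.isNilpotent_charpoly_sub_pow_of_isNilpotent hnil.neg
    have h2 : (-N).charpoly = Polynomial.X ^ (3 : ℕ) := by
      have h4 := h1.eq_zero
      rw [sub_eq_zero, Fintype.card_fin] at h4
      exact h4
    have h3 := Matrix.eval_charpoly (-N) 1
    rw [h2] at h3
    simpa [Matrix.scalar_apply, Matrix.diagonal_one] using h3.symm
  have hc3 : c ^ 3 = 1 := by
    rw [hgN, Matrix.det_smul, hd1, Fintype.card_fin, mul_one] at hdet
    exact hdet
  refine ⟨c, N, hc3, ⟨hN3, fun hN2 => ?_⟩, hgN⟩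
  have hN0 : N ≠ 0 := fun h0 => hns (by
    rw [mem_scalars_iff]
    exact ⟨Units.mk0 c hc0, by rw [hgN, h0, add_zero, Units.val_mk0]⟩)
  have htv : ∀ (k : F) (y : GL (Fin 3) F), y ∈ G → k ≠ 0 → (y : Mat) = 1 + k • N → False := by
    intro k y hy hk hyN
    obtain ⟨v, φ, hv, hφ, hd, he⟩ := exists_vecMulVec_of_sq_zero (smul_ne_zero hk hN0)
      (by rw [smul_mul_smul_comm, hN2, smul_zero])
    exact hG.noTv v φ hv hφ ⟨hd, (Units.ext (by rw [hyN, tvec_val, he]) : y = tvec v φ hd) ▸ hy⟩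
  by_cases h3 : (3 : F) = 0
  · have hc1 : c = 1 := by
      have : (c - 1) ^ 3 = 0 := by linear_combination hc3 + (c - c ^ 2) * h3
      exact sub_eq_zero.1 (pow_eq_zero_iff (by norm_num) |>.1 this)
    exact htv 1 g hg one_ne_zero (by rw [hgN, hc1, one_smul, one_smul])
  · refine htv 3 (g ^ 3) (G.pow_mem hg 3) h3 ?_
    rw [Units.val_pow_eq_pow_val, hgN, smul_pow, hc3, one_smul, pow_succ, pow_two]
    have h3' : (3 : F) • N = N + N + N := by module
    rw [h3']
    simp only [add_mul, mul_add, one_mul, mul_one, hN2, add_zero]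
    abel

/-- A polynomial in `N` inside the group is scalar or unipotent. -/
lemma isUni_of_comb (hG : NoTv G) {N : Mat} (hN : RegNil N) {y : GL (Fin 3) F} (hy : y ∈ G)
    (hns : y ∉ scalars (Fin 3) F) {a b d : F} (he : (y : Mat) = a • 1 + b • N + d • (N * N)) :
    IsUni y ∧ b ≠ 0 := by
  have hu : IsUni y := ⟨hns, a, by
    rw [he, add_assoc, add_sub_cancel_left]
    simp only [pow_succ, pow_zero, one_mul, add_mul, mul_add, smul_mul_assoc, mul_smul_comm, mul_assoc,
      hN.cube, smul_zero, mul_zero, add_zero]⟩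
  refine ⟨hu, fun hb => ?_⟩
  obtain ⟨c, M, hc3, hM, hM'⟩ := uni_form hG hy hu
  rw [hb, zero_smul, add_zero, hM', smul_add] at he
  have hc0 : c ≠ 0 := fun h0 => by rw [h0] at hc3; simp at hc3
  have hM1 : c • M = (a - c) • (1 : Mat) + d • (N * N) := by
    rw [sub_smul]; linear_combination (norm := module) he
  have h2 : (a - c) * (a - c) * (a - c) = 0 := by
    have h := congrArg (fun X : Mat => X * (X * X)) hM1
    simp only [smul_mul_smul_comm, hM.cube, smul_zero] at h
    have e : ((a - c) • (1 : Mat) + d • (N * N)) * (((a - c) • 1 + d • (N * N)) * ((a - c) • 1 + d • (N * N))) =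
        ((a - c) * (a - c) * (a - c)) • 1 + (0 : F) • N + (3 * ((a - c) * (a - c) * d)) • (N * N) := by
      simp only [add_mul, mul_add, smul_mul_assoc, mul_smul_comm, one_mul, mul_one, mul_assoc, hN.cube, mul_zero,
        smul_zero, add_zero]
      module
    rw [e] at h
    exact (hN.comb_eq_zero h.symm).1
  have hac : a - c = 0 := by
    rcases mul_eq_zero.1 h2 with h | h
    · exact mul_self_eq_zero.1 h
    · exact h
  rw [hac, zero_smul, zero_add] at hM1
  have h := congrArg (fun X : Mat => X * X) hM1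
  simp only [smul_mul_smul_comm, mul_assoc, hN.cube, mul_zero, smul_zero] at h
  exact hM.sq ((smul_eq_zero.1 h).resolve_left (mul_ne_zero hc0 hc0))

/-- Commuting modulo scalars with a unipotent element is commuting. -/
lemma uni_commute {u : G} {c : F} {N : Mat} (hc : c ≠ 0) (hN : RegNil N)
    (hu : X[u] = c • ((1 : Mat) + N)) {y : G} (hy : Commute (toPro G u) (toPro G y)) :
    X[y] * N = N * X[y] := by
  have hz : ((u * y * u⁻¹ * y⁻¹ : G) : GL (Fin 3) F) ∈ scalars (Fin 3) F := by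
    rw [← toPro_eq_one, map_mul, map_mul, map_mul, map_inv, map_inv, hy.eq, mul_inv_cancel_right,
      mul_inv_cancel]
  obtain ⟨z, hz⟩ := (mem_scalars_iff _).1 hz
  have h1 : X[u] * X[y] = (z : F) • (X[y] * X[u]) := by
    have h0 : u * y = (u * y * u⁻¹ * y⁻¹) * (y * u) := by group
    have h : X[u] * X[y] = X[u * y * u⁻¹ * y⁻¹] * (X[y] * X[u]) := congrArg (fun g : G => X[g]) h0
    rw [h, hz, smul_mul_assoc, one_mul]
  obtain ⟨v, hv⟩ := hN.exists_cyclic
  set x := (N * N) *ᵥ v
  have hNx : N *ᵥ x = 0 := by rw [Matrix.mulVec_mulVec, hN.cube, Matrix.zero_mulVec]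
  set w := X[y] *ᵥ x
  have h2 : N *ᵥ w = ((z : F) - 1) • w := by
    have h := congrArg (fun X : Mat => X *ᵥ x) h1
    simp only [hu, Matrix.smul_mulVec, ← Matrix.mulVec_mulVec, Matrix.add_mulVec, Matrix.one_mulVec, hNx,
      add_zero, Matrix.mulVec_smul] at h
    rw [smul_comm (z : F)] at h
    have h' := smul_right_injective _ hc h
    rw [sub_smul, one_smul]
    exact eq_sub_of_add_eq' h'
  have hw : w ≠ 0 := fun e => hv (by
    have := congrArg (fun r => (((y : GL (Fin 3) F)⁻¹ : GL (Fin 3) F) : Mat) *ᵥ r) e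
    simpa only [w, inv_mulVec_mulVec, Matrix.mulVec_zero] using this)
  have hz1 : (z : F) = 1 := by
    have h3 : N *ᵥ (N *ᵥ (N *ᵥ w)) = 0 := by
      rw [Matrix.mulVec_mulVec, Matrix.mulVec_mulVec, mul_assoc, hN.cube, Matrix.zero_mulVec]
    simp only [h2, Matrix.mulVec_smul, smul_smul, smul_eq_zero, hw, or_false] at h3
    exact sub_eq_zero.1 (by
      rcases mul_eq_zero.1 h3 with h | h
      · exact mul_self_eq_zero.1 h
      · exact h)
  rw [hz1, one_smul, hu, smul_mul_assoc, mul_smul_comm] at h1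
  have h2' := smul_right_injective _ hc h1
  rw [add_mul, mul_add, one_mul, mul_one] at h2'
  exact (add_left_cancel h2').symm

lemma commute_of_eq {y z : G} (h : X[y] * X[z] = X[z] * X[y]) : Commute y z :=
  Subtype.ext (Units.ext h)

/-- The centraliser of a unipotent element. -/
lemma uni_cen (hG : NoTv G) {u : G} (hu : IsUni (u : GL (Fin 3) F)) :
    ∃ (c : F) (N : Mat), c ≠ 0 ∧ RegNil N ∧ X[u] = c • ((1 : Mat) + N) ∧
      ∀ y : G, toPro G y ∈ cen (toPro G u) ↔ X[y] * N = N * X[y] := by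
  obtain ⟨c, N, hc3, hN, he⟩ := uni_form hG u.2 hu
  have hc : c ≠ 0 := fun h0 => by rw [h0] at hc3; simp at hc3
  refine ⟨c, N, hc, hN, he, fun y => ⟨fun h => uni_commute hc hN he ?_, fun h => ?_⟩⟩
  · exact Subgroup.mem_centralizer_singleton_iff.1 h |>.symm
  · refine Subgroup.mem_centralizer_singleton_iff.2 ((commute_of_eq (y := y) (z := u) ?_).map (toPro G)).eq
    rw [he, smul_add, mul_add, add_mul, mul_smul_comm, smul_mul_assoc, mul_one, one_mul, mul_smul_comm, smul_mul_assoc, h]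

theorem uni_block [Finite F] (hG : NoTv G) {p : ℕ} [CharP F p] {u : G} (hu : IsUni (u : GL (Fin 3) F)) :
    IsMulCommutative ↥(cen (toPro G u)) ∧ IsPGroup p ↥(cen (toPro G u)) ∧
    (∀ y ∈ cen (toPro G u), y ^ p = 1) ∧
    (∀ y ∈ cen (toPro G u), y ≠ 1 → cen y = cen (toPro G u)) := by
  have hp : Fact p.Prime := ⟨CharP.char_is_prime F p⟩
  have hp3 : 3 ≤ p := by
    have h2 := hp.out.two_le
    refine Nat.lt_of_le_of_ne h2 fun e => hG.two_ne ?_
    subst e
    exact_mod_cast CharP.cast_eq_zero F 2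
  obtain ⟨c, N, hc, hN, he, hmem⟩ := uni_cen hG hu
  have hcomb : ∀ y : G, toPro G y ∈ cen (toPro G u) → ∃ a b d : F, X[y] = a • 1 + b • N + d • (N * N) :=
    fun y hy => hN.commutant ((hmem y).1 hy)
  have hexp : ∀ y ∈ cen (toPro G u), y ^ p = 1 := by
    intro y hy
    obtain ⟨y, rfl⟩ := toPro_surjective y
    obtain ⟨a, b, d, hab⟩ := hcomb y hy
    rw [← map_pow, toPro_eq_one, mem_scalars_iff]
    set R : Mat := b • N + d • (N * N)
    have hR : R ^ p = 0 := by
      obtain ⟨j, rfl⟩ : ∃ j, p = 3 + j := ⟨p - 3, by omega⟩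
      have h3 : R ^ 3 = 0 := by
        simp only [R, pow_succ, pow_zero, one_mul, add_mul, mul_add, smul_mul_assoc, mul_smul_comm, mul_assoc,
          hN.cube, smul_zero, mul_zero, add_zero]
      rw [pow_add, h3, zero_mul]
    have hval : ((y ^ p : G) : GL (Fin 3) F).val = (a ^ p) • (1 : Mat) := by
      rw [SubmonoidClass.coe_pow, Units.val_pow_eq_pow_val, hab, add_assoc,
        add_pow_char_of_commute p (((Commute.one_left R).smul_left a) : Commute (a • (1 : Mat)) R), hR, add_zero, smul_pow,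
        one_pow]
    have ha : a ^ p ≠ 0 := fun h0 => by
      rw [h0, zero_smul] at hval
      exact ((y ^ p : G) : GL (Fin 3) F).ne_zero hval
    exact ⟨Units.mk0 _ ha, hval⟩
  refine ⟨⟨⟨fun x y => ?_⟩⟩, fun x => ⟨1, by rw [pow_one]; exact Subtype.ext (hexp x.1 x.2)⟩, hexp, fun y hy hy1 => ?_⟩
  · obtain ⟨x', hx'⟩ := toPro_surjective x.1
    obtain ⟨y', hy'⟩ := toPro_surjective y.1
    obtain ⟨a, b, d, hab⟩ := hcomb x' (hx' ▸ x.2)
    obtain ⟨a', b', d', hab'⟩ := hcomb y' (hy' ▸ y.2)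
    refine Subtype.ext ?_
    rw [Subgroup.coe_mul, Subgroup.coe_mul, ← hx', ← hy']
    refine ((commute_of_eq ?_).map (toPro G)).eq
    rw [hab, hab']
    simp only [add_mul, mul_add, smul_mul_assoc, mul_smul_comm, one_mul, mul_one, mul_assoc]
    module
  · obtain ⟨y, rfl⟩ := toPro_surjective y
    obtain ⟨a, b, d, hab⟩ := hcomb y hy
    have hns : (y : GL (Fin 3) F) ∉ scalars (Fin 3) F := fun h => hy1 (toPro_eq_one.2 h)
    obtain ⟨hyu, hb⟩ := isUni_of_comb hG hN y.2 hns hab
    obtain ⟨c', M, hc', hM, he', hmem'⟩ := uni_cen hG hyu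
    have hMN : M * N = N * M := by
      have h := (hmem y).1 hy
      rw [he', smul_mul_assoc, mul_smul_comm, add_mul, mul_add, one_mul, mul_one] at h
      exact add_left_cancel (smul_right_injective _ hc' h)
    obtain ⟨p₀, q, r, hM'⟩ := hN.commutant hMN
    refine le_antisymm (fun w hw => ?_) (fun w hw => ?_) <;> obtain ⟨w, rfl⟩ := toPro_surjective w
    · obtain ⟨a', b', d', hw'⟩ := hM.commutant ((hmem' w).1 hw)
      rw [hmem, hw', hM']
      simp only [add_mul, mul_add, smul_mul_assoc, mul_smul_comm, one_mul, mul_one, mul_assoc]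
    · obtain ⟨a', b', d', hw'⟩ := hcomb w hw
      rw [hmem', hw', hM']
      simp only [add_mul, mul_add, smul_mul_assoc, mul_smul_comm, one_mul, mul_one, mul_assoc]
      module

theorem uni_normalizer [Finite F] (hG : NoTv G) {u : G} (hu : IsUni (u : GL (Fin 3) F)) :
    ∃ (e : ℕ) (κ : G) (c k : F), 2 ≤ e ∧
      (cen (toPro G u)).relIndex (Subgroup.normalizer ((cen (toPro G u)) : Set (Pro G))) = e ∧
      e ∣ Nat.card ↥(cen (toPro G u)) - 1 ∧ orderOf (toPro G κ) = e ∧ orderOf k = e ∧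
      toPro G κ ∈ Subgroup.normalizer ((cen (toPro G u)) : Set (Pro G)) ∧
      Diag3 (κ : GL (Fin 3) F) (c • ![1, k, k ^ 2]) := by
  classical
  obtain ⟨p, hpc⟩ := CharP.exists F
  have hp : Fact p.Prime := ⟨CharP.char_is_prime F p⟩
  obtain ⟨hQcomm, hQp, hexp, hTI⟩ := uni_block hG hu (p := p)
  obtain ⟨c, N, hc, hN, he, hmem⟩ := uni_cen hG hu
  set Q := cen (toPro G u) with hQdef
  set W := Subgroup.normalizer (Q : Set (Pro G)) with hW
  set W' : Subgroup G := W.comap (toPro G) with hW'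
  have huQ : toPro G u ∈ Q := Subgroup.mem_centralizer_singleton_iff.2 rfl
  have hu1 : toPro G u ≠ 1 := fun h => hu.1 (toPro_eq_one.1 h)
  -- the action on the nilpotent
  have hact : ∀ y : W', ∃ b d : F, b ≠ 0 ∧ X[(y : G)] * N = (b • N + d • (N * N)) * X[(y : G)] := by
    rintro ⟨y, hy⟩
    set w : G := y * u * y⁻¹ with hw
    have hwQ : toPro G w ∈ Q := by
      rw [hw, map_mul, map_mul, map_inv]
      exact (Subgroup.mem_normalizer_iff.1 hy _).1 huQ
    set Yi : Mat := (((y : GL (Fin 3) F)⁻¹ : GL (Fin 3) F) : Mat) with hYi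
    have hYY : X[y] * Yi = 1 := Units.mul_inv _
    have hYY' : Yi * X[y] = 1 := Units.inv_mul _
    have hN' : X[w] = c • ((1 : Mat) + X[y] * N * Yi) := by
      rw [show X[w] = X[y] * X[u] * Yi from rfl, he, mul_smul_comm, smul_mul_assoc, mul_add, add_mul, mul_one, hYY]
    have hcN : X[y] * N * Yi * N = N * (X[y] * N * Yi) := by
      have h := (hmem w).1 hwQ
      rw [hN', smul_mul_assoc, mul_smul_comm, add_mul, mul_add, one_mul, mul_one] at h
      exact add_left_cancel (smul_right_injective _ hc h)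
    obtain ⟨a, b, d, hab⟩ := hN.commutant hcN
    have hcube : X[y] * N * Yi * (X[y] * N * Yi * (X[y] * N * Yi)) = 0 := by
      rw [show X[y] * N * Yi * (X[y] * N * Yi * (X[y] * N * Yi)) =
        X[y] * (N * (Yi * X[y]) * N * (Yi * X[y]) * N) * Yi by simp only [mul_assoc], hYY']
      simp [mul_assoc, hN.cube]
    have ha : a = 0 := by
      have h := hcube
      rw [hab] at h
      have e : (a • 1 + b • N + d • (N * N)) * ((a • 1 + b • N + d • (N * N)) * (a • 1 + b • N + d • (N * N))) =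
          (a * a * a) • (1 : Mat) + (3 * (a * a * b)) • N + (3 * (a * a * d) + 3 * (a * (b * b))) • (N * N) := by
        simp only [add_mul, mul_add, smul_mul_assoc, mul_smul_comm, one_mul, mul_one, mul_assoc, hN.cube, mul_zero,
          smul_zero, add_zero]
        module
      rw [e] at h
      rcases mul_eq_zero.1 (hN.comb_eq_zero h).1 with h' | h'
      · exact mul_self_eq_zero.1 h'
      · exact h'
    rw [ha, zero_smul, zero_add] at hab
    refine ⟨b, d, fun hb => hN.sq ?_, ?_⟩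
    · have h : X[y] * (N * N) * Yi = (X[y] * N * Yi) * (X[y] * N * Yi) := by
        rw [show X[y] * N * Yi * (X[y] * N * Yi) = X[y] * (N * (Yi * X[y]) * N) * Yi by simp only [mul_assoc],
          hYY', mul_one]
      rw [hab, hb, zero_smul, zero_add, smul_mul_smul_comm,
        show N * N * (N * N) = N * (N * (N * N)) from mul_assoc _ _ _, hN.cube, mul_zero, smul_zero] at h
      calc N * N = Yi * (X[y] * (N * N) * Yi) * X[y] := by
            rw [show Yi * (X[y] * (N * N) * Yi) * X[y] = (Yi * X[y]) * (N * N) * (Yi * X[y]) by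
              simp only [mul_assoc], hYY', one_mul, mul_one]
        _ = 0 := by rw [h, mul_zero, zero_mul]
    · show X[y] * N = (b • N + d • (N * N)) * X[y]
      rw [← hab, mul_assoc (X[y] * N), hYY', mul_one]
  choose χ δ hχ0 hχ using hact
  have huniq : ∀ (y : W') (b d : F), X[(y : G)] * N = (b • N + d • (N * N)) * X[(y : G)] → χ y = b := by
    intro y b d h
    have h1 := (hχ y).symm.trans h
    have h2 : (χ y • N + δ y • (N * N)) = b • N + d • (N * N) := (Subtype.val (y : G)).isUnit.mul_right_cancel h1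
    have h3 : (0 : F) • (1 : Mat) + (χ y - b) • N + (δ y - d) • (N * N) = 0 := by
      rw [zero_smul, zero_add, sub_smul, sub_smul]
      linear_combination (norm := module) h2
    exact sub_eq_zero.1 (hN.comb_eq_zero h3).2.1
  have hpoly : ∀ (y : W'), X[(y : G)] * (N * N) = (χ y * χ y) • (N * N) * X[(y : G)] := by
    intro y
    calc X[(y : G)] * (N * N) = (χ y • N + δ y • (N * N)) * (X[(y : G)] * N) := by
          rw [← mul_assoc (X[(y : G)]) N N]
          conv_lhs => rw [hχ y]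
          rw [mul_assoc]
      _ = (χ y • N + δ y • (N * N)) * (χ y • N + δ y • (N * N)) * X[(y : G)] := by rw [hχ y, mul_assoc]
      _ = _ := by
        congr 1
        simp only [add_mul, mul_add, smul_mul_assoc, mul_smul_comm, mul_assoc, hN.cube, mul_zero, smul_zero,
          add_zero, smul_smul]
  have hχmul : ∀ y z : W', χ (y * z) = χ y * χ z := by
    intro y z
    refine huniq _ _ (χ z * δ y + δ z * (χ y * χ y)) ?_
    show X[(y : G)] * X[(z : G)] * N = _ * (X[(y : G)] * X[(z : G)])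
    rw [mul_assoc, hχ z, ← mul_assoc, mul_add, mul_smul_comm, mul_smul_comm, hχ y, hpoly y]
    rw [← mul_assoc]
    congr 1
    simp only [add_mul, smul_mul_assoc]
    module
  let Χ : W' →* Fˣ := MonoidHom.mk' (fun y => Units.mk0 (χ y) (hχ0 y)) fun y z => Units.ext (hχmul y z)
  set K : Subgroup G := Q.comap (toPro G) with hK
  have hKW : K ≤ W' := Subgroup.comap_mono Subgroup.le_normalizer
  have hscalW : ∀ y : W', (y : GL (Fin 3) F) ∈ scalars (Fin 3) F → χ y = 1 := fun y hy =>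
    huniq y 1 0 (by
      rw [one_smul, zero_smul, add_zero, ← (hmem (y : G)).1]
      rw [toPro_eq_one.2 hy]
      exact one_mem _)
  -- the kernel
  have hkerP : ∀ y : W', χ y = 1 → toPro G (y : G) ≠ 1 → IsUni ((y : G) : GL (Fin 3) F) := by
    intro y hy hy1
    obtain ⟨v, hv⟩ := hN.exists_cyclic
    set Y := X[(y : G)] with hY
    obtain ⟨α, β, γ, hYv⟩ := hN.exists_coeff hv (Y *ᵥ v)
    have e2 : N *ᵥ ((N * N) *ᵥ v) = 0 := by rw [Matrix.mulVec_mulVec, hN.cube, Matrix.zero_mulVec]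
    have e3 : (N * N) *ᵥ (N *ᵥ v) = 0 := by rw [Matrix.mulVec_mulVec, mul_assoc, hN.cube, Matrix.zero_mulVec]
    have e4 : (N * N) *ᵥ ((N * N) *ᵥ v) = 0 := by rw [← Matrix.mulVec_mulVec _ N N, e2, Matrix.mulVec_zero]
    have y1 : Y *ᵥ (N *ᵥ v) = α • (N *ᵥ v) + (β + δ y * α) • ((N * N) *ᵥ v) := by
      rw [Matrix.mulVec_mulVec, hY, hχ y, hy, ← hY, ← Matrix.mulVec_mulVec, hYv]
      simp only [Matrix.add_mulVec, Matrix.smul_mulVec, Matrix.mulVec_add, Matrix.mulVec_smul,
        Matrix.mulVec_mulVec, add_mul, smul_mul_assoc, mul_assoc, hN.cube, mul_zero, smul_zero, add_zero,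
        Matrix.zero_mulVec]
      module
    have y2 : Y *ᵥ ((N * N) *ᵥ v) = α • ((N * N) *ᵥ v) := by
      rw [Matrix.mulVec_mulVec, hY, hpoly y, hy, one_mul, one_smul, ← hY, ← Matrix.mulVec_mulVec, hYv]
      simp only [Matrix.mulVec_add, Matrix.mulVec_smul, e3, e4, smul_zero, add_zero]
    set R : Mat := Y - α • 1 with hR
    have r0 : R *ᵥ v = β • (N *ᵥ v) + γ • ((N * N) *ᵥ v) := by
      rw [hR, Matrix.sub_mulVec, Matrix.smul_mulVec, Matrix.one_mulVec, hYv]; abel
    have r1 : R *ᵥ (N *ᵥ v) = (β + δ y * α) • ((N * N) *ᵥ v) := by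
      rw [hR, Matrix.sub_mulVec, Matrix.smul_mulVec, Matrix.one_mulVec, y1]; abel
    have r2 : R *ᵥ ((N * N) *ᵥ v) = 0 := by
      rw [hR, Matrix.sub_mulVec, Matrix.smul_mulVec, Matrix.one_mulVec, y2, sub_self]
    refine ⟨fun h => hy1 (toPro_eq_one.2 h), α, ?_⟩
    rw [← hR, pow_succ, pow_two]
    refine hN.ext_cyclic hv ?_ ?_ ?_ <;>
      simp only [← Matrix.mulVec_mulVec _ (R * R) R, ← Matrix.mulVec_mulVec _ R R, r0, r1, r2,
        Matrix.mulVec_add, Matrix.mulVec_smul, smul_zero, add_zero, Matrix.mulVec_zero, Matrix.zero_mulVec]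
  have hker : Χ.ker = K.subgroupOf W' := by
    apply le_antisymm
    · have hP : IsPGroup p ↥(Χ.ker.map ((toPro G).comp W'.subtype)) := by
        rintro ⟨_, y, hy, rfl⟩
        refine ⟨1, Subtype.ext ?_⟩
        have hy1 : χ y = 1 := congrArg Units.val hy
        rw [pow_one]
        show (toPro G (y : G)) ^ p = 1
        by_cases h1 : toPro G (y : G) = 1
        · rw [h1, one_pow]
        · exact (uni_block hG (hkerP y hy1 h1) (p := p)).2.2.1 _ (Subgroup.mem_centralizer_singleton_iff.2 rfl)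
      set P := Χ.ker.map ((toPro G).comp W'.subtype)
      have hQP : Q ≤ P := by
        intro q hq
        obtain ⟨q, rfl⟩ := toPro_surjective q
        refine ⟨⟨q, hKW hq⟩, Units.ext (huniq _ 1 0 ?_), rfl⟩
        rw [one_smul, zero_smul, add_zero]
        exact (hmem q).1 hq
      haveI : Nontrivial P := ⟨⟨⟨_, hQP huQ⟩, 1, fun h => hu1 (congrArg Subtype.val h)⟩⟩
      haveI := hP.center_nontrivial
      obtain ⟨⟨z, hz⟩, hz1⟩ := exists_ne (1 : Subgroup.center P)
      have hz1' : (z : Pro G) ≠ 1 := fun h => hz1 (Subtype.ext (Subtype.ext h))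
      have hzc := Subgroup.mem_center_iff.1 hz
      have hzQ : (z : Pro G) ∈ Q :=
        Subgroup.mem_centralizer_singleton_iff.2 (congrArg Subtype.val (hzc ⟨_, hQP huQ⟩)).symm
      intro y hy
      show toPro G (y : G) ∈ Q
      rw [← hTI _ hzQ hz1']
      exact Subgroup.mem_centralizer_singleton_iff.2 (congrArg Subtype.val (hzc ⟨_, ⟨y, hy, rfl⟩⟩))
    · intro y hy
      refine Units.ext (huniq y 1 0 ?_)
      rw [one_smul, zero_smul, add_zero]
      exact (hmem (y : G)).1 hy
  -- the order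
  set e := Q.relIndex W with hedef
  have hcard : Nat.card Χ.range = e := by
    rw [← Subgroup.index_ker, hker, hedef]
    show K.relIndex W' = _
    rw [hK, hW', Subgroup.relIndex_comap, Subgroup.map_comap_eq_self_of_surjective toPro_surjective]
  have hpe : ¬ p ∣ e := by
    intro hd
    rw [← hcard] at hd
    have h1 := hd.trans (Subgroup.card_subgroup_dvd_card Χ.range)
    letI := Fintype.ofFinite F
    rw [Nat.card_units, Nat.card_eq_fintype_card] at h1
    obtain ⟨n, -, hn⟩ := FiniteField.card F p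
    rw [hn] at h1
    have h2 : p ∣ p ^ (n : ℕ) := dvd_pow_self p n.pos.ne'
    have h3 : p ^ (n : ℕ) - (p ^ (n : ℕ) - 1) = 1 := Nat.sub_sub_self (Nat.one_le_pow _ _ hp.out.pos)
    exact hp.out.ne_one (Nat.dvd_one.1 (h3 ▸ Nat.dvd_sub h2 h1))
  have hQne : Q ≠ ⊥ := fun h => hu1 (Subgroup.mem_bot.1 (h ▸ huQ))
  have he2 : 2 ≤ e := by
    obtain ⟨n, hn⟩ := IsPGroup.iff_card.1 hQp
    have hidx : ¬ p ∣ Q.index := by
      intro hd
      obtain ⟨S, hS⟩ := hQp.exists_le_sylow
      have : Q ≠ (S : Subgroup (Pro G)) := fun h => S.not_dvd_index (h ▸ hd)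
      have hnc : Group.IsNilpotent S := S.2.isNilpotent
      have hlt : Q.subgroupOf S < ⊤ := by
        rw [lt_top_iff_ne_top, Ne, Subgroup.subgroupOf_eq_top]
        exact fun h => this (le_antisymm hS h)
      obtain ⟨x, hxn, hxQ⟩ := SetLike.exists_of_lt (Group.normalizerCondition_of_isNilpotent _ hlt)
      have hxW : (x : Pro G) ∈ W := by
        refine Subgroup.mem_normalizer_iff.2 fun q => ?_
        rw [Subgroup.mem_normalizer_iff] at hxn
        constructor <;> intro hq
        · simpa [Subgroup.mem_subgroupOf] using (hxn ⟨q, hS hq⟩).1 hq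
        · have hqS : q ∈ (S : Subgroup (Pro G)) := by
            have := S.1.mul_mem (S.1.mul_mem (S.1.inv_mem x.2) (hS hq)) x.2
            simpa [mul_assoc] using this
          simpa [Subgroup.mem_subgroupOf] using (hxn ⟨q, hqS⟩).2 (by simpa [Subgroup.mem_subgroupOf] using hq)
      obtain ⟨j, hj⟩ := IsPGroup.iff_orderOf.1 S.2 x
      rw [← Subgroup.orderOf_coe] at hj
      have h1 : orderOf (⟨(x : Pro G), hxW⟩ : W) = p ^ j := by rw [← hj, Subgroup.orderOf_mk]
      obtain ⟨y, hy⟩ := toPro_surjective (x : Pro G)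
      have h2 : orderOf (Χ ⟨y, show toPro G y ∈ W from hy ▸ hxW⟩) ∣ e := by
        rw [← hcard, ← Subgroup.orderOf_mk (H := Χ.range) _ ⟨_, rfl⟩]
        exact orderOf_dvd_natCard _
      set yW : W' := ⟨y, show toPro G y ∈ W from hy ▸ hxW⟩
      have h3 : yW ^ p ^ j ∈ Χ.ker := by
        rw [hker, Subgroup.mem_subgroupOf, hK, Subgroup.mem_comap, SubmonoidClass.coe_pow, map_pow, hy, ← hj,
          pow_orderOf_eq_one]
        exact one_mem _
      rw [MonoidHom.mem_ker, map_pow] at h3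
      obtain ⟨i, -, hi⟩ := (Nat.dvd_prime_pow hp.out).1 (orderOf_dvd_of_pow_eq_one h3)
      rcases Nat.eq_zero_or_pos i with h0 | h0
      · rw [h0, pow_zero, orderOf_eq_one_iff, ← MonoidHom.mem_ker, hker, Subgroup.mem_subgroupOf, hK,
          Subgroup.mem_comap, hy] at hi
        exact hxQ hi
      · exact hpe ((dvd_pow_self p h0.ne').trans (hi ▸ h2))
    have hpos : 0 < e := hcard ▸ Nat.card_pos
    refine Nat.lt_of_le_of_ne hpos fun h1 => ?_
    have hWQ : W ≤ Q := Subgroup.relIndex_eq_one.1 h1.symm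
    let P := hQp.toSylow hidx
    have hPQ : (P : Subgroup (Pro G)) = Q := hQp.toSylow_coe hidx
    have hnc : Subgroup.normalizer ((P : Subgroup (Pro G)) : Set (Pro G)) ≤
        Subgroup.centralizer ((P : Subgroup (Pro G)) : Set (Pro G)) := by
      rw [hPQ]
      exact hWQ.trans (Subgroup.le_centralizer Q)
    have hc := MonoidHom.ker_transferSylow_isComplement' P hnc
    haveI := hG.simple
    rcases (MonoidHom.normal_ker (MonoidHom.transferSylow P hnc)).eq_bot_or_eq_top with h | h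
    · rw [h, Subgroup.isComplement'_bot_left, hPQ] at hc
      exact hG.nonabelian ⟨⟨fun x y => congrArg Subtype.val
        (hQcomm.is_comm.comm ⟨x, hc ▸ Subgroup.mem_top x⟩ ⟨y, hc ▸ Subgroup.mem_top y⟩)⟩⟩
    · rw [h, Subgroup.isComplement'_top_left, hPQ] at hc
      exact hQne hc
  have hfree : e ∣ Nat.card ↥Q - 1 := by
    let act : Χ.range → ↥Q → ↥Q := fun r q =>
      ⟨toPro G ((r.2.choose : G)) * q * (toPro G (r.2.choose : G))⁻¹,
        (Subgroup.mem_normalizer_iff.1 r.2.choose.2 _).1 q.2⟩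
    have hlift : ∀ (y : W') (q : ↥Q), act ⟨Χ y, ⟨y, rfl⟩⟩ q =
        ⟨toPro G (y : G) * q * (toPro G (y : G))⁻¹, (Subgroup.mem_normalizer_iff.1 y.2 _).1 q.2⟩ := by
      intro y q
      have hy : (⟨Χ y, ⟨y, rfl⟩⟩ : Χ.range).2.choose⁻¹ * y ∈ Χ.ker := by
        rw [MonoidHom.mem_ker, map_mul, map_inv, Exists.choose_spec (⟨Χ y, ⟨y, rfl⟩⟩ : Χ.range).2]
        exact inv_mul_cancel _
      rw [hker] at hy
      refine Subtype.ext ?_
      show toPro G _ * (q : Pro G) * _ = toPro G _ * (q : Pro G) * _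
      set z := (⟨Χ y, ⟨y, rfl⟩⟩ : Χ.range).2.choose
      have hc : Commute (toPro G ((z : G)⁻¹ * (y : G))) (q : Pro G) :=
        congrArg Subtype.val (hQcomm.is_comm.comm ⟨_, hy⟩ q)
      rw [show toPro G (y : G) = toPro G (z : G) * toPro G ((z : G)⁻¹ * (y : G)) by
        rw [← map_mul, mul_inv_cancel_left], _root_.mul_inv_rev, show ∀ a b q : Pro G, a * b * q * (b⁻¹ * a⁻¹) = a * (b * q * b⁻¹) * a⁻¹ by
          intros; group, hc.eq, mul_inv_cancel_right]
    letI : MulAction Χ.range {q : ↥Q // q ≠ 1} :=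
      { smul := fun r q => ⟨act r q.1, fun h => q.2 (Subtype.ext (by
          have h' : toPro G (r.2.choose : G) * (q.1 : Pro G) * (toPro G (r.2.choose : G))⁻¹ = 1 := congrArg Subtype.val h
          exact conj_eq_one_iff.1 h'))⟩
        one_smul := fun q => Subtype.ext (Subtype.ext (by
          show ((act 1 q.1 : ↥Q) : Pro G) = _
          rw [show (1 : Χ.range) = ⟨Χ 1, ⟨1, rfl⟩⟩ from Subtype.ext (map_one Χ).symm, hlift]
          simp))
        mul_smul := fun r s q => Subtype.ext (Subtype.ext (by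
          obtain ⟨_, y, rfl⟩ := r
          obtain ⟨_, z, rfl⟩ := s
          show ((act _ q.1 : ↥Q) : Pro G) = (act _ (act _ q.1) : ↥Q)
          rw [show (⟨Χ y, ⟨y, rfl⟩⟩ * ⟨Χ z, ⟨z, rfl⟩⟩ : Χ.range) = ⟨Χ (y * z), ⟨y * z, rfl⟩⟩ from
            Subtype.ext (map_mul Χ y z).symm, hlift, hlift, hlift]
          show toPro G ((y : G) * (z : G)) * _ * (toPro G ((y : G) * (z : G)))⁻¹ = _
          rw [map_mul]
          group)) }
    have hfr : ∀ q : {q : ↥Q // q ≠ 1}, MulAction.stabilizer Χ.range q = ⊥ := by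
      intro q
      rw [Subgroup.eq_bot_iff_forall]
      rintro ⟨_, y, rfl⟩ hr
      have h0 : ((act ⟨Χ y, ⟨y, rfl⟩⟩ q.1 : ↥Q) : Pro G) = (q.1 : Pro G) :=
        congrArg (fun x : {q : ↥Q // q ≠ 1} => ((x.1 : ↥Q) : Pro G)) hr
      rw [hlift] at h0
      have hq1 : (q.1 : Pro G) ≠ 1 := fun h => q.2 (Subtype.ext h)
      have hyQ : toPro G (y : G) ∈ Q := by
        rw [← hTI _ q.1.2 hq1]
        exact Subgroup.mem_centralizer_singleton_iff.2 (mul_inv_eq_iff_eq_mul.1 h0)
      have hyk : y ∈ Χ.ker := hker ▸ (hyQ : y ∈ K.subgroupOf W')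
      exact Subtype.ext hyk
    haveI : Fintype (Quotient (MulAction.orbitRel Χ.range {q : ↥Q // q ≠ 1})) := Fintype.ofFinite _
    have hsum := Nat.card_congr (MulAction.selfEquivSigmaOrbitsQuotientStabilizer Χ.range {q : ↥Q // q ≠ 1})
    rw [Nat.card_sigma] at hsum
    have hcq : Nat.card {q : ↥Q // q ≠ 1} = Nat.card ↥Q - 1 := by
      letI := Fintype.ofFinite ↥Q
      rw [Nat.card_eq_fintype_card, Nat.card_eq_fintype_card, Fintype.card_subtype_compl, Fintype.card_subtype_eq]
    rw [← hcq, hsum]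
    refine Finset.dvd_sum fun ω _ => ?_
    rw [hfr, ← hcard]
    exact (Subgroup.index_bot (G := Χ.range)).symm.dvd
  -- a generator of the normaliser
  obtain ⟨⟨r, y, hr⟩, hgen⟩ := IsCyclic.exists_generator (α := Χ.range)
  have hord : orderOf (Χ y) = e := by
    rw [← hcard, hr, ← Subgroup.orderOf_mk (H := Χ.range) r ⟨y, hr⟩]
    exact orderOf_eq_card_of_forall_mem_zpowers hgen
  set κ' : W' := y ^ p with hκ'
  have hord' : orderOf (Χ κ') = e := by
    rw [hκ', map_pow, Nat.Coprime.orderOf_pow, hord]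
    rw [hord]
    exact (Nat.coprime_comm.1 (hp.out.coprime_iff_not_dvd.2 hpe))
  have hordP : orderOf (toPro G (κ' : G)) = e := by
    refine Nat.dvd_antisymm (orderOf_dvd_of_pow_eq_one ?_) ?_
    · have hye : y ^ e ∈ K.subgroupOf W' := hker ▸ (by rw [MonoidHom.mem_ker, map_pow, ← hord, pow_orderOf_eq_one])
      rw [hκ', SubmonoidClass.coe_pow, map_pow, ← pow_mul, mul_comm, pow_mul, ← map_pow, ← SubmonoidClass.coe_pow]
      exact hexp _ hye
    · rw [← hord']
      refine orderOf_dvd_of_pow_eq_one ?_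
      have h : ((κ' ^ orderOf (toPro G (κ' : G)) : W') : G) ∈ K := by
        rw [hK, Subgroup.mem_comap, SubmonoidClass.coe_pow, map_pow, pow_orderOf_eq_one]
        exact one_mem _
      rw [← map_pow, ← MonoidHom.mem_ker, hker]
      exact h
  set k : F := χ κ' with hk
  have hkord : orderOf k = e := by rw [← hord', ← orderOf_units]; rfl
  have hk1 : k ≠ 1 := fun h => by rw [h, orderOf_one] at hkord; omega
  have hk0 : k ≠ 0 := hχ0 κ'
  -- straighten the nilpotent
  set t : F := -(δ κ') / (k * (k - 1))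
  set M : Mat := N + t • (N * N) with hM
  have hM2 : M * M = N * N := by
    simp only [hM, add_mul, mul_add, smul_mul_assoc, mul_smul_comm, mul_assoc, hN.cube, mul_zero, smul_zero, add_zero]
  have hMreg : RegNil M := ⟨by rw [hM2]; simp only [hM, add_mul, smul_mul_assoc, hN.cube, mul_assoc, mul_zero, smul_zero, add_zero],
    by rw [hM2]; exact hN.sq⟩
  have hκM : X[(κ' : G)] * M = k • (M * X[(κ' : G)]) := by
    rw [hM, mul_add, mul_smul_comm, hχ κ', hpoly κ', ← hk, add_mul, add_mul, smul_mul_assoc, smul_mul_assoc,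
      smul_mul_assoc, smul_mul_assoc]
    have ht : δ κ' + t * (k * k) = k * t := by
      simp only [t]
      field_simp [sub_ne_zero.2 hk1]
      ring
    rw [smul_add, smul_smul, smul_smul, ← ht, add_smul, add_assoc]
  obtain ⟨d, hd⟩ : ∃ d, Diag3 ((κ' : G) : GL (Fin 3) F) d := by
    have hns : ((κ' : G) : GL (Fin 3) F) ∉ scalars (Fin 3) F := fun h => by
      rw [toPro_eq_one.2 h, orderOf_one] at hordP; omega
    rcases hG.cases' (κ' : G).2 hns with h | ⟨a, b, -, h⟩ | ⟨d, -, h⟩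
    · exfalso
      have h1 := orderOf_dvd_of_pow_eq_one
        ((uni_block hG h (p := p)).2.2.1 (toPro G (κ' : G)) (Subgroup.mem_centralizer_singleton_iff.2 rfl))
      rw [hordP, Nat.dvd_prime hp.out] at h1
      rcases h1 with h1 | h1
      · omega
      · exact hpe (h1 ▸ dvd_refl _)
    · exact ⟨_, h⟩
    · exact ⟨_, h⟩
  obtain ⟨B, hB⟩ := hd
  obtain ⟨i, hi⟩ : ∃ i, (M * M) *ᵥ (((B⁻¹ : GL (Fin 3) F) : Mat) *ᵥ Pi.single i 1) ≠ 0 := by
    by_contra hno
    push Not at hno
    apply hMreg.sq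
    have h0 : M * M * ((B⁻¹ : GL (Fin 3) F) : Mat) = 0 := by
      refine Matrix.ext_of_mulVec_single fun i => ?_
      rw [← Matrix.mulVec_mulVec, hno i, Matrix.zero_mulVec]
    calc M * M = M * M * ((B⁻¹ : GL (Fin 3) F) : Mat) * (B : Mat) := by rw [mul_assoc _ _ (B : Mat), Units.inv_mul, mul_one]
      _ = 0 := by rw [h0, zero_mul]
  set v := ((B⁻¹ : GL (Fin 3) F) : Mat) *ᵥ Pi.single i 1 with hv
  have hev : X[(κ' : G)] *ᵥ v = d i • v := by
    have hg : ((κ' : G) : GL (Fin 3) F) = B⁻¹ * (B * (κ' : G) * B⁻¹) * B := by group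
    conv_lhs => rw [hg]
    rw [mul_mulVec, mul_mulVec, hv, mulVec_inv_mulVec, hB, Matrix.diagonal_mulVec_single, mul_one,
      ← Matrix.mulVec_smul]
    congr 1
    ext j; by_cases hj : j = i <;> simp [hj]
  refine ⟨e, (κ' : G), d i, k, he2, rfl, hfree, hordP, hkord, κ'.2, diag3_of_eigen (hMreg.indep hi) _ fun j => ?_⟩
  have h1 : X[(κ' : G)] *ᵥ (M *ᵥ v) = (d i * k) • (M *ᵥ v) := by
    rw [Matrix.mulVec_mulVec, hκM, Matrix.smul_mulVec, ← Matrix.mulVec_mulVec, hev, Matrix.mulVec_smul, smul_smul,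
      mul_comm]
  have h2 : X[(κ' : G)] *ᵥ ((M * M) *ᵥ v) = (d i * k ^ 2) • ((M * M) *ᵥ v) := by
    rw [← Matrix.mulVec_mulVec v M M, Matrix.mulVec_mulVec (M *ᵥ v) X[(κ' : G)], hκM, Matrix.smul_mulVec,
      ← Matrix.mulVec_mulVec, h1, Matrix.mulVec_smul, smul_smul, Matrix.mulVec_mulVec]
    congr 1
    ring
  fin_cases j
  · simpa using hev
  · simpa using h1
  · simpa using h2

end CfsgLib.Geo.D3
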