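/-
The configuration of a group without transvections, and the possible orders.
-/
import Cfsg.Agent.Geo.DimThree.NoTv.Cases
import Cfsg.Agent.Geo.DimThree.NoTv.CentCases
import Cfsg.Agent.Geo.DimThree.NoTv.Uni
import Cfsg.Agent.Geo.DimThree.NoTv.OddBlock

set_option autoImplicit false
set_option linter.style.haveILetI false
set_option linter.unusedSectionVars false

namespace CfsgLib.Geo.D3

open Matrix Cfsg Cfsg.Geo CfsgLib.Geo

variable {F : Type*} [Field F] {G : Subgroup (GL (Fin 3) F)}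

local notation "Mat" => Matrix (Fin 3) (Fin 3) F

/-- A chosen lift. -/
noncomputable def liftEl (G : Subgroup (GL (Fin 3) F)) (x : Pro G) : G :=
  Function.surjInv (toPro_surjective (G := G)) x

lemma toPro_liftEl (x : Pro G) : toPro G (liftEl G x) = x := Function.surjInv_eq _ x

/-- The block of an element. -/
noncomputable def blkOf (G : Subgroup (GL (Fin 3) F)) (x : Pro G) : Subgroup (Pro G) := cent0 G (liftEl G x)

/-- Unipotent elements of the quotient. -/
def UniPro (G : Subgroup (GL (Fin 3) F)) (x : Pro G) : Prop := IsUni ((liftEl G x : G) : GL (Fin 3) F)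

lemma exists_scalar_of_eq {g h : G} (e : toPro G g = toPro G h) :
    ∃ z : G, (z : GL (Fin 3) F) ∈ scalars (Fin 3) F ∧ h = g * z :=
  ⟨g⁻¹ * h, toPro_eq_one.1 (by rw [map_mul, map_inv, e, inv_mul_cancel]), (mul_inv_cancel_left g h).symm⟩

lemma cent0_congr {g h : G} (e : toPro G g = toPro G h) : cent0 G g = cent0 G h := by
  obtain ⟨z, hz, rfl⟩ := exists_scalar_of_eq e
  have hc : ∀ w : G, Commute z w := fun w => Subtype.ext (scalar_comm hz _)
  unfold cent0
  congr 1
  ext w
  rw [Subgroup.mem_centralizer_singleton_iff, Subgroup.mem_centralizer_singleton_iff]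
  constructor
  · intro hw
    exact ((show Commute w g from hw).mul_right (hc w).symm).eq
  · intro hw
    have := (show Commute w (g * z) from hw).mul_right (hc w).symm.inv_right
    rw [mul_inv_cancel_right] at this
    exact this.eq

lemma isUni_congr {g h : G} (e : toPro G g = toPro G h) (hu : IsUni (g : GL (Fin 3) F)) :
    IsUni (h : GL (Fin 3) F) := by
  obtain ⟨z, hz, rfl⟩ := exists_scalar_of_eq e
  obtain ⟨hns, c, hc⟩ := hu
  obtain ⟨l, hl⟩ := (mem_scalars_iff _).1 hz
  refine ⟨fun hs => hns ?_, c * l, ?_⟩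
  · have := mul_mem hs (inv_mem hz)
    rwa [Subgroup.coe_mul, mul_inv_cancel_right] at this
  · rw [Subgroup.coe_mul, Units.val_mul, hl, mul_smul_comm, mul_one, mul_comm c, ← smul_smul, ← smul_sub,
      smul_pow, hc, smul_zero]

lemma blkOf_toPro (g : G) : blkOf G (toPro G g) = cent0 G g := cent0_congr (toPro_liftEl _)

lemma uniPro_toPro (g : G) : UniPro G (toPro G g) ↔ IsUni (g : GL (Fin 3) F) :=
  ⟨isUni_congr (toPro_liftEl _), isUni_congr (toPro_liftEl _).symm⟩

lemma mem_cent0_self (g : G) : toPro G g ∈ cent0 G g :=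
  ⟨g, Subgroup.mem_centralizer_singleton_iff.2 rfl, rfl⟩

lemma cent0_le (g : G) : cent0 G g ≤ cen (toPro G g) := by
  rintro _ ⟨w, hw, rfl⟩
  exact Subgroup.mem_centralizer_singleton_iff.2 ((show Commute w g from Subgroup.mem_centralizer_singleton_iff.1 hw).map (toPro G)).eq

lemma cent0_conj (k g : G) : cent0 G (k * g * k⁻¹) = (cent0 G g).map (MulAut.conj (toPro G k)).toMonoidHom := by
  ext y
  constructor
  · rintro ⟨w, hw, rfl⟩
    refine ⟨toPro G (k⁻¹ * w * k), ⟨k⁻¹ * w * k, Subgroup.mem_centralizer_singleton_iff.2 ?_, rfl⟩, ?_⟩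
    · have h := (Commute.conj_iff k⁻¹).2 (show Commute w (k * g * k⁻¹) from Subgroup.mem_centralizer_singleton_iff.1 hw)
      rw [inv_inv, show k⁻¹ * (k * g * k⁻¹) * k = g by group] at h
      exact h.eq
    · show toPro G k * toPro G (k⁻¹ * w * k) * (toPro G k)⁻¹ = toPro G w
      rw [map_mul, map_mul, map_inv]; group
  · rintro ⟨_, ⟨w, hw, rfl⟩, rfl⟩
    refine ⟨k * w * k⁻¹, Subgroup.mem_centralizer_singleton_iff.2
      ((Commute.conj_iff k).2 (Subgroup.mem_centralizer_singleton_iff.1 hw : Commute w g)).eq, ?_⟩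
    show toPro G (k * w * k⁻¹) = toPro G k * toPro G w * (toPro G k)⁻¹
    rw [map_mul, map_mul, map_inv]

variable [Finite F]

/-- The centraliser of a unipotent element is that of a lift. -/
lemma cent0_eq_of_uni (hG : NoTv G) {u : G} (hu : IsUni (u : GL (Fin 3) F)) : cent0 G u = cen (toPro G u) := by
  refine le_antisymm (cent0_le u) fun y hy => ?_
  obtain ⟨c, N, hc, hN, he, hmem⟩ := uni_cen hG hu
  obtain ⟨w, rfl⟩ := toPro_surjective y
  refine ⟨w, Subgroup.mem_centralizer_singleton_iff.2 (commute_of_eq ?_).eq, rfl⟩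
  rw [he, mul_smul_comm, smul_mul_assoc, mul_add, add_mul, mul_one, one_mul, (hmem w).1 hy]

/-- The centraliser of a homology of order greater than two is that of a lift. -/
lemma cent0_eq_of_hom {g : G} (hh : IsHom (g : GL (Fin 3) F)) (h2 : toPro G g * toPro G g ≠ 1) :
    cent0 G g = cen (toPro G g) := by
  refine le_antisymm (cent0_le g) fun y hy => ?_
  obtain ⟨z, rfl⟩ := toPro_surjective y
  refine ⟨z, Subgroup.mem_centralizer_singleton_iff.2 ?_, rfl⟩
  obtain ⟨c, hc⟩ := (mem_scalars_iff _).1 (toPro_eq_one.1 (show toPro G (z * g * z⁻¹ * g⁻¹) = 1 by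
    rw [map_mul, map_mul, map_mul, map_inv, map_inv, (mem_cen.1 hy).eq, mul_inv_cancel_right, mul_inv_cancel]))
  rcases hom_conj_self hh (y := (z : GL (Fin 3) F)) (c := (c : F)) (by
    rw [show (z : GL (Fin 3) F) * g * (z : GL (Fin 3) F)⁻¹ = ((z * g * z⁻¹ * g⁻¹ : G) : GL (Fin 3) F) * g by simp,
      Units.val_mul, hc, smul_mul_assoc, one_mul]) with h | h
  · exact Subtype.ext h.eq
  · exact absurd (by rw [← map_mul]; exact toPro_eq_one.2 h) h2

/-- A true centraliser of a regular element is abelian. -/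
lemma cent0_comm_of_reg {g : G} (hr : IsReg (g : GL (Fin 3) F)) : IsMulCommutative ↥(cent0 G g) := by
  refine ⟨⟨?_⟩⟩
  rintro ⟨_, a, ha, rfl⟩ ⟨_, b, hb, rfl⟩
  refine Subtype.ext ((show Commute a b from Subtype.ext ?_).map (toPro G)).eq
  exact (reg_commute hr ((show Commute a g from Subgroup.mem_centralizer_singleton_iff.1 ha).map G.subtype)
    ((show Commute b g from Subgroup.mem_centralizer_singleton_iff.1 hb).map G.subtype)).eq

/-- An element with a `p`-th power equal to one modulo scalars is unipotent. -/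
lemma isUni_of_pow_char (hG : NoTv G) {p : ℕ} [CharP F p] {g : G} (h1 : toPro G g ≠ 1)
    (hp : toPro G g ^ p = 1) : IsUni (g : GL (Fin 3) F) := by
  haveI := Fact.mk (CharP.char_is_prime F p)
  have hns : (g : GL (Fin 3) F) ∉ scalars (Fin 3) F := fun h => h1 (toPro_eq_one.2 h)
  rw [← map_pow, toPro_eq_one, mem_scalars_iff] at hp
  obtain ⟨c, hc⟩ := hp
  have key : ∀ d : Fin 3 → F, Diag3 (g : GL (Fin 3) F) d → ∀ i j, d i = d j := by
    rintro d ⟨B, hB⟩
    have h0 : mloc B ((g : GL (Fin 3) F) ^ p) = (c : F) • (1 : Mat) :=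
      mloc_smul_one.2 (by rw [← hc, SubmonoidClass.coe_pow])
    rw [mloc_pow, show mloc B (g : GL (Fin 3) F) = diagonal d from hB, diagonal_pow, smul_one_eq_diagonal] at h0
    intro i j
    have hi := congrFun (diagonal_injective h0) i
    have hj := congrFun (diagonal_injective h0) j
    exact frobenius_inj F p (by simpa [frobenius_def] using hi.trans hj.symm)
  rcases hG.cases' g.2 hns with hu | ⟨a, b, hab, hd⟩ | ⟨d, hd, hd'⟩
  · exact hu
  · exact absurd (by simpa using key _ hd 0 1) hab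
  · exact absurd (hd (key _ hd' 0 1)) (by decide)

/-- The configuration. -/
theorem NoTv.cfg (hG : NoTv G) :
    Cfg (Pro G) (ringChar F) (blkOf G) (UniPro G) (∃ g : G, IsSpecial G g) := by
  classical
  haveI : CharP F (ringChar F) := ringChar.charP F
  have hprime : (ringChar F).Prime := CharP.char_is_prime F _
  have hp2 : ringChar F ≠ 2 := fun e => hG.two_ne (by
    have : CharP F 2 := e ▸ ringChar.charP F
    exact_mod_cast CharP.cast_eq_zero F 2)
  have hodd_of_uni : ∀ {u : G}, IsUni (u : GL (Fin 3) F) → Odd (Nat.card ↥(cen (toPro G u))) := fun {u} hu => by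
    haveI := Fact.mk hprime
    obtain ⟨-, hpg, -, -⟩ := uni_block hG (p := ringChar F) hu
    obtain ⟨m, hm⟩ := IsPGroup.iff_card.1 hpg
    rw [hm]
    exact (hprime.odd_of_ne_two hp2).pow
  have hnot_inv : ∀ {x : Pro G}, x ≠ 1 → Odd (Nat.card ↥(cen x)) → x * x ≠ 1 := fun {x} hx ho h => by
    have : orderOf x = 2 := orderOf_two h hx
    exact (odd_iff_no_involution x).1 ho ⟨x, this, Commute.refl x⟩
  have hblk_eq : (¬ ∃ g : G, IsSpecial G g) → ∀ g : G, toPro G g ≠ 1 → toPro G g * toPro G g ≠ 1 →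
      cent0 G g = cen (toPro G g) := by
    intro hS g hg hg2
    rcases hG.cases' g.2 (fun h => hg (toPro_eq_one.2 h)) with hu | hh | hr
    · exact cent0_eq_of_uni hG hu
    · exact cent0_eq_of_hom hh hg2
    · exact eq_of_le_of_not_lt (cent0_le g) fun hlt => hS ⟨g, hr, hlt⟩
  refine
    { prime := hprime
      p_ne_two := hp2
      simple := hG.simple
      nonabelian := hG.nonabelian
      invol := ⟨fun a b c => hG.no_eight, fun x hx a b ha hb hab hax hbx => ?_, fun a b => one_class hG⟩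
      blocks := ⟨fun x _ _ => ?_, fun x y hx ho hy hy1 => ?_, fun g x => ?_⟩
      cases := fun t ht => cent_cases hG ht
      uni_odd := fun u hu => ?_
      uni_pow := fun u hu y hy => ?_
      of_pow := fun x hx hp => ?_
      uni_kappa := fun u hu => ?_
      comm := fun x hx ho => ?_
      semi := fun x hx ho hu => ?_
      blk_le := fun x _ _ => ?_
      blk_eq := fun hS x hx ho => ?_
      ab_or_le := fun hS x hx => ?_
      spec_p := fun hS => ?_
      spec_three := fun hS x hx ho => ?_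
      spec_sylow := fun hS R => ?_ }
  · obtain ⟨x, rfl⟩ := toPro_surjective x
    exact commuting_involutions hG hx ha hb hab hax hbx
  · obtain ⟨x, rfl⟩ := toPro_surjective x
    rw [blkOf_toPro]; exact mem_cent0_self x
  · obtain ⟨x, rfl⟩ := toPro_surjective x
    obtain ⟨y, rfl⟩ := toPro_surjective y
    rw [blkOf_toPro] at hy ⊢
    rw [blkOf_toPro]
    by_cases hu : IsUni (x : GL (Fin 3) F)
    · obtain ⟨-, -, hexp, hTI⟩ := uni_block hG (p := ringChar F) hu
      have hy' := cent0_le x hy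
      have hyu := isUni_of_pow_char hG hy1 (hexp _ hy')
      have e := hTI _ hy' hy1
      exact ⟨hodd_of_uni hyu, by rw [cent0_eq_of_uni hG hyu, cent0_eq_of_uni hG hu, e]⟩
    · obtain ⟨-, hTI, -⟩ := odd_block hG hx hu ho
      have e := hTI y hy hy1
      refine ⟨(odd_iff_no_involution _).2 ?_, e⟩
      rintro ⟨a, ha, hay⟩
      obtain ⟨ga, rfl, hga, -⟩ := hG.exists_lift_involution ha
      have hc := hG.commute_lift hga hay
      have hmem : toPro G ga ∈ cent0 G y := ⟨ga, Subgroup.mem_centralizer_singleton_iff.2 hc.eq, rfl⟩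
      exact (odd_iff_no_involution _).1 ho ⟨_, ha, mem_cen.1 (cent0_le x (e ▸ hmem))⟩
  · obtain ⟨k, rfl⟩ := toPro_surjective g
    obtain ⟨x, rfl⟩ := toPro_surjective x
    rw [← map_inv, ← map_mul, ← map_mul, blkOf_toPro, blkOf_toPro, cent0_conj]
  · obtain ⟨u, rfl⟩ := toPro_surjective u
    rw [uniPro_toPro] at hu
    exact ⟨fun h => hu.1 (toPro_eq_one.1 h), hodd_of_uni hu, by rw [blkOf_toPro, cent0_eq_of_uni hG hu]⟩
  · obtain ⟨u, rfl⟩ := toPro_surjective u
    exact (uni_block hG ((uniPro_toPro u).1 hu)).2.2.1 y hy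
  · obtain ⟨x, rfl⟩ := toPro_surjective x
    exact (uniPro_toPro x).2 (isUni_of_pow_char hG hx hp)
  · obtain ⟨u, rfl⟩ := toPro_surjective u
    obtain ⟨e, κ, c, k, he, hrel, hdvd, hκ, hk, hκN, hd⟩ := uni_normalizer hG ((uniPro_toPro u).1 hu)
    refine ⟨e, toPro G κ, he, hrel, hdvd, hκ, hκN, fun ho h3 => ?_⟩
    rw [blkOf_toPro] at h3 ⊢
    rw [← hk]
    exact sq_dvd_of_three hG hd ho h3
  · obtain ⟨x, rfl⟩ := toPro_surjective x
    rw [blkOf_toPro]
    by_cases hu : IsUni (x : GL (Fin 3) F)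
    · rw [cent0_eq_of_uni hG hu]; exact (uni_block hG (p := ringChar F) hu).1
    · exact (odd_block hG hx hu ho).1
  · obtain ⟨x, rfl⟩ := toPro_surjective x
    rw [blkOf_toPro]
    exact (odd_block hG hx (fun h => hu ((uniPro_toPro x).2 h)) ho).2.2
  · obtain ⟨x, rfl⟩ := toPro_surjective x
    rw [blkOf_toPro]; exact cent0_le x
  · obtain ⟨x, rfl⟩ := toPro_surjective x
    rw [blkOf_toPro]
    exact hblk_eq hS x hx (hnot_inv hx ho)
  · obtain ⟨x, rfl⟩ := toPro_surjective x
    by_cases hx2 : toPro G x * toPro G x = 1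
    · exact Or.inr ⟨toPro G x, orderOf_two hx2 hx, le_rfl⟩
    have he := hblk_eq hS x hx hx2
    rcases hG.cases' x.2 (fun h => hx (toPro_eq_one.2 h)) with hu | hh | hr
    · exact Or.inl (uni_block hG (p := ringChar F) hu).1
    · by_cases ho : Odd (Nat.card ↥(cen (toPro G x)))
      · have hnu : ¬ IsUni (x : GL (Fin 3) F) := fun hu => by
          obtain ⟨a, b, hab, hd⟩ := hh
          obtain ⟨-, c, hc⟩ := hu
          obtain ⟨B, hB⟩ := hd
          have hB' : mloc B (x : GL (Fin 3) F) = diagonal ![a, b, b] := hB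
          have h0 : (diagonal ![a, b, b] - c • (1 : Mat)) ^ 3 = 0 := by
            have e1 : (((x : GL (Fin 3) F)) : Mat) - c • 1 =
                ((B⁻¹ : GL (Fin 3) F) : Mat) * (diagonal ![a, b, b] - c • (1 : Mat)) * (B : Mat) := by
              rw [← hB', mloc_eq, mul_sub, sub_mul]
              simp only [mul_smul_comm, smul_mul_assoc, mul_one, Units.inv_mul, mul_assoc]
              simp [← mul_assoc]
            rw [e1, pow_three] at hc
            have := congrArg (fun M : Mat => (B : Mat) * M * ((B⁻¹ : GL (Fin 3) F) : Mat)) hc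
            rw [pow_three]
            simpa [mul_assoc] using this
          rw [smul_one_eq_diagonal, diagonal_sub, diagonal_pow, diagonal_eq_zero] at h0
          have ha := congrFun h0 0
          have hb := congrFun h0 1
          simp [sub_eq_zero] at ha hb
          exact hab (ha.trans hb.symm)
        exact Or.inl (he ▸ (odd_block hG hx hnu ho).1)
      · obtain ⟨a, ha, hax⟩ : ∃ a : Pro G, orderOf a = 2 ∧ Commute a (toPro G x) :=
          not_not.1 fun hne => ho ((odd_iff_no_involution _).2 hne)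
        obtain ⟨c, hc, -, hle⟩ := hom_centre hG hx ha hax hh
        exact Or.inr ⟨c, hc, hle⟩
    · exact Or.inl (he ▸ cent0_comm_of_reg hr)
  · obtain ⟨g, hg⟩ := hS
    exact (special_sylow hG hg (default : Sylow 3 (Pro G))).1
  · obtain ⟨g, hg⟩ := hS
    obtain ⟨x, rfl⟩ := toPro_surjective x
    rw [blkOf_toPro]
    exact ne_of_lt ((special_sylow hG hg (default : Sylow 3 (Pro G))).2.2.2.1 x hx).2
  · obtain ⟨g, hg⟩ := hS
    obtain ⟨-, h9, hc, -, hinv, h8, h4, hmem, hfix, hexp⟩ := special_sylow hG hg R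
    exact ⟨h9, hc, hinv, h8, h4, hmem, hfix, hexp⟩

/-- The possible orders of a group without transvections. -/
theorem notv_cases (hG : NoTv G) :
    (∃ (q : ℕ) (u : G), IsUni (u : GL (Fin 3) F) ∧ 5 ≤ q ∧ 2 * Nat.card (Pro G) = q * (q + 1) * (q - 1) ∧
      Nat.card ↥(cen (toPro G u)) = q ∧
      2 * (cen (toPro G u)).relIndex (Subgroup.normalizer ((cen (toPro G u)) : Set (Pro G))) = q - 1) ∨
    (Nat.card (Pro G) = 60 ∧ ringChar F ≠ 5) ∨ Nat.card (Pro G) = 168 ∨
    (Nat.card (Pro G) = 360 ∧ ringChar F ≠ 3) ∨ (Nat.card (Pro G) = 2520 ∧ ringChar F = 5) := by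
  haveI : Fact (Nat.Prime 2) := ⟨Nat.prime_two⟩
  obtain ⟨t, ht⟩ := exists_prime_orderOf_dvd_card' 2 (even_iff_two_dvd.1 hG.even_card)
  rcases hG.cfg.classify ht with ⟨q, x, hu, h5, hcard, hU, hN⟩ | h | h | h | h
  · left
    obtain ⟨u, rfl⟩ := toPro_surjective x
    exact ⟨q, u, (uniPro_toPro u).1 hu, h5, hcard, hU, hN⟩
  · exact Or.inr (Or.inl h)
  · exact Or.inr (Or.inr (Or.inl h))
  · exact Or.inr (Or.inr (Or.inr (Or.inl h)))
  · exact Or.inr (Or.inr (Or.inr (Or.inr h)))

end CfsgLib.Geo.D3
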