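/-
Trace toolbox in dimension three: an absolutely irreducible group is determined up to conjugation by its
traces, is written over the field of its traces, and fixes the form predicted by its traces.
-/
import Cfsg.Agent.Geo.DimThree.NoTv.Defs
import Cfsg.Agent.Aschbacher.Rational
import Mathlib.RingTheory.SimpleModule.Basic
import Mathlib.LinearAlgebra.GeneralLinearGroup.AlgEquiv
import Mathlib.RingTheory.LittleWedderburn

set_option autoImplicit false

namespace CfsgLib.Geo.D3

open Matrix Cfsg Cfsg.Geo CfsgLib.Geo CfsgLib.Aschbacher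

variable {F : Type*} [Field F]

/-- Burnside: an absolutely irreducible group spans the whole matrix algebra. -/
theorem span_matrixSet_eq_top {P : Subgroup (GL (Fin 3) F)}
    (habs : ActsAbsolutelyIrreducibly (matrixSet P)) : Submodule.span F (matrixSet P) = ⊤ := by
  classical
  set L : Set (Module.End F (Fin 3 → F)) := Matrix.toLin' '' matrixSet P with hL
  set A := Algebra.adjoin F L with hA
  have : IsSimpleModule A (Fin 3 → F) := by
    refine { eq_bot_or_eq_top := fun W => ?_ }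
    have hW : ∀ s ∈ matrixSet P, Submodule.map (Matrix.toLin' s) (W.restrictScalars F) ≤ W.restrictScalars F := by
      rintro s hs _ ⟨v, hv, rfl⟩
      exact W.smul_mem ⟨Matrix.toLin' s, Algebra.subset_adjoin ⟨s, hs, rfl⟩⟩ hv
    rcases habs.1 _ hW with h | h
    · exact Or.inl ((Submodule.restrictScalars_eq_bot_iff F A (Fin 3 → F)).1 h)
    · exact Or.inr ((Submodule.restrictScalars_eq_top_iff F A (Fin 3 → F)).1 h)
  rw [eq_top_iff]
  intro X _
  let f : Module.End (Module.End A (Fin 3 → F)) (Fin 3 → F) :=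
    { toFun := Matrix.toLin' X
      map_add' := map_add _
      map_smul' := fun φ v => by
        set M := LinearMap.toMatrix' (φ.restrictScalars F) with hM
        obtain ⟨c, hc⟩ := habs.2 M fun s hs => by
          apply Matrix.toLin'.injective
          rw [Matrix.toLin'_mul, Matrix.toLin'_mul, hM, Matrix.toLin'_toMatrix']
          exact LinearMap.ext fun u => φ.map_smul ⟨Matrix.toLin' s, Algebra.subset_adjoin ⟨s, hs, rfl⟩⟩ u
        have hc' : ∀ u, φ u = c • u := by
          intro u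
          have h : Matrix.toLin' M u = φ u := by rw [hM, Matrix.toLin'_toMatrix']; rfl
          rw [← h, hc, map_smul, Matrix.toLin'_one]; rfl
        show Matrix.toLin' X (φ v) = φ (Matrix.toLin' X v)
        rw [hc', hc', map_smul] }
  obtain ⟨a, ha⟩ := jacobson_density (R := A) f (Finset.univ.image (Pi.basisFun F (Fin 3)))
  have hX : Matrix.toLin' X = (a : Module.End F (Fin 3 → F)) := (Pi.basisFun F (Fin 3)).ext fun i =>
    ha _ (Finset.mem_image_of_mem _ (Finset.mem_univ i))
  have hspan : Subalgebra.toSubmodule A ≤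
      (Submodule.span F (matrixSet P)).map (Matrix.toLin' (R := F) (m := Fin 3) (n := Fin 3)).toLinearMap := by
    rw [Submodule.map_span, hA, Algebra.adjoin_eq_span]
    refine Submodule.span_mono (Submonoid.closure_le (S :=
      { carrier := Matrix.toLin' '' matrixSet P
        one_mem' := ⟨1, ⟨1, P.one_mem, rfl⟩, Matrix.toLin'_one⟩
        mul_mem' := ?_ }).2 subset_rfl)
    rintro _ _ ⟨_, ⟨g, hg, rfl⟩, rfl⟩ ⟨_, ⟨h, hh, rfl⟩, rfl⟩
    exact ⟨_, ⟨g * h, P.mul_mem hg hh, rfl⟩, Matrix.toLin'_mul _ _⟩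
  obtain ⟨Y, hY, hYX⟩ := hspan a.2
  rw [← hX] at hYX
  exact Matrix.toLin'.injective hYX ▸ hY

/-- A matrix is determined by its traces against a spanning set. -/
theorem eq_of_trace_mul {S : Set (Matrix (Fin 3) (Fin 3) F)} (hS : Submodule.span F S = ⊤)
    {X Y : Matrix (Fin 3) (Fin 3) F} (h : ∀ s ∈ S, (X * s).trace = (Y * s).trace) : X = Y := by
  refine Matrix.ext_iff_trace_mul_right.mpr fun Z => ?_
  have hZ : Z ∈ Submodule.span F S := hS ▸ Submodule.mem_top
  induction hZ using Submodule.span_induction with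
  | mem s hs => exact h s hs
  | zero => simp
  | add a b _ _ ha hb => rw [mul_add, mul_add, trace_add, trace_add, ha, hb]
  | smul c a _ ha => rw [mul_smul_comm, mul_smul_comm, trace_smul, trace_smul, ha]

theorem conj_of_trace_of_span {P : Type*} [Group P] (ρ σ : P →* GL (Fin 3) F)
    (hρ : Submodule.span F (Set.range fun x => (ρ x : Matrix (Fin 3) (Fin 3) F)) = ⊤)
    (hσ : Submodule.span F (Set.range fun x => (σ x : Matrix (Fin 3) (Fin 3) F)) = ⊤)
    (h : ∀ x, (ρ x : Matrix (Fin 3) (Fin 3) F).trace = (σ x : Matrix (Fin 3) (Fin 3) F).trace) :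
    ∃ B : GL (Fin 3) F, ∀ x, σ x = B * ρ x * B⁻¹ := by
  classical
  let T : (P →* GL (Fin 3) F) → Matrix (Fin 3) (Fin 3) F →ₗ[F] (P → F) := fun τ =>
    { toFun := fun X x => (X * (τ x : Matrix (Fin 3) (Fin 3) F)).trace
      map_add' := fun a b => funext fun x => by simp [add_mul]
      map_smul' := fun c a => funext fun x => by simp }
  have hinj : ∀ {τ : P →* GL (Fin 3) F},
      Submodule.span F (Set.range fun x => (τ x : Matrix (Fin 3) (Fin 3) F)) = ⊤ → Function.Injective (T τ) := by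
    intro τ hτ X Y hXY
    refine eq_of_trace_mul hτ ?_
    rintro _ ⟨x, rfl⟩
    exact congrFun hXY x
  have hval : ∀ x, T ρ (ρ x : Matrix (Fin 3) (Fin 3) F) = T σ (σ x : Matrix (Fin 3) (Fin 3) F) := by
    intro x
    funext y
    show (_ * _ : Matrix (Fin 3) (Fin 3) F).trace = (_ * _ : Matrix (Fin 3) (Fin 3) F).trace
    rw [← Units.val_mul, ← map_mul, ← Units.val_mul, ← map_mul]
    exact h _
  have hrange : LinearMap.range (T ρ) = LinearMap.range (T σ) := by
    rw [LinearMap.range_eq_map, LinearMap.range_eq_map]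
    conv_lhs => rw [← hρ, Submodule.map_span, ← Set.range_comp]
    conv_rhs => rw [← hσ, Submodule.map_span, ← Set.range_comp]
    congr 2
    exact funext hval
  let Φ : Matrix (Fin 3) (Fin 3) F ≃ₗ[F] Matrix (Fin 3) (Fin 3) F :=
    (LinearEquiv.ofInjective (T ρ) (hinj hρ)).trans
      ((LinearEquiv.ofEq _ _ hrange).trans (LinearEquiv.ofInjective (T σ) (hinj hσ)).symm)
  have hΦ : ∀ x, Φ (ρ x : Matrix (Fin 3) (Fin 3) F) = (σ x : Matrix (Fin 3) (Fin 3) F) := by
    intro x
    simp only [Φ, LinearEquiv.trans_apply, LinearEquiv.symm_apply_eq]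
    exact Subtype.ext (hval x)
  have h1 : Φ 1 = 1 := by simpa using hΦ 1
  have hmul : ∀ X Y, Φ (X * Y) = Φ X * Φ Y := by
    intro X Y
    have hX : X ∈ Submodule.span F (Set.range fun x => (ρ x : Matrix (Fin 3) (Fin 3) F)) := hρ ▸ Submodule.mem_top
    have hY : Y ∈ Submodule.span F (Set.range fun x => (ρ x : Matrix (Fin 3) (Fin 3) F)) := hρ ▸ Submodule.mem_top
    induction hX, hY using Submodule.span_induction₂ with
    | mem_mem X Y hX hY =>
      obtain ⟨x, rfl⟩ := hX
      obtain ⟨y, rfl⟩ := hY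
      rw [hΦ, hΦ, ← Units.val_mul, ← map_mul, hΦ, map_mul, Units.val_mul]
    | zero_left => simp
    | zero_right => simp
    | add_left a b c _ _ _ ha hb => rw [add_mul, map_add, map_add, ha, hb, add_mul]
    | add_right a b c _ _ _ ha hb => rw [mul_add, map_add, map_add, ha, hb, mul_add]
    | smul_left r a b _ _ ha => rw [smul_mul_assoc, map_smul, map_smul, ha, smul_mul_assoc]
    | smul_right r a b _ _ ha => rw [mul_smul_comm, map_smul, map_smul, ha, mul_smul_comm]
  let Φa : Matrix (Fin 3) (Fin 3) F ≃ₐ[F] Matrix (Fin 3) (Fin 3) F := AlgEquiv.ofLinearEquiv Φ h1 hmul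
  obtain ⟨e, he⟩ := AlgEquiv.eq_linearEquivConjAlgEquiv
    ((Matrix.toLinAlgEquiv'.symm.trans Φa).trans Matrix.toLinAlgEquiv')
  let u : GL (Fin 3) F :=
    { val := LinearMap.toMatrix' e.toLinearMap
      inv := LinearMap.toMatrix' e.symm.toLinearMap
      val_inv := by
        rw [← LinearMap.toMatrix'_comp, show e.toLinearMap ∘ₗ e.symm.toLinearMap = LinearMap.id by ext; simp,
          LinearMap.toMatrix'_id]
      inv_val := by
        rw [← LinearMap.toMatrix'_comp, show e.symm.toLinearMap ∘ₗ e.toLinearMap = LinearMap.id by ext; simp,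
          LinearMap.toMatrix'_id] }
  refine ⟨u, fun x => Units.ext ?_⟩
  have h2 := AlgEquiv.congr_fun he (Matrix.toLinAlgEquiv' (ρ x : Matrix (Fin 3) (Fin 3) F))
  rw [LinearEquiv.conjAlgEquiv_apply] at h2
  simp only [AlgEquiv.trans_apply, AlgEquiv.symm_apply_apply] at h2
  have h3 := congrArg LinearMap.toMatrix' h2
  rw [LinearMap.toMatrix'_comp, LinearMap.toMatrix'_comp] at h3
  have e1 : ∀ X : Matrix (Fin 3) (Fin 3) F, LinearMap.toMatrix' (Matrix.toLinAlgEquiv' X) = X :=
    fun X => LinearMap.toMatrix'_toLin' X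
  rw [e1, e1, show Φa (ρ x : Matrix (Fin 3) (Fin 3) F) = (σ x : Matrix (Fin 3) (Fin 3) F) from hΦ x] at h3
  rw [h3, Units.val_mul, Units.val_mul, mul_assoc]
  rfl

theorem span_range_eq_top {P : Type*} [Group P] {ρ : P →* GL (Fin 3) F}
    (hρ : ActsAbsolutelyIrreducibly (matrixSet ρ.range)) :
    Submodule.span F (Set.range fun x => (ρ x : Matrix (Fin 3) (Fin 3) F)) = ⊤ := by
  rw [← span_matrixSet_eq_top hρ]
  congr 1
  rw [matrixSet, MonoidHom.coe_range, ← Set.range_comp]
  rfl

/-- Two absolutely irreducible representations with the same traces are conjugate. -/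
theorem conj_of_trace {P : Type*} [Group P] (ρ σ : P →* GL (Fin 3) F)
    (hρ : ActsAbsolutelyIrreducibly (matrixSet ρ.range)) (hσ : ActsAbsolutelyIrreducibly (matrixSet σ.range))
    (h : ∀ x, (ρ x : Matrix (Fin 3) (Fin 3) F).trace = (σ x : Matrix (Fin 3) (Fin 3) F).trace) :
    ∃ B : GL (Fin 3) F, ∀ x, σ x = B * ρ x * B⁻¹ :=
  conj_of_trace_of_span ρ σ (span_range_eq_top hρ) (span_range_eq_top hσ) h

/-- An absolutely irreducible group is written over any subfield containing its traces. -/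
theorem realisable_of_trace [Finite F] {P : Subgroup (GL (Fin 3) F)}
    (habs : ActsAbsolutelyIrreducibly (matrixSet P)) (F₀ : Subfield F)
    (h : ∀ g ∈ P, (g : Matrix (Fin 3) (Fin 3) F).trace ∈ F₀) : RealisableOver F₀ (matrixSet P) := by
  classical
  have htop := span_matrixSet_eq_top habs
  let A : Subalgebra F₀ (Matrix (Fin 3) (Fin 3) F) :=
    (Submodule.span F₀ (matrixSet P)).toSubalgebra (Submodule.subset_span ⟨1, P.one_mem, rfl⟩) (by
      intro x y hx hy
      induction hx, hy using Submodule.span_induction₂ with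
      | mem_mem a b ha hb =>
        obtain ⟨g, hg, rfl⟩ := ha
        obtain ⟨k, hk, rfl⟩ := hb
        exact Submodule.subset_span ⟨g * k, P.mul_mem hg hk, Units.val_mul g k⟩
      | zero_left => simp
      | zero_right => simp
      | add_left a b c _ _ _ ha hb => rw [add_mul]; exact add_mem ha hb
      | add_right a b c _ _ _ ha hb => rw [mul_add]; exact add_mem ha hb
      | smul_left r a b _ _ ha => rw [smul_mul_assoc]; exact Submodule.smul_mem _ r ha
      | smul_right r a b _ _ ha => rw [mul_smul_comm]; exact Submodule.smul_mem _ r ha)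
  have hgA : ∀ s ∈ matrixSet P, s ∈ A := fun s hs => Submodule.subset_span hs
  have htr : ∀ x ∈ A, x.trace ∈ F₀ := by
    intro x hx
    have hx' : x ∈ Submodule.span F₀ (matrixSet P) := hx
    clear hx
    induction hx' using Submodule.span_induction with
    | mem s hs => obtain ⟨g, hg, rfl⟩ := hs; exact h g hg
    | zero => simp
    | add a b _ _ ha hb => rw [trace_add]; exact add_mem ha hb
    | smul c a _ ha => rw [trace_smul]; exact F₀.mul_mem c.2 ha
  obtain ⟨a, haA, ha0, hau⟩ : ∃ a ∈ A, a ≠ 0 ∧ ¬ IsUnit a := by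
    by_contra hno
    push Not at hno
    have : NoZeroDivisors A := ⟨fun {x y} hxy => by
      by_cases hx : x = 0
      · exact Or.inl hx
      · exact Or.inr (Subtype.ext ((hno x.1 x.2 fun h0 => hx (Subtype.ext h0)).mul_right_eq_zero.mp
          (congrArg Subtype.val hxy)))⟩
    have : Nontrivial A := ⟨⟨0, 1, fun e => zero_ne_one (congrArg Subtype.val e)⟩⟩
    have : IsDomain A := NoZeroDivisors.to_isDomain _
    have hf := Finite.isDomain_to_isField A
    have hcomm : ∀ s ∈ matrixSet P, ∀ t ∈ matrixSet P, s * t = t * s := fun s hs t ht =>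
      congrArg Subtype.val (hf.mul_comm ⟨s, hgA s hs⟩ ⟨t, hgA t ht⟩)
    have hle : Submodule.span F (matrixSet P) ≤ F ∙ (1 : Matrix (Fin 3) (Fin 3) F) := by
      rw [Submodule.span_le]
      intro s hs
      obtain ⟨c, hc⟩ := habs.2 s fun t ht => hcomm s hs t ht
      exact Submodule.mem_span_singleton.mpr ⟨c, hc.symm⟩
    obtain ⟨c, hc⟩ := Submodule.mem_span_singleton.mp
      (hle (htop ▸ (Submodule.mem_top (x := Matrix.single (0 : Fin 3) (1 : Fin 3) (1 : F)))))
    simpa using congrFun (congrFun hc 0) 1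
  -- an element of rank one
  obtain ⟨b, hbA, w, v₀, hw, hv₀, hb⟩ : ∃ b ∈ A, ∃ w v₀ : Fin 3 → F, w ≠ 0 ∧ v₀ ≠ 0 ∧
      b = Matrix.vecMulVec v₀ w := by
    have hrange : ∀ {x : Matrix (Fin 3) (Fin 3) F} (v₀ : Fin 3 → F), x ≠ 0 → (∀ u, x *ᵥ u ∈ F ∙ v₀) →
        ∃ w v : Fin 3 → F, w ≠ 0 ∧ v ≠ 0 ∧ x = Matrix.vecMulVec v w := by
      intro x v₀ hx0 hx
      choose c hc using fun j => Submodule.mem_span_singleton.mp (hx (Pi.single j 1))
      have hxe : x = Matrix.vecMulVec v₀ c := by
        ext i j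
        have := congrFun (hc j) i
        simp only [Matrix.mulVec_single_one, Matrix.col_apply, Pi.smul_apply, smul_eq_mul] at this
        rw [vecMulVec_apply, ← this, mul_comm]
      exact ⟨c, v₀, fun e => hx0 (by rw [hxe, e]; ext i j; simp [vecMulVec_apply]),
        fun e => hx0 (by rw [hxe, e]; ext i j; simp [vecMulVec_apply]), hxe⟩
    let R := LinearMap.range (Matrix.toLin' a)
    by_cases hR : Module.finrank F R ≤ 1
    · obtain ⟨v₀, hv⟩ := finrank_le_one_iff.mp hR
      exact ⟨a, haA, hrange v₀.1 ha0 fun u => by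
        obtain ⟨c, hc⟩ := hv ⟨Matrix.toLin' a u, LinearMap.mem_range_self _ u⟩
        exact Submodule.mem_span_singleton.mpr ⟨c, congrArg Subtype.val hc⟩⟩
    · let m : A → A := fun b => ⟨a, haA⟩ * b
      have hm : ¬ Function.Surjective m := fun hs => by
        obtain ⟨b, hb⟩ := hs 1
        exact hau (IsUnit.of_mul_eq_one _ (congrArg Subtype.val hb))
      obtain ⟨b, hb, hb0⟩ : ∃ b : A, a * b.1 = 0 ∧ b ≠ 0 := by
        by_contra hno
        push Not at hno
        refine hm (Finite.injective_iff_surjective.mp fun x y hxy => sub_eq_zero.mp (hno (x - y) ?_))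
        have := congrArg Subtype.val hxy
        simp only [m, MulMemClass.coe_mul] at this
        rw [AddSubgroupClass.coe_sub, mul_sub, this, sub_self]
      have hker : Module.finrank F (LinearMap.ker (Matrix.toLin' a)) ≤ 1 := by
        have h3 := LinearMap.finrank_range_add_finrank_ker (Matrix.toLin' a)
        rw [Module.finrank_fintype_fun_eq_card, Fintype.card_fin] at h3
        have : 2 ≤ Module.finrank F R := by omega
        change 2 ≤ Module.finrank F (LinearMap.range (Matrix.toLin' a)) at this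
        omega
      obtain ⟨v₀, hv⟩ := finrank_le_one_iff.mp hker
      exact ⟨b.1, b.2, hrange v₀.1 (fun e => hb0 (Subtype.ext e)) fun u => by
        obtain ⟨c, hc⟩ := hv ⟨b.1 *ᵥ u, by
          rw [LinearMap.mem_ker, Matrix.toLin'_apply, mulVec_mulVec, hb, zero_mulVec]⟩
        exact Submodule.mem_span_singleton.mpr ⟨c, congrArg Subtype.val hc⟩⟩
  -- the images of the column form a rational structure
  let V₀ : Set (Fin 3 → F) := {u | Matrix.vecMulVec u w ∈ A}
  have hstab : ∀ g ∈ P, ∀ u ∈ V₀, (g : Matrix (Fin 3) (Fin 3) F) *ᵥ u ∈ V₀ := by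
    intro g hg u hu
    show _ ∈ A
    rw [← Matrix.mul_vecMulVec]
    exact A.mul_mem (hgA _ (coe_mem_matrixSet hg)) hu
  have hv₀V : v₀ ∈ V₀ := show _ ∈ A by rw [← hb]; exact hbA
  have hspanV : Submodule.span F V₀ = ⊤ := by
    refine (habs.1 _ (forall_matrixSet.mpr fun g hg => ?_)).resolve_left fun e => hv₀ ?_
    · rw [Submodule.map_span, Submodule.span_le]
      rintro _ ⟨u, hu, rfl⟩
      exact Submodule.subset_span (hstab g hg u hu)
    · have := Submodule.subset_span (R := F) hv₀V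
      rwa [e, SetLike.mem_coe, Submodule.mem_bot] at this
  obtain ⟨T, hTV, hTspan, hTli⟩ := exists_linearIndependent F V₀
  rw [hspanV] at hTspan
  let Bs : Module.Basis T F (Fin 3 → F) := Module.Basis.mk hTli (by rw [Subtype.range_coe_subtype]; simp [hTspan])
  let _ := Fintype.ofFinite T
  have hcard : Fintype.card (Fin 3) = Fintype.card T := by
    rw [← Module.finrank_eq_card_basis Bs, Module.finrank_fintype_fun_eq_card]
  let e : Fin 3 ≃ T := Fintype.equivOfCardEq hcard
  let X : Matrix (Fin 3) (Fin 3) F := Matrix.of fun r i => ((e i : T) : Fin 3 → F) r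
  have hXcol : ∀ i, X *ᵥ Pi.single i 1 = ((e i : T) : Fin 3 → F) := fun i => by ext r; simp [X]
  obtain ⟨Xu, hXu⟩ : IsUnit X := Matrix.linearIndependent_cols_iff_isUnit.mp
    (show LinearIndependent F fun i => ((e i : T) : Fin 3 → F) from hTli.comp e e.injective)
  obtain ⟨π, hπ⟩ : ∃ π : F →ₗ[F₀] F₀, ∀ c : F₀, π (c : F) = c := by
    obtain ⟨π, hπ⟩ := (Algebra.linearMap F₀ F).exists_leftInverse_of_injective
      (LinearMap.ker_eq_bot.mpr (fun a b hab => Subtype.ext hab))
    exact ⟨π, fun c => LinearMap.congr_fun hπ c⟩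
  refine ⟨Xu⁻¹, forall_matrixSet.mpr fun g hg => ?_⟩
  intro i j
  rw [inv_inv]
  set Y : Matrix (Fin 3) (Fin 3) F :=
    ((Xu⁻¹ : GL (Fin 3) F) : Matrix (Fin 3) (Fin 3) F) * (g : Matrix (Fin 3) (Fin 3) F) * (Xu : Matrix (Fin 3) (Fin 3) F)
  have hgX : (g : Matrix (Fin 3) (Fin 3) F) * X = X * Y := by
    simp only [Y, ← hXu, ← mul_assoc, Units.mul_inv, one_mul]
  set Z : Fin 3 → Matrix (Fin 3) (Fin 3) F := fun k => Matrix.vecMulVec ((e k : T) : Fin 3 → F) w
  have hZA : ∀ k, Z k ∈ A := fun k => hTV (e k).2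
  -- the coordinates of a rational vector are rational
  have hcomb : X *ᵥ (fun k => Y k j) = ∑ k, Y k j • ((e k : T) : Fin 3 → F) := by
    ext r
    simp [X, Matrix.mulVec, dotProduct, Finset.sum_apply, mul_comm]
  have hxA : ∑ k, Y k j • Z k ∈ A := by
    have hv : X *ᵥ (fun k => Y k j) = (g : Matrix (Fin 3) (Fin 3) F) *ᵥ ((e j : T) : Fin 3 → F) := by
      rw [← hXcol j, mulVec_mulVec, hgX, ← mulVec_mulVec]
      congr 1
      ext k; simp
    have hm : ∑ k, Y k j • Z k = Matrix.vecMulVec (∑ k, Y k j • ((e k : T) : Fin 3 → F)) w := by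
      ext r s
      simp [Z, Matrix.sum_apply, Finset.sum_apply, vecMulVec_apply, Finset.sum_mul, mul_assoc]
    rw [hm, ← hcomb, hv]
    exact hstab g hg _ (hTV (e j).2)
  have hzero : ∑ k, (Y k j - (π (Y k j) : F)) • Z k = 0 := by
    refine eq_of_trace_mul htop fun s hs => ?_
    rw [zero_mul, trace_zero]
    have hr : ∀ k, (Z k * s).trace ∈ F₀ := fun k => htr _ (A.mul_mem (hZA k) (hgA s hs))
    have hsum : ((∑ k, Y k j • Z k) * s).trace ∈ F₀ := htr _ (A.mul_mem hxA (hgA s hs))
    simp only [Finset.sum_mul, smul_mul_assoc, trace_sum, trace_smul, smul_eq_mul] at hsum ⊢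
    have hπm : ∀ k, π (Y k j * (Z k * s).trace) = π (Y k j) * ⟨_, hr k⟩ := fun k => by
      have h1 := π.map_smul (⟨_, hr k⟩ : F₀) (Y k j)
      rw [mul_comm (Y k j)]
      exact h1.trans (mul_comm _ _)
    have hE : (∑ k, Y k j * (Z k * s).trace) = ∑ k, (π (Y k j) : F) * (Z k * s).trace := by
      have h1 := congrArg Subtype.val (hπ ⟨_, hsum⟩)
      simp only [map_sum, hπm] at h1
      push_cast at h1
      exact h1.symm
    simp only [sub_mul, Finset.sum_sub_distrib]
    rw [hE, sub_self]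
  have hw' : ∑ k, (Y k j - (π (Y k j) : F)) • ((e k : T) : Fin 3 → F) = 0 := by
    obtain ⟨s, hs⟩ := Function.ne_iff.mp hw
    ext r
    have := congrFun (congrFun hzero r) s
    simp only [Z, Matrix.sum_apply, Matrix.smul_apply, vecMulVec_apply, smul_eq_mul, Matrix.zero_apply, ← mul_assoc,
      ← Finset.sum_mul] at this
    simpa [Finset.sum_apply] using (mul_eq_zero.mp this).resolve_right hs
  have hi := Fintype.linearIndependent_iff.mp (hTli.comp e e.injective) _ hw' i
  rw [sub_eq_zero] at hi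
  rw [hi]
  exact (π (Y i j)).2

/-- The contragredient. -/
def contragredient : GL (Fin 3) F →* GL (Fin 3) F where
  toFun g :=
    { val := ((g⁻¹ : GL (Fin 3) F) : Matrix (Fin 3) (Fin 3) F)ᵀ
      inv := (g : Matrix (Fin 3) (Fin 3) F)ᵀ
      val_inv := by rw [← transpose_mul, Units.mul_inv, transpose_one]
      inv_val := by rw [← transpose_mul, Units.inv_mul, transpose_one] }
  map_one' := Units.ext (by simp)
  map_mul' g h := Units.ext (by simp [transpose_mul])

@[simp] lemma coe_contragredient (g : GL (Fin 3) F) :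
    ((contragredient g : GL (Fin 3) F) : Matrix (Fin 3) (Fin 3) F) =
      ((g⁻¹ : GL (Fin 3) F) : Matrix (Fin 3) (Fin 3) F)ᵀ := rfl

/-- The common core of the two forms: a matrix fixed sesquilinearly. -/
theorem exists_gram_of_trace {P : Subgroup (GL (Fin 3) F)} (habs : ActsAbsolutelyIrreducibly (matrixSet P))
    (σ : F ≃+* F) (hinv : ∀ a, σ (σ a) = a)
    (h : ∀ g : GL (Fin 3) F, g ∈ P →
      σ (g : Matrix (Fin 3) (Fin 3) F).trace = ((g⁻¹ : GL (Fin 3) F) : Matrix (Fin 3) (Fin 3) F).trace) :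
    ∃ (A : Matrix (Fin 3) (Fin 3) F) (c : F), IsUnit A ∧
      (∀ s ∈ matrixSet P, sᵀ * A * s.map σ = A) ∧ Aᵀ.map σ = c • A ∧ c * σ c = 1 := by
  have hmap2 : ∀ X : Matrix (Fin 3) (Fin 3) F, (X.map σ).map σ = X := fun X => by
    ext i j; exact hinv _
  have hsmul : ∀ (a : F) (X : Matrix (Fin 3) (Fin 3) F), (a • X).map σ = σ a • X.map σ := fun a X => by
    ext i j; simp
  have htop := span_matrixSet_eq_top habs
  let ρ : P →* GL (Fin 3) F := P.subtype
  let τ : P →* GL (Fin 3) F :=
    (Matrix.GeneralLinearGroup.map (n := Fin 3) (σ : F →+* F)).comp (contragredient.comp P.subtype)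
  have hτ : ∀ x : P, (τ x : Matrix (Fin 3) (Fin 3) F) =
      (((x : GL (Fin 3) F)⁻¹ : GL (Fin 3) F) : Matrix (Fin 3) (Fin 3) F)ᵀ.map σ := fun x => rfl
  have hρtop : Submodule.span F (Set.range fun x => (ρ x : Matrix (Fin 3) (Fin 3) F)) = ⊤ := by
    rw [eq_top_iff, ← htop, Submodule.span_le]
    rintro _ ⟨g, hg, rfl⟩
    exact Submodule.subset_span ⟨⟨g, hg⟩, rfl⟩
  have hτtop : Submodule.span F (Set.range fun x => (τ x : Matrix (Fin 3) (Fin 3) F)) = ⊤ := by
    rw [eq_top_iff]
    rintro X -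
    have hX : (X.map σ)ᵀ ∈ Submodule.span F (matrixSet P) := htop ▸ Submodule.mem_top
    rw [← hmap2 X, show (X.map σ).map σ = ((X.map σ)ᵀ)ᵀ.map σ from rfl]
    generalize (X.map σ)ᵀ = Z at hX
    induction hX using Submodule.span_induction with
    | mem s hs =>
      obtain ⟨g, hg, rfl⟩ := hs
      exact Submodule.subset_span ⟨⟨g⁻¹, P.inv_mem hg⟩, by simp [hτ]⟩
    | zero => simp
    | add a b _ _ ha hb =>
      rw [transpose_add, Matrix.map_add σ (map_add σ)]
      exact add_mem ha hb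
    | smul c a _ ha =>
      rw [transpose_smul, hsmul]
      exact Submodule.smul_mem _ _ ha
  obtain ⟨B, hB⟩ := conj_of_trace_of_span ρ τ hρtop hτtop fun x => by
    rw [hτ]
    show (x : GL (Fin 3) F).val.trace = _
    rw [show ∀ M : Matrix (Fin 3) (Fin 3) F, (M.map σ).trace = σ M.trace from fun M => by
      simp [Matrix.trace, map_sum], trace_transpose, ← h _ x.2, hinv]
  have hBu : IsUnit ((B : Matrix (Fin 3) (Fin 3) F).map σ) := B.isUnit.map (σ : F →+* F).mapMatrix
  set A : Matrix (Fin 3) (Fin 3) F := (B : Matrix (Fin 3) (Fin 3) F).map σ with hA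
  have hfix : ∀ s ∈ matrixSet P, sᵀ * A * s.map σ = A := by
    refine forall_matrixSet.mpr fun g hg => ?_
    have h1 : (((g⁻¹ : GL (Fin 3) F) : Matrix (Fin 3) (Fin 3) F)ᵀ.map σ) * (B : Matrix (Fin 3) (Fin 3) F) =
        (B : Matrix (Fin 3) (Fin 3) F) * (g : Matrix (Fin 3) (Fin 3) F) := by
      have h0 := congrArg (fun u : GL (Fin 3) F => (u * B : GL (Fin 3) F)) (hB ⟨g, hg⟩)
      simp only [inv_mul_cancel_right] at h0
      simpa [hτ, ρ] using congrArg Units.val h0
    have h2 := congrArg (fun X : Matrix (Fin 3) (Fin 3) F => X.map σ) h1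
    simp only [Matrix.map_mul, hmap2] at h2
    rw [mul_assoc, ← h2, ← mul_assoc, ← transpose_mul, Units.inv_mul, transpose_one, one_mul]
  obtain ⟨c, hc⟩ := gram_unique (σ := σ) (B := Aᵀ.map σ) habs hBu hfix fun s hs => by
    have h1 := congrArg (fun X : Matrix (Fin 3) (Fin 3) F => Xᵀ.map σ) (hfix s hs)
    simp only [transpose_mul, transpose_transpose, Matrix.map_mul, ← transpose_map, hmap2] at h1
    simpa [mul_assoc, transpose_map] using h1
  refine ⟨A, c, hBu, hfix, hc, ?_⟩
  have h1 : (Aᵀ.map σ)ᵀ.map σ = (c • A)ᵀ.map σ := by rw [hc]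
  rw [show (Aᵀ.map σ)ᵀ.map σ = A by rw [← transpose_map, transpose_transpose, hmap2],
    transpose_smul, hsmul, hc, smul_smul] at h1
  have h2 : (σ c * c - 1) • A = 0 := by rw [sub_smul, one_smul, ← h1, sub_self]
  rw [smul_eq_zero, or_iff_left hBu.ne_zero, sub_eq_zero] at h2
  rw [mul_comm]
  exact h2

/-- An absolutely irreducible group with real traces is orthogonal. -/
theorem quadratic_of_trace {P : Subgroup (GL (Fin 3) F)} (habs : ActsAbsolutelyIrreducibly (matrixSet P))
    (_hperf : ⁅P, P⁆ = P) (h2 : (2 : F) ≠ 0)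
    (h : ∀ g : GL (Fin 3) F, g ∈ P →
      (g : Matrix (Fin 3) (Fin 3) F).trace = ((g⁻¹ : GL (Fin 3) F) : Matrix (Fin 3) (Fin 3) F).trace) :
    ∃ Q : (Fin 3 → F) → F, IsNondegenerateQuadraticForm Q ∧ FixesQuadForm (matrixSet P) Q := by
  obtain ⟨A, c, hAu, hfix, hsym, hc⟩ := exists_gram_of_trace habs (RingEquiv.refl F) (fun _ => rfl) h
  have hid : ∀ M : Matrix (Fin 3) (Fin 3) F, M.map (RingEquiv.refl F) = M := fun M => by ext i j; rfl
  rw [hid] at hsym
  have hc1 : c = 1 := by
    have hd := congrArg Matrix.det hsym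
    rw [det_transpose, det_smul, Fintype.card_fin] at hd
    have hA0 : A.det ≠ 0 := ((Matrix.isUnit_iff_isUnit_det A).mp hAu).ne_zero
    have h3 : c ^ 3 = 1 := mul_right_cancel₀ hA0 (by rw [one_mul, ← hd])
    have hcc : c * c = 1 := hc
    linear_combination h3 - c * hcc
  rw [hc1, one_smul] at hsym
  have hpol : ∀ u v : Fin 3 → F,
      QuadraticMap.polar (fun v => v ⬝ᵥ (A *ᵥ v)) u v = 2 * (u ⬝ᵥ (A *ᵥ v)) := by
    intro u v
    have e : v ⬝ᵥ (A *ᵥ u) = u ⬝ᵥ (A *ᵥ v) := by
      rw [dotProduct_mulVec, ← mulVec_transpose, hsym, dotProduct_comm]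
    simp only [QuadraticMap.polar, mulVec_add, add_dotProduct, dotProduct_add, e]
    ring
  refine ⟨fun v => v ⬝ᵥ (A *ᵥ v), ⟨fun c v => ?_, ⟨?_, ?_, ?_, ?_⟩, fun v hv => ?_⟩, fun s hs v => ?_⟩
  · simp [mulVec_smul, smul_eq_mul]; ring
  · intro x y v; simp [hpol, add_dotProduct]; ring
  · intro a x v; simp [hpol, smul_eq_mul]; ring
  · intro v x y; simp [hpol, mulVec_add, dotProduct_add]; ring
  · intro a v x; simp [hpol, mulVec_smul, smul_eq_mul]; ring
  · have hAv : A *ᵥ v ≠ 0 := fun e => hv (Matrix.mulVec_injective_iff_isUnit.mpr hAu (by rw [e, mulVec_zero]))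
    obtain ⟨i, hi⟩ := Function.ne_iff.mp hAv
    have hx : QuadraticMap.polar (fun v => v ⬝ᵥ (A *ᵥ v)) (Pi.single i 1) v ≠ 0 := by
      rw [hpol, single_dotProduct, one_mul]
      exact mul_ne_zero h2 hi
    exact ⟨⟨_, hx⟩, ⟨_, by rwa [QuadraticMap.polar_comm] at hx⟩⟩
  · show (s *ᵥ v) ⬝ᵥ (A *ᵥ (s *ᵥ v)) = v ⬝ᵥ (A *ᵥ v)
    have := hfix s hs
    rw [hid] at this
    rw [mulVec_mulVec, ← vecMul_transpose s v, ← dotProduct_mulVec, mulVec_mulVec, ← mul_assoc, this]

/-- An absolutely irreducible group with traces inverted by an involution of the field is unitary. -/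
theorem hermitian_of_trace {P : Subgroup (GL (Fin 3) F)} (habs : ActsAbsolutelyIrreducibly (matrixSet P))
    (_hperf : ⁅P, P⁆ = P) {σ : F ≃+* F} (hne : σ ≠ RingEquiv.refl F) (hinv : ∀ a, σ (σ a) = a)
    (h : ∀ g : GL (Fin 3) F, g ∈ P →
      σ (g : Matrix (Fin 3) (Fin 3) F).trace = ((g⁻¹ : GL (Fin 3) F) : Matrix (Fin 3) (Fin 3) F).trace) :
    ∃ f : (Fin 3 → F) → (Fin 3 → F) → F, IsUnitaryForm σ f ∧ FixesForm (matrixSet P) f := by
  obtain ⟨A, c, hAu, hfix, hsym, hc⟩ := exists_gram_of_trace habs σ hinv h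
  obtain ⟨a, ha0, ha⟩ : ∃ a : F, a ≠ 0 ∧ c * σ a = a := by
    obtain ⟨y, hy⟩ : ∃ y, y + c * σ y ≠ 0 := by
      by_contra hno
      push Not at hno
      have h1 : c = -1 := eq_neg_of_add_eq_zero_right (by simpa using hno 1)
      exact hne (RingEquiv.ext fun y => by
        have := hno y
        rw [h1] at this
        show σ y = y
        linear_combination -this)
    refine ⟨y + c * σ y, hy, ?_⟩
    rw [map_add, map_mul, hinv]
    linear_combination y * hc
  set M : Matrix (Fin 3) (Fin 3) F := a • A with hM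
  have hMu : IsUnit M := by
    rw [Matrix.isUnit_iff_isUnit_det, hM, det_smul]
    exact (ha0.isUnit.pow _).mul ((Matrix.isUnit_iff_isUnit_det A).mp hAu)
  have hherm : Mᵀ.map σ = M := by
    rw [hM, transpose_smul, show (a • Aᵀ).map σ = σ a • Aᵀ.map σ by ext i j; simp, hsym, smul_smul]
    rw [mul_comm, ha]
  have hfix' : ∀ s ∈ matrixSet P, sᵀ * M * s.map σ = M := fun s hs => by
    rw [hM, mul_smul_comm, smul_mul_assoc, hfix s hs]
  refine ⟨fun u v => u ⬝ᵥ (M *ᵥ (σ ∘ v)), ⟨hne, hinv, ?_, ?_, fun v w => ?_, fun v hv => ?_⟩, fun s hs u v => ?_⟩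
  · intro x y v; simp [add_dotProduct]
  · intro a x v; simp [smul_eq_mul]
  · have hs : ∀ x y : Fin 3 → F, σ (x ⬝ᵥ y) = (σ ∘ x) ⬝ᵥ (σ ∘ y) := fun x y => by
      simp [dotProduct, map_sum]
    rw [hs, comp_mulVec, show σ ∘ (σ ∘ v) = v from funext fun i => hinv _, dotProduct_mulVec (σ ∘ w),
      ← mulVec_transpose, ← transpose_map, hherm, dotProduct_comm]
  · constructor
    · have hv' : M *ᵥ (σ ∘ v) ≠ 0 := fun e => hv (by
        have h0 : σ ∘ v = 0 := Matrix.mulVec_injective_iff_isUnit.mpr hMu (by rw [e, mulVec_zero])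
        funext i
        simpa using congrFun h0 i)
      obtain ⟨i, hi⟩ := Function.ne_iff.mp hv'
      exact ⟨Pi.single i 1, by simpa [single_dotProduct] using hi⟩
    · have hv' : v ᵥ* M ≠ 0 := fun e => hv
        (Matrix.vecMul_injective_iff_isUnit.mpr hMu (show v ᵥ* M = 0 ᵥ* M by rw [e, zero_vecMul]))
      obtain ⟨i, hi⟩ := Function.ne_iff.mp hv'
      refine ⟨σ ∘ Pi.single i 1, ?_⟩
      show v ⬝ᵥ (M *ᵥ (σ ∘ (σ ∘ Pi.single i 1))) ≠ 0
      rw [show σ ∘ (σ ∘ (Pi.single i 1 : Fin 3 → F)) = Pi.single i 1 from funext fun i => hinv _, dotProduct_mulVec,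
        dotProduct_single, mul_one]
      exact hi
  · show (s *ᵥ u) ⬝ᵥ (M *ᵥ (σ ∘ (s *ᵥ v))) = u ⬝ᵥ (M *ᵥ (σ ∘ v))
    rw [comp_mulVec, mulVec_mulVec, ← vecMul_transpose s u, ← dotProduct_mulVec, mulVec_mulVec, ← mul_assoc,
      hfix' s hs]

end CfsgLib.Geo.D3
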