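/-
Conjugation of elements to their inverses or squares in the small alternating groups and in the group of
order 168.
-/
import Mathlib

set_option autoImplicit false

namespace CfsgLib.Geo.D3.Spec

open Equiv

/-- Conjugate to its inverse in a group. -/
def Real' {H : Type*} [Group H] (x : H) : Prop := ∃ y : H, y * x * y⁻¹ = x⁻¹

/-- Conjugate to its square in a group. -/
def Sq' {H : Type*} [Group H] (x : H) : Prop := ∃ y : H, y * x * y⁻¹ = x ^ 2

lemma Real'.map {H K : Type*} [Group H] [Group K] (f : H →* K) {x : H} (h : Real' x) : Real' (f x) := by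
  obtain ⟨y, hy⟩ := h
  exact ⟨f y, by rw [← map_inv f y, ← map_mul, ← map_mul, hy, map_inv]⟩

lemma Sq'.map {H K : Type*} [Group H] [Group K] (f : H →* K) {x : H} (h : Sq' x) : Sq' (f x) := by
  obtain ⟨y, hy⟩ := h
  exact ⟨f y, by rw [← map_inv f y, ← map_mul, ← map_mul, hy, map_pow]⟩

/-- What an even permutation of seven points satisfies. -/
def SevenP (x : Perm (Fin 7)) : Prop :=
  (x ^ 6 = 1 ∧ ∃ y : Perm (Fin 7), Perm.sign y = 1 ∧ y * x * y⁻¹ = x⁻¹) ∨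
    (x ^ 4 = 1 ∧ ∃ y : Perm (Fin 7), Perm.sign y = 1 ∧ y * x * y⁻¹ = x⁻¹) ∨ x ^ 5 = 1 ∨
    (x ^ 7 = 1 ∧ ∃ y : Perm (Fin 7), Perm.sign y = 1 ∧ y * x * y⁻¹ = x ^ 2)

/-- What an even permutation of six points satisfies. -/
def SixP (x : Perm (Fin 6)) : Prop :=
  (x ^ 3 = 1 ∨ x ^ 4 = 1 ∨ x ^ 5 = 1) ∧ ∃ y : Perm (Fin 6), Perm.sign y = 1 ∧ y * x * y⁻¹ = x⁻¹

/-- What an even permutation of five points satisfies. -/
def FiveP (x : Perm (Fin 5)) : Prop := ∃ y : Perm (Fin 5), Perm.sign y = 1 ∧ y * x * y⁻¹ = x⁻¹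

section conj

variable {n : ℕ}

lemma sign_conj (s y : Perm (Fin n)) : Perm.sign (s * y * s⁻¹) = Perm.sign y := by
  rw [map_mul, map_mul, map_inv, mul_comm (Perm.sign s), mul_inv_cancel_right]

lemma inv_clause (s : Perm (Fin n)) {x : Perm (Fin n)}
    (h : ∃ y : Perm (Fin n), Perm.sign y = 1 ∧ y * x * y⁻¹ = x⁻¹) :
    ∃ y : Perm (Fin n), Perm.sign y = 1 ∧ y * (s * x * s⁻¹) * y⁻¹ = (s * x * s⁻¹)⁻¹ := by
  obtain ⟨y, hy, he⟩ := h
  refine ⟨s * y * s⁻¹, by rw [sign_conj, hy], ?_⟩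
  calc s * y * s⁻¹ * (s * x * s⁻¹) * (s * y * s⁻¹)⁻¹ = s * (y * x * y⁻¹) * s⁻¹ := by group
    _ = (s * x * s⁻¹)⁻¹ := by rw [he]; group

lemma sq_clause (s : Perm (Fin n)) {x : Perm (Fin n)}
    (h : ∃ y : Perm (Fin n), Perm.sign y = 1 ∧ y * x * y⁻¹ = x ^ 2) :
    ∃ y : Perm (Fin n), Perm.sign y = 1 ∧ y * (s * x * s⁻¹) * y⁻¹ = (s * x * s⁻¹) ^ 2 := by
  obtain ⟨y, hy, he⟩ := h
  refine ⟨s * y * s⁻¹, by rw [sign_conj, hy], ?_⟩
  calc s * y * s⁻¹ * (s * x * s⁻¹) * (s * y * s⁻¹)⁻¹ = s * (y * x * y⁻¹) * s⁻¹ := by group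
    _ = (s * x * s⁻¹) ^ 2 := by rw [he, conj_pow]

lemma pow_conj (s : Perm (Fin n)) {x : Perm (Fin n)} {k : ℕ} (h : x ^ k = 1) : (s * x * s⁻¹) ^ k = 1 := by
  rw [conj_pow, h, mul_one, mul_inv_cancel]

lemma of_rep {P : Perm (Fin n) → Prop} (hP : ∀ s x, P x → P (s * x * s⁻¹)) {x : Perm (Fin n)} {c : Multiset ℕ}
    (r : Perm (Fin n)) (hx : x.cycleType = c) (hr : r.cycleType = c) (h : P r) : P x := by
  obtain ⟨s, hs⟩ := isConj_iff.1 (Perm.isConj_iff_cycleType_eq.2 (hr.trans hx.symm))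
  exact hs ▸ hP s r h

end conj

lemma SevenP.conj (s x : Perm (Fin 7)) (h : SevenP x) : SevenP (s * x * s⁻¹) := by
  rcases h with ⟨h, h'⟩ | ⟨h, h'⟩ | h | ⟨h, h'⟩
  · exact Or.inl ⟨pow_conj s h, inv_clause s h'⟩
  · exact Or.inr (Or.inl ⟨pow_conj s h, inv_clause s h'⟩)
  · exact Or.inr (Or.inr (Or.inl (pow_conj s h)))
  · exact Or.inr (Or.inr (Or.inr ⟨pow_conj s h, sq_clause s h'⟩))

lemma SixP.conj (s x : Perm (Fin 6)) (h : SixP x) : SixP (s * x * s⁻¹) :=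
  ⟨h.1.imp (pow_conj s) (Or.imp (pow_conj s) (pow_conj s)), inv_clause s h.2⟩

lemma FiveP.conj (s x : Perm (Fin 5)) (h : FiveP x) : FiveP (s * x * s⁻¹) := inv_clause s h

lemma part_small : ∀ c ∈ ({2, 2, 2, 3, 3, 4, 5, 6, 7} : Multiset ℕ).powerset, c.sum ≤ 7 →
    (c.sum + Multiset.card c) % 2 = 0 →
    c ∈ ([0, {2, 2}, {3}, {5}, {3, 3}, {4, 2}, {3, 2, 2}, {7}] : List (Multiset ℕ)) := by
  decide +kernel

/-- The cycle types of even permutations of at most seven points. -/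
theorem even_types {n : ℕ} (hn : n ≤ 7) (x : Perm (Fin n)) (hx : Perm.sign x = 1) :
    x.cycleType ∈ ([0, {2, 2}, {3}, {5}, {3, 3}, {4, 2}, {3, 2, 2}, {7}] : List (Multiset ℕ)) := by
  have hsum : x.cycleType.sum ≤ n := by
    rw [Perm.sum_cycleType]
    exact (Finset.card_le_univ _).trans_eq (Fintype.card_fin n)
  refine part_small _ (Multiset.mem_powerset.2 (Multiset.le_iff_count.2 fun a => ?_)) (hsum.trans hn) ?_
  · by_cases ha : a ∈ x.cycleType
    · have h2 : 2 ≤ a := Perm.two_le_of_mem_cycleType ha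
      obtain ⟨r, hr⟩ := Multiset.le_iff_exists_add.1
        (Multiset.le_count_iff_replicate_le.1 (le_refl (Multiset.count a x.cycleType)))
      have h1 : Multiset.count a x.cycleType * a ≤ 7 := by
        have hr' := congrArg Multiset.sum hr
        rw [Multiset.sum_add, Multiset.sum_replicate, smul_eq_mul] at hr'
        omega
      have h3 : 1 ≤ Multiset.count a x.cycleType := Multiset.one_le_count_iff_mem.2 ha
      have h7 : a ≤ 7 := le_trans (Nat.le_mul_of_pos_left a h3) h1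
      interval_cases a <;> simp <;> omega
    · rw [Multiset.count_eq_zero_of_notMem ha]; exact Nat.zero_le _
  · rw [Perm.sign_of_cycleType] at hx
    rcases Nat.mod_two_eq_zero_or_one (x.cycleType.sum + Multiset.card x.cycleType) with h | h
    · exact h
    · rw [(Nat.odd_iff.2 h).neg_one_pow] at hx
      exact absurd hx (by decide)

theorem sevenP (x : Perm (Fin 7)) (hx : Perm.sign x = 1) : SevenP x := by
  have h := even_types le_rfl x hx
  simp only [List.mem_cons, List.not_mem_nil, or_false] at h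
  rcases h with h | h | h | h | h | h | h | h
  · exact of_rep SevenP.conj 1 h (by simp) (Or.inl ⟨one_pow 6, 1, map_one _, by simp⟩)
  · exact of_rep SevenP.conj (swap 0 1 * swap 2 3) h (by decide +kernel)
      (Or.inl ⟨by decide +kernel, 1, map_one _, by decide +kernel⟩)
  · exact of_rep SevenP.conj (c[0, 1, 2]) h (by decide +kernel)
      (Or.inl ⟨by decide +kernel, swap 1 2 * swap 3 4, by decide +kernel, by decide +kernel⟩)
  · exact of_rep SevenP.conj (c[0, 1, 2, 3, 4]) h (by decide +kernel) (Or.inr (Or.inr (Or.inl (by decide +kernel))))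
  · exact of_rep SevenP.conj (c[0, 1, 2] * c[3, 4, 5]) h (by decide +kernel)
      (Or.inl ⟨by decide +kernel, swap 1 2 * swap 4 5, by decide +kernel, by decide +kernel⟩)
  · exact of_rep SevenP.conj (c[0, 1, 2, 3] * swap 4 5) h (by decide +kernel)
      (Or.inr (Or.inl ⟨by decide +kernel, swap 1 3 * swap 4 5, by decide +kernel, by decide +kernel⟩))
  · exact of_rep SevenP.conj (c[0, 1, 2] * (swap 3 4 * swap 5 6)) h (by decide +kernel)
      (Or.inl ⟨by decide +kernel, swap 1 2 * swap 3 4, by decide +kernel, by decide +kernel⟩)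
  · exact of_rep SevenP.conj (c[0, 1, 2, 3, 4, 5, 6]) h (by decide +kernel)
      (Or.inr (Or.inr (Or.inr ⟨by decide +kernel, c[1, 2, 4] * c[3, 6, 5], by decide +kernel, by decide +kernel⟩)))

theorem sum_le {n : ℕ} (x : Perm (Fin n)) : x.cycleType.sum ≤ n := by
  rw [Perm.sum_cycleType]
  exact (Finset.card_le_univ _).trans_eq (Fintype.card_fin n)

theorem sixP (x : Perm (Fin 6)) (hx : Perm.sign x = 1) : SixP x := by
  have h := even_types (by norm_num) x hx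
  have hs := sum_le x
  simp only [List.mem_cons, List.not_mem_nil, or_false] at h
  rcases h with h | h | h | h | h | h | h | h
  · exact of_rep SixP.conj 1 h (by simp) ⟨Or.inl (one_pow 3), 1, map_one _, by simp⟩
  · exact of_rep SixP.conj (swap 0 1 * swap 2 3) h (by decide +kernel)
      ⟨Or.inr (Or.inl (by decide +kernel)), 1, map_one _, by decide +kernel⟩
  · exact of_rep SixP.conj (c[0, 1, 2]) h (by decide +kernel)
      ⟨Or.inl (by decide +kernel), swap 1 2 * swap 3 4, by decide +kernel, by decide +kernel⟩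
  · exact of_rep SixP.conj (c[0, 1, 2, 3, 4]) h (by decide +kernel)
      ⟨Or.inr (Or.inr (by decide +kernel)), swap 1 4 * swap 2 3, by decide +kernel, by decide +kernel⟩
  · exact of_rep SixP.conj (c[0, 1, 2] * c[3, 4, 5]) h (by decide +kernel)
      ⟨Or.inl (by decide +kernel), swap 1 2 * swap 4 5, by decide +kernel, by decide +kernel⟩
  · exact of_rep SixP.conj (c[0, 1, 2, 3] * swap 4 5) h (by decide +kernel)
      ⟨Or.inr (Or.inl (by decide +kernel)), swap 1 3 * swap 4 5, by decide +kernel, by decide +kernel⟩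
  · rw [h] at hs; exact absurd hs (by decide)
  · rw [h] at hs; exact absurd hs (by decide)

theorem fiveP (x : Perm (Fin 5)) (hx : Perm.sign x = 1) : FiveP x := by
  have h := even_types (by norm_num) x hx
  have hs := sum_le x
  simp only [List.mem_cons, List.not_mem_nil, or_false] at h
  rcases h with h | h | h | h | h | h | h | h
  · exact of_rep FiveP.conj 1 h (by simp) ⟨1, map_one _, by simp⟩
  · exact of_rep FiveP.conj (swap 0 1 * swap 2 3) h (by decide +kernel) ⟨1, map_one _, by decide +kernel⟩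
  · exact of_rep FiveP.conj (c[0, 1, 2]) h (by decide +kernel)
      ⟨swap 1 2 * swap 3 4, by decide +kernel, by decide +kernel⟩
  · exact of_rep FiveP.conj (c[0, 1, 2, 3, 4]) h (by decide +kernel)
      ⟨swap 1 4 * swap 2 3, by decide +kernel, by decide +kernel⟩
  all_goals (rw [h] at hs; exact absurd hs (by decide))

lemma alt_real {n : ℕ} {x : alternatingGroup (Fin n)}
    (h : ∃ y : Perm (Fin n), Perm.sign y = 1 ∧ y * x * y⁻¹ = (x : Perm (Fin n))⁻¹) : Real' x := by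
  obtain ⟨y, hy, he⟩ := h
  exact ⟨⟨y, hy⟩, Subtype.ext he⟩

lemma alt_sq {n : ℕ} {x : alternatingGroup (Fin n)}
    (h : ∃ y : Perm (Fin n), Perm.sign y = 1 ∧ y * x * y⁻¹ = (x : Perm (Fin n)) ^ 2) : Sq' x := by
  obtain ⟨y, hy, he⟩ := h
  exact ⟨⟨y, hy⟩, Subtype.ext he⟩

theorem alt_five (x : alternatingGroup (Fin 5)) : Real' x := alt_real (fiveP x x.2)

theorem alt_six (x : alternatingGroup (Fin 6)) : (x ^ 3 = 1 ∨ x ^ 4 = 1 ∨ x ^ 5 = 1) ∧ Real' x := by
  obtain ⟨h, h'⟩ := sixP x x.2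
  exact ⟨h.imp (fun e => Subtype.ext e) (Or.imp (fun e => Subtype.ext e) (fun e => Subtype.ext e)), alt_real h'⟩

theorem alt_seven (x : alternatingGroup (Fin 7)) :
    (x ^ 6 = 1 ∧ Real' x) ∨ (x ^ 4 = 1 ∧ Real' x) ∨ x ^ 5 = 1 ∨ (x ^ 7 = 1 ∧ Sq' x) := by
  rcases sevenP x x.2 with ⟨h, h'⟩ | ⟨h, h'⟩ | h | ⟨h, h'⟩
  · exact Or.inl ⟨Subtype.ext h, alt_real h'⟩
  · exact Or.inr (Or.inl ⟨Subtype.ext h, alt_real h'⟩)
  · exact Or.inr (Or.inr (Or.inl (Subtype.ext h)))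
  · exact Or.inr (Or.inr (Or.inr ⟨Subtype.ext h, alt_sq h'⟩))

theorem alt_six_pair : ∃ a b : alternatingGroup (Fin 6), a ^ 3 = 1 ∧ b ^ 3 = 1 ∧ Commute a b ∧ a ≠ 1 ∧ b ≠ 1 ∧
    b ≠ a ∧ b ≠ a ^ 2 := by
  refine ⟨⟨c[0, 1, 2], Perm.mem_alternatingGroup.2 (by decide +kernel)⟩, ⟨c[3, 4, 5], Perm.mem_alternatingGroup.2 (by decide +kernel)⟩, Subtype.ext ?_, Subtype.ext ?_,
    Subtype.ext ?_, fun h => ?_, fun h => ?_, fun h => ?_, fun h => ?_⟩ <;>
  first
    | decide +kernel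
    | exact absurd (congrArg Subtype.val h) (by decide +kernel)

theorem alt_seven_pair : ∃ a b : alternatingGroup (Fin 7), a ^ 3 = 1 ∧ b ^ 3 = 1 ∧ Commute a b ∧ a ≠ 1 ∧ b ≠ 1 ∧
    b ≠ a ∧ b ≠ a ^ 2 := by
  refine ⟨⟨c[0, 1, 2], Perm.mem_alternatingGroup.2 (by decide +kernel)⟩, ⟨c[3, 4, 5], Perm.mem_alternatingGroup.2 (by decide +kernel)⟩, Subtype.ext ?_, Subtype.ext ?_,
    Subtype.ext ?_, fun h => ?_, fun h => ?_, fun h => ?_, fun h => ?_⟩ <;>
  first
    | decide +kernel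
    | exact absurd (congrArg Subtype.val h) (by decide +kernel)

lemma sl_three_two : ∀ A : Matrix (Fin 3) (Fin 3) (ZMod 2), A.det = 1 →
    A ^ 3 = 1 ∨ (A ^ 4 = 1 ∧ ∃ B : Matrix (Fin 3) (Fin 3) (ZMod 2), B.det = 1 ∧ A * B * A = B) ∨
    (A ^ 7 = 1 ∧ ∃ B : Matrix (Fin 3) (Fin 3) (ZMod 2), B.det = 1 ∧ B * A = A * A * B) := by
  decide +kernel

/-- The group of order 168. -/
theorem psl_three_two (x : Matrix.ProjectiveSpecialLinearGroup (Fin 3) (ZMod 2)) :
    x ^ 3 = 1 ∨ (x ^ 4 = 1 ∧ Real' x) ∨ (x ^ 7 = 1 ∧ Sq' x) := by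
  obtain ⟨A, rfl⟩ := QuotientGroup.mk'_surjective _ x
  have one : ∀ {k : ℕ}, (A : Matrix (Fin 3) (Fin 3) (ZMod 2)) ^ k = 1 →
      (QuotientGroup.mk' (Subgroup.center (Matrix.SpecialLinearGroup (Fin 3) (ZMod 2))) A) ^ k = 1 := by
    intro k h
    rw [← map_pow, show A ^ k = 1 from Subtype.ext (by simpa using h), map_one]
  rcases sl_three_two A A.2 with h | ⟨h, B, hB, he⟩ | ⟨h, B, hB, he⟩
  · exact Or.inl (one h)
  · obtain ⟨b, rfl⟩ : ∃ b : Matrix.SpecialLinearGroup (Fin 3) (ZMod 2),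
        (b : Matrix (Fin 3) (Fin 3) (ZMod 2)) = B := ⟨⟨B, hB⟩, rfl⟩
    refine Or.inr (Or.inl ⟨one h, Real'.map _ ⟨b, ?_⟩⟩)
    have e : A * b * A = b := Subtype.ext (by simpa using he)
    calc b * A * b⁻¹ = A⁻¹ * (A * b * A) * b⁻¹ := by group
      _ = A⁻¹ := by rw [e, mul_inv_cancel_right]
  · obtain ⟨b, rfl⟩ : ∃ b : Matrix.SpecialLinearGroup (Fin 3) (ZMod 2),
        (b : Matrix (Fin 3) (Fin 3) (ZMod 2)) = B := ⟨⟨B, hB⟩, rfl⟩
    refine Or.inr (Or.inr ⟨one h, Sq'.map _ ⟨b, ?_⟩⟩)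
    have e : b * A = A * A * b := Subtype.ext (by simpa using he)
    rw [e, mul_inv_cancel_right, pow_two]

end CfsgLib.Geo.D3.Spec
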