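/-
Traces of matrices of dimension three and determinant one with small order.
-/
import Mathlib

set_option autoImplicit false

namespace CfsgLib.Geo.D3.Spec

open Matrix

variable {F : Type*} [Field F] {M : Matrix (Fin 3) (Fin 3) F}

local notation "Mat" => Matrix (Fin 3) (Fin 3) F

lemma cayley (M : Mat) :
    M * M * M = M.trace • (M * M) - M.adjugate.trace • M + M.det • (1 : Mat) := by
  ext i j
  fin_cases i <;> fin_cases j <;>
    simp [Matrix.mul_apply, Fin.sum_univ_three, Matrix.trace_fin_three, Matrix.adjugate_fin_three,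
      Matrix.det_fin_three] <;> ring

lemma cayley_one (hd : M.det = 1) :
    M * M * M = M.trace • (M * M) - M.adjugate.trace • M + (1 : Mat) := by
  rw [cayley M, hd, one_smul]

lemma trace_sq (M : Mat) : (M * M).trace = M.trace ^ 2 - 2 * M.adjugate.trace := by
  simp [Matrix.mul_apply, Fin.sum_univ_three, Matrix.trace_fin_three, Matrix.adjugate_fin_three]
  ring

lemma adjugate_trace_sq (hd : M.det = 1) :
    (M * M).adjugate.trace = M.adjugate.trace ^ 2 - 2 * M.trace := by
  rw [Matrix.adjugate_mul_distrib, trace_sq, Matrix.adjugate_adjugate M (by simp)]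
  simp [hd]

/-- The identity and a matrix which is not scalar are independent. -/
lemma indep (hns : ∀ c : F, M ≠ c • (1 : Mat)) {a b : F} (h : a • M + b • (1 : Mat) = 0) : a = 0 ∧ b = 0 := by
  by_cases ha : a = 0
  · subst ha
    rw [zero_smul, zero_add, smul_eq_zero] at h
    exact ⟨rfl, h.resolve_right one_ne_zero⟩
  · refine absurd ?_ (hns (-(a⁻¹ * b)))
    calc M = a⁻¹ • (a • M + b • (1 : Mat)) + (-(a⁻¹ * b)) • (1 : Mat) := by
          rw [smul_add, smul_smul, smul_smul, inv_mul_cancel₀ ha, one_smul, neg_smul, add_neg_cancel_right]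
      _ = (-(a⁻¹ * b)) • (1 : Mat) := by rw [h, smul_zero, zero_add]

lemma pow_four (hd : M.det = 1) :
    M * (M * M * M) = (M.trace ^ 2 - M.adjugate.trace) • (M * M) +
      (1 - M.trace * M.adjugate.trace) • M + M.trace • (1 : Mat) := by
  rw [cayley_one hd]
  simp only [mul_add, mul_sub, mul_smul_comm, ← mul_assoc, cayley_one hd, mul_one]
  module

lemma pow_five (hd : M.det = 1) :
    M * (M * (M * M * M)) = (M.trace ^ 3 - 2 * (M.trace * M.adjugate.trace) + 1) • (M * M) +
      (M.adjugate.trace ^ 2 - M.trace ^ 2 * M.adjugate.trace + M.trace) • M +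
      (M.trace ^ 2 - M.adjugate.trace) • (1 : Mat) := by
  rw [pow_four hd]
  simp only [mul_add, mul_smul_comm, ← mul_assoc, cayley_one hd, mul_one]
  module

/-- An involution has trace minus one. -/
lemma trace_of_sq (hd : M.det = 1) (hns : ∀ c : F, M ≠ c • (1 : Mat)) (h : M ^ 2 = 1) :
    M.trace = -1 ∧ M.adjugate.trace = -1 := by
  have h' : M * M = 1 := by rw [← pow_two, h]
  have hc := cayley_one hd
  rw [h', one_mul] at hc
  have e : (1 + M.adjugate.trace) • M + (-(M.trace + 1)) • (1 : Mat) = 0 := by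
    rw [← sub_eq_zero.2 hc]
    module
  obtain ⟨h1, h2⟩ := indep hns e
  exact ⟨by linear_combination -h2, by linear_combination h1⟩

/-- An element of order three has trace zero. -/
lemma trace_of_cube (hd : M.det = 1) (hns : ∀ c : F, M ≠ c • (1 : Mat)) (h : M ^ 3 = 1) :
    M.trace = 0 ∧ M.adjugate.trace = 0 := by
  have h' : M * M * M = 1 := by rw [← h, pow_succ, pow_two]
  have hc := cayley_one hd
  rw [h', right_eq_add] at hc
  have h1 : M * M * (M.trace • (M * M) - M.adjugate.trace • M) = 0 := by rw [hc, mul_zero]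
  rw [mul_sub, mul_smul_comm, mul_smul_comm, ← mul_assoc, h', one_mul] at h1
  have e : M.trace • M + (-M.adjugate.trace) • (1 : Mat) = 0 := by rw [← h1]; module
  obtain ⟨e1, e2⟩ := indep hns e
  exact ⟨e1, neg_eq_zero.1 e2⟩

/-- A real element of order four has trace one. -/
lemma trace_of_four (hd : M.det = 1) (hns : ∀ c : F, M ≠ c • (1 : Mat)) (h : M ^ 4 = 1) (h2 : M ^ 2 ≠ 1)
    (hr : M.adjugate.trace = M.trace) : M.trace = 1 := by
  have h' : M * (M * M * M) = 1 := by rw [← h, pow_succ' M 3, pow_succ, pow_two]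
  have hc := cayley_one hd
  rw [pow_four hd, hr] at h'
  rw [hr] at hc
  generalize M.trace = t at *
  have eA : (t - 1) • (t • (M * M) - (t + 1) • M + (1 : Mat)) = 0 := by
    rw [← sub_eq_zero.2 h']
    module
  rcases smul_eq_zero.1 eA with ht | eB
  · linear_combination ht
  have eC : (t ^ 2 - t - 1) • (M * M) + (1 - t ^ 2) • M + t • (1 : Mat) = 0 := by
    have := congrArg (M * ·) eB
    simp only [mul_add, mul_sub, mul_smul_comm, ← mul_assoc, hc, mul_one, mul_zero] at this
    rw [← this]
    module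
  have e : (-(t + 1)) • M + (t + 1) • (1 : Mat) = 0 := by
    calc _ = t • ((t ^ 2 - t - 1) • (M * M) + (1 - t ^ 2) • M + t • (1 : Mat)) -
          (t ^ 2 - t - 1) • (t • (M * M) - (t + 1) • M + (1 : Mat)) := by module
      _ = 0 := by rw [eC, eB, smul_zero, smul_zero, sub_zero]
  obtain ⟨-, e2⟩ := indep hns e
  rw [eq_neg_of_add_eq_zero_left e2] at eB
  refine absurd ?_ h2
  rw [pow_two, ← sub_eq_zero]
  calc M * M - 1 = -((-1 : F) • (M * M) - ((-1 : F) + 1) • M + (1 : Mat)) := by module
    _ = 0 := by rw [eB, neg_zero]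

/-- A real element of order five. -/
lemma trace_of_five (hd : M.det = 1) (hns : ∀ c : F, M ≠ c • (1 : Mat)) (h : M ^ 5 = 1)
    (hr : M.adjugate.trace = M.trace) : M.trace ^ 2 = M.trace + 1 := by
  have h' : M * (M * (M * M * M)) = 1 := by rw [← h, pow_succ' M 4, pow_succ' M 3, pow_succ, pow_two]
  have hc := cayley_one hd
  rw [pow_five hd, hr] at h'
  rw [hr] at hc
  generalize M.trace = t at *
  have eA : (t ^ 2 - t - 1) • ((t - 1) • (M * M) - t • M + (1 : Mat)) = 0 := by
    rw [← sub_eq_zero.2 h']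
    module
  rcases smul_eq_zero.1 eA with ht | eB
  · linear_combination ht
  have eC : (t ^ 2 - 2 * t) • (M * M) + (1 - t ^ 2 + t) • M + (t - 1) • (1 : Mat) = 0 := by
    have := congrArg (M * ·) eB
    simp only [mul_add, mul_sub, mul_smul_comm, ← mul_assoc, hc, mul_one, mul_zero] at this
    rw [← this]
    module
  have e : (-1 : F) • M + (1 : F) • (1 : Mat) = 0 := by
    calc _ = (t - 1) • ((t ^ 2 - 2 * t) • (M * M) + (1 - t ^ 2 + t) • M + (t - 1) • (1 : Mat)) -
          (t ^ 2 - 2 * t) • ((t - 1) • (M * M) - t • M + (1 : Mat)) := by module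
      _ = 0 := by rw [eC, eB, smul_zero, smul_zero, sub_zero]
  exact absurd (indep hns e).2 one_ne_zero

/-- The trace of the fifth power in characteristic five. -/
lemma trace_pow_five (hd : M.det = 1) (h5 : (5 : F) = 0) : (M ^ 5).trace = M.trace ^ 5 := by
  rw [show M ^ 5 = M * (M * (M * M * M)) by rw [pow_succ' M 4, pow_succ' M 3, pow_succ, pow_two],
    pow_five hd, Matrix.trace_add, Matrix.trace_add, Matrix.trace_smul, Matrix.trace_smul, Matrix.trace_smul,
    trace_sq, Matrix.trace_one]
  simp only [smul_eq_mul, Fintype.card_fin]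
  push_cast
  linear_combination (-(M.trace ^ 3 * M.adjugate.trace) + M.trace * M.adjugate.trace ^ 2 + M.trace ^ 2 -
    M.adjugate.trace) * h5

/-- An element of order seven whose trace is that of its square and of its fourth power. -/
lemma trace_of_seven (h2ne : (2 : F) ≠ 0) (hd : M.det = 1) (hns : ∀ c : F, M ≠ c • (1 : Mat)) (h : M ^ 7 = 1)
    (hsq : (M * M).trace = M.trace) (hqu : (M * M * (M * M)).trace = M.trace) :
    M.trace ^ 2 + M.trace + 2 = 0 ∧ M.adjugate.trace = -1 - M.trace := by
  rw [trace_sq] at hsq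
  rw [trace_sq (M * M), trace_sq, adjugate_trace_sq hd] at hqu
  have hc := cayley_one hd
  obtain ⟨t, ht⟩ : ∃ t, M.trace = t := ⟨_, rfl⟩
  obtain ⟨u, hu⟩ : ∃ u, M.adjugate.trace = u := ⟨_, rfl⟩
  rw [ht, hu] at hsq hqu hc ⊢
  have key : t * ((t - 3) * (t ^ 2 + t + 2)) = 0 := by
    linear_combination (3 * t ^ 2 + t - 2 * u) * hsq - 2 * hqu
  rcases mul_eq_zero.1 key with h0 | h0
  · exfalso
    have hu0 : u = 0 := by
      refine (mul_eq_zero.1 (show (2 : F) * u = 0 by linear_combination -hsq + (t - 1) * h0)).resolve_left h2ne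
    rw [h0, hu0, zero_smul, zero_smul, sub_zero, zero_add] at hc
    refine hns 1 ?_
    rw [one_smul]
    calc M = (M * M * M) * (M * M * M) * M := by rw [hc, one_mul, one_mul]
      _ = M ^ 7 := by noncomm_ring
      _ = 1 := h
  rcases mul_eq_zero.1 h0 with h3 | h3
  swap
  · exact ⟨h3, mul_left_cancel₀ h2ne (by linear_combination -hsq + h3)⟩
  have ht3 : t = 3 := by linear_combination h3
  have hu3 : u = 3 := mul_left_cancel₀ h2ne (by linear_combination -hsq + (t + 2) * h3)
  rw [ht3, hu3] at hc
  have h7 : (7 : F) = 0 := by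
    by_contra h7
    have e7 : M ^ 7 = (21 : F) • (M * M) - (35 : F) • M + (15 : F) • (1 : Mat) := by
      rw [show M ^ 7 = M * (M * (M * (M * (M * M * M)))) by noncomm_ring]
      simp only [hc, mul_add, mul_sub, mul_smul_comm, ← mul_assoc, mul_one]
      module
    have eD : (3 : F) • (M * M) - (5 : F) • M + (2 : F) • (1 : Mat) = 0 := by
      refine (smul_eq_zero.1 (show (7 : F) • ((3 : F) • (M * M) - (5 : F) • M + (2 : F) • (1 : Mat)) = 0 from ?_)).resolve_left h7
      rw [← sub_eq_zero.2 (e7.symm.trans h)]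
      module
    have eE : (4 : F) • (M * M) - (7 : F) • M + (3 : F) • (1 : Mat) = 0 := by
      have := congrArg (M * ·) eD
      simp only [mul_add, mul_sub, mul_smul_comm, ← mul_assoc, hc, mul_one, mul_zero] at this
      rw [← this]
      module
    have e : (1 : F) • M + (-1 : F) • (1 : Mat) = 0 := by
      calc _ = (4 : F) • ((3 : F) • (M * M) - (5 : F) • M + (2 : F) • (1 : Mat)) -
            (3 : F) • ((4 : F) • (M * M) - (7 : F) • M + (3 : F) • (1 : Mat)) := by module
        _ = 0 := by rw [eD, eE, smul_zero, smul_zero, sub_zero]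
    exact one_ne_zero (indep hns e).1
  exact ⟨by rw [ht3]; linear_combination 2 * h7, by rw [ht3, hu3]; linear_combination h7⟩

end CfsgLib.Geo.D3.Spec
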