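/-
The traces of the exceptional groups of dimension three without transvections.
-/
import Cfsg.Agent.Geo.DimThree.NoTv.Basic
import Cfsg.Agent.Geo.DimThree.NoTv.SpectraMat
import Cfsg.Agent.Geo.DimThree.NoTv.SpectraAlt
import Cfsg.Agent.PSLTwoRecog.Multiplicities
import Cfsg.Agent.S0255
import Cfsg.Agent.S0495
import Cfsg.Agent.S0497
import Cfsg.Agent.S0984

set_option autoImplicit false
set_option linter.unusedSectionVars false
set_option linter.style.haveILetI false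
set_option linter.deprecated false

namespace CfsgLib.Geo.D3

open Matrix Cfsg Cfsg.Geo CfsgLib.Geo Spec
open scoped commutatorElement

variable {F : Type*} [Field F] {G : Subgroup (GL (Fin 3) F)}

local notation "Mat" => Matrix (Fin 3) (Fin 3) F

/-- The matrix of an element. -/
local notation:max "⟪" g "⟫" => (((g : G) : GL (Fin 3) F) : Matrix (Fin 3) (Fin 3) F)

section general

variable (hG : NoTv G)
include hG

lemma NoTv.det_mat (g : G) : ⟪g⟫.det = 1 := mem_specialLinear.1 (hG.le_specialLinear g.2)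

lemma NoTv.inv_mat (g : G) : ⟪g⁻¹⟫ = ⟪g⟫.adjugate := by
  have h1 : ⟪g⁻¹⟫ * ⟪g⟫ = 1 := by rw [← Units.val_mul, ← Subgroup.coe_mul, inv_mul_cancel]; rfl
  calc ⟪g⁻¹⟫ = ⟪g⁻¹⟫ * (⟪g⟫ * ⟪g⟫.adjugate) := by
        rw [Matrix.mul_adjugate, hG.det_mat, one_smul, mul_one]
    _ = ⟪g⟫.adjugate := by rw [← mul_assoc, h1, one_mul]

lemma NoTv.inv_trace (g : G) : ⟪g⁻¹⟫.trace = ⟪g⟫.adjugate.trace := by rw [hG.inv_mat]

lemma NoTv.scalar_form (z : G) (hz : toPro G z = 1) : ∃ c : F, c ^ 3 = 1 ∧ ⟪z⟫ = c • (1 : Mat) := by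
  obtain ⟨c, hc⟩ := (mem_scalars_iff _).1 (toPro_eq_one.1 hz)
  refine ⟨c, ?_, hc⟩
  have hd := hG.det_mat z
  rw [hc, Matrix.det_smul, Matrix.det_one, mul_one, Fintype.card_fin] at hd
  exact hd

lemma NoTv.scalar_cube' (z : G) (hz : toPro G z = 1) : z ^ 3 = 1 :=
  Subtype.ext (by simpa using hG.scalar_cube z.2 (toPro_eq_one.1 hz))

lemma NoTv.not_scalar (g : G) (hg : toPro G g ≠ 1) : ∀ c : F, ⟪g⟫ ≠ c • (1 : Mat) := fun c hc => by
  have hd := hG.det_mat g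
  have hc0 : c ≠ 0 := fun h => by rw [hc, h, zero_smul, Matrix.det_zero] at hd; exact zero_ne_one hd
  exact hg (toPro_eq_one.2 ((mem_scalars_iff _).2 ⟨Units.mk0 c hc0, hc⟩))

/-- The traces of a product with a scalar. -/
lemma NoTv.trace_mul_scalar (g z : G) {c : F} (h3 : c ^ 3 = 1) (hc : ⟪z⟫ = c • (1 : Mat)) :
    ⟪g * z⟫.trace = c * ⟪g⟫.trace ∧ ⟪(g * z)⁻¹⟫.trace = c ^ 2 * ⟪g⁻¹⟫.trace := by
  refine ⟨?_, ?_⟩
  · rw [Subgroup.coe_mul, Units.val_mul, hc, Matrix.mul_smul, mul_one, Matrix.trace_smul, smul_eq_mul]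
  · have hzi : ⟪z⁻¹⟫ = c ^ 2 • (1 : Mat) := by
      rw [hG.inv_mat, hc, Matrix.adjugate_smul, Matrix.adjugate_one]
      rfl
    rw [_root_.mul_inv_rev, Subgroup.coe_mul, Units.val_mul, hzi, Matrix.smul_mul, one_mul, Matrix.trace_smul,
      smul_eq_mul]

omit hG in
lemma trace_conj_mat (y g : G) : ⟪y * g * y⁻¹⟫.trace = ⟪g⟫.trace := by
  rw [Subgroup.coe_mul, Subgroup.coe_mul, Subgroup.coe_inv, Units.val_mul, Units.val_mul, Matrix.trace_units_conj]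

omit hG in
lemma mat_pow (g : G) (n : ℕ) : ⟪g ^ n⟫ = ⟪g⟫ ^ n := by simp

omit hG in
lemma mat_eq_one {g : G} {n : ℕ} (h : g ^ n = 1) : ⟪g⟫ ^ n = 1 := by rw [← mat_pow, h]; rfl

lemma NoTv.central_of_toPro (z : G) (hz : toPro G z = 1) (g : G) : Commute z g :=
  Subtype.ext (scalar_comm (toPro_eq_one.1 hz) _)

/-- A lift with the same order as long as it is prime to three. -/
lemma NoTv.lift_pow (g : G) {n : ℕ} (hn : n.Coprime 3) (h : toPro G g ^ n = 1) :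
    ∃ g₀ z : G, g = g₀ * z ∧ toPro G z = 1 ∧ g₀ ^ n = 1 := by
  have hz : toPro G (g ^ n) = 1 := by rw [map_pow, h]
  have h3 : (g ^ n) ^ 3 = 1 := hG.scalar_cube' _ hz
  obtain ⟨q, hq⟩ : 3 ∣ 1 + 2 * (n * n) := by
    have : n % 3 ≠ 0 := fun h0 => by
      have := Nat.eq_one_of_dvd_coprimes hn (Nat.dvd_of_mod_eq_zero h0) dvd_rfl
      omega
    refine Nat.dvd_of_mod_eq_zero ?_
    rw [Nat.add_mod, Nat.mul_mod, Nat.mul_mod n n]
    rcases (show n % 3 = 1 ∨ n % 3 = 2 by omega) with h' | h' <;> rw [h']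
  refine ⟨g * (g ^ n) ^ (2 * n), ((g ^ n) ^ (2 * n))⁻¹, (mul_inv_cancel_right _ _).symm,
    by rw [map_inv, map_pow _ _ (2 * n), hz, one_pow, inv_one], ?_⟩
  rw [((Commute.self_pow g n).pow_right (2 * n)).mul_pow, ← pow_mul, ← pow_mul, ← pow_add,
    show n + n * (2 * n * n) = n * (1 + 2 * (n * n)) by ring, hq, ← mul_assoc, pow_mul,
    mul_comm n 3, pow_mul', h3, one_pow]

/-- A lift of order prime to three of an element which is real modulo scalars is real. -/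
lemma NoTv.real_exact {g : G} {n : ℕ} (hn : n.Coprime 3) (h : g ^ n = 1) (hr : Real' (toPro G g)) :
    ∃ y : G, y * g * y⁻¹ = g⁻¹ := by
  obtain ⟨y', hy⟩ := hr
  obtain ⟨y, rfl⟩ := toPro_surjective y'
  obtain ⟨z, hzdef⟩ : ∃ z, z = y * g * y⁻¹ * g := ⟨_, rfl⟩
  have hz : toPro G z = 1 := by
    rw [hzdef, map_mul, map_mul, map_mul, map_inv, hy, inv_mul_cancel]
  have he : y * g * y⁻¹ = z * g⁻¹ := by rw [hzdef, mul_inv_cancel_right]
  have hzn : z ^ n = 1 := by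
    have := congrArg (· ^ n) he
    simp only [conj_pow, h, mul_one, mul_inv_cancel, (hG.central_of_toPro z hz g⁻¹).mul_pow, inv_pow,
      inv_one] at this
    exact this.symm
  have hz1 : z = 1 := by
    have := pow_gcd_eq_one.2 ⟨hzn, hG.scalar_cube' z hz⟩
    rwa [hn, pow_one] at this
  exact ⟨y, by rw [he, hz1, one_mul]⟩

/-- The same for squares. -/
lemma NoTv.sq_exact {g : G} {n : ℕ} (hn : n.Coprime 3) (h : g ^ n = 1) (hr : Sq' (toPro G g)) :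
    ∃ y : G, y * g * y⁻¹ = g ^ 2 := by
  obtain ⟨y', hy⟩ := hr
  obtain ⟨y, rfl⟩ := toPro_surjective y'
  obtain ⟨z, hzdef⟩ : ∃ z, z = y * g * y⁻¹ * (g ^ 2)⁻¹ := ⟨_, rfl⟩
  have hz : toPro G z = 1 := by
    rw [hzdef, map_mul, map_mul, map_mul, map_inv, map_inv, map_pow, hy, mul_inv_cancel]
  have he : y * g * y⁻¹ = z * g ^ 2 := by rw [hzdef, inv_mul_cancel_right]
  have hzn : z ^ n = 1 := by
    have := congrArg (· ^ n) he
    simp only [conj_pow, h, mul_one, mul_inv_cancel, (hG.central_of_toPro z hz (g ^ 2)).mul_pow,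
      ← pow_mul, mul_comm 2 n] at this
    rw [pow_mul, h, one_pow, mul_one] at this
    exact this.symm
  have hz1 : z = 1 := by
    have := pow_gcd_eq_one.2 ⟨hzn, hG.scalar_cube' z hz⟩
    rwa [hn, pow_one] at this
  exact ⟨y, by rw [he, hz1, one_mul]⟩

/-- An element real modulo scalars whose order there is divisible by three has no larger order. -/
lemma NoTv.pow_eq_one_of_real {g : G} {n : ℕ} (hn : 3 ∣ n) (h : toPro G g ^ n = 1) (hr : Real' (toPro G g)) :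
    g ^ n = 1 := by
  obtain ⟨y', hy⟩ := hr
  obtain ⟨y, rfl⟩ := toPro_surjective y'
  obtain ⟨z, hzdef⟩ : ∃ z, z = y * g * y⁻¹ * g := ⟨_, rfl⟩
  have hz : toPro G z = 1 := by
    rw [hzdef, map_mul, map_mul, map_mul, map_inv, hy, inv_mul_cancel]
  have he : y * g * y⁻¹ = z * g⁻¹ := by rw [hzdef, mul_inv_cancel_right]
  have hγ : toPro G (g ^ n) = 1 := by rw [map_pow, h]
  have hc : y * g ^ n * y⁻¹ = g ^ n := by
    rw [← (hG.central_of_toPro _ hγ y).eq, mul_inv_cancel_right]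
  obtain ⟨q, rfl⟩ := hn
  have hzn : z ^ (3 * q) = 1 := by rw [pow_mul, hG.scalar_cube' z hz, one_pow]
  have := congrArg (· ^ (3 * q)) he
  simp only [conj_pow, hc, (hG.central_of_toPro z hz g⁻¹).mul_pow, hzn, one_mul, inv_pow] at this
  have h2 : (g ^ (3 * q)) ^ 2 = 1 := by
    rw [pow_two]
    nth_rewrite 1 [this]
    exact inv_mul_cancel _
  simpa using pow_gcd_eq_one.2 ⟨h2, hG.scalar_cube' _ hγ⟩

/-- A real element has the trace of its inverse. -/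
lemma NoTv.trace_of_real {g : G} (h : ∃ y : G, y * g * y⁻¹ = g⁻¹) : ⟪g⟫.adjugate.trace = ⟪g⟫.trace := by
  obtain ⟨y, hy⟩ := h
  rw [← hG.inv_trace, ← hy, trace_conj_mat]

/-- Traces of elements of order four or less. -/
lemma NoTv.trace_two_four {g : G} (hg : toPro G g ≠ 1) (h : g ^ 4 = 1) (hr : Real' (toPro G g)) :
    (⟪g⟫.trace = -1 ∨ ⟪g⟫.trace = 1) ∧ ⟪g⁻¹⟫.trace = ⟪g⟫.trace := by
  have hre := hG.trace_of_real (hG.real_exact (by norm_num) h hr)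
  refine ⟨?_, by rw [hG.inv_trace, hre]⟩
  by_cases h2 : ⟪g⟫ ^ 2 = 1
  · exact Or.inl (trace_of_sq (hG.det_mat g) (hG.not_scalar g hg) h2).1
  · exact Or.inr (trace_of_four (hG.det_mat g) (hG.not_scalar g hg) (mat_eq_one h) h2 hre)

lemma NoTv.trace_three {g : G} (hg : toPro G g ≠ 1) (h : g ^ 3 = 1) :
    ⟪g⟫.trace = 0 ∧ ⟪g⁻¹⟫.trace = 0 := by
  rw [hG.inv_trace]
  exact trace_of_cube (hG.det_mat g) (hG.not_scalar g hg) (mat_eq_one h)

lemma NoTv.trace_five {g : G} (hg : toPro G g ≠ 1) (h : g ^ 5 = 1) (hr : Real' (toPro G g)) :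
    ⟪g⟫.trace ^ 2 = ⟪g⟫.trace + 1 ∧ ⟪g⁻¹⟫.trace = ⟪g⟫.trace := by
  have hre := hG.trace_of_real (hG.real_exact (by norm_num) h hr)
  exact ⟨trace_of_five (hG.det_mat g) (hG.not_scalar g hg) (mat_eq_one h) hre, by rw [hG.inv_trace, hre]⟩

lemma NoTv.trace_seven {g : G} (hg : toPro G g ≠ 1) (h : g ^ 7 = 1) (hr : Sq' (toPro G g)) :
    ⟪g⟫.trace ^ 2 + ⟪g⟫.trace + 2 = 0 ∧ ⟪g⁻¹⟫.trace = -1 - ⟪g⟫.trace := by
  obtain ⟨y, hy⟩ := hG.sq_exact (by norm_num) h hr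
  have h1 : (⟪g⟫ * ⟪g⟫).trace = ⟪g⟫.trace := by
    rw [← pow_two, ← mat_pow, ← hy, trace_conj_mat]
  have h2 : (⟪g⟫ * ⟪g⟫ * (⟪g⟫ * ⟪g⟫)).trace = ⟪g⟫.trace := by
    rw [← h1, ← pow_two ⟪g⟫, ← pow_two (⟪g⟫ ^ 2), ← mat_pow, ← mat_pow,
      show (g ^ 2) ^ 2 = y * g ^ 2 * y⁻¹ by rw [← conj_pow, hy], trace_conj_mat]
  rw [hG.inv_trace]
  exact trace_of_seven hG.two_ne (hG.det_mat g) (hG.not_scalar g hg) (mat_eq_one h) h1 h2

lemma NoTv.commutator_top : commutator G = ⊤ := by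
  refine Subgroup.map_injective G.subtype_injective ?_
  rw [commutator_def, Subgroup.map_commutator, ← MonoidHom.range_eq_map, Subgroup.range_subtype, hG.perfect]

lemma NoTv.commutator_pro_top : commutator (Pro G) = ⊤ := by
  haveI := hG.simple
  refine ((inferInstance : (commutator (Pro G)).Normal).eq_bot_or_eq_top).resolve_left fun h => ?_
  refine hG.nonabelian ⟨⟨fun a b => ?_⟩⟩
  have : (⁅a, b⁆ : Pro G) ∈ commutator (Pro G) :=
    Subgroup.commutator_mem_commutator (Subgroup.mem_top a) (Subgroup.mem_top b)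
  rw [h, Subgroup.mem_bot] at this
  exact commutatorElement_eq_one_iff_mul_comm.1 this

variable [Finite F]

/-- Scalars are trivial when the Sylow three-subgroups of the quotient have order at most three. -/
lemma NoTv.scalar_trivial (h9 : ¬ 9 ∣ Nat.card (Pro G)) (z : G) (hz : toPro G z = 1) : z = 1 := by
  classical
  haveI : Fact (Nat.Prime 3) := ⟨Nat.prime_three⟩
  have h3 := hG.scalar_cube' z hz
  obtain ⟨P, hP⟩ := IsPGroup.exists_le_sylow (P := Subgroup.zpowers z) (p := 3) (fun w => ⟨1, by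
    obtain ⟨k, hk⟩ := w.2
    apply Subtype.ext
    have hk' : z ^ k = (w : G) := hk
    rw [pow_one, Subgroup.coe_pow, Subgroup.coe_one, ← hk', ← zpow_natCast, ← _root_.zpow_mul, mul_comm,
      _root_.zpow_mul, zpow_natCast, h3, _root_.one_zpow]⟩)
  let f : (P : Subgroup G) →* Pro G := (toPro G).comp (P : Subgroup G).subtype
  have hp : IsPGroup 3 f.range := fun w => by
    obtain ⟨w, u, rfl⟩ := w
    obtain ⟨k, hk⟩ := P.2 u
    exact ⟨k, Subtype.ext (by rw [Subgroup.coe_pow, Subgroup.coe_one]; show f u ^ _ = 1; rw [← map_pow, hk, map_one])⟩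
  obtain ⟨k, hk⟩ := IsPGroup.iff_card.1 hp
  have hk1 : k ≤ 1 := by
    by_contra hc
    refine h9 (dvd_trans ?_ (hk ▸ Subgroup.card_subgroup_dvd_card f.range))
    exact (pow_dvd_pow 3 (show 2 ≤ k by omega) : 3 ^ 2 ∣ 3 ^ k)
  haveI : IsCyclic f.range := by
    rcases (show k = 0 ∨ k = 1 by omega) with rfl | rfl
    · haveI : Subsingleton f.range := (Nat.card_eq_one_iff_unique.1 (by rw [hk, pow_zero])).1
      infer_instance
    · exact isCyclic_of_prime_card (p := 3) (by rw [hk, pow_one])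
  have hcomm : ∀ a b : (P : Subgroup G), a * b = b * a :=
    commutative_of_cyclic_center_quotient f.rangeRestrict fun u hu => by
      rw [MonoidHom.ker_rangeRestrict] at hu
      exact Subgroup.mem_center_iff.2 fun v => Subtype.ext (hG.central_of_toPro (u : G) hu (v : G)).eq.symm
  letI : CommGroup (P : Subgroup G) :=
    { (inferInstance : Group (P : Subgroup G)) with mul_comm := hcomm }
  have key : ∀ (k : ℕ) (g₀ : G), g₀⁻¹ * z ^ k * g₀ ∈ (P : Subgroup G) → g₀⁻¹ * z ^ k * g₀ = z ^ k :=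
    fun k g₀ _ => by rw [mul_assoc, ((hG.central_of_toPro z hz g₀).pow_left k).eq, inv_mul_cancel_left]
  have h1 : MonoidHom.transfer (MonoidHom.id (P : Subgroup G)) z = 1 := by
    have hz' : z ∈ commutator G := hG.commutator_top ▸ Subgroup.mem_top z
    exact MonoidHom.mem_ker.1 (Abelianization.commutator_subset_ker _ hz')
  rw [MonoidHom.transfer_eq_pow _ z key, MonoidHom.id_apply] at h1
  have h2 : z ^ (P : Subgroup G).index = 1 := congrArg Subtype.val h1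
  have := pow_gcd_eq_one.2 ⟨h3, h2⟩
  rwa [show Nat.gcd 3 (P : Subgroup G).index = 1 from
    (Nat.prime_three.coprime_iff_not_dvd.2 P.not_dvd_index), pow_one] at this

lemma NoTv.eq_of_toPro (h9 : ¬ 9 ∣ Nat.card (Pro G)) {g h : G} (e : toPro G g = toPro G h) : g = h := by
  have := hG.scalar_trivial h9 (g⁻¹ * h) (by rw [map_mul, map_inv, e, inv_mul_cancel])
  exact inv_mul_eq_one.1 this

end general

variable [Finite F]

lemma pro_real_sixty (hG : NoTv G) (h : Nat.card (Pro G) = 60) (x : Pro G) : Real' x := by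
  obtain ⟨e⟩ := CfsgLib.PSLTwoRecog.iso_alternating_five h hG.commutator_pro_top
  simpa using (alt_five (e x)).map e.symm.toMonoidHom

lemma pro_168 (hG : NoTv G) (h : Nat.card (Pro G) = 168) (x : Pro G) :
    x ^ 3 = 1 ∨ (x ^ 4 = 1 ∧ Real' x) ∨ (x ^ 7 = 1 ∧ Sq' x) := by
  haveI := hG.simple
  haveI : Fact (Nat.Prime 7) := ⟨by norm_num⟩
  haveI : Fact (Nat.Prime 2) := ⟨Nat.prime_two⟩
  obtain ⟨e₁⟩ := Cfsg.Agent.S0495.result h (F := ZMod 7) (ZMod.card 7)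
  obtain ⟨e₂⟩ := Cfsg.Agent.S0255.result (F := ZMod 7) (K := ZMod 2) (ZMod.card 7) (ZMod.card 2)
  let e := e₁.trans e₂
  have hp : ∀ k : ℕ, (e x) ^ k = 1 → x ^ k = 1 := fun k hk => e.injective (by rw [map_pow, hk, map_one])
  rcases psl_three_two (e x) with h | ⟨h, h'⟩ | ⟨h, h'⟩
  · exact Or.inl (hp 3 h)
  · exact Or.inr (Or.inl ⟨hp 4 h, by simpa using h'.map e.symm.toMonoidHom⟩)
  · exact Or.inr (Or.inr ⟨hp 7 h, by simpa using h'.map e.symm.toMonoidHom⟩)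

lemma pro_360 (hG : NoTv G) (h : Nat.card (Pro G) = 360) (x : Pro G) :
    (x ^ 3 = 1 ∨ x ^ 4 = 1 ∨ x ^ 5 = 1) ∧ Real' x := by
  haveI := hG.simple
  obtain ⟨e⟩ := Cfsg.Agent.S0497.result h
  have hp : ∀ k : ℕ, (e x) ^ k = 1 → x ^ k = 1 := fun k hk => e.injective (by rw [map_pow, hk, map_one])
  obtain ⟨h1, h2⟩ := alt_six (e x)
  exact ⟨h1.imp (hp 3) (Or.imp (hp 4) (hp 5)), by simpa using h2.map e.symm.toMonoidHom⟩

lemma pro_2520 (hG : NoTv G) (h : Nat.card (Pro G) = 2520) (x : Pro G) :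
    (x ^ 6 = 1 ∧ Real' x) ∨ (x ^ 4 = 1 ∧ Real' x) ∨ x ^ 5 = 1 ∨ (x ^ 7 = 1 ∧ Sq' x) := by
  haveI := hG.simple
  obtain ⟨e⟩ := Cfsg.Agent.S0984.result h
  have hp : ∀ k : ℕ, (e x) ^ k = 1 → x ^ k = 1 := fun k hk => e.injective (by rw [map_pow, hk, map_one])
  rcases alt_seven (e x) with ⟨a, b⟩ | ⟨a, b⟩ | a | ⟨a, b⟩
  · exact Or.inl ⟨hp 6 a, by simpa using b.map e.symm.toMonoidHom⟩
  · exact Or.inr (Or.inl ⟨hp 4 a, by simpa using b.map e.symm.toMonoidHom⟩)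
  · exact Or.inr (Or.inr (Or.inl (hp 5 a)))
  · exact Or.inr (Or.inr (Or.inr ⟨hp 7 a, by simpa using b.map e.symm.toMonoidHom⟩))

theorem trace_sixty (hG : NoTv G) (h : Nat.card (Pro G) = 60) (h5 : ringChar F ≠ 5) {g : GL (Fin 3) F}
    (hg : g ∈ G) : (g : Mat).trace = ((g⁻¹ : GL (Fin 3) F) : Mat).trace := by
  have h9 : ¬ 9 ∣ Nat.card (Pro G) := by rw [h]; norm_num
  obtain ⟨y', hy⟩ := pro_real_sixty hG h (toPro G ⟨g, hg⟩)
  obtain ⟨y, rfl⟩ := toPro_surjective y'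
  have e : y * ⟨g, hg⟩ * y⁻¹ = (⟨g, hg⟩ : G)⁻¹ :=
    hG.eq_of_toPro h9 (by rw [map_mul, map_mul, map_inv, hy, map_inv])
  have := congrArg (fun u : G => ⟪u⟫.trace) e
  simp only [trace_conj_mat] at this
  exact this

theorem trace_168 (hG : NoTv G) (h : Nat.card (Pro G) = 168) :
    (∀ g ∈ G, g ∈ scalars (Fin 3) F → g = 1) ∧
    ∃ b : F, b ^ 2 + b + 2 = 0 ∧ (∃ g ∈ G, (g : Mat).trace = b) ∧ ∀ g ∈ G,
      ((g : Mat).trace = b ∧ ((g⁻¹ : GL (Fin 3) F) : Mat).trace = -1 - b) ∨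
      ((g : Mat).trace = -1 - b ∧ ((g⁻¹ : GL (Fin 3) F) : Mat).trace = b) ∨
      ((g : Mat).trace ∈ ({3, -1, 0, 1} : Set F) ∧
        ((g⁻¹ : GL (Fin 3) F) : Mat).trace = (g : Mat).trace) := by
  have h9 : ¬ 9 ∣ Nat.card (Pro G) := by rw [h]; norm_num
  have hinj : ∀ (g : G) (n : ℕ), toPro G g ^ n = 1 → g ^ n = 1 := fun g n hn =>
    hG.scalar_trivial h9 _ (by rw [map_pow, hn])
  refine ⟨fun g hg hs => congrArg Subtype.val (hG.scalar_trivial h9 ⟨g, hg⟩ (toPro_eq_one.2 hs)), ?_⟩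
  haveI : Fact (Nat.Prime 7) := ⟨by norm_num⟩
  obtain ⟨x, hx⟩ := exists_prime_orderOf_dvd_card' (G := Pro G) 7 (by rw [h]; norm_num)
  obtain ⟨g₇, rfl⟩ := toPro_surjective x
  have hne : toPro G g₇ ≠ 1 := fun e => by rw [e, orderOf_one] at hx; omega
  have h7 : toPro G g₇ ^ 7 = 1 := hx ▸ pow_orderOf_eq_one _
  have hs7 : Sq' (toPro G g₇) := by
    rcases pro_168 hG h (toPro G g₇) with e | ⟨e, -⟩ | ⟨-, e⟩
    · have := Nat.le_of_dvd (by norm_num) (orderOf_dvd_of_pow_eq_one e)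
      omega
    · have := Nat.le_of_dvd (by norm_num) (orderOf_dvd_of_pow_eq_one e)
      omega
    · exact e
  obtain ⟨hb, -⟩ := hG.trace_seven hne (hinj _ _ h7) hs7
  obtain ⟨b, hb0⟩ : ∃ b, ⟪g₇⟫.trace = b := ⟨_, rfl⟩
  rw [hb0] at hb
  refine ⟨b, hb, ⟨g₇, g₇.2, hb0⟩, fun g hg => ?_⟩
  obtain ⟨G₀, rfl⟩ : ∃ G₀ : G, (G₀ : GL (Fin 3) F) = g := ⟨⟨g, hg⟩, rfl⟩
  rw [← Subgroup.coe_inv]
  by_cases h1 : toPro G G₀ = 1
  · rw [hG.scalar_trivial h9 G₀ h1]
    exact Or.inr (Or.inr ⟨by simp, by simp⟩)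
  rcases pro_168 hG h (toPro G G₀) with e | ⟨e, hr⟩ | ⟨e, hr⟩
  · obtain ⟨ht, hu⟩ := hG.trace_three h1 (hinj _ _ e)
    exact Or.inr (Or.inr ⟨by rw [ht]; simp, by rw [ht, hu]⟩)
  · obtain ⟨ht, hu⟩ := hG.trace_two_four h1 (hinj _ _ e) hr
    exact Or.inr (Or.inr ⟨by rcases ht with ht | ht <;> rw [ht] <;> simp, hu⟩)
  · obtain ⟨ht, hu⟩ := hG.trace_seven h1 (hinj _ _ e) hr
    have : (⟪G₀⟫.trace - b) * (⟪G₀⟫.trace - (-1 - b)) = 0 := by linear_combination ht - hb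
    rcases mul_eq_zero.1 this with h' | h' <;> rw [sub_eq_zero] at h'
    · exact Or.inl ⟨h', by rw [hu, h']⟩
    · exact Or.inr (Or.inl ⟨h', by rw [hu, h']; ring⟩)

/-- The cube roots of one. -/
lemma cube_roots {w c : F} (hw : w ^ 2 + w + 1 = 0) (hc : c ^ 3 = 1) : ∃ i < 3, c = w ^ i := by
  have : (c - 1) * ((c - w) * (c - w ^ 2)) = 0 := by
    linear_combination hc + (-c ^ 2 + w * c - (w - 1)) * hw
  rcases mul_eq_zero.1 this with h | h
  · exact ⟨0, by norm_num, by rw [pow_zero]; exact sub_eq_zero.1 h⟩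
  rcases mul_eq_zero.1 h with h | h
  · exact ⟨1, by norm_num, by rw [pow_one]; exact sub_eq_zero.1 h⟩
  · exact ⟨2, by norm_num, sub_eq_zero.1 h⟩

/-- An element of order three is regular when three is not zero. -/
lemma NoTv.diag_of_cube (hG : NoTv G) (h3 : (3 : F) ≠ 0) {a : G} (ha : toPro G a ≠ 1) (h : a ^ 3 = 1) :
    ∃ d : Fin 3 → F, Function.Injective d ∧ Diag3 (a : GL (Fin 3) F) d := by
  obtain ⟨ht, hu⟩ := trace_of_cube (hG.det_mat a) (hG.not_scalar a ha) (mat_eq_one h)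
  have hM3 := mat_eq_one h
  have htr2 : (⟪a⟫ * ⟪a⟫).trace = 0 := by rw [trace_sq, ht, hu]; ring
  have hns := hG.not_scalar a ha
  rcases hG.cases' a.2 (fun hs => ha (toPro_eq_one.2 hs)) with ⟨-, c, hc⟩ | ⟨x, y, hxy, hd⟩ | hd
  · exfalso
    generalize ⟪a⟫ = M at *
    have e : (1 - c ^ 3) • (1 : Mat) + (3 * c ^ 2) • M - (3 * c) • (M * M) = 0 := by
      rw [← hc]
      have : M * M * M = 1 := by rw [← hM3]; noncomm_ring
      simp only [pow_succ, pow_zero, one_mul, sub_mul, mul_sub, smul_mul_assoc, mul_smul_comm, mul_one, this]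
      module
    have etr := congrArg Matrix.trace e
    simp only [Matrix.trace_sub, Matrix.trace_add, Matrix.trace_smul, htr2, ht, Matrix.trace_one,
      Fintype.card_fin, Matrix.trace_zero, smul_eq_mul, mul_zero, add_zero, sub_zero] at etr
    push_cast at etr
    have hc3 : c ^ 3 = 1 := by
      linear_combination (mul_eq_zero.1 etr).resolve_right h3 * (-1 : F)
    have hc0 : c ≠ 0 := fun h0 => by rw [h0] at hc3; norm_num at hc3
    rw [hc3, sub_self, zero_smul, zero_add] at e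
    have e' : M * M * ((3 * c ^ 2) • M - (3 * c) • (M * M)) = 0 := by rw [e, mul_zero]
    have hM : M * M * M = 1 := by rw [← hM3]; noncomm_ring
    rw [mul_sub, mul_smul_comm, mul_smul_comm, ← mul_assoc, hM, one_mul] at e'
    have e'' : (-(3 * c)) • M + (3 * c ^ 2) • (1 : Mat) = 0 := by rw [← e']; module
    exact mul_ne_zero h3 hc0 (neg_eq_zero.1 (indep hns e'').1)
  · exfalso
    have e1 : x + 2 * y = 0 := by
      have := Diag3.trace hd
      rw [ht] at this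
      simp at this
      linear_combination -this
    have e2 : x * y * y = 1 := by
      have := Diag3.det hd
      rw [hG.det_mat] at this
      simpa using this.symm
    obtain ⟨B, hB⟩ := hd
    have e3 : y ^ 3 = 1 := by
      have hp : Matrix.diagonal ![x, y, y] ^ 3 = 1 := by
        rw [← hB, ← Units.val_pow_eq_pow_val, conj_pow, ← Subgroup.coe_pow, h, Subgroup.coe_one, mul_one,
          mul_inv_cancel, Units.val_one]
      rw [Matrix.diagonal_pow] at hp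
      simpa using congrFun (congrFun hp 1) 1
    exact h3 (by linear_combination (y ^ 2) * e1 - e2 - 2 * e3)
  · exact hd

/-- Without scalars there is no elementary group of order nine. -/
lemma NoTv.exists_scalar_of_pair (hG : NoTv G) (h3 : (3 : F) ≠ 0) {x y : Pro G} (hx : x ^ 3 = 1)
    (hy : y ^ 3 = 1) (hxy : Commute x y) (hx1 : x ≠ 1) (hy1 : y ≠ 1) (hyx : y ≠ x) (hyx2 : y ≠ x ^ 2) :
    ∃ z : G, toPro G z = 1 ∧ z ≠ 1 := by
  classical
  by_contra! hno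
  have hinj : Function.Injective (toPro G) := (injective_iff_map_eq_one _).2 hno
  obtain ⟨a, rfl⟩ := toPro_surjective x
  obtain ⟨b, rfl⟩ := toPro_surjective y
  have ha3 : a ^ 3 = 1 := hinj (by rw [map_pow, hx, map_one])
  have hb3 : b ^ 3 = 1 := hinj (by rw [map_pow, hy, map_one])
  have hcab : Commute a b := hinj (by rw [map_mul, map_mul, hxy.eq])
  obtain ⟨d, hd, B, hB⟩ := hG.diag_of_cube h3 hx1 ha3
  have hab : Commute (a : GL (Fin 3) F) (b : GL (Fin 3) F) :=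
    congrArg Subtype.val hcab.eq
  obtain ⟨X, hX⟩ : ∃ X : Mat, ((B * b * B⁻¹ : GL (Fin 3) F) : Mat) = X := ⟨_, rfl⟩
  have hXd : Matrix.diagonal d * X = X * Matrix.diagonal d := by
    rw [← hB, ← hX, ← Units.val_mul, ← Units.val_mul]
    congr 1
    calc B * a * B⁻¹ * (B * b * B⁻¹) = B * ((a : GL (Fin 3) F) * b) * B⁻¹ := by group
      _ = B * b * B⁻¹ * (B * a * B⁻¹) := by rw [hab.eq]; group
  have hXdiag : X = Matrix.diagonal fun i => X i i := by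
    ext i j
    by_cases hij : i = j
    · subst hij; simp
    · rw [Matrix.diagonal_apply_ne _ hij]
      have := congrFun (congrFun hXd i) j
      rw [Matrix.diagonal_mul, Matrix.mul_diagonal] at this
      have h' : (d i - d j) * X i j = 0 := by linear_combination this
      exact (mul_eq_zero.1 h').resolve_left (sub_ne_zero.2 (hd.ne hij))
  have cube : ∀ (u : G) (e : Fin 3 → F), u ^ 3 = 1 →
      ((B * u * B⁻¹ : GL (Fin 3) F) : Mat) = Matrix.diagonal e → ∀ i, e i ^ 3 = 1 := by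
    intro u e hu he i
    have hp : Matrix.diagonal e ^ 3 = 1 := by
      rw [← he, ← Units.val_pow_eq_pow_val, conj_pow, ← Subgroup.coe_pow, hu, Subgroup.coe_one, mul_one,
        mul_inv_cancel, Units.val_one]
    rw [Matrix.diagonal_pow] at hp
    simpa using congrFun (congrFun hp i) i
  have hd3 := cube a d ha3 hB
  have he3 := cube b (fun i => X i i) hb3 (hX.trans hXdiag)
  have hd0 : ∀ i, d i ≠ 0 := fun i h0 => by have := hd3 i; rw [h0] at this; norm_num at this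
  have he0 : X 1 1 ≠ 0 := fun h0 => by have := he3 1; simp only [h0] at this; norm_num at this
  have hr : (d 1 / d 0) ^ 2 + d 1 / d 0 + 1 = 0 := by
    have h1 : d 1 / d 0 - 1 ≠ 0 := by
      rw [sub_ne_zero, Ne, div_eq_one_iff_eq (hd0 0)]
      exact hd.ne (by decide)
    refine (mul_eq_zero.1 (show (d 1 / d 0 - 1) * _ = 0 from ?_)).resolve_left h1
    have : (d 1 / d 0) ^ 3 = 1 := by rw [div_pow, hd3, hd3, div_one]
    linear_combination this
  obtain ⟨k, hk3, hk⟩ := cube_roots hr (c := X 0 0 / X 1 1) (by rw [div_pow, he3 0, he3 1, div_one])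
  have hf : d 0 ^ k * X 0 0 = d 1 ^ k * X 1 1 := by
    rw [div_pow, div_eq_div_iff he0 (pow_ne_zero k (hd0 0))] at hk
    linear_combination hk
  have hc : ((B * (a ^ k * b : G) * B⁻¹ : GL (Fin 3) F) : Mat) =
      Matrix.diagonal fun i => d i ^ k * X i i := by
    rw [show B * ((a ^ k * b : G) : GL (Fin 3) F) * B⁻¹ = (B * a * B⁻¹) ^ k * (B * b * B⁻¹) by
      rw [Subgroup.coe_mul, Subgroup.coe_pow, conj_pow]; group, Units.val_mul, Units.val_pow_eq_pow_val, hB,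
      hX, Matrix.diagonal_pow]
    conv_lhs => rw [hXdiag]
    rw [Matrix.diagonal_mul_diagonal]
    rfl
  have hc1 : a ^ k * b = 1 := by
    by_contra hne
    have hne' : toPro G (a ^ k * b) ≠ 1 := fun e => hne (hno _ e)
    have hc3 : (a ^ k * b) ^ 3 = 1 := by
      rw [(hcab.pow_left k).mul_pow, hb3, mul_one, ← pow_mul, mul_comm k 3, pow_mul, ha3, one_pow]
    have ht := (hG.trace_three hne' hc3).1
    rw [Diag3.trace ⟨B, hc⟩] at ht
    have hdet := Diag3.det ⟨B, hc⟩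
    rw [hG.det_mat] at hdet
    have hf3 := cube _ _ hc3 hc 1
    simp only [hf] at ht hdet hf3
    exact h3 (by linear_combination (d 1 ^ k * X 1 1) ^ 2 * ht + hdet - 2 * hf3)
  have hb : b = (a ^ k)⁻¹ := eq_inv_of_mul_eq_one_right hc1
  interval_cases k
  · exact hy1 (by rw [hb, pow_zero, inv_one, map_one])
  · refine hyx2 (by rw [hb, pow_one, ← map_pow, ← eq_inv_of_mul_eq_one_right (show a * a ^ 2 = 1 by rw [← pow_succ', ha3])])
  · refine hyx (by rw [hb, inv_eq_of_mul_eq_one_left (show a * a ^ 2 = 1 by rw [← pow_succ', ha3])])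

lemma pro_pair_360 (hG : NoTv G) (h : Nat.card (Pro G) = 360) :
    ∃ x y : Pro G, x ^ 3 = 1 ∧ y ^ 3 = 1 ∧ Commute x y ∧ x ≠ 1 ∧ y ≠ 1 ∧ y ≠ x ∧ y ≠ x ^ 2 := by
  haveI := hG.simple
  obtain ⟨e⟩ := Cfsg.Agent.S0497.result h
  obtain ⟨a, b, ha, hb, hab, h1, h2, h3, h4⟩ := alt_six_pair
  refine ⟨e.symm a, e.symm b, by rw [← map_pow, ha, map_one], by rw [← map_pow, hb, map_one],
    hab.map e.symm, ?_, ?_, e.symm.injective.ne h3, by rw [← map_pow]; exact e.symm.injective.ne h4⟩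
  · rw [← map_one e.symm]; exact e.symm.injective.ne h1
  · rw [← map_one e.symm]; exact e.symm.injective.ne h2

lemma pro_pair_2520 (hG : NoTv G) (h : Nat.card (Pro G) = 2520) :
    ∃ x y : Pro G, x ^ 3 = 1 ∧ y ^ 3 = 1 ∧ Commute x y ∧ x ≠ 1 ∧ y ≠ 1 ∧ y ≠ x ∧ y ≠ x ^ 2 := by
  haveI := hG.simple
  obtain ⟨e⟩ := Cfsg.Agent.S0984.result h
  obtain ⟨a, b, ha, hb, hab, h1, h2, h3, h4⟩ := alt_seven_pair
  refine ⟨e.symm a, e.symm b, by rw [← map_pow, ha, map_one], by rw [← map_pow, hb, map_one],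
    hab.map e.symm, ?_, ?_, e.symm.injective.ne h3, by rw [← map_pow]; exact e.symm.injective.ne h4⟩
  · rw [← map_one e.symm]; exact e.symm.injective.ne h1
  · rw [← map_one e.symm]; exact e.symm.injective.ne h2

theorem scalar_2520 (hG : NoTv G) (h : Nat.card (Pro G) = 2520) (h5 : ringChar F = 5) :
    ∃ g ∈ G, g ∈ scalars (Fin 3) F ∧ g ≠ 1 := by
  have h3 : (3 : F) ≠ 0 := fun e => by
    have hd : ringChar F ∣ 3 := (ringChar.spec F 3).1 (by exact_mod_cast e)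
    rw [h5] at hd
    exact absurd hd (by norm_num)
  obtain ⟨x, y, hx, hy, hxy, a, b, c, d⟩ := pro_pair_2520 hG h
  obtain ⟨z, hz, hz1⟩ := hG.exists_scalar_of_pair h3 hx hy hxy a b c d
  exact ⟨z, z.2, toPro_eq_one.1 hz, fun e => hz1 (Subtype.ext e)⟩

theorem trace_360 (hG : NoTv G) (h : Nat.card (Pro G) = 360) (h3 : ringChar F ≠ 3) :
    ∃ w r : F, w ^ 2 + w + 1 = 0 ∧ r ^ 2 = r + 1 ∧
      (∃ g ∈ G, ∀ i j, ((g : Mat)) i j = if i = j then w else 0) ∧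
      (∃ g ∈ G, ∃ i : ℕ, (g : Mat).trace = w ^ i * r) ∧
      ∀ g ∈ G, ∃ i : ℕ, ∃ v ∈ ({3, -1, 0, 1, r, 1 - r} : Set F),
        (g : Mat).trace = w ^ i * v ∧ ((g⁻¹ : GL (Fin 3) F) : Mat).trace = w ^ (2 * i) * v := by
  have h3' : (3 : F) ≠ 0 := fun e => h3 (by
    have hd : ringChar F ∣ 3 := (ringChar.spec F 3).1 (by exact_mod_cast e)
    rcases (Nat.dvd_prime Nat.prime_three).1 hd with h1 | h1
    · exact absurd h1 (CharP.ringChar_ne_one)
    · exact h1)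
  obtain ⟨x, y, hx, hy, hxy, a, b, c, d⟩ := pro_pair_360 hG h
  obtain ⟨z, hz, hz1⟩ := hG.exists_scalar_of_pair h3' hx hy hxy a b c d
  obtain ⟨w, hw3, hwz⟩ := hG.scalar_form z hz
  have hw1 : w ≠ 1 := fun e => hz1 (Subtype.ext (Units.ext (by rw [hwz, e, one_smul]; rfl)))
  have hw : w ^ 2 + w + 1 = 0 := by
    refine (mul_eq_zero.1 (show (w - 1) * _ = 0 from ?_)).resolve_left (sub_ne_zero.2 hw1)
    linear_combination hw3
  haveI : Fact (Nat.Prime 5) := ⟨by norm_num⟩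
  obtain ⟨x, hx⟩ := exists_prime_orderOf_dvd_card' (G := Pro G) 5 (by rw [h]; norm_num)
  obtain ⟨g₅, rfl⟩ := toPro_surjective x
  obtain ⟨g₀, z₀, rfl, hz₀, hg₀⟩ := hG.lift_pow g₅ (n := 5) (by norm_num) (hx ▸ pow_orderOf_eq_one _)
  rw [map_mul, hz₀, mul_one] at hx
  have hne : toPro G g₀ ≠ 1 := fun e => by rw [e, orderOf_one] at hx; omega
  obtain ⟨hr, -⟩ := hG.trace_five hne hg₀ (pro_360 hG h _).2
  obtain ⟨r, hr0⟩ : ∃ r, ⟪g₀⟫.trace = r := ⟨_, rfl⟩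
  rw [hr0] at hr
  refine ⟨w, r, hw, hr, ⟨z, z.2, fun i j => ?_⟩, ⟨g₀, g₀.2, 0, by rw [hr0, pow_zero, one_mul]⟩,
    fun g hg => ?_⟩
  · rw [hwz, Matrix.smul_apply, Matrix.one_apply, smul_eq_mul, mul_ite, mul_one, mul_zero]
  obtain ⟨G₀, rfl⟩ : ∃ G₀ : G, (G₀ : GL (Fin 3) F) = g := ⟨⟨g, hg⟩, rfl⟩
  rw [← Subgroup.coe_inv]
  have finish : ∀ g₁ z₁ : G, G₀ = g₁ * z₁ → toPro G z₁ = 1 → ∀ v ∈ ({3, -1, 0, 1, r, 1 - r} : Set F),
      ⟪g₁⟫.trace = v → ⟪g₁⁻¹⟫.trace = v → ∃ i : ℕ, ∃ v ∈ ({3, -1, 0, 1, r, 1 - r} : Set F),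
        ⟪G₀⟫.trace = w ^ i * v ∧ ⟪G₀⁻¹⟫.trace = w ^ (2 * i) * v := by
    intro g₁ z₁ e hz₁ v hv ht hu
    obtain ⟨c, hc3, hc⟩ := hG.scalar_form z₁ hz₁
    obtain ⟨i, -, rfl⟩ := cube_roots hw hc3
    obtain ⟨t1, t2⟩ := hG.trace_mul_scalar g₁ z₁ hc3 hc
    refine ⟨i, v, hv, by rw [e, t1, ht], ?_⟩
    rw [e, t2, hu, ← pow_mul, mul_comm i 2]
  by_cases h1 : toPro G G₀ = 1
  · exact finish 1 G₀ (one_mul _).symm h1 3 (by simp) (by simp) (by simp)
  obtain ⟨hcase, hreal⟩ := pro_360 hG h (toPro G G₀)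
  rcases hcase with e | e | e
  · obtain ⟨ht, hu⟩ := hG.trace_three h1 (hG.pow_eq_one_of_real dvd_rfl e hreal)
    exact ⟨0, 0, by simp, by rw [ht]; simp, by rw [hu]; simp⟩
  · obtain ⟨g₁, z₁, he, hz₁, hg₁⟩ := hG.lift_pow G₀ (n := 4) (by norm_num) e
    have hp : toPro G G₀ = toPro G g₁ := by rw [he, map_mul, hz₁, mul_one]
    rw [hp] at h1 hreal
    obtain ⟨ht, hu⟩ := hG.trace_two_four h1 hg₁ hreal
    exact finish g₁ z₁ he hz₁ _ (by rcases ht with ht | ht <;> simp [ht]) rfl hu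
  · obtain ⟨g₁, z₁, he, hz₁, hg₁⟩ := hG.lift_pow G₀ (n := 5) (by norm_num) e
    have hp : toPro G G₀ = toPro G g₁ := by rw [he, map_mul, hz₁, mul_one]
    rw [hp] at h1 hreal
    obtain ⟨ht, hu⟩ := hG.trace_five h1 hg₁ hreal
    refine finish g₁ z₁ he hz₁ _ ?_ rfl hu
    have : (⟪g₁⟫.trace - r) * (⟪g₁⟫.trace - (1 - r)) = 0 := by linear_combination ht - hr
    rcases mul_eq_zero.1 this with h' | h' <;> rw [sub_eq_zero] at h' <;> simp [h']

theorem trace_2520 (hG : NoTv G) (h : Nat.card (Pro G) = 2520) (h5 : ringChar F = 5) {g : GL (Fin 3) F}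
    (hg : g ∈ G) : (g : Mat).trace ^ 5 = ((g⁻¹ : GL (Fin 3) F) : Mat).trace := by
  have h5' : (5 : F) = 0 := by
    have := (ringChar.spec F 5).2 (by rw [h5])
    exact_mod_cast this
  have frob : ∀ a b : F, a ^ 5 = b ^ 5 → a = b := fun a b e => by
    have : (a - b) ^ 5 = 0 := by
      linear_combination e + (-(a ^ 4 * b) + 2 * a ^ 3 * b ^ 2 - 2 * a ^ 2 * b ^ 3 + a * b ^ 4) * h5'
    exact sub_eq_zero.1 (pow_eq_zero_iff (by norm_num) |>.1 this)
  have tp : ∀ u : G, ⟪u ^ 5⟫.trace = ⟪u⟫.trace ^ 5 := fun u => by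
    rw [mat_pow, trace_pow_five (hG.det_mat u) h5']
  obtain ⟨G₀, rfl⟩ : ∃ G₀ : G, (G₀ : GL (Fin 3) F) = g := ⟨⟨g, hg⟩, rfl⟩
  rw [← Subgroup.coe_inv]
  have finish : ∀ g₁ z₁ : G, G₀ = g₁ * z₁ → toPro G z₁ = 1 → ⟪g₁⟫.trace ^ 5 = ⟪g₁⁻¹⟫.trace →
      ⟪G₀⟫.trace ^ 5 = ⟪G₀⁻¹⟫.trace := by
    intro g₁ z₁ e hz₁ hf
    obtain ⟨c, hc3, hc⟩ := hG.scalar_form z₁ hz₁
    obtain ⟨t1, t2⟩ := hG.trace_mul_scalar g₁ z₁ hc3 hc
    rw [e, t1, t2, mul_pow, hf, show c ^ 5 = c ^ 3 * c ^ 2 by ring, hc3, one_mul]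
  rcases pro_2520 hG h (toPro G G₀) with ⟨e, hr⟩ | ⟨e, hr⟩ | e | ⟨e, hr⟩
  · have h6 := hG.pow_eq_one_of_real (by norm_num) e hr
    rw [← tp, eq_inv_of_mul_eq_one_right (show G₀ * G₀ ^ 5 = 1 by rw [← pow_succ', h6])]
  · obtain ⟨g₁, z₁, he, hz₁, hg₁⟩ := hG.lift_pow G₀ (n := 4) (by norm_num) e
    have hp : toPro G G₀ = toPro G g₁ := by rw [he, map_mul, hz₁, mul_one]
    rw [hp] at hr
    refine finish g₁ z₁ he hz₁ ?_
    rw [← tp, hG.inv_trace, hG.trace_of_real (hG.real_exact (by norm_num) hg₁ hr), pow_succ g₁ 4, hg₁, one_mul]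
  · obtain ⟨g₁, z₁, he, hz₁, hg₁⟩ := hG.lift_pow G₀ (n := 5) (by norm_num) e
    refine finish g₁ z₁ he hz₁ ?_
    have hone : ⟪(1 : G)⟫.trace = (3 : F) := by simp
    have hthree : (3 : F) ^ 5 = 3 := by linear_combination (48 : F) * h5'
    have a1 : ⟪g₁⟫.trace = 3 := frob _ _ (by rw [← tp, hg₁, hone, hthree])
    have a2 : ⟪g₁⁻¹⟫.trace = 3 := frob _ _ (by rw [← tp, inv_pow, hg₁, inv_one, hone, hthree])
    rw [a1, a2, hthree]
  · obtain ⟨g₁, z₁, he, hz₁, hg₁⟩ := hG.lift_pow G₀ (n := 7) (by norm_num) e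
    have hp : toPro G G₀ = toPro G g₁ := by rw [he, map_mul, hz₁, mul_one]
    rw [hp] at hr
    refine finish g₁ z₁ he hz₁ ?_
    obtain ⟨y, hy⟩ := hG.sq_exact (by norm_num) hg₁ hr
    have step : ∀ n : ℕ, ⟪g₁ ^ (2 * n)⟫.trace = ⟪g₁ ^ n⟫.trace := fun n => by
      rw [pow_mul, ← hy, conj_pow, trace_conj_mat]
    rw [← tp, ← step 5, ← step (2 * 5),
      show g₁ ^ (2 * (2 * 5)) = g₁⁻¹ from eq_inv_of_mul_eq_one_right (by
        rw [← pow_succ', show 2 * (2 * 5) + 1 = 7 * 3 by norm_num, pow_mul, hg₁, one_pow])]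

end CfsgLib.Geo.D3
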