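/-
An elementary abelian unipotent centraliser with a big normaliser is the exponential of one nilpotent matrix
over a subfield.
-/
import Cfsg.Agent.Geo.DimThree.NoTv.Basic
import Mathlib.LinearAlgebra.Eigenspace.Basic
import Mathlib.RingTheory.RootsOfUnity.PrimitiveRoots

set_option autoImplicit false
set_option linter.unusedSectionVars false
set_option linter.style.haveILetI false

namespace CfsgLib.Geo.D3

open Matrix Cfsg Cfsg.Geo CfsgLib.Geo

variable {F : Type*} [Field F]

local notation "Mat" => Matrix (Fin 3) (Fin 3) F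

section nilpotent

variable {N : Matrix (Fin 3) (Fin 3) F}

/-- The polynomials of degree at most two in a matrix. -/
def poly2 (N : Matrix (Fin 3) (Fin 3) F) (a b c : F) : Matrix (Fin 3) (Fin 3) F :=
  a • (1 : Mat) + b • N + c • (N * N)

lemma poly2_mul (h3 : N * N * N = 0) (a b c a' b' c' : F) :
    poly2 N a b c * poly2 N a' b' c' = poly2 N (a * a') (a * b' + b * a') (a * c' + b * b' + c * a') := by
  have h3' : N * (N * N) = 0 := by rw [← mul_assoc]; exact h3
  simp only [poly2, add_mul, mul_add, smul_mul_assoc, mul_smul_comm, one_mul, mul_one, smul_smul]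
  simp only [← mul_assoc, h3, zero_mul, smul_zero, add_zero, mul_assoc N N N, h3']
  match_scalars <;> ring

lemma exists_cyclic_vec (h2 : N * N ≠ 0) : ∃ v : Fin 3 → F, (N * N) *ᵥ v ≠ 0 := by
  by_contra h
  push Not at h
  exact h2 (Matrix.ext_iff_mulVec.2 fun v => by rw [h v, Matrix.zero_mulVec])

lemma cyclic_li (h3 : N * N * N = 0) {v : Fin 3 → F} (hv : (N * N) *ᵥ v ≠ 0) :
    LinearIndependent F ![v, N *ᵥ v, (N * N) *ᵥ v] := by
  rw [Fintype.linearIndependent_iff]
  intro c hc
  simp only [Fin.sum_univ_three, Matrix.cons_val_zero, Matrix.cons_val_one, Matrix.cons_val_two, Matrix.head_cons,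
    Matrix.tail_cons] at hc
  have e3 : ∀ w, (N * N * N) *ᵥ w = 0 := fun w => by rw [h3, Matrix.zero_mulVec]
  have e4 : ∀ w, (N * N * (N * N)) *ᵥ w = 0 := fun w => by
    rw [← mul_assoc, h3, zero_mul, Matrix.zero_mulVec]
  have h0 := congrArg (fun w => (N * N) *ᵥ w) hc
  simp only [Matrix.mulVec_add, Matrix.mulVec_smul, Matrix.mulVec_mulVec, e3, e4, smul_zero, add_zero,
    Matrix.mulVec_zero] at h0
  have c0 : c 0 = 0 := (smul_eq_zero.1 h0).resolve_right hv
  rw [c0, zero_smul, zero_add] at hc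
  have h1 := congrArg (fun w => N *ᵥ w) hc
  have h3' : N * (N * N) = 0 := by rw [← mul_assoc]; exact h3
  simp only [Matrix.mulVec_add, Matrix.mulVec_smul, Matrix.mulVec_mulVec, h3', Matrix.zero_mulVec, smul_zero,
    add_zero, Matrix.mulVec_zero] at h1
  have c1 : c 1 = 0 := (smul_eq_zero.1 h1).resolve_right hv
  rw [c1, zero_smul, zero_add] at hc
  intro i
  fin_cases i
  · exact c0
  · exact c1
  · exact (smul_eq_zero.1 hc).resolve_right hv

lemma cyclic_coords (h3 : N * N * N = 0) {v : Fin 3 → F} (hv : (N * N) *ᵥ v ≠ 0) (w : Fin 3 → F) :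
    ∃ a b c : F, w = poly2 N a b c *ᵥ v := by
  have hs := (cyclic_li h3 hv).span_eq_top_of_card_eq_finrank (by simp)
  obtain ⟨f, hf⟩ := (Submodule.mem_span_range_iff_exists_fun F).1
    (hs ▸ Submodule.mem_top : w ∈ Submodule.span F (Set.range ![v, N *ᵥ v, (N * N) *ᵥ v]))
  refine ⟨f 0, f 1, f 2, hf.symm.trans ?_⟩
  simp [Fin.sum_univ_three, poly2, Matrix.add_mulVec, Matrix.smul_mulVec]

lemma poly2_inj (h3 : N * N * N = 0) (h2 : N * N ≠ 0) {a b c a' b' c' : F}
    (h : poly2 N a b c = poly2 N a' b' c') : a = a' ∧ b = b' ∧ c = c' := by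
  obtain ⟨v, hv⟩ := exists_cyclic_vec h2
  have hsum : (a - a') • v + (b - b') • (N *ᵥ v) + (c - c') • ((N * N) *ᵥ v) = 0 := by
    have := congrArg (fun X => X *ᵥ v) h
    simp [poly2, Matrix.add_mulVec, Matrix.smul_mulVec] at this
    rw [sub_smul, sub_smul, sub_smul]
    linear_combination (norm := module) this
  have hl := Fintype.linearIndependent_iff.1 (cyclic_li h3 hv) ![a - a', b - b', c - c']
    (by simpa [Fin.sum_univ_three] using hsum)
  exact ⟨sub_eq_zero.1 (hl 0), sub_eq_zero.1 (hl 1), sub_eq_zero.1 (hl 2)⟩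

/-- The commutant of a regular nilpotent matrix. -/
lemma exists_poly2_of_commute (h3 : N * N * N = 0) (h2 : N * N ≠ 0) {X : Mat} (h : X * N = N * X) :
    ∃ a b c : F, X = poly2 N a b c := by
  obtain ⟨v, hv⟩ := exists_cyclic_vec h2
  obtain ⟨a, b, c, hX⟩ := cyclic_coords h3 hv (X *ᵥ v)
  refine ⟨a, b, c, Matrix.ext_iff_mulVec.2 fun w => ?_⟩
  obtain ⟨r, s, t, rfl⟩ := cyclic_coords h3 hv w
  have hc : ∀ r s t, X * poly2 N r s t = poly2 N r s t * X := fun r s t => by
    simp only [poly2, mul_add, add_mul, mul_smul_comm, smul_mul_assoc, mul_one, one_mul, h, ← mul_assoc]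
    rw [mul_assoc N X N, h, ← mul_assoc]
  have hcc : poly2 N r s t * poly2 N a b c = poly2 N a b c * poly2 N r s t := by
    rw [poly2_mul h3, poly2_mul h3]; congr 1 <;> ring
  rw [Matrix.mulVec_mulVec, hc, ← Matrix.mulVec_mulVec, hX, Matrix.mulVec_mulVec, hcc, Matrix.mulVec_mulVec]

/-- The kernel of a regular nilpotent matrix is a line. -/
lemma ker_line (h3 : N * N * N = 0) {v : Fin 3 → F} (hv : (N * N) *ᵥ v ≠ 0) {w : Fin 3 → F}
    (hw : N *ᵥ w = 0) : ∃ c : F, w = c • ((N * N) *ᵥ v) := by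
  obtain ⟨a, b, c, rfl⟩ := cyclic_coords h3 hv w
  refine ⟨c, ?_⟩
  have h0 : poly2 N 0 a b *ᵥ v = 0 := by
    rw [← hw, Matrix.mulVec_mulVec]
    congr 1
    simp only [poly2, mul_add, mul_smul_comm, mul_one, ← mul_assoc, h3, smul_zero, add_zero, zero_smul, zero_add]
  have hl := Fintype.linearIndependent_iff.1 (cyclic_li h3 hv) ![0, a, b]
    (by simpa [Fin.sum_univ_three, poly2, Matrix.add_mulVec, Matrix.smul_mulVec] using h0)
  obtain rfl : a = 0 := hl 1
  obtain rfl : b = 0 := hl 2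
  simp [poly2, Matrix.smul_mulVec]

lemma coeff_one_of_nilpotent (h3 : N * N * N = 0) (h2 : N * N ≠ 0) {a b c : F} {k : ℕ}
    (h : (poly2 N a b c - 1) ^ k = 0) : a = 1 := by
  have hp : ∀ k : ℕ, ∃ b' c', (poly2 N a b c - 1) ^ k = poly2 N ((a - 1) ^ k) b' c' := by
    intro k
    induction k with
    | zero => exact ⟨0, 0, by simp [poly2]⟩
    | succ k ih =>
      obtain ⟨b', c', e⟩ := ih
      have e1 : poly2 N a b c - 1 = poly2 N (a - 1) b c := by simp only [poly2]; module
      exact ⟨_, _, by rw [pow_succ, e, e1, poly2_mul h3, pow_succ]⟩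
  obtain ⟨b', c', e⟩ := hp k
  rw [h, show (0 : Mat) = poly2 N 0 0 0 by simp [poly2]] at e
  have := (poly2_inj h3 h2 e).1
  exact sub_eq_zero.1 (eq_zero_of_pow_eq_zero this.symm)

end nilpotent

variable [Finite F] {G : Subgroup (GL (Fin 3) F)} {p : ℕ} [CharP F p] [hp : Fact p.Prime]

lemma three_le_char (h2 : (2 : F) ≠ 0) : 3 ≤ p := by
  rcases hp.out.eq_two_or_odd with h | h
  · subst h
    exact absurd (CharTwo.two_eq_zero (R := F)) h2
  · have := hp.out.two_le; omega

/-- A scalar of `G` of order dividing the characteristic is trivial. -/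
lemma NoTv.scalar_pow_char (_hG : NoTv G) {z : G} (hs : (z : GL (Fin 3) F) ∈ scalars (Fin 3) F)
    (hzp : z ^ p = 1) : z = 1 := by
  obtain ⟨c, hc⟩ := (mem_scalars_iff _).1 hs
  have h : ((z : GL (Fin 3) F) : Mat) ^ p = 1 := by
    rw [← Units.val_pow_eq_pow_val, ← Subgroup.coe_pow, hzp]; rfl
  rw [hc, smul_pow, one_pow] at h
  have h00 := congrFun (congrFun h 0) 0
  simp at h00
  have h1 : ((c : F) - 1) ^ p = 0 := by rw [sub_pow_char, h00, one_pow, sub_self]
  refine Subtype.ext (Units.ext ?_)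
  rw [hc, sub_eq_zero.1 (eq_zero_of_pow_eq_zero h1), one_smul]
  rfl

/-- An element whose order is the characteristic is regular unipotent. -/
lemma NoTv.regular_of_pow (hG : NoTv G) {g : G} (hg : g ^ p = 1) (hg1 : g ≠ 1) :
    let N : Mat := ((g : GL (Fin 3) F) : Mat) - 1
    N * N * N = 0 ∧ N * N ≠ 0 := by
  intro N
  have hgp : ((g : GL (Fin 3) F) : Mat) ^ p = 1 := by
    rw [← Units.val_pow_eq_pow_val, ← Subgroup.coe_pow, hg]; rfl
  have hNp : N ^ p = 0 := by
    rw [sub_pow_char_of_commute p (Commute.one_right _), hgp, one_pow, sub_self]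
  have h3 : N * N * N = 0 := by
    have hk := LinearMap.ker_eq_top.2 (show (Matrix.toLin' N) ^ p = 0 by
      rw [← Matrix.toLin'_pow, hNp, map_zero])
    rw [Module.End.ker_pow_eq_ker_pow_finrank_of_le (f := Matrix.toLin' N) (m := p) (by
      rw [Module.finrank_fin_fun]; exact three_le_char hG.two_ne), Module.finrank_fin_fun,
      LinearMap.ker_eq_top, ← Matrix.toLin'_pow, ← map_zero (Matrix.toLin' (R := F) (m := Fin 3) (n := Fin 3))] at hk
    rw [← Matrix.toLin'.injective hk, pow_succ, pow_two]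
  refine ⟨h3, fun h2 => ?_⟩
  have hN0 : N ≠ 0 := fun e => hg1 (Subtype.ext (Units.ext (sub_eq_zero.1 e)))
  obtain ⟨v, φ, hv, hφ, hd, hN⟩ := exists_vecMulVec_of_sq_zero hN0 h2
  refine hG.noTv v φ hv hφ ⟨hd, ?_⟩
  have : tvec v φ hd = (g : GL (Fin 3) F) := Units.ext (by
    rw [tvec_val, ← hN]; simp only [N]; abel)
  rw [this]
  exact g.2

/-- A preimage of the same order. -/
lemma NoTv.exists_lift_p (hG : NoTv G) {y : Pro G} (hy : y ^ p = 1) : ∃ g : G, toPro G g = y ∧ g ^ p = 1 := by
  obtain ⟨g₀, rfl⟩ := QuotientGroup.mk'_surjective _ y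
  have hz : ((g₀ ^ p : G) : GL (Fin 3) F) ∈ scalars (Fin 3) F := toPro_eq_one.1 (by rw [map_pow]; exact hy)
  have hz3 : (g₀ ^ p) ^ 3 = 1 := Subtype.ext (by simpa using hG.scalar_cube (g₀ ^ p).2 hz)
  have h3p := three_le_char (F := F) (p := p) hG.two_ne
  rcases eq_or_lt_of_le h3p with h | h
  · refine ⟨g₀, rfl, hG.scalar_pow_char hz ?_⟩
    rw [← h] at hz3 ⊢
    exact hz3
  · have hcop : Nat.Coprime p 3 := (Nat.coprime_primes hp.out Nat.prime_three).2 (by omega)
    obtain ⟨k, hk⟩ : ∃ k : ℕ, k * p % 3 = 1 := by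
      have : p % 3 = 1 ∨ p % 3 = 2 := by
        have : p % 3 ≠ 0 := fun h0 => by
          have := (Nat.prime_dvd_prime_iff_eq Nat.prime_three hp.out).1 (Nat.dvd_of_mod_eq_zero h0)
          omega
        omega
      rcases this with h | h
      · exact ⟨1, by omega⟩
      · exact ⟨2, by omega⟩
    refine ⟨g₀ * (g₀ ^ p) ^ (2 * k), ?_, ?_⟩
    · rw [map_mul, map_pow, toPro_eq_one.2 hz, one_pow, mul_one]
    · rw [((Commute.refl g₀).pow_right p |>.pow_right (2 * k)).mul_pow, ← pow_mul, ← pow_succ',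
        pow_eq_pow_mod _ hz3]
      obtain ⟨r, hr⟩ : ∃ r, 2 * k * p + 1 = 3 * r := ⟨(2 * k * p + 1) / 3, by
        have : (2 * k * p + 1) % 3 = 0 := by
          rw [mul_assoc, Nat.add_mod, Nat.mul_mod, hk]
        omega⟩
      rw [hr, Nat.mul_mod_right, pow_zero]

lemma NoTv.lift_p_unique (hG : NoTv G) {g h : G} (hg : g ^ p = 1) (hh : h ^ p = 1) (he : toPro G g = toPro G h) :
    g = h := by
  have hz : ((g⁻¹ * h : G) : GL (Fin 3) F) ∈ scalars (Fin 3) F :=
    toPro_eq_one.1 (by rw [map_mul, map_inv, he, inv_mul_cancel])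
  have hc : Commute g (g⁻¹ * h) := by
    obtain ⟨c, hc⟩ := (mem_scalars_iff _).1 hz
    refine Subtype.ext (Units.ext ?_)
    rw [Subgroup.coe_mul, Units.val_mul, Subgroup.coe_mul (H := G) (g⁻¹ * h) g, Units.val_mul, hc,
      mul_smul_comm, smul_mul_assoc, mul_one, one_mul]
  have hp' : (g⁻¹ * h) ^ p = 1 := by
    have := hc.mul_pow p
    rw [mul_inv_cancel_left, hh, hg, one_mul] at this
    exact this.symm
  have := hG.scalar_pow_char hz hp'
  exact inv_mul_eq_one.1 this

/-- The exponential of a multiple of `N`. -/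
def expN (N : Matrix (Fin 3) (Fin 3) F) (a : F) : Matrix (Fin 3) (Fin 3) F := poly2 N 1 a (a ^ 2 / 2)

/-- The centraliser of a unipotent element as an exponential. -/
theorem exists_exp (hG : NoTv G) {q : ℕ} {u : G} (hu : IsUni (u : GL (Fin 3) F))
    (hcomm : IsMulCommutative ↥(cen (toPro G u))) (hpG : IsPGroup p ↥(cen (toPro G u)))
    (hexp : ∀ y ∈ cen (toPro G u), y ^ p = 1) (h5 : 5 ≤ q) (hU : Nat.card ↥(cen (toPro G u)) = q) {κ : G}
    (hκ : toPro G κ ∈ Subgroup.normalizer ((cen (toPro G u)) : Set (Pro G))) {e : ℕ}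
    (he : orderOf (toPro G κ) = e) (he2 : 2 * e = q - 1) :
    ∃ (N : Mat) (K : Subfield F) (ξ : F),
      N * N * N = 0 ∧ N * N ≠ 0 ∧ Nat.card K = q ∧ ξ ∈ K ∧ ξ ≠ 1 ∧
      ((κ : GL (Fin 3) F) : Mat) * N = ξ • (N * ((κ : GL (Fin 3) F) : Mat)) ∧
      (∀ a ∈ K, ∃ g : G, g ^ p = 1 ∧ ((g : GL (Fin 3) F) : Mat) = expN N a ∧ toPro G g ∈ cen (toPro G u)) ∧
      ∀ g : G, g ^ p = 1 → toPro G g ∈ cen (toPro G u) → ∃ a ∈ K, ((g : GL (Fin 3) F) : Mat) = expN N a := by
  classical
  set U := cen (toPro G u) with hUdef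
  have h2 : (2 : F) ≠ 0 := hG.two_ne
  obtain ⟨m, hm⟩ := IsPGroup.iff_card.1 hpG
  rw [hU] at hm
  have hm1 : 1 ≤ m := by
    rcases m with _ | m
    · rw [pow_zero] at hm; omega
    · omega
  have hpq : p ∣ q := hm ▸ dvd_pow_self p (by omega)
  have hq1 : ¬ p ∣ e := fun hd => by
    have h1 : p ∣ q - 1 := he2 ▸ Dvd.dvd.mul_left hd 2
    have h2 := Nat.dvd_sub hpq h1
    rw [Nat.sub_sub_self (by omega)] at h2
    exact hp.out.not_dvd_one h2
  have hUc : ∀ x y, x ∈ U → y ∈ U → x * y = y * x := fun x y hx hy =>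
    congrArg Subtype.val (hcomm.is_comm.comm ⟨x, hx⟩ ⟨y, hy⟩)
  -- lifts
  choose L hL hLp using fun y : U => hG.exists_lift_p (hexp y y.2)
  have hLu : ∀ (y : U) (g : G), g ^ p = 1 → toPro G g = y → L y = g := fun y g hg hgy =>
    hG.lift_p_unique (hLp y) hg (by rw [hL, hgy])
  have hLcomm : ∀ y z : U, Commute (L y) (L z) := by
    intro y z
    have h1 : L y * L z * (L y)⁻¹ = L z := by
      refine hG.lift_p_unique ?_ (hLp z) ?_
      · rw [← MulAut.conj_apply, ← map_pow, hLp, map_one]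
      · rw [map_mul, map_mul, map_inv, hL, hL, hUc _ _ y.2 z.2, mul_inv_cancel_right]
    exact mul_inv_eq_iff_eq_mul.1 h1
  have hLmul : ∀ y z : U, L (y * z) = L y * L z := fun y z =>
    hLu _ _ (by rw [(hLcomm y z).mul_pow, hLp, hLp, one_mul]) (by rw [map_mul, hL, hL]; rfl)
  let u₀ : U := ⟨toPro G u, Subgroup.mem_centralizer_singleton_iff.2 rfl⟩
  have hu0 : L u₀ ≠ 1 := fun h => by
    have := hL u₀
    rw [h, map_one] at this
    exact hu.1 (toPro_eq_one.1 this.symm)
  obtain ⟨h3, hsq⟩ := hG.regular_of_pow (hLp u₀) hu0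
  set N : Mat := ((L u₀ : GL (Fin 3) F) : Mat) - 1 with hNdef
  -- coordinates of all lifts
  have hcoord : ∀ y : U, ∃ a b : F, ((L y : GL (Fin 3) F) : Mat) = poly2 N 1 a b := by
    intro y
    have hc : ((L y : GL (Fin 3) F) : Mat) * N = N * ((L y : GL (Fin 3) F) : Mat) := by
      have := congrArg (fun g : G => ((g : GL (Fin 3) F) : Mat)) (hLcomm y u₀).eq
      simp only [Subgroup.coe_mul, Units.val_mul] at this
      rw [hNdef, mul_sub, sub_mul, mul_one, one_mul, this]
    obtain ⟨c, a, b, hX⟩ := exists_poly2_of_commute h3 hsq hc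
    obtain rfl : c = 1 := by
      refine coeff_one_of_nilpotent (b := a) (c := b) (k := p) h3 hsq ?_
      rw [← hX, sub_pow_char_of_commute p (Commute.one_right _), ← Units.val_pow_eq_pow_val,
        ← Subgroup.coe_pow, hLp, one_pow]
      simp
    exact ⟨a, b, hX⟩
  choose A B hAB using hcoord
  have hAmul : ∀ y z, A (y * z) = A y + A z ∧ B (y * z) = B y + B z + A y * A z := by
    intro y z
    have h := hAB (y * z)
    rw [hLmul, Subgroup.coe_mul, Units.val_mul, hAB, hAB, poly2_mul h3] at h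
    obtain ⟨-, h1, h2⟩ := poly2_inj h3 hsq h
    exact ⟨by rw [← h1]; ring, by rw [← h2]; ring⟩
  have hAu : A u₀ = 1 ∧ B u₀ = 0 := by
    have h := hAB u₀
    rw [show ((L u₀ : GL (Fin 3) F) : Mat) = poly2 N 1 1 0 by rw [hNdef]; simp [poly2]] at h
    obtain ⟨-, h1, h2⟩ := poly2_inj h3 hsq h
    exact ⟨h1.symm, h2.symm⟩
  have hinj : Function.Injective A := by
    intro y z h
    by_contra hne
    have hA0 : A (y * z⁻¹) = 0 := by
      have := (hAmul (y * z⁻¹) z).1
      rw [inv_mul_cancel_right, h] at this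
      linear_combination -this
    have hne1 : L (y * z⁻¹) ≠ 1 := fun e => hne (by
      have := hL (y * z⁻¹)
      rw [e, map_one] at this
      exact mul_inv_eq_one.1 (Subtype.ext this.symm))
    refine (hG.regular_of_pow (hLp _) hne1).2 ?_
    rw [hAB, hA0]
    simp only [poly2, zero_smul, add_zero, one_smul, add_sub_cancel_left, smul_mul_smul_comm]
    rw [← mul_assoc (N * N), h3, zero_mul, smul_zero]
  -- the action of the normalising element
  have hσmem : ∀ y : U, toPro G κ * (y : Pro G) * (toPro G κ)⁻¹ ∈ U := fun y =>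
    (Subgroup.mem_normalizer_iff.1 hκ y).1 y.2
  let σ : U → U := fun y => ⟨_, hσmem y⟩
  have hLσ : ∀ y, L (σ y) = κ * L y * κ⁻¹ := fun y =>
    hLu _ _ (by rw [← MulAut.conj_apply, ← map_pow, hLp, map_one]) (by rw [map_mul, map_mul, map_inv, hL])
  set kk : Mat := ((κ : GL (Fin 3) F) : Mat) with hkk
  set ki : Mat := (((κ : GL (Fin 3) F)⁻¹ : GL (Fin 3) F) : Mat) with hki
  have kki : kk * ki = 1 := by rw [hkk, hki, ← Units.val_mul, mul_inv_cancel, Units.val_one]
  have kik : ki * kk = 1 := by rw [hkk, hki, ← Units.val_mul, inv_mul_cancel, Units.val_one]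
  set ξ := A (σ u₀) with hξdef
  set β := B (σ u₀) with hβdef
  have hkN : kk * N * ki = poly2 N 0 ξ β := by
    have h := hAB (σ u₀)
    rw [hLσ, Subgroup.coe_mul, Subgroup.coe_mul, Units.val_mul, Units.val_mul, Subgroup.coe_inv, ← hkk, ← hki,
      ← hξdef, ← hβdef] at h
    rw [hNdef, mul_sub, sub_mul, mul_one, kki, h, ← hNdef]
    simp only [poly2]
    module
  have hkN2 : kk * (N * N) * ki = poly2 N 0 0 (ξ * ξ) := by
    rw [show kk * (N * N) * ki = kk * N * ki * (kk * N * ki) by
      simp only [mul_assoc]; rw [← mul_assoc ki kk, kik, one_mul], hkN, poly2_mul h3]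
    congr 1 <;> ring
  have hσA : ∀ y, A (σ y) = ξ * A y ∧ B (σ y) = A y * β + B y * (ξ * ξ) := by
    intro y
    have h := hAB (σ y)
    rw [hLσ, Subgroup.coe_mul, Subgroup.coe_mul, Units.val_mul, Units.val_mul, Subgroup.coe_inv, ← hkk, ← hki,
      hAB] at h
    have e : kk * poly2 N 1 (A y) (B y) * ki = poly2 N 1 (ξ * A y) (A y * β + B y * (ξ * ξ)) := by
      conv_lhs => rw [poly2]
      simp only [mul_add, add_mul, mul_smul_comm, smul_mul_assoc, mul_one, kki, hkN, hkN2]
      simp only [poly2]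
      module
    rw [e] at h
    obtain ⟨-, h1, h2⟩ := poly2_inj h3 hsq h
    exact ⟨h1.symm, h2.symm⟩
  have hiter : ∀ (j : ℕ) (y : U), A (σ^[j] y) = ξ ^ j * A y ∧
      ((σ^[j] y : U) : Pro G) = toPro G κ ^ j * (y : Pro G) * (toPro G κ ^ j)⁻¹ := by
    intro j
    induction j with
    | zero => intro y; simp
    | succ j ih =>
      intro y
      rw [Function.iterate_succ_apply']
      refine ⟨by rw [(hσA _).1, (ih y).1, pow_succ]; ring, ?_⟩
      show toPro G κ * ((σ^[j] y : U) : Pro G) * (toPro G κ)⁻¹ = _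
      rw [(ih y).2, pow_succ']
      group
  have hξord : ∀ j, ξ ^ j = 1 ↔ e ∣ j := by
    intro j
    constructor
    · intro hj
      have h1 : σ^[j] u₀ = u₀ := hinj (by rw [(hiter j u₀).1, hj, one_mul])
      have hc : toPro G κ ^ j ∈ U := by
        rw [hUdef, Subgroup.mem_centralizer_singleton_iff, ← mul_inv_eq_iff_eq_mul]
        exact (hiter j u₀).2.symm.trans (congrArg Subtype.val h1)
      have := hexp _ hc
      rw [← pow_mul, ← orderOf_dvd_iff_pow_eq_one, he] at this
      exact (Nat.Coprime.dvd_of_dvd_mul_right ((hp.out.coprime_iff_not_dvd.2 hq1).symm) this)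
    · rintro ⟨i, rfl⟩
      have h1 : σ^[e * i] u₀ = u₀ := Subtype.ext (by
        rw [(hiter _ u₀).2, pow_mul, ← he, pow_orderOf_eq_one]; simp)
      have := (hiter (e * i) u₀).1
      rw [h1, hAu.1, mul_one] at this
      exact this.symm
  have hξ1 : ξ ≠ 1 := fun h => by
    have := (hξord 1).1 (by rw [pow_one, h])
    rw [Nat.dvd_one] at this
    omega
  have hξe : ξ ^ e = 1 := (hξord e).2 dvd_rfl
  have hξ0 : ξ ≠ 0 := fun h => by rw [h, zero_pow (by omega)] at hξe; exact zero_ne_one hξe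
  -- the field
  let S : AddSubgroup F :=
    { carrier := Set.range A
      add_mem' := by rintro _ _ ⟨y, rfl⟩ ⟨z, rfl⟩; exact ⟨y * z, (hAmul y z).1⟩
      zero_mem' := ⟨1, by have := (hAmul 1 1).1; rw [mul_one] at this; linear_combination -this⟩
      neg_mem' := by
        rintro _ ⟨y, rfl⟩
        refine ⟨y⁻¹, ?_⟩
        have h1 := (hAmul y y⁻¹).1
        have h0 := (hAmul 1 1).1
        rw [mul_inv_cancel] at h1
        rw [mul_one] at h0
        linear_combination -h1 - h0 }
  have hone : (1 : F) ∈ S := ⟨u₀, hAu.1⟩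
  have hScard : Nat.card S = q := by
    rw [← hU]
    exact Nat.card_congr (Equiv.ofInjective A hinj).symm
  let K : Subfield F :=
    { carrier := {r | ∀ a ∈ S, r * a ∈ S}
      mul_mem' := fun {r r'} hr hr' a ha => by rw [mul_assoc]; exact hr _ (hr' a ha)
      one_mem' := fun a ha => by rwa [one_mul]
      add_mem' := fun {r r'} hr hr' a ha => by rw [add_mul]; exact S.add_mem (hr a ha) (hr' a ha)
      zero_mem' := fun a _ => by rw [zero_mul]; exact S.zero_mem
      neg_mem' := fun {r} hr a ha => by rw [neg_mul]; exact S.neg_mem (hr a ha)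
      inv_mem' := fun r hr => by
        rcases eq_or_ne r 0 with rfl | hr0
        · intro a _; rw [_root_.inv_zero, zero_mul]; exact S.zero_mem
        intro a ha
        have hs : Function.Surjective fun s : S => (⟨r * s, hr s s.2⟩ : S) :=
          Finite.surjective_of_injective fun s t h => Subtype.ext (mul_left_cancel₀ hr0 (congrArg Subtype.val h))
        obtain ⟨s, hs⟩ := hs ⟨a, ha⟩
        rw [show a = r * (s : F) from (congrArg Subtype.val hs).symm, inv_mul_cancel_left₀ hr0]
        exact s.2 }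
  have hξK : ξ ∈ K := by
    rintro _ ⟨y, rfl⟩
    exact ⟨σ y, (hσA y).1⟩
  have hKS : ∀ r ∈ K, r ∈ S := fun r hr => by simpa using hr 1 hone
  have hprim : IsPrimitiveRoot ξ e := ⟨hξe, fun l hl => (hξord l).1 hl⟩
  have hKcard : Nat.card K = q := by
    have hle : e + 1 ≤ Nat.card K := by
      let g : Option (Fin e) → K := fun o => o.elim 0 fun i => ⟨ξ ^ (i : ℕ), pow_mem hξK _⟩
      have hg : Function.Injective g := by
        rintro (_ | i) (_ | j) h
        · rfl
        · exact absurd (congrArg Subtype.val h).symm (pow_ne_zero _ hξ0)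
        · exact absurd (congrArg Subtype.val h) (pow_ne_zero _ hξ0)
        · exact congrArg some (Fin.ext (hprim.pow_inj i.2 j.2 (congrArg Subtype.val h)))
      simpa [Finite.card_option] using Nat.card_le_card_of_injective g hg
    let W : Submodule K F :=
      { carrier := S, add_mem' := S.add_mem, zero_mem' := S.zero_mem, smul_mem' := fun r a ha => r.2 a ha }
    have hW := Module.natCard_eq_pow_finrank (K := K) (V := W)
    rw [show Nat.card W = q from hScard] at hW
    rcases lt_or_ge (Module.finrank K W) 2 with hd | hd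
    · interval_cases h : Module.finrank K W
      · rw [pow_zero] at hW; omega
      · rw [pow_one] at hW; exact hW.symm
    · exfalso
      have := Nat.pow_le_pow_right (Nat.card_pos (α := K)) hd
      rw [← hW, pow_two] at this
      have hs := Nat.mul_le_mul hle hle
      have hq' : q = 2 * e + 1 := by omega
      nlinarith
  have hSK : ∀ a, a ∈ S → a ∈ K := by
    intro a ha
    have h : (K : Set F) = (S : Set F) := Set.eq_of_subset_of_ncard_le hKS (by
      rw [← Nat.card_coe_set_eq, ← Nat.card_coe_set_eq]; exact (hScard.trans hKcard.symm).le)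
    exact (Set.ext_iff.1 h a).2 ha
  -- change of generator
  set γ := β / (ξ - ξ * ξ) with hγdef
  have hdξ : ξ - ξ * ξ ≠ 0 := by
    intro h
    exact hξ1 (mul_left_cancel₀ hξ0 (show ξ * ξ = ξ * 1 by linear_combination -h))
  have hγ : β + γ * (ξ * ξ) = γ * ξ := by rw [hγdef]; field_simp; ring
  set N' : Mat := poly2 N 0 1 γ with hN'
  have hN2 : N' * N' = N * N := by rw [hN', poly2_mul h3]; simp [poly2]
  have h3' : N' * N' * N' = 0 := by rw [hN', poly2_mul h3, poly2_mul h3]; simp [poly2]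
  have hpoly : ∀ a b : F, poly2 N 1 a b = poly2 N' 1 a (b - a * γ) := by
    intro a b
    simp only [poly2, hN2]
    rw [hN']; simp only [poly2]
    module
  let f : U → F := fun y => B y - A y * γ - A y ^ 2 / 2
  have hf : ∀ y z, f (y * z) = f y + f z := by
    intro y z
    simp only [f, (hAmul y z).1, (hAmul y z).2]
    field_simp
    ring
  have hfσ : ∀ y, f (σ y) = ξ * ξ * f y := by
    intro y
    simp only [f, (hσA y).1, (hσA y).2]
    linear_combination (A y) * hγ
  have hfpow : ∀ (i : ℕ) (y z : U), A z = ξ ^ i * A y → f z = ξ ^ i * ξ ^ i * f y := by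
    intro i
    induction i with
    | zero => intro y z h; rw [pow_zero, one_mul] at h; rw [hinj h]; ring
    | succ i ih =>
      intro y z h
      have h' : A z = ξ ^ i * A (σ y) := by rw [h, (hσA y).1, pow_succ]; ring
      rw [ih (σ y) z h', hfσ, pow_succ]; ring
  have hf0 : ∀ y, f y = 0 := by
    intro y
    obtain ⟨d, hdK, hd0, hd1, hd2⟩ : ∃ d ∈ K, d ≠ 0 ∧ d ≠ 1 ∧ d ≠ -1 := by
      by_contra hcon
      push Not at hcon
      have hsub : (K : Set F) ⊆ ({0, 1, -1} : Set F) := fun d hd => by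
        by_cases h0 : d = 0
        · simp [h0]
        by_cases h1 : d = 1
        · simp [h1]
        simp [hcon d hd h0 h1]
      have := Set.ncard_le_ncard hsub (Set.toFinite _)
      have hc3 : ({0, 1, -1} : Set F).ncard ≤ 3 :=
        (Set.ncard_insert_le _ _).trans (by
          have := Set.ncard_insert_le (1 : F) {-1}
          rw [Set.ncard_singleton] at this
          omega)
      rw [← Nat.card_coe_set_eq] at this
      have hq' : Nat.card (K : Set F) = q := hKcard
      omega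
    set t := (d⁻¹ - d) / 2 with htdef
    set r := (d⁻¹ + d) / 2 with hrdef
    have hdd : d⁻¹ * d = 1 := inv_mul_cancel₀ hd0
    have hrt : t * t + 1 = r * r := by rw [htdef, hrdef]; field_simp; ring
    have h2K : (2 : F) ∈ K := by rw [show (2 : F) = 1 + 1 by norm_num]; exact add_mem K.one_mem K.one_mem
    have htK : t ∈ K := div_mem (sub_mem (inv_mem hdK) hdK) h2K
    have hrK : r ∈ K := div_mem (add_mem (inv_mem hdK) hdK) h2K
    have ht0 : t ≠ 0 := by
      intro h
      have h' : d⁻¹ - d = 0 := by rw [htdef, div_eq_zero_iff] at h; exact h.resolve_right h2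
      rcases mul_eq_zero.1 (show (d - 1) * (d + 1) = 0 by linear_combination hdd - d * h') with h'' | h''
      · exact hd1 (sub_eq_zero.1 h'')
      · exact hd2 (eq_neg_of_add_eq_zero_left h'')
    haveI := Fintype.ofFinite K
    have hsquare : ∀ x ∈ K, x ≠ 0 → ∃ i, ξ ^ i = x * x := by
      intro x hx hx0
      have hxq : x ^ (q - 1) = 1 := by
        have := FiniteField.pow_card_sub_one_eq_one (⟨x, hx⟩ : K) fun h => hx0 (congrArg Subtype.val h)
        rw [← Nat.card_eq_fintype_card, hKcard] at this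
        exact congrArg Subtype.val this
      haveI : NeZero e := ⟨by omega⟩
      obtain ⟨i, -, hi⟩ := hprim.eq_pow_of_pow_eq_one (show (x * x) ^ e = 1 by
        rw [← pow_two, ← pow_mul, he2, hxq])
      exact ⟨i, hi⟩
    have hf1 : f 1 = 0 := by have := hf 1 1; rw [mul_one] at this; linear_combination -this
    have hA1 : A 1 = 0 := by have := (hAmul 1 1).1; rw [mul_one] at this; linear_combination -this
    obtain ⟨i, hi⟩ := hsquare t htK ht0
    obtain ⟨z, hz⟩ : ∃ z, A z = t * t * A y := (K.mul_mem htK htK) _ ⟨y, rfl⟩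
    have hfz : f z = t * t * (t * t) * f y := by rw [hfpow i y z (by rw [hz, hi]), hi]
    have hAzy : A (z * y) = r * r * A y := by rw [(hAmul z y).1, hz, ← hrt]; ring
    have hfzy : f (z * y) = r * r * (r * r) * f y := by
      rcases eq_or_ne r 0 with hr0 | hr0
      · have : z * y = 1 := hinj (by rw [hAzy, hA1, hr0]; ring)
        rw [this, hf1, hr0]; ring
      · obtain ⟨j, hj⟩ := hsquare r hrK hr0
        rw [hfpow j y (z * y) (by rw [hAzy, hj]), hj]
    rw [hf, hfz, ← hrt] at hfzy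
    have : (2 : F) * (t * t) * f y = 0 := by linear_combination -hfzy
    exact (mul_eq_zero.1 this).resolve_left (mul_ne_zero h2 (mul_ne_zero ht0 ht0))
  have hexpN : ∀ y, ((L y : GL (Fin 3) F) : Mat) = expN N' (A y) := by
    intro y
    rw [hAB, hpoly, expN]
    congr 1
    linear_combination hf0 y
  refine ⟨N', K, ξ, h3', by rwa [hN2], hKcard, hξK, hξ1, ?_, fun a ha => ?_, fun g hg hgU => ?_⟩
  · have h : kk * N' * ki = ξ • N' := by
      rw [hN', poly2]
      simp only [zero_smul, zero_add, one_smul, mul_add, add_mul, mul_smul_comm, smul_mul_assoc, hkN, hkN2]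
      simp only [poly2, zero_smul, zero_add, one_smul, smul_add, smul_smul]
      rw [show ξ * γ = γ * ξ from mul_comm _ _, ← hγ]
      module
    calc kk * N' = kk * N' * ki * kk := by rw [mul_assoc _ ki, kik, mul_one]
      _ = ξ • (N' * kk) := by rw [h, smul_mul_assoc]
  · obtain ⟨y, hy⟩ := hKS a ha
    exact ⟨L y, hLp y, by rw [hexpN, hy], by rw [hL]; exact y.2⟩
  · refine ⟨A ⟨_, hgU⟩, hSK _ ⟨_, rfl⟩, ?_⟩
    rw [← hexpN, hLu ⟨_, hgU⟩ g hg rfl]

end CfsgLib.Geo.D3
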