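/-
The symmetric square of GL of dimension two and the stabiliser of the rational points of a conic.
-/
import Cfsg.Prelude.Def_GeometricClasses
import Mathlib.LinearAlgebra.Matrix.GeneralLinearGroup.Basic
import Mathlib.LinearAlgebra.Matrix.Notation
import Mathlib.Algebra.Polynomial.Roots
import Mathlib.FieldTheory.Finite.Basic

set_option autoImplicit false
set_option linter.unusedSectionVars false
set_option linter.style.haveILetI false

namespace CfsgLib.Geo.D3

open Matrix Polynomial Cfsg Cfsg.Geo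

variable {F : Type*} [Field F]

local notation "Mat" => Matrix (Fin 3) (Fin 3) F

/-- The point of the standard conic with parameters `x`, `y`. -/
def ver (x y : F) : Fin 3 → F := ![x * x, x * y, y * y]

/-- The symmetric square. -/
def symMat (A : Matrix (Fin 2) (Fin 2) F) : Mat :=
  !![A 0 0 * A 0 0, 2 * (A 0 0 * A 0 1), A 0 1 * A 0 1;
    A 0 0 * A 1 0, A 0 0 * A 1 1 + A 0 1 * A 1 0, A 0 1 * A 1 1;
    A 1 0 * A 1 0, 2 * (A 1 0 * A 1 1), A 1 1 * A 1 1]

lemma symMat_mul (A B : Matrix (Fin 2) (Fin 2) F) : symMat (A * B) = symMat A * symMat B := by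
  ext i j
  fin_cases i <;> fin_cases j <;>
    simp [symMat, Matrix.mul_apply, Fin.sum_univ_two, Fin.sum_univ_three] <;> ring

lemma symMat_one : symMat (1 : Matrix (Fin 2) (Fin 2) F) = 1 := by
  ext i j
  fin_cases i <;> fin_cases j <;> simp [symMat]

lemma symMat_ver (A : Matrix (Fin 2) (Fin 2) F) (x y : F) :
    symMat A *ᵥ ver x y = ver (A 0 0 * x + A 0 1 * y) (A 1 0 * x + A 1 1 * y) := by
  ext i
  fin_cases i <;> simp [symMat, ver, Matrix.mulVec, dotProduct, Fin.sum_univ_three] <;> ring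

/-- The quadratic form of the standard conic. -/
def conicQ (v : Fin 3 → F) : F := v 0 * v 2 - v 1 * v 1

/-- Its polar form. -/
def conicB (v w : Fin 3 → F) : F := v 0 * w 2 + v 2 * w 0 - 2 * (v 1 * w 1)

lemma conicQ_add (v w : Fin 3 → F) : conicQ (v + w) = conicQ v + conicQ w + conicB v w := by
  simp [conicQ, conicB]; ring

lemma conicQ_nondegenerate (h2 : (2 : F) ≠ 0) : IsNondegenerateQuadraticForm (conicQ (F := F)) := by
  have hp : QuadraticMap.polar (conicQ (F := F)) = conicB := by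
    funext v w
    simp [QuadraticMap.polar, conicQ_add]
    ring
  refine ⟨fun c v => by simp [conicQ]; ring, ?_, ?_⟩
  · rw [hp]
    refine ⟨?_, ?_, ?_, ?_⟩ <;> intros <;> simp [conicB] <;> ring
  · rw [hp]
    intro v hv
    obtain ⟨i, hi⟩ := Function.ne_iff.1 hv
    refine ⟨⟨![![0, 0, 1], ![0, 1, 0], ![1, 0, 0]] i, ?_⟩, ⟨![![0, 0, 1], ![0, 1, 0], ![1, 0, 0]] i, ?_⟩⟩ <;>
      fin_cases i <;> simp [conicB, h2] <;> simpa using hi

/-- A rational point of the standard conic. -/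
def OnConic (K : Subfield F) (v : Fin 3 → F) : Prop :=
  ∃ c x y : F, c ≠ 0 ∧ x ∈ K ∧ y ∈ K ∧ (x ≠ 0 ∨ y ≠ 0) ∧ v = c • ver x y

lemma conicQ_ver (x y : F) : conicQ (ver x y) = 0 := by simp [conicQ, ver]; ring

variable (K : Subfield F)

/-- The symmetric square on GL of dimension two over a subfield. -/
def symHom : GL (Fin 2) K →* GL (Fin 3) F :=
  (Units.map
    ({ toFun := symMat
       map_one' := symMat_one
       map_mul' := symMat_mul } : Matrix (Fin 2) (Fin 2) F →* Mat)).comp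
    (Matrix.GeneralLinearGroup.map K.subtype)

lemma symHom_val (s : GL (Fin 2) K) :
    (symHom K s : Mat) = symMat (fun i j => ((s : Matrix (Fin 2) (Fin 2) K) i j : F)) := rfl

lemma symHom_ver (s : GL (Fin 2) K) (x y : F) :
    (symHom K s : Mat) *ᵥ ver x y =
      ver (((s : Matrix (Fin 2) (Fin 2) K) 0 0 : F) * x + ((s : Matrix (Fin 2) (Fin 2) K) 0 1 : F) * y)
        (((s : Matrix (Fin 2) (Fin 2) K) 1 0 : F) * x + ((s : Matrix (Fin 2) (Fin 2) K) 1 1 : F) * y) := by
  rw [symHom_val]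
  exact symMat_ver _ x y

lemma symHom_onConic (s : GL (Fin 2) K) {v : Fin 3 → F} (hv : OnConic K v) :
    OnConic K ((symHom K s : Mat) *ᵥ v) := by
  obtain ⟨c, x, y, hc, hx, hy, hne, rfl⟩ := hv
  rw [Matrix.mulVec_smul, symHom_ver]
  refine ⟨c, _, _, hc, K.add_mem (K.mul_mem (SetLike.coe_mem _) hx) (K.mul_mem (SetLike.coe_mem _) hy),
    K.add_mem (K.mul_mem (SetLike.coe_mem _) hx) (K.mul_mem (SetLike.coe_mem _) hy), ?_, rfl⟩
  by_contra hcon
  push Not at hcon
  have h0 : (s : Matrix (Fin 2) (Fin 2) K) *ᵥ ![(⟨x, hx⟩ : K), ⟨y, hy⟩] = 0 := by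
    ext i
    fin_cases i <;> simp [Matrix.mulVec, dotProduct, Fin.sum_univ_two, hcon]
  have h1 := congrArg (fun w => ((s⁻¹ : GL (Fin 2) K) : Matrix (Fin 2) (Fin 2) K) *ᵥ w) h0
  simp only [Matrix.mulVec_mulVec, ← Units.val_mul, inv_mul_cancel, Units.val_one, Matrix.one_mulVec,
    Matrix.mulVec_zero] at h1
  have hx0 : x = 0 := congrArg Subtype.val (congrFun h1 0)
  have hy0 : y = 0 := congrArg Subtype.val (congrFun h1 1)
  exact hne.elim (fun h => h hx0) fun h => h hy0

/-- A symmetric square which is a scalar comes from a scalar. -/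
lemma mem_center_of_symHom {s : GL (Fin 2) K} {c : F}
    (h : (symHom K s : Mat) = c • 1) : s ∈ Subgroup.center (GL (Fin 2) K) := by
  rw [symHom_val] at h
  have e01 := congrFun (congrFun h 0) 1
  have e10 := congrFun (congrFun h 1) 0
  have e12 := congrFun (congrFun h 1) 2
  have e00 := congrFun (congrFun h 0) 0
  have e11 := congrFun (congrFun h 1) 1
  have e22 := congrFun (congrFun h 2) 2
  have e02 := congrFun (congrFun h 0) 2
  have e20 := congrFun (congrFun h 2) 0
  simp [symMat] at e01 e10 e12 e00 e11 e22 e02 e20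
  simp only [e02, e20] at e11
  set S := (s : Matrix (Fin 2) (Fin 2) K)
  have hc : (S 0 0 : F) ≠ 0 := by
    intro hz
    have hd := (Matrix.isUnit_iff_isUnit_det _).1 s.isUnit
    rw [Matrix.det_fin_two] at hd
    refine hd.ne_zero (Subtype.ext ?_)
    simp [S] at hz e02
    simp [hz, e02]
  have hd : (S 1 1 : F) = (S 0 0 : F) :=
    mul_left_cancel₀ hc ((by simpa using e11 : (S 0 0 : F) * (S 1 1 : F) = c).trans e00.symm)
  rw [Matrix.GeneralLinearGroup.center_eq_range_scalar]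
  refine ⟨Units.mk0 (S 0 0) fun e => hc (by rw [e]; rfl), Units.ext ?_⟩
  show Matrix.scalar (Fin 2) (S 0 0) = S
  ext i j
  fin_cases i <;> fin_cases j <;> simp [e02, e20, hd]

variable [Finite K]

/-- Three roots more than the degree kill a cubic. -/
lemma cubic_zero (hK : 5 ≤ Nat.card K) {A B C D : F}
    (h : ∀ a ∈ K, A * a ^ 3 + B * a ^ 2 + C * a + D = 0) : A = 0 ∧ B = 0 ∧ C = 0 ∧ D = 0 := by
  classical
  haveI := Fintype.ofFinite K
  let P : F[X] := Polynomial.C A * X ^ 3 + Polynomial.C B * X ^ 2 + Polynomial.C C * X + Polynomial.C D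
  have hdeg : P.natDegree ≤ 3 := by simp only [P]; compute_degree
  have hP : P = 0 := by
    refine Polynomial.eq_zero_of_natDegree_lt_card_of_eval_eq_zero P (f := fun a : K => (a : F))
      Subtype.val_injective (fun a => ?_) ?_
    · simp only [P, eval_add, eval_mul, eval_C, eval_pow, eval_X]; exact h a a.2
    · rw [← Nat.card_eq_fintype_card]; omega
  refine ⟨?_, ?_, ?_, ?_⟩
  · simpa [P, coeff_X_pow, coeff_C] using congrArg (Polynomial.coeff · 3) hP
  · simpa [P, coeff_X_pow, coeff_C, coeff_X] using congrArg (Polynomial.coeff · 2) hP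
  · simpa [P, coeff_X_pow, coeff_C, coeff_X] using congrArg (Polynomial.coeff · 1) hP
  · simpa [P, coeff_X_pow, coeff_C, coeff_X] using congrArg (Polynomial.coeff · 0) hP

/-- A matrix preserving the rational points preserves the form up to a factor. -/
lemma conicQ_similitude (hK : 5 ≤ Nat.card K) {m : GL (Fin 3) F}
    (hm : ∀ v, OnConic K v → OnConic K ((m : Mat) *ᵥ v)) :
    ∃ l : F, ∀ v, conicQ ((m : Mat) *ᵥ v) = l * conicQ v := by
  set p := (m : Mat) *ᵥ ![1, 0, 0] with hp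
  set q := (m : Mat) *ᵥ ![0, 1, 0] with hq
  set r := (m : Mat) *ᵥ ![0, 0, 1] with hr
  have hlin : ∀ v, (m : Mat) *ᵥ v = v 0 • p + v 1 • q + v 2 • r := fun v => by
    rw [hp, hq, hr, ← Matrix.mulVec_smul, ← Matrix.mulVec_smul, ← Matrix.mulVec_smul, ← Matrix.mulVec_add,
      ← Matrix.mulVec_add]
    congr 1
    ext i; fin_cases i <;> simp
  have hz : ∀ x y : F, x ∈ K → y ∈ K → (x ≠ 0 ∨ y ≠ 0) → conicQ ((m : Mat) *ᵥ ver x y) = 0 := by
    intro x y hx hy hne
    obtain ⟨c, x', y', -, -, -, -, e⟩ := hm _ ⟨1, x, y, one_ne_zero, hx, hy, hne, (one_smul F _).symm⟩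
    rw [e]
    simp [conicQ, ver]
    ring
  have h0 : conicQ p = 0 := by
    have := hz 1 0 K.one_mem K.zero_mem (Or.inl one_ne_zero)
    simpa [ver, ← hp] using this
  obtain ⟨hA, hB, hC, hD⟩ := cubic_zero K hK (A := conicB p q) (B := conicB p r + conicQ q) (C := conicB q r)
    (D := conicQ r) fun a ha => by
      have := hz a 1 ha K.one_mem (Or.inr one_ne_zero)
      rw [hlin] at this
      simp [conicQ, conicB, ver] at this h0 ⊢
      linear_combination this - a ^ 4 * h0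
  refine ⟨conicB p r, fun v => ?_⟩
  rw [hlin]
  simp [conicQ, conicB] at hA hB hC hD h0 ⊢
  linear_combination v 0 * v 0 * h0 + v 0 * v 1 * hA + v 1 * v 1 * hB + v 1 * v 2 * hC + v 2 * v 2 * hD

/-- The stabiliser of the rational points is the symmetric square of GL of dimension two, up to scalars. -/
theorem exists_symHom_of_preserves (hK : 5 ≤ Nat.card K) (m : GL (Fin 3) F)
    (hm : ∀ v, OnConic K v → OnConic K ((m : Mat) *ᵥ v)) :
    ∃ (s : GL (Fin 2) K) (c : F), c ≠ 0 ∧ (m : Mat) = c • (symHom K s : Mat) := by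
  have hmem : ∀ z : K, (z : F) ∈ K := fun z => z.2
  have back : ∀ (t s : GL (Fin 2) K) (c : F) (m : GL (Fin 3) F), c ≠ 0 →
      ((symHom K t * m : GL (Fin 3) F) : Mat) = c • (symHom K s : Mat) →
      (m : Mat) = c • (symHom K (t⁻¹ * s) : Mat) := by
    intro t s c m _ h
    rw [map_mul, map_inv, Units.val_mul, ← mul_smul_comm, ← h, ← Units.val_mul, inv_mul_cancel_left]
  have comp : ∀ (t : GL (Fin 2) K) (m : GL (Fin 3) F), (∀ v, OnConic K v → OnConic K ((m : Mat) *ᵥ v)) →
      ∀ v, OnConic K v → OnConic K (((symHom K t * m : GL (Fin 3) F) : Mat) *ᵥ v) := by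
    intro t m hm v hv
    rw [Units.val_mul, ← Matrix.mulVec_mulVec]
    exact symHom_onConic K t (hm v hv)
  have hinjm : ∀ (m : GL (Fin 3) F) (v w : Fin 3 → F), (m : Mat) *ᵥ v = (m : Mat) *ᵥ w → v = w := by
    intro m v w h
    have := congrArg (fun z => ((m⁻¹ : GL (Fin 3) F) : Mat) *ᵥ z) h
    simpa [Matrix.mulVec_mulVec] using this
  have h10 : OnConic K (ver (1 : F) 0) :=
    ⟨1, 1, 0, one_ne_zero, K.one_mem, K.zero_mem, Or.inl one_ne_zero, (one_smul F _).symm⟩
  have h01 : OnConic K (ver (0 : F) 1) :=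
    ⟨1, 0, 1, one_ne_zero, K.zero_mem, K.one_mem, Or.inr one_ne_zero, (one_smul F _).symm⟩
  have h11 : OnConic K (ver (1 : F) 1) :=
    ⟨1, 1, 1, one_ne_zero, K.one_mem, K.one_mem, Or.inl one_ne_zero, (one_smul F _).symm⟩
  -- both ends fixed: a torus element
  have step3 : ∀ m : GL (Fin 3) F, (∀ v, OnConic K v → OnConic K ((m : Mat) *ᵥ v)) →
      (∃ α : F, (m : Mat) *ᵥ ver (1 : F) 0 = α • ver (1 : F) 0) →
      (∃ γ : F, (m : Mat) *ᵥ ver (0 : F) 1 = γ • ver (0 : F) 1) →
      ∃ (s : GL (Fin 2) K) (c : F), c ≠ 0 ∧ (m : Mat) = c • (symHom K s : Mat) := by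
    rintro m hm ⟨α, hα⟩ ⟨γ, hγ⟩
    obtain ⟨l, hl⟩ := conicQ_similitude K hK hm
    set q := (m : Mat) *ᵥ ![0, 1, 0] with hq
    have hp' : (m : Mat) *ᵥ ![1, 0, 0] = ![α, 0, 0] := by simpa [ver] using hα
    have hr' : (m : Mat) *ᵥ ![0, 0, 1] = ![0, 0, γ] := by simpa [ver] using hγ
    have e01 := hl ![1, 1, 0]
    have e12 := hl ![0, 1, 1]
    have e11 := hl ![0, 1, 0]
    rw [show (![1, 1, 0] : Fin 3 → F) = ![1, 0, 0] + ![0, 1, 0] by ext i; fin_cases i <;> simp,
      Matrix.mulVec_add, hp', ← hq, conicQ_add, conicQ_add] at e01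
    rw [show (![0, 1, 1] : Fin 3 → F) = ![0, 0, 1] + ![0, 1, 0] by ext i; fin_cases i <;> simp,
      Matrix.mulVec_add, hr', ← hq, conicQ_add, conicQ_add] at e12
    rw [← hq] at e11
    simp [conicQ, conicB] at e01 e12 e11
    have hα0 : α ≠ 0 := fun e => by
      rw [e, zero_smul] at hα
      have h0 := hinjm m _ 0 (hα.trans (Matrix.mulVec_zero _).symm)
      simpa [ver] using congrFun h0 0
    have hγ0 : γ ≠ 0 := fun e => by
      rw [e, zero_smul] at hγ
      have h0 := hinjm m _ 0 (hγ.trans (Matrix.mulVec_zero _).symm)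
      simpa [ver] using congrFun h0 2
    have hq2 : q 2 = 0 := (mul_eq_zero.1 (show α * q 2 = 0 by linear_combination e01 - e11)).resolve_left hα0
    have hq0 : q 0 = 0 := (mul_eq_zero.1 (show γ * q 0 = 0 by linear_combination e12 - e11)).resolve_left hγ0
    obtain ⟨c, x, y, hc, hx, hy, -, hxy⟩ := hm _ h11
    have hsum : (m : Mat) *ᵥ ver 1 1 = ![α, q 1, γ] := by
      rw [show ver (1 : F) 1 = ![1, 0, 0] + ![0, 1, 0] + ![0, 0, 1] by ext i; fin_cases i <;> simp [ver],
        Matrix.mulVec_add, Matrix.mulVec_add, hp', hr', ← hq]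
      ext i; fin_cases i <;> simp [hq0, hq2, Matrix.vecHead, Matrix.vecTail] <;> first | exact hq0 | exact hq2 | skip
    rw [hsum] at hxy
    have hA : α = c * (x * x) := by simpa [ver] using congrFun hxy 0
    have hB : q 1 = c * (x * y) := by simpa [ver] using congrFun hxy 1
    have hC : γ = c * (y * y) := by simpa [ver] using congrFun hxy 2
    have hx0 : x ≠ 0 := fun e => hα0 (by rw [hA, e]; ring)
    have hy0 : y ≠ 0 := fun e => hγ0 (by rw [hC, e]; ring)
    refine ⟨GeneralLinearGroup.mkOfDetNeZero !![(⟨x, hx⟩ : K), 0; 0, ⟨y, hy⟩] ?_, c, hc, ?_⟩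
    · rw [Matrix.det_fin_two_of, mul_zero, sub_zero]
      exact mul_ne_zero (fun e => hx0 (congrArg Subtype.val e)) fun e => hy0 (congrArg Subtype.val e)
    refine Matrix.ext_iff_mulVec.2 fun v => ?_
    rw [symHom_val, show v = v 0 • ![1, 0, 0] + v 1 • ![0, 1, 0] + v 2 • ![0, 0, 1] by
      ext i; fin_cases i <;> simp]
    simp only [Matrix.mulVec_add, Matrix.mulVec_smul, hp', hr', ← hq]
    ext i
    fin_cases i <;> simp [symMat, Matrix.mulVec, dotProduct, Fin.sum_univ_three, GeneralLinearGroup.mkOfDetNeZero,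
      hq0, hq2, hA, hB, hC, Matrix.vecHead, Matrix.vecTail] <;> ring
  -- move the second end
  have step2 : ∀ m : GL (Fin 3) F, (∀ v, OnConic K v → OnConic K ((m : Mat) *ᵥ v)) →
      (∃ α : F, (m : Mat) *ᵥ ver (1 : F) 0 = α • ver (1 : F) 0) →
      ∃ (s : GL (Fin 2) K) (c : F), c ≠ 0 ∧ (m : Mat) = c • (symHom K s : Mat) := by
    rintro m hm ⟨α, hα⟩
    obtain ⟨c, x, y, hc, hx, hy, hne, hxy⟩ := hm _ h01
    have hy0 : y ≠ 0 := by
      intro e
      subst e
      have hx0 : x ≠ 0 := hne.resolve_right (fun h => h rfl)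
      have h1 : (m : Mat) *ᵥ (α • ver 0 1) = (m : Mat) *ᵥ ((c * (x * x)) • ver 1 0) := by
        rw [Matrix.mulVec_smul, Matrix.mulVec_smul, hxy, hα]
        ext i; fin_cases i <;> simp [ver] <;> ring
      have h2' := congrFun (hinjm m _ _ h1) 0
      simp [ver] at h2'
      rcases h2' with h | h
      · exact hc h
      · exact hx0 h
    let t : GL (Fin 2) K := GeneralLinearGroup.mkOfDetNeZero !![1, -(⟨x, hx⟩ / ⟨y, hy⟩ : K); 0, 1] (by simp [Matrix.det_fin_two_of])
    obtain ⟨s, d, hd, hs⟩ := step3 (symHom K t * m) (comp t m hm) ⟨α, by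
      rw [Units.val_mul, ← Matrix.mulVec_mulVec, hα, Matrix.mulVec_smul, symHom_ver]
      simp [t, GeneralLinearGroup.mkOfDetNeZero]⟩ ⟨c * (y * y), by
      rw [Units.val_mul, ← Matrix.mulVec_mulVec, hxy, Matrix.mulVec_smul, symHom_ver]
      ext i
      fin_cases i <;> simp [t, GeneralLinearGroup.mkOfDetNeZero, ver, hy0] <;> ring⟩
    exact ⟨_, d, hd, back t s d m hd hs⟩
  -- move the first end
  obtain ⟨c, x, y, hc, hx, hy, hne, hxy⟩ := hm _ h10
  by_cases hx0 : x = 0
  · subst hx0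
    let t : GL (Fin 2) K := GeneralLinearGroup.mkOfDetNeZero !![0, 1; 1, 0] (by simp [Matrix.det_fin_two_of])
    obtain ⟨s, d, hd, hs⟩ := step2 (symHom K t * m) (comp t m hm) ⟨c * (y * y), by
      rw [Units.val_mul, ← Matrix.mulVec_mulVec, hxy, Matrix.mulVec_smul, symHom_ver]
      ext i
      fin_cases i <;> simp [t, GeneralLinearGroup.mkOfDetNeZero, ver]⟩
    exact ⟨_, d, hd, back t s d m hd hs⟩
  · let t : GL (Fin 2) K := GeneralLinearGroup.mkOfDetNeZero !![1, 0; -(⟨y, hy⟩ / ⟨x, hx⟩ : K), 1] (by simp [Matrix.det_fin_two_of])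
    obtain ⟨s, d, hd, hs⟩ := step2 (symHom K t * m) (comp t m hm) ⟨c * (x * x), by
      rw [Units.val_mul, ← Matrix.mulVec_mulVec, hxy, Matrix.mulVec_smul, symHom_ver]
      ext i
      fin_cases i <;> simp [t, GeneralLinearGroup.mkOfDetNeZero, ver, hx0] <;> ring⟩
    exact ⟨_, d, hd, back t s d m hd hs⟩

end CfsgLib.Geo.D3
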