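/-
The largest unipotent case: the group fixes a conic and is PSL of dimension two over a subfield modulo scalars.
-/
import Cfsg.Agent.Geo.DimThree.NoTv.Uni
import Cfsg.Agent.Geo.DimThree.NoTv.UniFlag
import Cfsg.Agent.Geo.DimThree.NoTv.Veronese
import Cfsg.Agent.Geo.DimThree.Basic
import Cfsg.Agent.Dickson.Torus
import Cfsg.Agent.Classical.Transvections

set_option autoImplicit false
set_option linter.unusedSectionVars false
set_option linter.style.haveILetI false

namespace CfsgLib.Geo.D3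

open Matrix Cfsg Cfsg.Geo CfsgLib.Geo

variable {F : Type*} [Field F]

local notation "Mat" => Matrix (Fin 3) (Fin 3) F

/-- Lines go to lines. -/
lemma span_mulVec_congr {v w : Fin 3 → F} (h : F ∙ v = F ∙ w) (X : Matrix (Fin 3) (Fin 3) F) :
    F ∙ (X *ᵥ v) = F ∙ (X *ᵥ w) := by
  obtain ⟨z, rfl⟩ := Submodule.span_singleton_eq_span_singleton.1 h
  rw [Units.smul_def, Matrix.mulVec_smul, Submodule.span_singleton_smul_eq z.isUnit]

lemma span_smul_eq {v : Fin 3 → F} {c : F} (hc : c ≠ 0) : F ∙ (c • v) = F ∙ v :=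
  Submodule.span_singleton_smul_eq hc.isUnit v

lemma exists_smul_of_span_eq {v w : Fin 3 → F} (h : F ∙ v = F ∙ w) : ∃ c : F, c ≠ 0 ∧ w = c • v := by
  obtain ⟨z, hz⟩ := Submodule.span_singleton_eq_span_singleton.1 h
  exact ⟨z, z.ne_zero, hz.symm⟩

lemma GL_mulVec_ne_zero (g : GL (Fin 3) F) {v : Fin 3 → F} (hv : v ≠ 0) : (g : Mat) *ᵥ v ≠ 0 := fun e => by
  have := congrArg (fun x => ((g⁻¹ : GL (Fin 3) F) : Mat) *ᵥ x) e
  simp only [inv_mulVec_mulVec, Matrix.mulVec_zero] at this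
  exact hv this

section hom

variable {K : Subfield F} (P : GL (Fin 3) F)

/-- A matrix which is a multiple of a symmetric square in the basis `P`. -/
def IsSym (K : Subfield F) (P g : GL (Fin 3) F) (s : GL (Fin 2) K) : Prop :=
  ∃ c : F, c ≠ 0 ∧ ((P⁻¹ * g * P : GL (Fin 3) F) : Mat) = c • (symHom K s : Mat)

lemma IsSym.mul {g h : GL (Fin 3) F} {s t : GL (Fin 2) K} (hg : IsSym K P g s) (hh : IsSym K P h t) :
    IsSym K P (g * h) (s * t) := by
  obtain ⟨c, hc, e⟩ := hg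
  obtain ⟨d, hd, e'⟩ := hh
  refine ⟨c * d, mul_ne_zero hc hd, ?_⟩
  rw [show P⁻¹ * (g * h) * P = P⁻¹ * g * P * (P⁻¹ * h * P) by group, Units.val_mul, e, e', map_mul, Units.val_mul,
    smul_mul_smul_comm]

lemma IsSym.unique {g : GL (Fin 3) F} {s t : GL (Fin 2) K} (hs : IsSym K P g s) (ht : IsSym K P g t) :
    (Matrix.ProjGenLinGroup.mk s : Matrix.ProjGenLinGroup (Fin 2) K) = Matrix.ProjGenLinGroup.mk t := by
  obtain ⟨c, hc, e⟩ := hs
  obtain ⟨d, hd, e'⟩ := ht
  rw [e] at e'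
  have h : (symHom K (t⁻¹ * s) : Mat) = (c⁻¹ * d) • 1 := by
    have h1 := congrArg (fun X => c⁻¹ • (((symHom K t⁻¹ : GL (Fin 3) F) : Mat) * X)) e'
    simp only [mul_smul_comm, smul_smul, inv_mul_cancel₀ hc, one_smul, ← Units.val_mul, ← map_mul, inv_mul_cancel,
      map_one, Units.val_one] at h1
    exact h1
  have hm := mem_center_of_symHom K h
  rw [← Matrix.ProjGenLinGroup.ker_mk, MonoidHom.mem_ker, map_mul, map_inv, inv_mul_eq_one] at hm
  exact hm.symm

lemma isSym_scalar_iff {g : GL (Fin 3) F} {s : GL (Fin 2) K} (hs : IsSym K P g s) :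
    g ∈ scalars (Fin 3) F ↔ (Matrix.ProjGenLinGroup.mk s : Matrix.ProjGenLinGroup (Fin 2) K) = 1 := by
  obtain ⟨c, hc, e⟩ := hs
  constructor
  · intro hg
    obtain ⟨d, hd⟩ := (mem_scalars_iff g).1 hg
    have h1 : IsSym K P g 1 := ⟨d, d.ne_zero, by
      rw [map_one, Units.val_one, Units.val_mul, Units.val_mul, hd, mul_smul_comm, mul_one, smul_mul_assoc,
        ← Units.val_mul, inv_mul_cancel, Units.val_one]⟩
    rw [IsSym.unique P ⟨c, hc, e⟩ h1, map_one]
  · intro h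
    rw [← MonoidHom.mem_ker, Matrix.ProjGenLinGroup.ker_mk,
      Matrix.GeneralLinearGroup.center_eq_range_scalar] at h
    obtain ⟨r, rfl⟩ := h
    have hr : ((r : K) : F) * (r : K) ≠ 0 := mul_ne_zero (fun h => r.ne_zero (Subtype.ext h))
      fun h => r.ne_zero (Subtype.ext h)
    have hS : (symHom K (GeneralLinearGroup.scalar (Fin 2) r) : Mat) = (((r : K) : F) * (r : K)) • 1 := by
      rw [symHom_val]
      ext i j
      fin_cases i <;> fin_cases j <;> simp [symMat]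
    rw [hS, smul_smul] at e
    refine (mem_scalars_iff g).2 ⟨Units.mk0 _ (mul_ne_zero hc hr), ?_⟩
    rw [show g = P * (P⁻¹ * g * P) * P⁻¹ by group, Units.val_mul, Units.val_mul, e, mul_smul_comm, mul_one,
      smul_mul_assoc, ← Units.val_mul, mul_inv_cancel, Units.val_one, Units.val_mk0]

/-- The Möbius action of a group of symmetric squares. -/
theorem exists_hom {M : Subgroup (GL (Fin 3) F)} (hM : ∀ g ∈ M, ∃ s : GL (Fin 2) K, IsSym K P g s) :
    ∃ ψ : M →* Matrix.ProjGenLinGroup (Fin 2) K, ψ.ker = (scalars (Fin 3) F).subgroupOf M ∧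
      ∀ (g : M) (s : GL (Fin 2) K), IsSym K P g s → ψ g = Matrix.ProjGenLinGroup.mk s := by
  choose s hs using fun g : M => hM g g.2
  refine ⟨MonoidHom.mk' (fun g => Matrix.ProjGenLinGroup.mk (s g)) fun g h => ?_, ?_, fun g t ht => ?_⟩
  · rw [← map_mul]
    exact IsSym.unique P (hs (g * h)) ((hs g).mul P (hs h))
  · ext g
    rw [MonoidHom.mem_ker, Subgroup.mem_subgroupOf]
    exact (isSym_scalar_iff P (hs g)).symm
  · exact IsSym.unique P (hs g) ht

end hom

variable [Finite F] {G : Subgroup (GL (Fin 3) F)}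

/-- An element of order the characteristic fixes only one point. -/
lemma NoTv.fix_unique (hG : NoTv G) {p : ℕ} [CharP F p] [Fact p.Prime] {g : G} (hg : g ^ p = 1) (hg1 : g ≠ 1)
    {v w : Fin 3 → F} (hv : v ≠ 0) (hw : w ≠ 0) (hgv : F ∙ (((g : GL (Fin 3) F) : Mat) *ᵥ v) = F ∙ v)
    (hgw : F ∙ (((g : GL (Fin 3) F) : Mat) *ᵥ w) = F ∙ w) : F ∙ v = F ∙ w := by
  obtain ⟨h3, h2⟩ := hG.regular_of_pow hg hg1
  set N : Mat := ((g : GL (Fin 3) F) : Mat) - 1 with hN
  obtain ⟨z, hz⟩ := exists_cyclic_vec h2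
  have key : ∀ x : Fin 3 → F, x ≠ 0 → F ∙ (((g : GL (Fin 3) F) : Mat) *ᵥ x) = F ∙ x →
      F ∙ x = F ∙ ((N * N) *ᵥ z) := by
    intro x hx hgx
    obtain ⟨c, -, hc⟩ := exists_smul_of_span_eq hgx.symm
    have hNx : N *ᵥ x = (c - 1) • x := by rw [hN, Matrix.sub_mulVec, Matrix.one_mulVec, hc, sub_smul, one_smul]
    have h0 : ((c - 1) * (c - 1) * (c - 1)) • x = 0 := by
      have : (N * N * N) *ᵥ x = ((c - 1) * (c - 1) * (c - 1)) • x := by
        rw [← Matrix.mulVec_mulVec, hNx, Matrix.mulVec_smul, ← Matrix.mulVec_mulVec, hNx, Matrix.mulVec_smul, hNx,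
          smul_smul, smul_smul]
      rw [← this, h3, Matrix.zero_mulVec]
    have hc1 : c - 1 = 0 := by
      rcases mul_eq_zero.1 ((smul_eq_zero.1 h0).resolve_right hx) with h | h
      · rcases mul_eq_zero.1 h with h | h <;> exact h
      · exact h
    obtain ⟨d, hd⟩ := ker_line h3 hz (w := x) (by rw [hNx, hc1, zero_smul])
    rw [hd, span_smul_eq (fun e => hx (by rw [hd, e, zero_smul]))]
  rw [key v hv hgv, key w hw hgw]

set_option maxHeartbeats 4000000 in
-- a long proof with many local facts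
/-- The conic case. -/
theorem conic (hG : NoTv G) {q : ℕ} {u : G} (hu : IsUni (u : GL (Fin 3) F)) (h5 : 5 ≤ q)
    (hcard : 2 * Nat.card (Pro G) = q * (q + 1) * (q - 1)) (hU : Nat.card ↥(cen (toPro G u)) = q)
    (hN : 2 * (cen (toPro G u)).relIndex (Subgroup.normalizer ((cen (toPro G u)) : Set (Pro G))) = q - 1) :
    (∃ Q : (Fin 3 → F) → F, IsNondegenerateQuadraticForm Q ∧ FixesQuadForm (matrixSet G) Q) ∧
    ∃ K : Subfield F, Nat.card K = q ∧ Nonempty (Pro G ≃* Matrix.ProjectiveSpecialLinearGroup (Fin 2) K) ∧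
      ∀ M : Subgroup (GL (Fin 3) F), G ≤ M → (∀ m ∈ M, ∀ g ∈ G, m * g * m⁻¹ ∈ G) →
        Nonempty (Pro M ≃* Matrix.ProjectiveSpecialLinearGroup (Fin 2) K) ∨
        Nonempty (Pro M ≃* (GL (Fin 2) K ⧸ Subgroup.center (GL (Fin 2) K))) := by
  classical
  obtain ⟨p, hpc⟩ := CharP.exists F
  haveI hp : Fact p.Prime := ⟨CharP.char_is_prime F p⟩
  obtain ⟨hcomm, hpG, hexp, -⟩ := uni_block hG (p := p) hu
  obtain ⟨e, κ, -, -, -, hrel, -, hord, -, hκ, -⟩ := uni_normalizer hG hu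
  rw [hrel] at hN
  obtain ⟨N, K, ξ, h3, h2, hKq, -, -, -, hE, hE'⟩ :=
    exists_exp hG hu hcomm hpG hexp h5 hU hκ hord hN
  set U := cen (toPro G u) with hUdef
  have hF2 : (2 : F) ≠ 0 := hG.two_ne
  have hK5 : 5 ≤ Nat.card K := hKq ▸ h5
  choose E hEp hEval hEU using hE
  obtain ⟨z₀, hz₀⟩ := exists_cyclic_vec h2
  set v₀ : Fin 3 → F := (N * N) *ᵥ z₀ with hv₀
  have hNv₀ : N *ᵥ v₀ = 0 := by rw [hv₀, Matrix.mulVec_mulVec, ← mul_assoc, h3, Matrix.zero_mulVec]
  have hN2v₀ : (N * N) *ᵥ v₀ = 0 := by rw [← Matrix.mulVec_mulVec, hNv₀, Matrix.mulVec_zero]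
  have hexp_apply : ∀ (a : F) (x : Fin 3 → F),
      expN N a *ᵥ x = x + a • (N *ᵥ x) + (a ^ 2 / 2) • ((N * N) *ᵥ x) := fun a x => by
    simp [expN, poly2, Matrix.add_mulVec, Matrix.smul_mulVec]
  have hEfix : ∀ a, expN N a *ᵥ v₀ = v₀ := fun a => by
    rw [hexp_apply, hNv₀, hN2v₀, smul_zero, smul_zero, add_zero, add_zero]
  have hexp_add : ∀ a b : F, expN N a * expN N b = expN N (a + b) := fun a b => by
    rw [expN, expN, expN, poly2_mul h3]
    congr 1 <;> field_simp <;> ring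
  have hexp0 : expN N 0 = 1 := by simp [expN, poly2]
  have hcomb : ∀ (a b : F) (x : Fin 3 → F), expN N a *ᵥ (expN N b *ᵥ x) = expN N (a + b) *ᵥ x := fun a b x => by
    rw [Matrix.mulVec_mulVec, hexp_add]
  have hne1 : ∀ {a} (ha : a ∈ K), a ≠ 0 → E a ha ≠ 1 := by
    intro a ha ha0 h
    have := hEval a ha
    rw [h] at this
    have h' : poly2 N 1 0 0 = poly2 N 1 a (a ^ 2 / 2) := by
      rw [← expN, ← this]; simp [poly2]
    exact ha0 (poly2_inj h3 h2 h').2.1.symm
  -- the normaliser fixes the point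
  have hstab : ∀ n : G, toPro G n ∈ Subgroup.normalizer (U : Set (Pro G)) →
      F ∙ (((n : GL (Fin 3) F) : Mat) *ᵥ v₀) = F ∙ v₀ := by
    intro n hn
    set g := E 1 K.one_mem
    have hgp : (n * g * n⁻¹) ^ p = 1 := by rw [← MulAut.conj_apply, ← map_pow, hEp, map_one]
    have hgU : toPro G (n * g * n⁻¹) ∈ U := by
      rw [map_mul, map_mul, map_inv]
      exact (Subgroup.mem_normalizer_iff.1 hn _).1 (hEU _ _)
    obtain ⟨a, -, ha⟩ := hE' _ hgp hgU
    have hg1 : n * g * n⁻¹ ≠ 1 := fun h => hne1 K.one_mem one_ne_zero (conj_eq_one_iff.1 h)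
    refine (hG.fix_unique hgp hg1 hz₀ (GL_mulVec_ne_zero _ hz₀) ?_ ?_).symm
    · show F ∙ (_ *ᵥ v₀) = F ∙ v₀
      rw [ha, hEfix]
    · rw [Subgroup.coe_mul, Subgroup.coe_mul, Units.val_mul, Units.val_mul, ← Matrix.mulVec_mulVec,
        ← Matrix.mulVec_mulVec, Subgroup.coe_inv, inv_mulVec_mulVec, hEval, hEfix]
  -- the points
  let Ω : Set (Submodule F (Fin 3 → F)) := Set.range fun g : G => F ∙ (((g : GL (Fin 3) F) : Mat) *ᵥ v₀)
  haveI : Finite Ω := (Set.finite_range _).to_subtype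
  have hbase : (F ∙ v₀) ∈ Ω := ⟨1, by simp⟩
  have hindex : (Subgroup.normalizer (U : Set (Pro G))).index = q + 1 := by
    have h1 := (Subgroup.normalizer (U : Set (Pro G))).card_mul_index
    have hNc : Nat.card ↥(Subgroup.normalizer (U : Set (Pro G))) = q * e := by
      rw [← hU, ← hrel, ← Subgroup.relIndex_bot_left U, Subgroup.relIndex_mul_relIndex ⊥ U _ bot_le
        Subgroup.le_normalizer, Subgroup.relIndex_bot_left]
    rw [hNc] at h1
    rw [← h1, ← hN] at hcard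
    have : 0 < q * e := Nat.mul_pos (by omega) (by omega)
    refine Nat.eq_of_mul_eq_mul_left this (Nat.eq_of_mul_eq_mul_left (show 0 < 2 by omega) ?_)
    rw [hcard]; ring
  have hΩle : Nat.card Ω ≤ q + 1 := by
    rw [← hindex]
    choose rep hrep using fun y : Pro G => QuotientGroup.mk'_surjective ((scalars (Fin 3) F).subgroupOf G) y
    refine Nat.card_le_card_of_surjective
      (fun x : Pro G ⧸ Subgroup.normalizer (U : Set (Pro G)) =>
        (⟨_, rep x.out, rfl⟩ : Ω)) ?_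
    rintro ⟨_, g, rfl⟩
    refine ⟨QuotientGroup.mk (toPro G g), Subtype.ext ?_⟩
    set r := rep (QuotientGroup.mk (toPro G g) : Pro G ⧸ Subgroup.normalizer (U : Set (Pro G))).out
    have hm : toPro G (g⁻¹ * r) ∈ Subgroup.normalizer (U : Set (Pro G)) := by
      rw [map_mul, map_inv, show toPro G r = _ from hrep _]
      exact QuotientGroup.eq.1 (QuotientGroup.out_eq' _).symm
    show F ∙ (((r : GL (Fin 3) F) : Mat) *ᵥ v₀) = F ∙ (((g : GL (Fin 3) F) : Mat) *ᵥ v₀)
    have := span_mulVec_congr (hstab _ hm) ((g : GL (Fin 3) F) : Mat)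
    rwa [Matrix.mulVec_mulVec, ← Units.val_mul, ← Subgroup.coe_mul, mul_inv_cancel_left] at this
  have hΩmove : ∀ (h : G) (w : Fin 3 → F), F ∙ w ∈ Ω → F ∙ (((h : GL (Fin 3) F) : Mat) *ᵥ w) ∈ Ω := by
    rintro h w ⟨g, hg⟩
    refine ⟨h * g, ?_⟩
    show F ∙ (((h * g : G) : GL (Fin 3) F) : Mat) *ᵥ v₀ = _
    rw [Subgroup.coe_mul, mul_mulVec]
    exact span_mulVec_congr hg _
  obtain ⟨g₁, hg₁⟩ : ∃ g : G, F ∙ (((g : GL (Fin 3) F) : Mat) *ᵥ v₀) ≠ F ∙ v₀ := by
    by_contra hcon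
    push Not at hcon
    rcases hG.absIrred.1 (F ∙ v₀) (by
      rintro _ ⟨g, hg, rfl⟩
      rw [Submodule.map_span_le]
      rintro x rfl
      rw [← hcon ⟨g, hg⟩]
      exact Submodule.mem_span_singleton_self _) with h | h
    · exact hz₀ (Submodule.span_singleton_eq_bot.1 h)
    · have := finrank_span_singleton (K := F) hz₀
      rw [h, finrank_top, Module.finrank_fin_fun] at this
      omega
  set w := ((g₁ : GL (Fin 3) F) : Mat) *ᵥ v₀ with hwdef
  have hw0 : w ≠ 0 := GL_mulVec_ne_zero _ hz₀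
  have horb : ∀ a, a ∈ K → F ∙ (expN N a *ᵥ w) ∈ Ω ∧ F ∙ (expN N a *ᵥ w) ≠ F ∙ v₀ := by
    intro a ha
    refine ⟨by rw [← hEval a ha]; exact hΩmove _ _ ⟨g₁, rfl⟩, fun h => hg₁ ?_⟩
    have := span_mulVec_congr h (expN N (-a))
    rwa [Matrix.mulVec_mulVec, hexp_add, neg_add_cancel, hexp0, Matrix.one_mulVec, hEfix] at this
  let f : Option K → Ω := fun o => o.elim ⟨_, hbase⟩ fun a => ⟨_, (horb a a.2).1⟩
  have hfinj : Function.Injective f := by
    rintro (_ | a) (_ | b) h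
    · rfl
    · exact absurd (congrArg Subtype.val h).symm (horb b b.2).2
    · exact absurd (congrArg Subtype.val h) (horb a a.2).2
    · have h' := span_mulVec_congr (congrArg Subtype.val h) (expN N (-(a : F)))
      rw [hcomb, hcomb, neg_add_cancel, hexp0, Matrix.one_mulVec] at h'
      by_contra hne
      have hd : (-(a : F) + b) ∈ K := add_mem (neg_mem a.2) b.2
      have hd0 : -(a : F) + b ≠ 0 := fun e =>
        hne (congrArg some (Subtype.ext (neg_add_eq_zero.1 e)))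
      rw [← hEval _ hd] at h'
      exact hg₁ ((hG.fix_unique (hEp _ hd) (hne1 hd hd0) hz₀ hw0 (by rw [hEval, hEfix]) h'.symm).symm)
  have hΩcard : Nat.card Ω = q + 1 := by
    refine le_antisymm hΩle ?_
    have := Nat.card_le_card_of_injective f hfinj
    rwa [Finite.card_option, hKq] at this
  have hΩmem : ∀ x : Fin 3 → F, F ∙ x ∈ Ω → F ∙ x = F ∙ v₀ ∨ ∃ a ∈ K, F ∙ x = F ∙ (expN N a *ᵥ w) := by
    intro x hx
    haveI := Finite.of_injective f hfinj
    have hbij := hfinj.bijective_of_nat_card_le (by rw [Finite.card_option, hKq, hΩcard])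
    obtain ⟨o, ho⟩ := hbij.2 ⟨_, hx⟩
    cases o with
    | none => exact Or.inl (congrArg Subtype.val ho).symm
    | some a => exact Or.inr ⟨a, a.2, (congrArg Subtype.val ho).symm⟩
  -- the origin is off the tangent line
  have hN2w : (N * N) *ᵥ w ≠ 0 := by
    intro h0
    set W := LinearMap.ker (Matrix.toLin' (N * N)) with hW
    have hWmem : ∀ x, x ∈ W ↔ (N * N) *ᵥ x = 0 := fun x => by
      rw [hW, LinearMap.mem_ker, Matrix.toLin'_apply]
    have hgW : ∀ g : G, ((g : GL (Fin 3) F) : Mat) *ᵥ v₀ ∈ W := by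
      intro g
      rw [hWmem]
      rcases hΩmem _ ⟨g, rfl⟩ with h | ⟨a, -, h⟩ <;> obtain ⟨c, -, hc⟩ := exists_smul_of_span_eq h.symm <;>
        rw [hc, Matrix.mulVec_smul]
      · rw [hN2v₀, smul_zero]
      · have : N * N * expN N a = expN N a * (N * N) := by
          simp only [expN, poly2, mul_add, add_mul, mul_smul_comm, smul_mul_assoc, mul_one, one_mul, ← mul_assoc]
        rw [Matrix.mulVec_mulVec, this, ← Matrix.mulVec_mulVec, h0, Matrix.mulVec_zero, smul_zero]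
    set W' := Submodule.span F (Set.range fun g : G => ((g : GL (Fin 3) F) : Mat) *ᵥ v₀) with hW'
    have hle : W' ≤ W := Submodule.span_le.2 (by rintro _ ⟨g, rfl⟩; exact hgW g)
    rcases hG.absIrred.1 W' (by
      rintro _ ⟨g, hg, rfl⟩
      rw [hW', Submodule.map_span_le]
      rintro _ ⟨k, rfl⟩
      refine Submodule.subset_span ⟨⟨g, hg⟩ * k, ?_⟩
      rw [Matrix.toLin'_apply]
      exact mul_mulVec _ _ _) with h | h
    · refine hz₀ ?_
      have : ((1 : G) : GL (Fin 3) F).val *ᵥ v₀ ∈ W' := Submodule.subset_span ⟨1, rfl⟩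
      rwa [h, Submodule.mem_bot, Subgroup.coe_one, Units.val_one, Matrix.one_mulVec] at this
    · exact h2 (Matrix.ext_iff_mulVec.2 fun x => by
        rw [(hWmem x).1 (hle (h ▸ Submodule.mem_top)), Matrix.zero_mulVec])
  -- coordinates
  have h2' : (2 : F)⁻¹ ≠ 0 := inv_ne_zero hF2
  obtain ⟨P, hP⟩ := exists_gl_cols (b := ![(2 : F)⁻¹ • ((N * N) *ᵥ w), N *ᵥ w, w]) (by
    rw [Fintype.linearIndependent_iff]
    intro c hc
    have := Fintype.linearIndependent_iff.1 (cyclic_li h3 hN2w) ![c 2, c 1, c 0 * (2 : F)⁻¹] (by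
      simp [Fin.sum_univ_three, smul_smul] at hc ⊢
      linear_combination (norm := module) hc)
    intro i
    fin_cases i
    · simpa [h2'] using this 2
    · simpa using this 1
    · simpa using this 0)
  have hPapply : ∀ x : Fin 3 → F, (P : Mat) *ᵥ x =
      x 0 • ((2 : F)⁻¹ • ((N * N) *ᵥ w)) + x 1 • (N *ᵥ w) + x 2 • w := by
    intro x
    conv_lhs => rw [show x = x 0 • Pi.single 0 1 + x 1 • Pi.single 1 1 + x 2 • (Pi.single 2 1 : Fin 3 → F) by
      ext i; fin_cases i <;> simp]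
    rw [Matrix.mulVec_add, Matrix.mulVec_add, Matrix.mulVec_smul, Matrix.mulVec_smul, Matrix.mulVec_smul, hP, hP, hP]
    rfl
  obtain ⟨d₀, hd₀⟩ := ker_line h3 hN2w hNv₀
  have hd₀0 : d₀ ≠ 0 := fun h => hz₀ (show v₀ = 0 by rw [hd₀, h, zero_smul])
  have hP0 : F ∙ ((P : Mat) *ᵥ ver 1 0) = F ∙ v₀ := by
    rw [hPapply, hd₀, span_smul_eq hd₀0]
    simp [ver, span_smul_eq h2']
  have hPa : ∀ a : F, (P : Mat) *ᵥ ver a 1 = expN N a *ᵥ w := by
    intro a
    rw [hPapply, hexp_apply]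
    simp only [ver, Matrix.cons_val_zero, Matrix.cons_val_one, Matrix.cons_val_two, Matrix.head_cons,
      Matrix.tail_cons, smul_smul, mul_one]
    rw [div_eq_mul_inv, pow_two]
    module
  have hcon1 : ∀ v, OnConic K v → F ∙ ((P : Mat) *ᵥ v) ∈ Ω := by
    rintro v ⟨c, x, y, hc, hx, hy, hne, rfl⟩
    rw [Matrix.mulVec_smul, span_smul_eq hc]
    rcases eq_or_ne y 0 with rfl | hy0
    · have hx0 : x ≠ 0 := hne.resolve_right fun h => h rfl
      rw [show ver x (0 : F) = (x * x) • ver 1 0 by ext i; fin_cases i <;> simp [ver], Matrix.mulVec_smul,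
        span_smul_eq (mul_ne_zero hx0 hx0), hP0]
      exact hbase
    · rw [show ver x y = (y * y) • ver (x / y) 1 by ext i; fin_cases i <;> simp [ver] <;> field_simp,
        Matrix.mulVec_smul, span_smul_eq (mul_ne_zero hy0 hy0), hPa]
      exact (horb _ (div_mem hx hy)).1
  have hcon2 : ∀ x : Fin 3 → F, F ∙ x ∈ Ω → OnConic K (((P⁻¹ : GL (Fin 3) F) : Mat) *ᵥ x) := by
    intro x hx
    have key : ∀ a b : F, a ∈ K → b ∈ K → (a ≠ 0 ∨ b ≠ 0) → F ∙ x = F ∙ ((P : Mat) *ᵥ ver a b) →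
        OnConic K (((P⁻¹ : GL (Fin 3) F) : Mat) *ᵥ x) := by
      intro a b ha hb hne h
      obtain ⟨c, hc, hce⟩ := exists_smul_of_span_eq h.symm
      exact ⟨c, a, b, hc, ha, hb, hne, by rw [hce, Matrix.mulVec_smul, inv_mulVec_mulVec]⟩
    rcases hΩmem x hx with h | ⟨a, ha, h⟩
    · exact key 1 0 K.one_mem K.zero_mem (Or.inl one_ne_zero) (h.trans hP0.symm)
    · exact key a 1 ha K.one_mem (Or.inr one_ne_zero) (by rw [h, hPa])
  have hsym : ∀ m : GL (Fin 3) F, (∀ x : Fin 3 → F, F ∙ x ∈ Ω → F ∙ ((m : Mat) *ᵥ x) ∈ Ω) →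
      ∃ s : GL (Fin 2) K, IsSym K P m s := by
    intro m hm
    obtain ⟨s, c, hc, e⟩ := exists_symHom_of_preserves K hK5 (P⁻¹ * m * P) fun v hv => by
      rw [mul_mulVec, mul_mulVec]
      exact hcon2 _ (hm _ (hcon1 v hv))
    exact ⟨s, c, hc, e⟩
  have hsymG : ∀ g ∈ G, ∃ s : GL (Fin 2) K, IsSym K P g s := fun g hg =>
    hsym g fun x hx => hΩmove ⟨g, hg⟩ x hx
  refine ⟨?_, K, hKq, ?_⟩
  · -- the form
    let Q : (Fin 3 → F) → F := fun v => conicQ (((P⁻¹ : GL (Fin 3) F) : Mat) *ᵥ v)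
    obtain ⟨hQs, hQb, hQn⟩ := conicQ_nondegenerate (F := F) hF2
    have hpol : ∀ x y, QuadraticMap.polar Q x y = QuadraticMap.polar conicQ
        (((P⁻¹ : GL (Fin 3) F) : Mat) *ᵥ x) (((P⁻¹ : GL (Fin 3) F) : Mat) *ᵥ y) := fun x y => by
      simp only [QuadraticMap.polar, Q, Matrix.mulVec_add]
    refine ⟨Q, ⟨fun c v => ?_, ⟨?_, ?_, ?_, ?_⟩, fun v hv => ?_⟩, ?_⟩
    · simp only [Q, Matrix.mulVec_smul]; exact hQs c _
    · intro x y v; simp only [hpol, Matrix.mulVec_add]; exact hQb.1 _ _ _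
    · intro c x v; simp only [hpol, Matrix.mulVec_smul]; exact hQb.2 _ _ _
    · intro v x y; simp only [hpol, Matrix.mulVec_add]; exact hQb.3 _ _ _
    · intro c v x; simp only [hpol, Matrix.mulVec_smul]; exact hQb.4 _ _ _
    · obtain ⟨⟨a, ha⟩, b, hb⟩ := hQn _ (GL_mulVec_ne_zero P⁻¹ hv)
      exact ⟨⟨(P : Mat) *ᵥ a, by rwa [hpol, inv_mulVec_mulVec]⟩,
        ⟨(P : Mat) *ᵥ b, by rwa [hpol, inv_mulVec_mulVec]⟩⟩
    have hscale : ∀ g : G, ∃ l : F, l ≠ 0 ∧ ∀ v, Q (((g : GL (Fin 3) F) : Mat) *ᵥ v) = l * Q v := by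
      intro g
      obtain ⟨l, hl⟩ := conicQ_similitude K hK5 (m := P⁻¹ * (g : GL (Fin 3) F) * P) fun v hv => by
        rw [mul_mulVec, mul_mulVec]
        exact hcon2 _ (hΩmove g _ (hcon1 v hv))
      have hl' : ∀ v, Q (((g : GL (Fin 3) F) : Mat) *ᵥ v) = l * Q v := fun v => by
        have := hl (((P⁻¹ : GL (Fin 3) F) : Mat) *ᵥ v)
        rwa [mul_mulVec, mul_mulVec, mulVec_inv_mulVec] at this
      refine ⟨l, fun h0 => ?_, hl'⟩
      have h1 := hl' ((((g⁻¹ : G) : GL (Fin 3) F) : Mat) *ᵥ ((P : Mat) *ᵥ ![1, 0, 1]))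
      rw [← mul_mulVec, ← Subgroup.coe_mul, mul_inv_cancel, Subgroup.coe_one, Units.val_one, Matrix.one_mulVec, h0,
        zero_mul] at h1
      simp [Q, conicQ, inv_mulVec_mulVec] at h1
    let Kf : Subgroup (GL (Fin 3) F) :=
      { carrier := {g | ∀ v, Q ((g : Mat) *ᵥ v) = Q v}
        one_mem' := fun v => by simp
        mul_mem' := fun {a b} ha hb v => by rw [mul_mulVec, ha, hb]
        inv_mem' := fun {a} ha v => by rw [← ha, mulVec_inv_mulVec] }
    have hle : G ≤ Kf := by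
      rw [← hG.perfect, Subgroup.commutator_le]
      intro a ha b hb v
      obtain ⟨la, hla, ea⟩ := hscale ⟨a, ha⟩
      obtain ⟨lb, hlb, eb⟩ := hscale ⟨b, hb⟩
      have ia : ∀ v, Q (((a⁻¹ : GL (Fin 3) F) : Mat) *ᵥ v) = la⁻¹ * Q v := fun v => by
        rw [← mulVec_inv_mulVec a v, ea, inv_mul_cancel_left₀ hla, inv_mulVec_mulVec]
      have ib : ∀ v, Q (((b⁻¹ : GL (Fin 3) F) : Mat) *ᵥ v) = lb⁻¹ * Q v := fun v => by
        rw [← mulVec_inv_mulVec b v, eb, inv_mul_cancel_left₀ hlb, inv_mulVec_mulVec]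
      rw [commutatorElement_def, mul_mulVec, mul_mulVec, mul_mulVec, ea, eb, ia, ib]
      field_simp
    rintro _ ⟨g, hg, rfl⟩ v
    exact hle hg v
  -- the image in PGL₂
  obtain ⟨ψ, hψker, hψ⟩ := exists_hom P hsymG
  have hdet : ∀ a b c d : K, a * d - b * c ≠ 0 → Matrix.det !![a, b; c, d] ≠ 0 := fun a b c d h => by
    rwa [Matrix.det_fin_two_of]
  have hupper : ∀ a : K, IsSym K P ((E a a.2 : G) : GL (Fin 3) F)
      (GeneralLinearGroup.mkOfDetNeZero !![1, a; 0, 1] (hdet _ _ _ _ (by simp))) := by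
    intro a
    refine ⟨1, one_ne_zero, ?_⟩
    rw [one_smul]
    refine Matrix.ext_iff_mulVec.2 fun x => ?_
    rw [mul_mulVec, mul_mulVec, hEval]
    apply (fun {x y : Fin 3 → F} (h : (P : Mat) *ᵥ x = (P : Mat) *ᵥ y) => show x = y by
      have := congrArg (fun v => ((P⁻¹ : GL (Fin 3) F) : Mat) *ᵥ v) h
      simpa only [inv_mulVec_mulVec] using this)
    rw [mulVec_inv_mulVec, hexp_apply, hPapply, hPapply]
    simp only [Matrix.mulVec_add, Matrix.mulVec_smul, Matrix.mulVec_mulVec, h3,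
      show N * (N * N) = 0 by rw [← mul_assoc]; exact h3,
      show N * N * (N * N) = 0 by rw [← mul_assoc, h3, zero_mul], Matrix.zero_mulVec, smul_zero,
      zero_add, add_zero]
    simp [symHom_val, symMat, GeneralLinearGroup.mkOfDetNeZero, Matrix.mulVec, dotProduct, Fin.sum_univ_three]
    rw [← mul_one ((a : F) ^ 2 / 2)]
    match_scalars <;> field_simp <;> ring
  obtain ⟨h₁, hh₁⟩ : ∃ h : G, F ∙ (((h : GL (Fin 3) F) : Mat) *ᵥ v₀) = F ∙ w := ⟨g₁, rfl⟩
  obtain ⟨s₁, hs₁⟩ := hsymG _ h₁.2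
  have hs₁00 : (s₁ : Matrix (Fin 2) (Fin 2) K) 0 0 = 0 := by
    obtain ⟨c, hc, e⟩ := hs₁
    have h1 := span_mulVec_congr hP0 (((h₁ : GL (Fin 3) F)) : Mat)
    rw [hh₁] at h1
    have h2 := span_mulVec_congr h1 ((P⁻¹ : GL (Fin 3) F) : Mat)
    rw [← mul_mulVec, ← mul_mulVec, e, Matrix.smul_mulVec, span_smul_eq hc] at h2
    have hw' : ((P⁻¹ : GL (Fin 3) F) : Mat) *ᵥ w = ver 0 1 := by
      have := hPa 0
      rw [hexp0, Matrix.one_mulVec] at this
      rw [← this, inv_mulVec_mulVec]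
    rw [hw', symHom_ver] at h2
    obtain ⟨d, hd, hde⟩ := exists_smul_of_span_eq h2
    have h0 := congrFun hde 0
    simp [ver, hd] at h0
    exact h0
  have hs₁ne : (s₁ : Matrix (Fin 2) (Fin 2) K) 0 1 ≠ 0 ∧ (s₁ : Matrix (Fin 2) (Fin 2) K) 1 0 ≠ 0 := by
    have hd := ((Matrix.isUnit_iff_isUnit_det _).1 s₁.isUnit).ne_zero
    rw [Matrix.det_fin_two, hs₁00, zero_mul, zero_sub, neg_ne_zero] at hd
    exact ⟨left_ne_zero_of_mul hd, right_ne_zero_of_mul hd⟩
  have hSL : ∀ A : Matrix.SpecialLinearGroup (Fin 2) K,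
      (Matrix.ProjGenLinGroup.mk (Matrix.SpecialLinearGroup.toGL A) : Matrix.ProjGenLinGroup (Fin 2) K) ∈
        ψ.range := by
    refine CfsgLib.Linear.transvection_induction _ (fun i j hij t => ?_) fun A B hA hB => ?_
    swap
    · rw [map_mul, map_mul]; exact mul_mem hA hB
    set T := Matrix.SpecialLinearGroup.toGL (Matrix.SpecialLinearGroup.transvection hij t)
    have hT : (T : Matrix (Fin 2) (Fin 2) K) = Matrix.transvection i j t := rfl
    obtain ⟨rfl, rfl⟩ | ⟨rfl, rfl⟩ : (i = 0 ∧ j = 1) ∨ (i = 1 ∧ j = 0) := by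
      fin_cases i <;> fin_cases j <;> simp at hij ⊢
    · refine ⟨E t t.2, ?_⟩
      rw [hψ _ _ (hupper t)]
      congr 1
      refine Units.ext ?_
      rw [hT]
      ext a b
      fin_cases a <;> fin_cases b <;> simp [GeneralLinearGroup.mkOfDetNeZero, Matrix.transvection, Matrix.single]
    · set B := (s₁ : Matrix (Fin 2) (Fin 2) K) 0 1
      set C := (s₁ : Matrix (Fin 2) (Fin 2) K) 1 0
      set a := t * B / C
      refine ⟨h₁ * E a a.2 * h₁⁻¹, ?_⟩
      rw [map_mul, map_mul, map_inv, hψ _ _ hs₁, hψ _ _ (hupper a), ← map_inv, ← map_mul, ← map_mul]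
      congr 1
      rw [mul_inv_eq_iff_eq_mul]
      refine Units.ext ?_
      rw [Units.val_mul, Units.val_mul, hT]
      ext r c
      have hC : C ≠ 0 := hs₁ne.2
      have hC' : (((s₁ : Matrix (Fin 2) (Fin 2) K) 1 0 : K) : F) ≠ 0 := fun h => hC (Subtype.ext h)
      fin_cases r <;> fin_cases c <;>
        simp [GeneralLinearGroup.mkOfDetNeZero, Matrix.transvection, Matrix.single, Matrix.mul_apply,
          Fin.sum_univ_two, hs₁00, B, C, a] <;> field_simp [hC'] <;> ring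
  have hqodd : Odd q := ⟨e, by omega⟩
  have hKodd : Odd (Nat.card K) := hKq ▸ hqodd
  have hPGLfin := CfsgLib.Dickson.Torus.finite_pgl K
  have hidx : (CfsgLib.Dickson.Torus.pslTop K).index = 2 := by
    rw [CfsgLib.Dickson.Torus.index_pslTop]
    obtain ⟨r, hr⟩ := hKodd
    exact Nat.gcd_eq_left ⟨r, by omega⟩
  have hsup : ∀ (M : Subgroup (GL (Fin 3) F)), G ≤ M →
      ∀ φ : M →* Matrix.ProjGenLinGroup (Fin 2) K,
      (∀ (g : M) (s : GL (Fin 2) K), IsSym K P g s → φ g = Matrix.ProjGenLinGroup.mk s) →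
      CfsgLib.Dickson.Torus.pslTop K ≤ φ.range := by
    intro M hGM φ hφ x hx
    rw [← CfsgLib.Dickson.Torus.pslTop_eq] at hx
    obtain ⟨A, rfl⟩ := hx
    obtain ⟨g, hg⟩ := hSL A
    obtain ⟨s, hs⟩ := hsymG _ g.2
    exact ⟨⟨g, hGM g.2⟩, by rw [hφ _ s hs, ← hψ _ s hs, hg]; rfl⟩
  have hdich : ∀ R : Subgroup (Matrix.ProjGenLinGroup (Fin 2) K), CfsgLib.Dickson.Torus.pslTop K ≤ R →
      R = CfsgLib.Dickson.Torus.pslTop K ∨ R = ⊤ := by
    intro R hR
    rcases (Nat.dvd_prime Nat.prime_two).1 (hidx ▸ Subgroup.index_dvd_of_le hR) with h | h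
    · exact Or.inr (Subgroup.index_eq_one.1 h)
    · refine Or.inl (Subgroup.eq_of_le_of_card_ge hR ?_).symm
      have h1 := R.card_mul_index
      have h2 := (CfsgLib.Dickson.Torus.pslTop K).card_mul_index
      rw [h] at h1
      rw [hidx] at h2
      exact le_of_eq (Nat.eq_of_mul_eq_mul_right Nat.two_pos (h1.trans h2.symm))
  have hpsl : Nonempty (CfsgLib.Dickson.Torus.pslTop K ≃* Matrix.ProjectiveSpecialLinearGroup (Fin 2) K) :=
    ⟨(MonoidHom.ofInjective Matrix.ProjectiveSpecialLinearGroup.toPGL_injective).symm⟩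
  obtain ⟨epsl⟩ := hpsl
  refine ⟨?_, fun M hGM hMG => ?_⟩
  · have hR : ψ.range = CfsgLib.Dickson.Torus.pslTop K := by
      refine (hdich _ (hsup G le_rfl ψ hψ)).resolve_right fun h => ?_
      have h1 : Nat.card (Pro G) = Nat.card ψ.range :=
        Nat.card_congr ((QuotientGroup.quotientMulEquivOfEq hψker.symm).trans
          (QuotientGroup.quotientKerEquivRange ψ)).toEquiv
      rw [h, Nat.card_congr Subgroup.topEquiv.toEquiv, CfsgLib.Linear.PSLTwo.card_pgl, hKq] at h1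
      have h4 : q * (q + 1) * (q - 1) = q * (q ^ 2 - 1) := by
        rw [Nat.pow_two, ← one_mul 1, Nat.mul_self_sub_mul_self_eq, one_mul, mul_assoc]
      rw [h1, h4] at hcard
      have : 0 < q * (q ^ 2 - 1) := Nat.mul_pos (by omega) (by
        have := Nat.pow_le_pow_left h5 2; omega)
      omega
    exact ⟨((QuotientGroup.quotientMulEquivOfEq hψker.symm).trans (QuotientGroup.quotientKerEquivRange ψ)).trans
      ((MulEquiv.subgroupCongr hR).trans epsl)⟩
  · have hpres : ∀ m ∈ M, ∀ x : Fin 3 → F, F ∙ x ∈ Ω → F ∙ ((m : Mat) *ᵥ x) ∈ Ω := by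
      intro m hm x hx
      obtain ⟨h, hh⟩ := hx
      change F ∙ (((h : GL (Fin 3) F) : Mat) *ᵥ v₀) = F ∙ x at hh
      set k : G := h * E 1 K.one_mem * h⁻¹
      set y : G := ⟨m * (k : GL (Fin 3) F) * m⁻¹, hMG m hm _ k.2⟩
      have hyp : y ^ p = 1 := Subtype.ext (by
        show (m * (k : GL (Fin 3) F) * m⁻¹) ^ p = 1
        rw [← MulAut.conj_apply, ← map_pow, ← Subgroup.coe_pow]
        simp [k, ← MulAut.conj_apply, ← map_pow, hEp])
      have hy1 : y ≠ 1 := fun e => hne1 K.one_mem one_ne_zero (by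
        have := congrArg Subtype.val e
        simpa [y, k, conj_eq_one_iff] using this)
      have hfix : F ∙ (((y : GL (Fin 3) F) : Mat) *ᵥ ((m : Mat) *ᵥ x)) = F ∙ ((m : Mat) *ᵥ x) := by
        have hkx : F ∙ (((k : GL (Fin 3) F) : Mat) *ᵥ x) = F ∙ x := by
          rw [span_mulVec_congr hh.symm]
          simp only [k, Subgroup.coe_mul, Subgroup.coe_inv, mul_mulVec, inv_mulVec_mulVec, hEval, hEfix]
          exact hh
        show F ∙ (((m * (k : GL (Fin 3) F) * m⁻¹ : GL (Fin 3) F) : Mat) *ᵥ _) = _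
        rw [mul_mulVec, mul_mulVec, inv_mulVec_mulVec]
        exact span_mulVec_congr hkx _
      -- `y` fixes one of the points
      haveI := Fintype.ofFinite Ω
      let yl := Matrix.toLin' ((y : GL (Fin 3) F) : Mat)
      have hymap : ∀ ω : Ω, (ω : Submodule F (Fin 3 → F)).map yl ∈ Ω := by
        rintro ⟨_, g, rfl⟩
        refine ⟨y * g, ?_⟩
        show F ∙ _ = Submodule.map yl (F ∙ _)
        rw [Submodule.map_span, Set.image_singleton]
        simp [yl, Matrix.mulVec_mulVec]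
      let τ : Ω → Ω := fun ω => ⟨_, hymap ω⟩
      have hτinj : Function.Injective τ := fun a b h => Subtype.ext <| by
        refine Submodule.map_injective_of_injective (f := yl) ?_ (congrArg Subtype.val h)
        intro v w hvw
        have := congrArg (fun z => ((((y : GL (Fin 3) F))⁻¹ : GL (Fin 3) F) : Mat) *ᵥ z) hvw
        simpa only [yl, Matrix.toLin'_apply, inv_mulVec_mulVec] using this
      let σ : Equiv.Perm Ω := Equiv.ofBijective τ (Finite.injective_iff_bijective.1 hτinj)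
      have hpow : ∀ (n : ℕ) (ω : Ω), (((σ ^ n) ω : Ω) : Submodule F (Fin 3 → F)) =
          (ω : Submodule F (Fin 3 → F)).map (Matrix.toLin' (((y ^ n : G) : GL (Fin 3) F) : Mat)) := by
        intro n
        induction n with
        | zero => intro ω; simp
        | succ n ih =>
          intro ω
          rw [pow_succ', Equiv.Perm.mul_apply, pow_succ', Subgroup.coe_mul, Units.val_mul, Matrix.toLin'_mul,
            Submodule.map_comp, ← ih]
          rfl
      obtain ⟨⟨_, g, rfl⟩, hω⟩ := Equiv.Perm.exists_fixed_point_of_prime (p := p) (n := 1) (σ := σ) (by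
        rw [← Nat.card_eq_fintype_card, hΩcard]
        intro hd
        have hpq : p ∣ q := by
          obtain ⟨m', hm'⟩ := IsPGroup.iff_card.1 hpG
          rw [hU] at hm'
          rcases m' with _ | m'
          · simp at hm'; omega
          · exact hm' ▸ dvd_pow_self p (by omega)
        have := Nat.dvd_sub hd hpq
        rw [Nat.add_sub_cancel_left] at this
        exact hp.out.not_dvd_one this) (by
        rw [pow_one]
        refine Equiv.ext fun ω => Subtype.ext ?_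
        rw [hpow, hyp]
        simp)
      have hω' := congrArg Subtype.val hω
      change Submodule.map yl (F ∙ _) = F ∙ _ at hω'
      rw [Submodule.map_span, Set.image_singleton, Matrix.toLin'_apply] at hω'
      have hx0 : x ≠ 0 := by
        intro e
        rw [e, Submodule.span_zero_singleton, Submodule.span_singleton_eq_bot] at hh
        exact GL_mulVec_ne_zero _ hz₀ hh
      rw [← hG.fix_unique hyp hy1 (GL_mulVec_ne_zero _ hz₀) (GL_mulVec_ne_zero _ hx0) hω' hfix]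
      exact ⟨g, rfl⟩
    obtain ⟨φ, hφker, hφ⟩ := exists_hom P (fun m hm => hsym m (hpres m hm))
    let eM := (QuotientGroup.quotientMulEquivOfEq hφker.symm).trans (QuotientGroup.quotientKerEquivRange φ)
    rcases hdich _ (hsup M hGM φ hφ) with h | h
    · exact Or.inl ⟨eM.trans ((MulEquiv.subgroupCongr h).trans epsl)⟩
    · exact Or.inr ⟨eM.trans ((MulEquiv.subgroupCongr h).trans Subgroup.topEquiv)⟩

end CfsgLib.Geo.D3
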