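/-
Extension of the field until all characteristic polynomials split.
-/
import Cfsg.Agent.Geo.DimThree.Core
import Cfsg.Agent.Geo.DimThree.ShapeSmall
import Cfsg.Agent.Geo.DimThree.NoTv.Traces
import Mathlib.FieldTheory.SplittingField.Construction

set_option autoImplicit false
set_option linter.style.haveILetI false

namespace CfsgLib.Geo.D3

open Matrix Cfsg Cfsg.Geo CfsgLib.Geo Polynomial

universe u

variable {F : Type u} [Field F] {Ht P : Subgroup (GL (Fin 3) F)}

/-- A group spanning the whole matrix algebra is absolutely irreducible. -/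
lemma absIrred_of_span {S : Set (Matrix (Fin 3) (Fin 3) F)} (hS : Submodule.span F S = ⊤) :
    ActsAbsolutelyIrreducibly S := by
  refine ⟨fun W hW => ?_, fun M hM => ?_⟩
  · let T : Submodule F (Matrix (Fin 3) (Fin 3) F) :=
      { carrier := {X | ∀ w ∈ W, X *ᵥ w ∈ W}
        add_mem' := fun ha hb w hw => by rw [Matrix.add_mulVec]; exact add_mem (ha w hw) (hb w hw)
        zero_mem' := fun w _ => by rw [Matrix.zero_mulVec]; exact zero_mem _
        smul_mem' := fun c X hX w hw => by rw [Matrix.smul_mulVec]; exact W.smul_mem c (hX w hw) }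
    have hall : ∀ X, X ∈ T := fun X => by
      have h1 : Submodule.span F S ≤ T := Submodule.span_le.2 fun s hs w hw => by
        simpa [Matrix.toLin'_apply] using hW s hs ⟨w, hw, rfl⟩
      exact h1 (hS ▸ Submodule.mem_top)
    rcases eq_or_ne W ⊥ with h | h
    · exact Or.inl h
    · obtain ⟨v, hv, hv0⟩ := (Submodule.ne_bot_iff W).1 h
      obtain ⟨i, hi⟩ := Function.ne_iff.1 hv0
      refine Or.inr (eq_top_iff.2 fun w _ => ?_)
      have := hall (Matrix.vecMulVec w (Pi.single i (v i)⁻¹)) v hv
      rwa [Matrix.vecMulVec_mulVec, single_dotProduct, inv_mul_cancel₀ hi, MulOpposite.op_one, one_smul] at this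
  · have hall : ∀ X, M * X = X * M := fun X => by
      have hX : X ∈ Submodule.span F S := hS ▸ Submodule.mem_top
      induction hX using Submodule.span_induction with
      | mem x hx => exact hM x hx
      | zero => simp
      | add a b _ _ ha hb => rw [mul_add, add_mul, ha, hb]
      | smul c a _ ha => rw [mul_smul_comm, smul_mul_assoc, ha]
    obtain ⟨c, hc⟩ := Matrix.mem_range_scalar_of_commute_single (M := M) fun i j _ => (hall _).symm
    exact ⟨c, by rw [← hc, Matrix.smul_one_eq_diagonal]; rfl⟩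

/-- The image of an absolutely irreducible group over a larger field is absolutely irreducible. -/
lemma absIrred_map {L : Type u} [Field L] (ι : F →+* L) (hP : ActsAbsolutelyIrreducibly (matrixSet P)) :
    ActsAbsolutelyIrreducibly (matrixSet (P.map (Matrix.GeneralLinearGroup.map (n := Fin 3) ι))) := by
  refine absIrred_of_span (eq_top_iff.2 ?_)
  set S := matrixSet (P.map (Matrix.GeneralLinearGroup.map (n := Fin 3) ι))
  have key : ∀ X : Matrix (Fin 3) (Fin 3) F, X.map ι ∈ Submodule.span L S := fun X => by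
    have hX : X ∈ Submodule.span F (matrixSet P) := span_matrixSet_eq_top hP ▸ Submodule.mem_top
    induction hX using Submodule.span_induction with
    | mem x hx =>
      obtain ⟨g, hg, rfl⟩ := hx
      exact Submodule.subset_span ⟨_, Subgroup.mem_map_of_mem _ hg, rfl⟩
    | zero => rw [Matrix.map_zero _ (map_zero ι)]; exact zero_mem _
    | add a b _ _ ha hb => rw [Matrix.map_add _ (map_add ι)]; exact add_mem ha hb
    | smul c a _ ha =>
      have e : (c • a).map ι = ι c • a.map ι := by ext i j; simp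
      rw [e]; exact Submodule.smul_mem _ _ ha
  intro X _
  rw [Matrix.matrix_eq_sum_single X]
  refine Submodule.sum_mem _ fun i _ => Submodule.sum_mem _ fun j _ => ?_
  have e : Matrix.single i j (X i j) = X i j • (Matrix.single i j (1 : F)).map ι := by
    ext a b
    by_cases h : i = a ∧ j = b <;> simp [Matrix.single, Matrix.map_apply, h]
  rw [e]
  exact Submodule.smul_mem _ _ (key _)

/-- Extension of the field preserves the standing hypotheses. -/
theorem noTv_map {L : Type u} [Field L] (ι : F →+* L) (hC : Core Ht P) (h2 : (2 : F) ≠ 0)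
    (htv : ∀ v φ : Fin 3 → F, v ≠ 0 → φ ≠ 0 → ¬ HasTv P v φ)
    (hsplit : ∀ G ∈ P.map (Matrix.GeneralLinearGroup.map (n := Fin 3) ι),
      ((G : GL (Fin 3) L) : Matrix (Fin 3) (Fin 3) L).charpoly.Splits) :
    NoTv (P.map (Matrix.GeneralLinearGroup.map (n := Fin 3) ι)) := by
  haveI := hC.simple
  obtain ⟨e⟩ := pro_map_fieldHom ι P
  refine ⟨?_, ?_, fun hc => hC.nonabelian ⟨⟨fun a b => e.injective ?_⟩⟩, absIrred_map ι hC.absIrred, ?_, ?_, hsplit⟩
  · rw [← Subgroup.map_commutator, hC.perfect]
  · exact e.isSimpleGroup_congr.1 hC.simple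
  · rw [map_mul, map_mul]; exact hc.is_comm.comm (e a) (e b)
  · intro h
    exact h2 (ι.injective (by rw [map_ofNat, map_zero]; exact h))
  · rintro v φ hv hφ ⟨hd, hmem⟩
    obtain ⟨g, hg, he⟩ := Subgroup.mem_map.1 hmem
    set N : Matrix (Fin 3) (Fin 3) F := (g : Matrix (Fin 3) (Fin 3) F) - 1 with hN
    have hNv : N.map ι = Matrix.vecMulVec v φ := by
      have h1 : ((g : Matrix (Fin 3) (Fin 3) F)).map ι = 1 + Matrix.vecMulVec v φ := by
        rw [← tvec_val v φ hd, ← he]; rfl
      rw [hN, Matrix.map_sub _ (map_sub ι), h1, Matrix.map_one _ (map_zero ι) (map_one ι), add_sub_cancel_left]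
    have hinj : Function.Injective (fun M : Matrix (Fin 3) (Fin 3) F => M.map ι) :=
      Matrix.map_injective ι.injective
    have hN2 : N * N = 0 := hinj (by
      simp only [Matrix.map_mul, Matrix.map_zero _ (map_zero ι)]
      rw [hNv, Matrix.vecMulVec_mul_vecMulVec, hd, zero_smul]
      simp)
    have hN0 : N ≠ 0 := fun e0 => by
      rw [e0, Matrix.map_zero _ (map_zero ι)] at hNv
      obtain ⟨i, hi⟩ := Function.ne_iff.1 hv
      obtain ⟨j, hj⟩ := Function.ne_iff.1 hφ
      exact mul_ne_zero hi hj (by simpa [Matrix.vecMulVec_apply] using (congrFun (congrFun hNv i) j).symm)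
    obtain ⟨v', φ', hv', hφ', hd', hNe⟩ := exists_vecMulVec_of_sq_zero hN0 hN2
    refine htv v' φ' hv' hφ' ⟨hd', ?_⟩
    have : g = tvec v' φ' hd' := Units.ext (by rw [tvec_val, ← hNe, hN]; abel)
    exact this ▸ hg

/-- A finite field in which a given polynomial splits. -/
lemma exists_split_field [Finite F] (f : F[X]) :
    ∃ (L : Type u) (_ : Field L) (_ : Fintype L) (ι : F →+* L), (f.map ι).Splits := by
  haveI : Finite f.SplittingField := Module.finite_of_finite F
  exact ⟨f.SplittingField, inferInstance, Fintype.ofFinite _, algebraMap F f.SplittingField,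
    SplittingField.splits f⟩

/-- A polynomial divisible by all characteristic polynomials. -/
lemma exists_all_charpoly [Finite F] (P : Subgroup (GL (Fin 3) F)) :
    ∃ f : F[X], f ≠ 0 ∧ ∀ g ∈ P, (g : Matrix (Fin 3) (Fin 3) F).charpoly ∣ f := by
  classical
  obtain ⟨s, hs⟩ : ∃ s : Finset (GL (Fin 3) F), ∀ g ∈ P, g ∈ s :=
    ⟨(Set.toFinite (P : Set (GL (Fin 3) F))).toFinset, fun g hg => (Set.Finite.mem_toFinset _).2 hg⟩
  exact ⟨∏ g ∈ s, (g : Matrix (Fin 3) (Fin 3) F).charpoly,
    (monic_prod_of_monic _ _ fun g _ => Matrix.charpoly_monic _).ne_zero,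
    fun g hg => Finset.dvd_prod_of_mem (fun g : GL (Fin 3) F => (g : Matrix (Fin 3) (Fin 3) F).charpoly) (hs g hg)⟩

/-- A group without transvections satisfies the standing hypotheses over a splitting field. -/
theorem exists_splitting [Finite F] (hC : Core Ht P) (h2 : (2 : F) ≠ 0)
    (htv : ∀ v φ : Fin 3 → F, v ≠ 0 → φ ≠ 0 → ¬ HasTv P v φ) :
    ∃ (L : Type u) (_ : Field L) (_ : Fintype L) (ι : F →+* L),
      NoTv (P.map (Matrix.GeneralLinearGroup.map (n := Fin 3) ι)) ∧
      Nat.card (Pro (P.map (Matrix.GeneralLinearGroup.map (n := Fin 3) ι))) = Nat.card (Pro P) := by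
  obtain ⟨f, hf0, hdvd⟩ := exists_all_charpoly P
  obtain ⟨L, iL, iF, ι, hs⟩ := exists_split_field f
  refine ⟨L, iL, iF, ι, noTv_map ι hC h2 htv ?_, card_pro_map ι P⟩
  intro G hG
  obtain ⟨g, hg, rfl⟩ := Subgroup.mem_map.1 hG
  have hch : ((Matrix.GeneralLinearGroup.map (n := Fin 3) ι g : GL (Fin 3) L) :
      Matrix (Fin 3) (Fin 3) L).charpoly =
      ((g : Matrix (Fin 3) (Fin 3) F).charpoly).map ι := Matrix.charpoly_map _ ι
  rw [hch]
  exact hs.of_dvd (Polynomial.map_ne_zero hf0) (Polynomial.map_dvd ι (hdvd g hg))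

end CfsgLib.Geo.D3
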