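/-
A subgroup with core `L2(7)` is not maximal in `SU3(5)`: it lies in a conjugate of a group of lines, `3.A7`.
-/
import Cfsg.Agent.Geo.DimThree.CertU35.Model
import Cfsg.Agent.Geo.DimThree.CertU35.Bounds
import Cfsg.Agent.Geo.DimThree.NoTv.Defs
import Cfsg.Agent.Geo.DimThree.NoTv.Traces
import Cfsg.Agent.Geo.UnitTv
import Cfsg.Agent.InvChar.OneSixtyEight

set_option autoImplicit false
set_option linter.unusedSectionVars false
set_option linter.style.haveILetI false
set_option linter.deprecated false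

namespace CfsgLib.Geo.D3.CertU35

open Matrix Cfsg Cfsg.Geo CfsgLib.Geo CfsgLib.Geo.UTv
open scoped commutatorElement

variable {F : Type*} [Field F]

local notation "Mat" => Matrix (Fin 3) (Fin 3) F

/-- A matrix commuting with the model is scalar. -/
lemma scalar_of_comm {e : F} (hr : Root e) (A : Mat)
    (h : ∀ X, A * ((rho hr X : GL (Fin 3) F) : Mat) = ((rho hr X : GL (Fin 3) F) : Mat) * A) :
    ∃ c : F, A = c • (1 : Mat) := by
  have hall : ∀ Z : Mat, A * Z = Z * A := by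
    intro Z
    have hZ : Z ∈ Submodule.span F (Set.range fun X => ((rho hr X : GL (Fin 3) F) : Mat)) :=
      (rho_span hr) ▸ Submodule.mem_top
    induction hZ using Submodule.span_induction with
    | mem Z hZ => obtain ⟨X, rfl⟩ := hZ; exact h X
    | zero => simp
    | add a b _ _ ha hb => rw [mul_add, add_mul, ha, hb]
    | smul c a _ ha => rw [mul_smul_comm, smul_mul_assoc, ha]
  obtain ⟨c, hc⟩ := Matrix.mem_range_scalar_of_commute_single (M := A) fun i j _ => (hall _).symm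
  exact ⟨c, by rw [← hc, Matrix.smul_one_eq_diagonal]; rfl⟩

/-- Trivial modulo scalars. -/
lemma pro_eq_one {G : Subgroup (GL (Fin 3) F)} {g : G} :
    toPro G g = 1 ↔ (g : GL (Fin 3) F) ∈ scalars (Fin 3) F := by
  rw [QuotientGroup.mk'_apply, QuotientGroup.eq_one_iff, Subgroup.mem_subgroupOf]

/-- Scalars are central. -/
lemma commute_scalar {z : GL (Fin 3) F} (hz : z ∈ scalars (Fin 3) F) (g : GL (Fin 3) F) : Commute z g := by
  obtain ⟨c, hc⟩ := (mem_scalars_iff z).1 hz
  exact Units.ext (by simp [hc])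

variable [Finite F] (hF : Nat.card F = 5 ^ 2)

/-- The Gram matrix of the columns. -/
noncomputable def gram (A : Mat) : Mat := Aᵀ * A.map (frobEquiv hF)

include hF

lemma gram_mul (A B : Mat) : gram hF (A * B) = Bᵀ * gram hF A * B.map (frobEquiv hF) := by
  simp only [gram, Matrix.transpose_mul, Matrix.map_mul, mul_assoc]

lemma gram_smul (c : F) (A : Mat) : gram hF (c • A) = (c * frobEquiv hF c) • gram hF A := by
  rw [gram, gram, Matrix.transpose_smul, show (c • A).map (frobEquiv hF) = frobEquiv hF c • A.map (frobEquiv hF) by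
    ext i j; simp, smul_mul_assoc, mul_smul_comm, smul_smul]

lemma mem_GU_gram {g : GL (Fin 3) F} : g ∈ Cfsg.GU 3 F 5 ↔ gram hF (g : Mat) = 1 := by
  rw [mem_GU]
  have h1 : ∀ x y : Fin 3 → F, Cfsg.hermForm 3 F 5 x y = x ⬝ᵥ (frobEquiv hF ∘ y) := fun x y =>
    Finset.sum_congr rfl fun i _ => by rw [Function.comp_apply, frobEquiv_apply]
  have h2 : ∀ x y : Fin 3 → F, Cfsg.hermForm 3 F 5 ((g : Mat) *ᵥ x) ((g : Mat) *ᵥ y) =
      x ⬝ᵥ (gram hF (g : Mat) *ᵥ (frobEquiv hF ∘ y)) := fun x y => by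
    have h3 : (frobEquiv hF ∘ ((g : Mat) *ᵥ y)) = (g : Mat).map (frobEquiv hF) *ᵥ (frobEquiv hF ∘ y) :=
      funext fun i => RingHom.map_mulVec (frobEquiv hF).toRingHom (g : Mat) y i
    rw [h1, h3, gram, ← Matrix.mulVec_mulVec, Matrix.dotProduct_mulVec x, Matrix.vecMul_transpose]
  refine ⟨fun h => Matrix.ext fun i j => ?_, fun h x y => by rw [h2, h, Matrix.one_mulVec, h1]⟩
  have e := h (Pi.single i 1) (Pi.single j 1)
  have hs : (frobEquiv hF ∘ (Pi.single j 1 : Fin 3 → F)) = Pi.single j 1 := funext fun k => by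
    rcases eq_or_ne k j with rfl | hk
    · simp
    · simp [hk]
  rw [h2, h1, hs, Matrix.mulVec_single_one] at e
  simpa [Matrix.one_apply, Pi.single_apply, eq_comm] using e

lemma gram_mul_left {u : GL (Fin 3) F} (hu : u ∈ Cfsg.GU 3 F 5) (A : Mat) :
    gram hF ((u : Mat) * A) = gram hF A := by
  rw [gram_mul, (mem_GU_gram hF).1 hu, mul_one, gram]

lemma det_gram (A : Mat) : (gram hF A).det = A.det * frobEquiv hF A.det := by
  rw [gram, Matrix.det_mul, Matrix.det_transpose,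
    show A.map (frobEquiv hF) = (frobEquiv hF : F →+* F).mapMatrix A from rfl, ← RingHom.map_det]
  rfl

lemma gram_apply_swap (A : Mat) (i j : Fin 3) : frobEquiv hF (gram hF A i j) = gram hF A j i := by
  have hinv := (isUnitaryForm hF (n := 3)).involutive
  simp only [gram, Matrix.mul_apply, Matrix.transpose_apply, Matrix.map_apply, map_sum, map_mul, hinv]
  exact Finset.sum_congr rfl fun k _ => mul_comm _ _

lemma gram_toM {e : F} (hr : Root e) (A : Mx) : gram hF (toM e A) = toM e (gm A) := by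
  rw [hr.toM_gm, gram]
  congr 1

omit [Finite F] hF in
lemma mem_sl {g : GL (Fin 3) F} : g ∈ specialLinear (Fin 3) F ↔ (g : Mat).det = 1 := by
  rw [specialLinear, MonoidHom.mem_ker, Units.ext_iff]
  rfl

lemma mem_U_of_code {e : F} (hr : Root e) {g : GL (Fin 3) F} {A : Mx} (hg : (g : Mat) = toM e A)
    (h1 : gm A = idM) (h2 : dt A = 1) : g ∈ Cfsg.GU 3 F 5 ⊓ specialLinear (Fin 3) F :=
  ⟨(mem_GU_gram hF).2 (by rw [hg, gram_toM hF hr, h1, toM_id]),
    mem_sl.2 (by rw [hg, hr.det_toM, h2, toF_one])⟩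

lemma rho_mem_U {e : F} (hr : Root e) (X : SL7) :
    rho hr X ∈ Cfsg.GU 3 F 5 ⊓ specialLinear (Fin 3) F := by
  induction mem_closure X using Submonoid.closure_induction with
  | mem z hz =>
    obtain ⟨u1, u2, -, -, d1, d2, -, -⟩ := check_unitary
    rcases hz with rfl | rfl
    · exact mem_U_of_code hF hr (rho_U1 hr) u1 d1
    · exact mem_U_of_code hF hr (rho_W hr) u2 d2
  | one => rw [map_one]; exact one_mem _
  | mul a b _ _ ha hb => rw [map_mul]; exact mul_mem ha hb

omit [Finite F] hF in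
/-- The elements normalising the model are, up to scalars, in it. -/
lemma normalizer_rho {e : F} (hr : Root e) {g : GL (Fin 3) F}
    (h : ∀ X, ∃ Y, g * rho hr X * g⁻¹ = rho hr Y) :
    ∃ Y, ∃ z ∈ scalars (Fin 3) F, g = rho hr Y * z := by
  obtain ⟨X, hX⟩ := h U1
  obtain ⟨c0, c1, c2, c3, c4, c5⟩ := check_rep_trace
  have htr : ∀ {a b c d : ℕ}, a < 7 → b < 7 → c < 7 → d < 7 → (a * d + 6 * b * c) % 7 = 1 →
      ((rho hr (mk7 (a, b, c, d)) : GL (Fin 3) F) : Mat).trace = toF e (tr (tb a b c d)) :=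
    fun ha hb hc hd hs => by rw [rho_val, rhoMat, quad_mk ha hb hc hd hs, hr.trace_toM]
  have ht := trace_repr (rho hr) (rho_neg_one hr) X
  rw [← hX, Units.val_mul, Units.val_mul, Matrix.trace_units_conj] at ht
  obtain ⟨Y, hY⟩ := conj_repr (rho hr) (rho_neg_one hr) X
  generalize hk : repr (quad X).1 (quad X).2.1 (quad X).2.2.1 (quad X).2.2.2 = k at ht hY
  have hk6 : k < 6 := by rw [← hk]; exact Nat.mod_lt _ (by norm_num)
  have hU : mk7 (rep k) = U1 := by
    have t : ∀ (a b c d m : ℕ), a < 7 → b < 7 → c < 7 → d < 7 → (a * d + 6 * b * c) % 7 = 1 →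
        tr (tb a b c d) = m → rep k = (a, b, c, d) → toF e 7 = toF e m := by
      intro a b c d m ha hb hc hd hs hm hrep
      rw [hrep, htr ha hb hc hd hs, hm] at ht
      rw [← ht, show U1 = mk7 (1, 1, 0, 1) from rfl,
        htr (by norm_num) (by norm_num) (by norm_num) (by norm_num) (by norm_num), c4]
    have hne : ∀ m, m < 25 → toF e 7 = toF e m → 7 = m := fun m hm => hr.toF_inj (by norm_num) hm
    rcases (show k = 0 ∨ k = 1 ∨ k = 2 ∨ k = 3 ∨ k = 4 ∨ k = 5 by omega) with h' | h' | h' | h' | h' | h'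
    · exact absurd (hne 3 (by norm_num) (t 1 0 0 1 3 (by norm_num) (by norm_num) (by norm_num) (by norm_num)
        (by norm_num) c0 (by rw [h']; rfl))) (by norm_num)
    · exact absurd (hne 4 (by norm_num) (t 0 6 1 0 4 (by norm_num) (by norm_num) (by norm_num) (by norm_num)
        (by norm_num) c1 (by rw [h']; rfl))) (by norm_num)
    · exact absurd (hne 0 (by norm_num) (t 0 6 1 1 0 (by norm_num) (by norm_num) (by norm_num) (by norm_num)
        (by norm_num) c2 (by rw [h']; rfl))) (by norm_num)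
    · exact absurd (hne 1 (by norm_num) (t 0 6 1 3 1 (by norm_num) (by norm_num) (by norm_num) (by norm_num)
        (by norm_num) c3 (by rw [h']; rfl))) (by norm_num)
    · rw [h']; rfl
    · exact absurd (hne 22 (by norm_num) (t 1 6 0 1 22 (by norm_num) (by norm_num) (by norm_num) (by norm_num)
        (by norm_num) c5 (by rw [h']; rfl))) (by norm_num)
  rw [hU, ← hX] at hY
  obtain ⟨g1, hg1⟩ : ∃ g1, g1 = (rho hr Y)⁻¹ * g := ⟨_, rfl⟩
  have hc1 : Commute g1 (rho hr U1) := by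
    have e1 : g * rho hr U1 = rho hr Y * rho hr U1 * (rho hr Y)⁻¹ * g := mul_inv_eq_iff_eq_mul.1 hY
    show g1 * _ = _ * g1
    rw [hg1, mul_assoc, e1]
    group
  obtain ⟨V, hV⟩ : ∃ V, g1 * rho hr W * g1⁻¹ = rho hr V := by
    obtain ⟨V, hV⟩ := h W
    refine ⟨Y⁻¹ * V * Y, ?_⟩
    rw [map_mul, map_mul, map_inv, ← hV, hg1]
    group
  have hV2 : rho hr V * rho hr V = 1 := by
    have hW2 : rho hr W * rho hr W = 1 := by rw [← map_mul, W_sq, rho_neg_one]
    rw [← hV, show g1 * rho hr W * g1⁻¹ * (g1 * rho hr W * g1⁻¹) = g1 * (rho hr W * rho hr W) * g1⁻¹ by group,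
      hW2]
    group
  have hV3 : rho hr V * rho hr U1 * (rho hr V * rho hr U1 * (rho hr V * rho hr U1)) = 1 := by
    have hW3 : rho hr W * rho hr U1 * (rho hr W * rho hr U1 * (rho hr W * rho hr U1)) = 1 := by
      simp only [← map_mul]
      rw [show W * U1 * (W * U1 * (W * U1)) = -1 from
        quad_injective (by rw [quad_neg, quad_one]; simp only [quad_mul, quad_W, quad_U1]; decide), rho_neg_one]
    have e1 : rho hr V * rho hr U1 = g1 * (rho hr W * rho hr U1) * g1⁻¹ := by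
      rw [← hV, mul_assoc (g1 * rho hr W), show g1⁻¹ * rho hr U1 = rho hr U1 * g1⁻¹ from hc1.inv_left.eq]
      group
    rw [e1, show ∀ x : GL (Fin 3) F, g1 * x * g1⁻¹ * (g1 * x * g1⁻¹ * (g1 * x * g1⁻¹)) =
      g1 * (x * (x * x)) * g1⁻¹ from fun x => by group, hW3]
    group
  have hc := allSL_quad check_cent V
  have hv : ∀ Z, ((rho hr Z : GL (Fin 3) F) : Mat) = toM e (tb (quad Z).1 (quad Z).2.1 (quad Z).2.2.1
      (quad Z).2.2.2) := fun Z => rfl
  have e2 : mm (tb (quad V).1 (quad V).2.1 (quad V).2.2.1 (quad V).2.2.2)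
      (tb (quad V).1 (quad V).2.1 (quad V).2.2.1 (quad V).2.2.2) = idM := by
    refine hr.toM_inj (red_mm _ _) red_id ?_
    rw [hr.toM_mm, toM_id, ← hv, ← Units.val_mul, hV2, Units.val_one]
  have e3 : mm (mm (tb (quad V).1 (quad V).2.1 (quad V).2.2.1 (quad V).2.2.2) Tm)
      (mm (mm (tb (quad V).1 (quad V).2.1 (quad V).2.2.1 (quad V).2.2.2) Tm)
        (mm (tb (quad V).1 (quad V).2.1 (quad V).2.2.1 (quad V).2.2.2) Tm)) = idM := by
    refine hr.toM_inj (red_mm _ _) red_id ?_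
    simp only [hr.toM_mm, toM_id, ← hv, ← rho_U1 hr, ← Units.val_mul]
    rw [hV3, Units.val_one]
  simp only [e2, e3, Bool.or_eq_true, List.any_eq_true, List.mem_range, beq_iff_eq, beq_self_eq_true,
    Bool.and_self, Bool.not_true, Bool.false_eq_true, false_or] at hc
  obtain ⟨j, hj, hjV⟩ := hc
  have hUj : rho hr V = rho hr (U1 ^ j) * rho hr W * (rho hr (U1 ^ j))⁻¹ := by
    have hinv : (rho hr (U1 ^ j))⁻¹ = rho hr (U1 ^ ((7 - j) % 7)) := by
      refine inv_eq_of_mul_eq_one_right ?_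
      rw [← map_mul, ← pow_add, pow_eq_pow_mod _ U1_pow_seven,
        show (j + (7 - j) % 7) % 7 = 0 by omega, pow_zero, map_one]
    rw [hinv]
    refine Units.ext ?_
    rw [Units.val_mul, Units.val_mul, hv V, hjV, hr.toM_mm, hr.toM_mm, rho_W hr, mul_assoc, hv (U1 ^ j),
      hv (U1 ^ ((7 - j) % 7)), quad_U1_pow, quad_U1_pow, Nat.mod_eq_of_lt hj, Nat.mod_mod]
  obtain ⟨g2, hg2⟩ : ∃ g2, g2 = (rho hr (U1 ^ j))⁻¹ * g1 := ⟨_, rfl⟩
  have hcomm : ∀ Z, Commute g2 (rho hr Z) := by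
    intro Z
    induction mem_closure Z using Submonoid.closure_induction with
    | mem z hz =>
      rcases hz with rfl | rfl
      · rw [hg2, map_pow]
        exact ((Commute.refl (rho hr U1)).pow_left j).inv_left.mul_left hc1
      · have e4 : g1 * rho hr W = rho hr V * g1 := mul_inv_eq_iff_eq_mul.1 hV
        show g2 * _ = _ * g2
        rw [hg2, mul_assoc, e4, hUj]
        group
    | one => rw [map_one]; exact Commute.one_right _
    | mul a b _ _ ha hb => rw [map_mul]; exact ha.mul_right hb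
  obtain ⟨c, hc'⟩ := scalar_of_comm hr (g2 : Mat) fun Z => congrArg Units.val (hcomm Z).eq
  have hc0 : c ≠ 0 := fun e0 => g2.ne_zero (by rw [hc', e0, zero_smul])
  refine ⟨Y * U1 ^ j, g2, (mem_scalars_iff _).2 ⟨Units.mk0 c hc0, hc'⟩, ?_⟩
  rw [hg2, hg1, map_mul]
  group

omit hF in
/-- A perfect subgroup of determinant one whose image modulo scalars has Sylow three-subgroups of order at most
three meets the scalars trivially. -/
lemma scalar_trivial {P : Subgroup (GL (Fin 3) F)} (hperf : ⁅P, P⁆ = P) (hle : P ≤ specialLinear (Fin 3) F)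
    (h9 : ¬ 9 ∣ Nat.card (Pro P)) (z : P) (hz : toPro P z = 1) : z = 1 := by
  classical
  haveI : Fact (Nat.Prime 3) := ⟨Nat.prime_three⟩
  have h3 : z ^ 3 = 1 := by
    obtain ⟨c, hc⟩ := (mem_scalars_iff _).1 (pro_eq_one.1 hz)
    have hd := mem_sl.1 (hle z.2)
    rw [hc, Matrix.det_smul, Matrix.det_one, mul_one, Fintype.card_fin] at hd
    refine Subtype.ext (Units.ext ?_)
    rw [Subgroup.coe_pow, Units.val_pow_eq_pow_val, hc, smul_pow, one_pow, hd, one_smul]
    rfl
  have hcen : ∀ u : P, toPro P u = 1 → ∀ v : P, Commute u v := fun u hu v =>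
    Subtype.ext (commute_scalar (pro_eq_one.1 hu) _)
  obtain ⟨Q, hQ⟩ := IsPGroup.exists_le_sylow (P := Subgroup.zpowers z) (p := 3) (fun w => ⟨1, by
    obtain ⟨k, hk⟩ := w.2
    apply Subtype.ext
    have hk' : z ^ k = (w : P) := hk
    rw [pow_one, Subgroup.coe_pow, Subgroup.coe_one, ← hk', ← zpow_natCast, ← _root_.zpow_mul, mul_comm,
      _root_.zpow_mul, zpow_natCast, h3, _root_.one_zpow]⟩)
  let f : (Q : Subgroup P) →* Pro P := (toPro P).comp (Q : Subgroup P).subtype
  have hp : IsPGroup 3 f.range := fun w => by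
    obtain ⟨w, u, rfl⟩ := w
    obtain ⟨k, hk⟩ := Q.2 u
    exact ⟨k, Subtype.ext (by rw [Subgroup.coe_pow, Subgroup.coe_one]; show f u ^ _ = 1; rw [← map_pow, hk, map_one])⟩
  obtain ⟨k, hk⟩ := IsPGroup.iff_card.1 hp
  have hk1 : k ≤ 1 := by
    by_contra hc
    refine h9 (dvd_trans ?_ (hk ▸ Subgroup.card_subgroup_dvd_card f.range))
    exact (pow_dvd_pow 3 (show 2 ≤ k by omega) : 3 ^ 2 ∣ 3 ^ k)
  haveI : IsCyclic f.range := by
    rcases (show k = 0 ∨ k = 1 by omega) with rfl | rfl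
    · haveI : Subsingleton f.range := (Nat.card_eq_one_iff_unique.1 (by rw [hk, pow_zero])).1
      infer_instance
    · exact isCyclic_of_prime_card (p := 3) (by rw [hk, pow_one])
  have hcomm : ∀ a b : (Q : Subgroup P), a * b = b * a :=
    commutative_of_cyclic_center_quotient f.rangeRestrict fun u hu => by
      rw [MonoidHom.ker_rangeRestrict] at hu
      exact Subgroup.mem_center_iff.2 fun v => Subtype.ext (hcen (u : P) hu (v : P)).eq.symm
  letI : CommGroup (Q : Subgroup P) :=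
    { (inferInstance : Group (Q : Subgroup P)) with mul_comm := hcomm }
  have key : ∀ (k : ℕ) (g₀ : P), g₀⁻¹ * z ^ k * g₀ ∈ (Q : Subgroup P) → g₀⁻¹ * z ^ k * g₀ = z ^ k :=
    fun k g₀ _ => by rw [mul_assoc, ((hcen z hz g₀).pow_left k).eq, inv_mul_cancel_left]
  have htop : commutator P = ⊤ := by
    refine Subgroup.map_injective P.subtype_injective ?_
    rw [commutator_def, Subgroup.map_commutator, ← MonoidHom.range_eq_map, Subgroup.range_subtype, hperf]
  have h1 : MonoidHom.transfer (MonoidHom.id (Q : Subgroup P)) z = 1 := by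
    have hz' : z ∈ commutator P := htop ▸ Subgroup.mem_top z
    exact MonoidHom.mem_ker.1 (Abelianization.commutator_subset_ker _ hz')
  rw [MonoidHom.transfer_eq_pow _ z key, MonoidHom.id_apply] at h1
  have h2 : z ^ (Q : Subgroup P).index = 1 := congrArg Subtype.val h1
  have := pow_gcd_eq_one.2 ⟨h3, h2⟩
  rwa [show Nat.gcd 3 (Q : Subgroup P).index = 1 from
    (Nat.prime_three.coprime_iff_not_dvd.2 Q.not_dvd_index), pow_one] at this

omit [Finite F] hF in
lemma center_cases {X : SL7} (hX : X ∈ Subgroup.center SL7) : X = 1 ∨ X = -1 := by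
  have h := allSL_quad check_centre X
  have hU := congrArg quad (Subgroup.mem_center_iff.1 hX U1)
  have hW := congrArg quad (Subgroup.mem_center_iff.1 hX W)
  rw [quad_mul, quad_mul, quad_U1] at hU
  rw [quad_mul, quad_mul, quad_W] at hW
  simp only [Prod.mk.eta, hU, hW, beq_self_eq_true, Bool.and_self, Bool.not_true, Bool.false_or,
    Bool.or_eq_true, beq_iff_eq] at h
  exact h.imp (fun e => quad_injective (e.trans quad_one.symm))
    fun e => quad_injective (by rw [e, quad_neg, quad_one]; rfl)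

omit [Finite F] hF in
lemma neg_one_mem_center : (-1 : SL7) ∈ Subgroup.center SL7 :=
  Subgroup.mem_center_iff.2 fun g => by rw [mul_neg_one, neg_one_mul]

/-- The representation attached to the core. -/
lemma exists_hom {P : Subgroup (GL (Fin 3) F)} (hperf : ⁅P, P⁆ = P) (hle : P ≤ specialLinear (Fin 3) F)
    (hsimple : IsSimpleGroup (Pro P)) (h : Nat.card (Pro P) = 168) :
    ∃ φ : SL7 →* GL (Fin 3) F, φ.range = P ∧ φ (-1) = 1 ∧
      ∀ X, X ≠ 1 → X ≠ -1 → ∀ c : F, ((φ X : GL (Fin 3) F) : Mat) ≠ c • 1 := by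
  haveI := hsimple
  have hbij : Function.Bijective (toPro P) :=
    ⟨(injective_iff_map_eq_one _).2 fun z hz => scalar_trivial hperf hle (by rw [h]; norm_num) z hz,
      QuotientGroup.mk'_surjective _⟩
  obtain ⟨ε⟩ := CfsgLib.InvChar.iso_psl_zmod_seven h
  let ψ := ((MulEquiv.ofBijective (toPro P) hbij).trans ε).symm
  let φ : SL7 →* GL (Fin 3) F :=
    P.subtype.comp (ψ.toMonoidHom.comp (QuotientGroup.mk' (Subgroup.center SL7)))
  have hker : ∀ X, φ X = 1 → X ∈ Subgroup.center SL7 := by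
    intro X hX
    have h1 : ψ (QuotientGroup.mk' (Subgroup.center SL7) X) = 1 := Subtype.ext hX
    rw [map_eq_one_iff _ ψ.injective] at h1
    exact (QuotientGroup.eq_one_iff X).1 h1
  refine ⟨φ, ?_, ?_, ?_⟩
  · refine le_antisymm (fun y hy => ?_) fun y hy => ?_
    · obtain ⟨X, rfl⟩ := hy
      exact (ψ (QuotientGroup.mk' _ X)).2
    · obtain ⟨X, hX⟩ := (ψ.surjective.comp (QuotientGroup.mk'_surjective (Subgroup.center SL7))) ⟨y, hy⟩
      exact ⟨X, congrArg Subtype.val hX⟩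
  · show ((ψ (QuotientGroup.mk' (Subgroup.center SL7) (-1)) : P) : GL (Fin 3) F) = 1
    rw [show QuotientGroup.mk' (Subgroup.center SL7) (-1) = 1 from
      (QuotientGroup.eq_one_iff _).2 neg_one_mem_center, map_one]
    rfl
  · intro X h1 h2 c hc
    refine (center_cases (hker X ?_)).elim h1 h2
    set w : P := ψ (QuotientGroup.mk' (Subgroup.center SL7) X) with hw
    have hw' : ((w : GL (Fin 3) F) : Mat) = c • 1 := hc
    have hc0 : c ≠ 0 := fun e0 => (w : GL (Fin 3) F).ne_zero (by rw [hw', e0, zero_smul])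
    have := scalar_trivial hperf hle (by rw [h]; norm_num) w
      (pro_eq_one.2 ((mem_scalars_iff _).2 ⟨Units.mk0 c hc0, hw'⟩))
    show (w : GL (Fin 3) F) = 1
    rw [this]
    rfl

end CfsgLib.Geo.D3.CertU35

namespace CfsgLib.Geo.D3

open Matrix Cfsg Cfsg.Geo CfsgLib.Geo CfsgLib.Geo.UTv CertU35

theorem psl27_not_maximal {F : Type*} [Field F] [Fintype F] (hF : Fintype.card F = 5 ^ 2)
    {H P : Subgroup (GL (Fin 3) F)} (hH : IsMaximalIn (Cfsg.GU 3 F 5 ⊓ specialLinear (Fin 3) F) H)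
    (hP : IsResidualCore H P) (h : Nat.card (Pro P) = 168) : False := by
  classical
  set U := Cfsg.GU 3 F 5 ⊓ specialLinear (Fin 3) F with hUdef
  have hF' : Nat.card F = 5 ^ 2 := by rw [Nat.card_eq_fintype_card, hF]
  have h5 : (5 : F) = 0 := by
    have h0 : ((Fintype.card F : ℕ) : F) = 0 := FiniteField.cast_card_eq_zero F
    rw [hF] at h0
    push_cast at h0
    exact (pow_eq_zero_iff two_ne_zero).1 (by linear_combination h0 : (5 : F) ^ 2 = 0)
  have hPU : P ≤ U := hP.le.trans hH.1.le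
  have hPsl : P ≤ specialLinear (Fin 3) F := hPU.trans inf_le_right
  obtain ⟨φ, hrange, hneg, hns⟩ := exists_hom hF' hP.perfect hPsl hP.simple h
  have hφP : ∀ X, φ X ∈ P := fun X => hrange ▸ ⟨X, rfl⟩
  obtain ⟨e, hr, htr⟩ := exists_root φ h5 hneg (fun X => mem_sl.1 (hPsl (hφP X))) hns
  obtain ⟨B, hB⟩ := conj_of_trace_of_span (rho hr) φ (rho_span hr)
    (span_range_eq_top (by rw [hrange]; exact hP.absIrred)) fun X => (htr X).symm
  -- the base change is unitary up to a scalar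
  set G := gram hF' (B : Matrix (Fin 3) (Fin 3) F) with hG
  have hcommG : ∀ X, Gᵀ * ((rho hr X : GL (Fin 3) F) : Matrix (Fin 3) (Fin 3) F) =
      ((rho hr X : GL (Fin 3) F) : Matrix (Fin 3) (Fin 3) F) * Gᵀ := by
    intro X
    set R := ((rho hr X : GL (Fin 3) F) : Matrix (Fin 3) (Fin 3) F)
    have h1 : Rᵀ * R.map (frobEquiv hF') = 1 := (mem_GU_gram hF').1 (rho_mem_U hF' hr X).1
    have h2 : Rᵀ * G * R.map (frobEquiv hF') = G := by
      have e1 : φ X * B = B * rho hr X := by rw [hB X]; group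
      have e2 := gram_mul_left hF' (hPU (hφP X)).1 (B : Matrix (Fin 3) (Fin 3) F)
      rw [← Units.val_mul, e1, Units.val_mul, gram_mul] at e2
      exact e2
    have h3 : Rᵀ * G = G * Rᵀ := by
      calc Rᵀ * G = Rᵀ * G * (R.map (frobEquiv hF') * Rᵀ) := by rw [mul_eq_one_comm.1 h1, mul_one]
        _ = G * Rᵀ := by rw [← mul_assoc, h2]
    calc Gᵀ * R = (Rᵀ * G)ᵀ := by rw [transpose_mul, transpose_transpose]
      _ = R * Gᵀ := by rw [h3, transpose_mul, transpose_transpose]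
  obtain ⟨c, hc⟩ := scalar_of_comm hr Gᵀ hcommG
  have hGc : G = c • 1 := by rw [← transpose_transpose G, hc, transpose_smul, transpose_one]
  have hcσ : frobEquiv hF' c = c := by
    have := gram_apply_swap hF' (B : Matrix (Fin 3) (Fin 3) F) 0 0
    rw [← hG, hGc] at this
    simpa using this
  obtain ⟨n, hn, rfl⟩ := hr.toF_surj hF c
  have hc0 : n ≠ 0 := by
    rintro rfl
    have hd := det_gram hF' (B : Matrix (Fin 3) (Fin 3) F)
    rw [← hG, hGc, toF_zero, zero_smul, Matrix.det_zero] at hd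
    have hBd : (B : Matrix (Fin 3) (Fin 3) F).det ≠ 0 :=
      ((Matrix.isUnit_iff_isUnit_det _).1 B.isUnit).ne_zero
    rcases mul_eq_zero.1 hd.symm with h0 | h0
    · exact hBd h0
    · exact hBd ((map_eq_zero _).1 h0)
  rw [frobEquiv_apply, ← hr.toF_qc] at hcσ
  obtain ⟨m, hm, hm0, hmn⟩ := check_norm n (check_fixed n hn (hr.toF_inj (qc_lt n) hn hcσ)) hc0
  obtain ⟨μ, hμ, hμn⟩ : ∃ μ : F, μ ≠ 0 ∧ μ * frobEquiv hF' μ = toF e n :=
    ⟨toF e m, fun e0 => hm0 (hr.toF_inj hm (by norm_num) (e0.trans toF_zero.symm)),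
      by rw [frobEquiv_apply, ← hr.toF_qc, ← hr.toF_qm, hmn]⟩
  obtain ⟨s, hs, hsv⟩ : ∃ s ∈ scalars (Fin 3) F, (s : Matrix (Fin 3) (Fin 3) F) = μ⁻¹ • 1 := by
    refine ⟨Units.map (Matrix.scalar (Fin 3) : F →+* Matrix (Fin 3) (Fin 3) F).toMonoidHom
      (Units.mk0 μ⁻¹ (inv_ne_zero hμ)), ⟨_, rfl⟩, ?_⟩
    rw [Matrix.smul_one_eq_diagonal]
    rfl
  obtain ⟨D, hD⟩ : ∃ D, D = s * B := ⟨_, rfl⟩
  have hDU : D ∈ Cfsg.GU 3 F 5 := by
    rw [mem_GU_gram hF', hD, Units.val_mul, hsv, smul_mul_assoc, one_mul, gram_smul, ← hG, hGc, smul_smul,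
      map_inv₀, ← hμn, show μ⁻¹ * (frobEquiv hF' μ)⁻¹ * (μ * frobEquiv hF' μ) = 1 by
        field_simp [hμ, (map_ne_zero (frobEquiv hF')).2 hμ], one_smul]
  have hφD : ∀ X, φ X = D * rho hr X * D⁻¹ := fun X => by
    have := (commute_scalar hs (B * rho hr X * B⁻¹)).eq
    rw [hB X, hD, _root_.mul_inv_rev, show s * B * rho hr X * (B⁻¹ * s⁻¹) = s * (B * rho hr X * B⁻¹) * s⁻¹ by group,
      this]
    group
  have hconjU : ∀ x ∈ U, D * x * D⁻¹ ∈ U := fun x hx =>
    Subgroup.mem_inf.2 ⟨(Cfsg.GU 3 F 5).mul_mem ((Cfsg.GU 3 F 5).mul_mem hDU hx.1) ((Cfsg.GU 3 F 5).inv_mem hDU),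
      (MonoidHom.normal_ker _).conj_mem x hx.2 D⟩
  have hconjU' : ∀ x ∈ U, D⁻¹ * x * D ∈ U := fun x hx =>
    Subgroup.mem_inf.2 ⟨(Cfsg.GU 3 F 5).mul_mem ((Cfsg.GU 3 F 5).mul_mem ((Cfsg.GU 3 F 5).inv_mem hDU) hx.1) hDU, by
      have := (MonoidHom.normal_ker (Matrix.GeneralLinearGroup.det : GL (Fin 3) F →* Fˣ)).conj_mem x hx.2 D⁻¹
      rwa [inv_inv] at this⟩
  -- the overgroup
  let Cu : GL (Fin 3) F := Matrix.GeneralLinearGroup.mkOfDetNeZero (toM e Cm)
    (by rw [hr.det_toM, check_unitary.2.2.2.2.2.2.1, toF_one]; exact one_ne_zero)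
  have hCu : Cu ∈ U := mem_U_of_code hF' hr (A := Cm) rfl check_unitary.2.2.1 check_unitary.2.2.2.2.2.2.1
  let S : Set (GL (Fin 3) F) := {rho hr U1, rho hr W, Cu} ∪ ((U ⊓ scalars (Fin 3) F : Subgroup (GL (Fin 3) F)) : Set (GL (Fin 3) F))
  let M := Subgroup.closure S
  have hMU : M ≤ U := by
    refine (Subgroup.closure_le _).2 ?_
    rintro x (hx | hx)
    · rcases hx with rfl | rfl | rfl
      · exact rho_mem_U hF' hr _
      · exact rho_mem_U hF' hr _
      · exact hCu
    · exact hx.1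
  have hρM : ∀ X, rho hr X ∈ M := fun X => by
    induction CertU35.mem_closure X using Submonoid.closure_induction with
    | mem z hz =>
      rcases hz with rfl | rfl
      · exact Subgroup.subset_closure (Or.inl (Or.inl rfl))
      · exact Subgroup.subset_closure (Or.inl (Or.inr (Or.inl rfl)))
    | one => rw [map_one]; exact one_mem _
    | mul a b _ _ ha hb => rw [map_mul]; exact mul_mem ha hb
  have hHnorm : ∀ x ∈ H, ∃ Y, ∃ z ∈ scalars (Fin 3) F, D⁻¹ * x * D = rho hr Y * z := by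
    intro x hx
    refine normalizer_rho hr fun X => ?_
    have hmem := hP.normal x hx _ (hφP X)
    rw [← hrange] at hmem
    obtain ⟨Y, hY⟩ := hmem
    refine ⟨Y, ?_⟩
    rw [hφD, hφD] at hY
    calc D⁻¹ * x * D * rho hr X * (D⁻¹ * x * D)⁻¹ = D⁻¹ * (x * (D * rho hr X * D⁻¹) * x⁻¹) * D := by group
      _ = rho hr Y := by rw [← hY]; group
  let M' := M.map (MulAut.conj D).toMonoidHom
  have hHM : H ≤ M' := by
    intro x hx
    obtain ⟨Y, z, hz, hxz⟩ := hHnorm x hx
    refine ⟨D⁻¹ * x * D, ?_, by show D * _ * D⁻¹ = x; group⟩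
    rw [hxz]
    refine mul_mem (hρM Y) (Subgroup.subset_closure (Or.inr ⟨?_, hz⟩))
    have hzU := mul_mem (inv_mem (rho_mem_U hF' hr Y)) (hconjU' x (hH.1.le hx))
    rwa [hxz, inv_mul_cancel_left] at hzU
  have hM'U : M' ≤ U := by
    rintro _ ⟨x, hx, rfl⟩
    exact hconjU x (hMU hx)
  rcases hH.2 M' hHM hM'U with he | he
  · -- the extra element would lie in `H`
    have hmem : D * Cu * D⁻¹ ∈ M' :=
      ⟨Cu, Subgroup.subset_closure (Or.inl (Or.inr (Or.inr rfl))), rfl⟩
    rw [he] at hmem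
    obtain ⟨Y, z, hz, hYz⟩ := hHnorm _ hmem
    rw [show D⁻¹ * (D * Cu * D⁻¹) * D = Cu by group] at hYz
    obtain ⟨t, ht⟩ := (mem_scalars_iff z).1 hz
    obtain ⟨k, hk, hkt⟩ := hr.toF_surj hF (t : F)
    have h1 : toM e (sm k (tb (quad Y).1 (quad Y).2.1 (quad Y).2.2.1 (quad Y).2.2.2)) = toM e Cm := by
      have h2 := congrArg Units.val hYz
      rw [Units.val_mul, ht, mul_smul_comm, mul_one] at h2
      rw [hr.toM_sm, hkt]
      exact h2.symm
    have h3 := hr.toM_inj (red_sm _ _) (red_dec _) h1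
    have h4 := allSL_quad check_extra Y
    simp only [List.all_eq_true, List.mem_range, Bool.not_eq_true', beq_eq_false_iff_ne] at h4
    exact h4 k hk h3
  · -- the lines would be invariant under a permutation matrix
    let Ω : Set (Fin 3 → F) := {v | ∃ j < 105, ∃ t : F, t ≠ 0 ∧ v = t • toV e (om j)}
    have hgen : ∀ g < 3, ∀ v ∈ Ω, toM e ([Sm, Tm, Cm].getD g idM) *ᵥ v ∈ Ω := by
      rintro g hg _ ⟨j, hj, t, ht, rfl⟩
      obtain ⟨h1, h2, h3⟩ := check_trans j hj g hg
      refine ⟨_, h1, t * toF e (((transData.getD g []).getD j 0) % 25), mul_ne_zero ht fun e0 => h2 ?_, ?_⟩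
      · exact hr.toF_inj (Nat.mod_lt _ (by norm_num)) (by norm_num) (e0.trans toF_zero.symm)
      · rw [Matrix.mulVec_smul, ← hr.toV_mv, h3, hr.toV_sv, smul_smul]
    have hΩ : ∀ x ∈ M, ∀ v ∈ Ω, (x : Matrix (Fin 3) (Fin 3) F) *ᵥ v ∈ Ω := by
      intro x hx
      induction hx using Subgroup.closure_induction with
      | mem x hx =>
        intro v hv
        rcases hx with hx | ⟨-, hx⟩
        · rcases hx with rfl | rfl | rfl
          · rw [rho_U1 hr]; exact hgen 1 (by norm_num) v hv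
          · rw [rho_W hr]; exact hgen 0 (by norm_num) v hv
          · exact hgen 2 (by norm_num) v hv
        · obtain ⟨c, hc⟩ := (mem_scalars_iff x).1 hx
          obtain ⟨j, hj, t, ht, rfl⟩ := hv
          exact ⟨j, hj, c * t, mul_ne_zero c.ne_zero ht,
            by rw [hc, Matrix.smul_mulVec, Matrix.one_mulVec, smul_smul]⟩
      | one => intro v hv; rwa [Units.val_one, Matrix.one_mulVec]
      | mul a b _ _ ha hb => intro v hv; rw [Units.val_mul, ← Matrix.mulVec_mulVec]; exact ha _ (hb _ hv)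
      | inv a _ ha =>
        intro v hv
        have hpow : ∀ i : ℕ, ((a ^ i : GL (Fin 3) F) : Matrix (Fin 3) (Fin 3) F) *ᵥ v ∈ Ω := by
          intro i
          induction i with
          | zero => rwa [pow_zero, Units.val_one, Matrix.one_mulVec]
          | succ i ih => rw [pow_succ', Units.val_mul, ← Matrix.mulVec_mulVec]; exact ha _ ih
        have e0 : a⁻¹ = a ^ (orderOf a - 1) := by
          refine inv_eq_of_mul_eq_one_left ?_
          rw [← pow_succ, Nat.sub_add_cancel (orderOf_pos a), pow_orderOf_eq_one]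
        rw [e0]
        exact hpow _
    let Pu : GL (Fin 3) F := Matrix.GeneralLinearGroup.mkOfDetNeZero (toM e Pm)
      (by rw [hr.det_toM, check_unitary.2.2.2.2.2.2.2, toF_one]; exact one_ne_zero)
    have hPu : Pu ∈ U := mem_U_of_code hF' hr (A := Pm) rfl check_unitary.2.2.2.1 check_unitary.2.2.2.2.2.2.2
    have hmem : D * Pu * D⁻¹ ∈ M' := he ▸ hconjU _ hPu
    obtain ⟨x, hx, hxe⟩ := hmem
    have hxP : x = Pu := (MulAut.conj D).injective hxe
    obtain ⟨hmv, hnot⟩ := check_moved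
    obtain ⟨j, hj, t, -, hjt⟩ := hΩ x hx _ ⟨movedData, hmv, 1, one_ne_zero, (one_smul _ _).symm⟩
    obtain ⟨k, hk, rfl⟩ := hr.toF_surj hF t
    rw [hxP, show (Pu : Matrix (Fin 3) (Fin 3) F) = toM e Pm from rfl, ← hr.toV_mv, ← hr.toV_sv] at hjt
    exact hnot j hj k hk (hr.toV_inj (red_mv _ _) (red_sv _ _) hjt)

end CfsgLib.Geo.D3
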